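import Mathlib
import Cfsg.Prelude.Def_ParabolicCharacters

/-! Elements, conjugacy and tori of `GL₂` over a (finite) field. -/

namespace Cfsg.Agent.Perm.GL2

open Matrix

/-- Two by two matrices. -/
abbrev M2 (F : Type*) := Matrix (Fin 2) (Fin 2) F

variable {F : Type*} [Field F]

/-- scalar matrices -/
def IsScal (m : M2 F) : Prop := m 0 1 = 0 ∧ m 1 0 = 0 ∧ m 0 0 = m 1 1
/-- non-trivial Jordan blocks -/
def IsJord (m : M2 F) : Prop := m 1 0 = 0 ∧ m 0 0 = m 1 1 ∧ m 0 1 ≠ 0
/-- regular diagonal matrices -/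
def IsDiag (m : M2 F) : Prop := m 0 1 = 0 ∧ m 1 0 = 0 ∧ m 0 0 ≠ m 1 1
/-- matrices without eigenvector -/
def IsEll (m : M2 F) : Prop := ∀ (c : F) (v : Fin 2 → F), v ≠ 0 → m.mulVec v ≠ c • v

theorem m2_ext {a b : M2 F} (h1 : a 0 0 = b 0 0) (h2 : a 0 1 = b 0 1) (h3 : a 1 0 = b 1 0)
    (h4 : a 1 1 = b 1 1) : a = b := by
  ext i j; fin_cases i <;> fin_cases j <;> assumption

theorem m2_ext_iff {a b : M2 F} :
    a = b ↔ a 0 0 = b 0 0 ∧ a 0 1 = b 0 1 ∧ a 1 0 = b 1 0 ∧ a 1 1 = b 1 1 :=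
  ⟨fun h => by simp [h], fun h => m2_ext h.1 h.2.1 h.2.2.1 h.2.2.2⟩

theorem mul_apply2 (a b : M2 F) (i j : Fin 2) : (a * b) i j = a i 0 * b 0 j + a i 1 * b 1 j := by
  simp [Matrix.mul_apply, Fin.sum_univ_two]

theorem isScal_iff {m : M2 F} : IsScal m ↔ ∃ a : F, m = a • (1 : M2 F) := by
  constructor
  · rintro ⟨h1, h2, h3⟩
    exact ⟨m 0 0, m2_ext (by simp) (by simp [h1]) (by simp [h2]) (by simp [h3])⟩
  · rintro ⟨a, rfl⟩
    simp [IsScal]

theorem IsScal.eq {m : M2 F} (h : IsScal m) : m = m 0 0 • (1 : M2 F) :=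
  m2_ext (by simp) (by simp [h.1]) (by simp [h.2.1]) (by simp [h.2.2])

theorem IsScal.comm {m : M2 F} (h : IsScal m) (x : M2 F) : x * m = m * x := by
  rw [h.eq]; simp

theorem isEll_iff {m : M2 F} : IsEll m ↔ ∀ c : F, c ^ 2 - m.trace * c + m.det ≠ 0 := by
  have key : ∀ c : F, (m - c • (1 : M2 F)).det = c ^ 2 - m.trace * c + m.det := by
    intro c; simp [det_fin_two, trace_fin_two]; ring
  classical
  constructor
  · intro h c hc
    rw [← key, ← Matrix.exists_mulVec_eq_zero_iff] at hc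
    obtain ⟨v, hv, h0⟩ := hc
    rw [sub_mulVec, smul_mulVec, one_mulVec, sub_eq_zero] at h0
    exact h c v hv h0
  · intro h c v hv h0
    apply h c
    rw [← key, ← Matrix.exists_mulVec_eq_zero_iff]
    exact ⟨v, hv, by rw [sub_mulVec, smul_mulVec, one_mulVec, h0, sub_self]⟩

theorem IsEll.ne10 {m : M2 F} (h : IsEll m) : m 1 0 ≠ 0 := by
  intro h0
  apply isEll_iff.1 h (m 0 0)
  simp [det_fin_two, trace_fin_two, h0]; ring

theorem IsEll.not_scal {m : M2 F} (h : IsEll m) : ¬ IsScal m := fun h' => h.ne10 h'.2.1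

theorem IsEll.det_ne {m : M2 F} (h : IsEll m) : m.det ≠ 0 := by
  simpa using isEll_iff.1 h 0

theorem IsJord.not_scal {m : M2 F} (h : IsJord m) : ¬ IsScal m := fun h' => h.2.2 h'.1
theorem IsDiag.not_scal {m : M2 F} (h : IsDiag m) : ¬ IsScal m := fun h' => h.2.2 h'.2.2
theorem IsJord.not_ell {m : M2 F} (h : IsJord m) : ¬ IsEll m := fun h' => h'.ne10 h.1
theorem IsDiag.not_ell {m : M2 F} (h : IsDiag m) : ¬ IsEll m := fun h' => h'.ne10 h.2.1

theorem IsEll.of_trace_det {m m' : M2 F} (h : IsEll m) (h1 : m'.trace = m.trace)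
    (h2 : m'.det = m.det) : IsEll m' := by
  rw [isEll_iff] at h ⊢
  rw [h1, h2]; exact h

theorem cayley (m : M2 F) : m * m = m.trace • m - m.det • (1 : M2 F) := by
  apply m2_ext <;> simp [mul_apply2, trace_fin_two, det_fin_two] <;> ring

theorem adj_eq (m : M2 F) : m.adjugate = m.trace • (1 : M2 F) - m := by
  apply m2_ext <;> simp [adjugate_fin_two, trace_fin_two]

theorem comm_iff {m : M2 F} (h : ¬ IsScal m) (x : M2 F) :
    x * m = m * x ↔ ∃ a b : F, x = a • (1 : M2 F) + b • m := by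
  constructor
  · intro hx
    obtain ⟨h1, h2, h3, h4⟩ := m2_ext_iff.1 hx
    simp only [mul_apply2] at h1 h2 h3 h4
    by_cases h10 : m 1 0 = 0
    · by_cases h01 : m 0 1 = 0
      · have hne : m 0 0 - m 1 1 ≠ 0 := fun h' => h ⟨h01, h10, sub_eq_zero.1 h'⟩
        refine ⟨x 0 0 - (x 0 0 - x 1 1) / (m 0 0 - m 1 1) * m 0 0,
          (x 0 0 - x 1 1) / (m 0 0 - m 1 1), ?_⟩
        apply m2_ext
        · simp
        · simp only [Matrix.add_apply, Matrix.smul_apply, smul_eq_mul, h01]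
          simp
          apply mul_left_cancel₀ hne
          rw [h01] at h2
          linear_combination -h2
        · simp only [Matrix.add_apply, Matrix.smul_apply, smul_eq_mul, h10]
          simp
          apply mul_left_cancel₀ hne
          rw [h10] at h3
          linear_combination h3
        · simp; field_simp; ring
      · refine ⟨x 0 0 - x 0 1 / m 0 1 * m 0 0, x 0 1 / m 0 1, ?_⟩
        apply m2_ext
        · simp
        · simp; field_simp
        · simp; field_simp; linear_combination -h1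
        · simp; field_simp; linear_combination -h2
    · refine ⟨x 0 0 - x 1 0 / m 1 0 * m 0 0, x 1 0 / m 1 0, ?_⟩
      apply m2_ext
      · simp
      · simp; field_simp; linear_combination h1
      · simp; field_simp
      · simp; field_simp; linear_combination h3
  · rintro ⟨a, b, rfl⟩
    simp [add_mul, mul_add]

theorem comb_inj {m : M2 F} (h : ¬ IsScal m) {a b a' b' : F}
    (he : a • (1 : M2 F) + b • m = a' • (1 : M2 F) + b' • m) : a = a' ∧ b = b' := by
  have hb : b = b' := by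
    by_contra hb
    apply h
    obtain ⟨h1, h2, h3, h4⟩ := m2_ext_iff.1 he
    simp at h1 h2 h3 h4
    refine ⟨h2.resolve_left hb, h3.resolve_left hb, ?_⟩
    apply mul_left_cancel₀ (sub_ne_zero.2 hb)
    linear_combination h1 - h4
  subst hb
  refine ⟨?_, rfl⟩
  simpa using (m2_ext_iff.1 (add_right_cancel he)).1

theorem comm_comm {m : M2 F} (h : ¬ IsScal m) {x y : M2 F} (hx : x * m = m * x)
    (hy : y * m = m * y) : x * y = y * x := by
  obtain ⟨a, b, rfl⟩ := (comm_iff h x).1 hx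
  simp [add_mul, mul_add, hy]

theorem det_comb (m : M2 F) (a b : F) :
    (a • (1 : M2 F) + b • m).det = a ^ 2 + a * b * m.trace + b ^ 2 * m.det := by
  simp [det_fin_two, trace_fin_two]; ring

theorem trace_comb (m : M2 F) (a b : F) :
    (a • (1 : M2 F) + b • m).trace = 2 * a + b * m.trace := by
  simp [trace_fin_two]; ring

theorem IsEll.det_ne_of_comm {e : M2 F} (he : IsEll e) {x : M2 F} (hx : x * e = e * x)
    (h0 : x ≠ 0) : x.det ≠ 0 := by
  obtain ⟨a, b, rfl⟩ := (comm_iff he.not_scal x).1 hx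
  rw [det_comb]
  by_cases hb : b = 0
  · subst hb
    have : a ≠ 0 := by rintro rfl; simp at h0
    simpa using this
  · intro h
    apply isEll_iff.1 he (-a / b)
    field_simp
    linear_combination h

theorem IsEll.of_comm {e : M2 F} (he : IsEll e) {x : M2 F} (hx : x * e = e * x)
    (h0 : ¬ IsScal x) : IsEll x := by
  rw [isEll_iff]
  intro c hc
  have h1 : (x - c • (1 : M2 F)).det = 0 := by
    rw [← hc]; simp [det_fin_two, trace_fin_two]; ring
  refine he.det_ne_of_comm (x := x - c • 1) (by simp [sub_mul, mul_sub, hx]) ?_ h1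
  intro h2
  exact h0 (isScal_iff.2 ⟨c, sub_eq_zero.1 h2⟩)

theorem IsEll.eq_or_eq_adj {e : M2 F} (he : IsEll e) {x y : M2 F} (hx : x * e = e * x)
    (hy : y * e = e * y) (h1 : y.trace = x.trace) (h2 : y.det = x.det) :
    y = x ∨ y = x.adjugate := by
  by_contra hc
  push Not at hc
  have hxy := comm_comm he.not_scal hx hy
  have h3 : (y - x) * (y - x.adjugate) = 0 := by
    rw [adj_eq]
    simp only [sub_mul, mul_sub, mul_smul_comm, mul_one, cayley, h1, h2, hxy, smul_sub]
    abel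
  have h4 := he.det_ne_of_comm (x := y - x) (by simp [sub_mul, mul_sub, hx, hy])
    (sub_ne_zero.2 hc.1)
  have h5 := he.det_ne_of_comm (x := y - x.adjugate)
    (by simp [adj_eq, sub_mul, mul_sub, hx, hy]) (sub_ne_zero.2 hc.2)
  have := congrArg det h3
  rw [det_mul, det_zero] at this
  exact mul_ne_zero h4 h5 this

theorem IsEll.ne_adj [Finite F] {e : M2 F} (he : IsEll e) : e ≠ e.adjugate := by
  intro h
  obtain ⟨h1, h2, h3, h4⟩ := m2_ext_iff.1 h
  simp [adjugate_fin_two] at h1 h2 h3 h4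
  have h5 : (2 : F) = 0 := by
    apply mul_right_cancel₀ he.ne10
    linear_combination h3
  have hc : ringChar F = 2 := by
    haveI : CharP F 2 := (CharP.charP_iff_prime_eq_zero Nat.prime_two).2 (by exact_mod_cast h5)
    exact ringChar.eq F 2
  obtain ⟨s, hs⟩ := FiniteField.isSquare_of_char_two hc e.det
  apply isEll_iff.1 he s
  rw [hs, trace_fin_two, h1]
  linear_combination (s ^ 2 - e 1 1 * s) * h5

theorem exists_companion {m : M2 F} (h : ¬ IsScal m) :
    ∃ x : M2 F, x.det ≠ 0 ∧ m * x = x * !![0, -m.det; 1, m.trace] := by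
  by_cases h10 : m 1 0 = 0
  · by_cases h01 : m 0 1 = 0
    · have hne : m 1 1 - m 0 0 ≠ 0 := fun h' => h ⟨h01, h10, (sub_eq_zero.1 h').symm⟩
      refine ⟨!![1, m 0 0; 1, m 1 1], by simpa [det_fin_two] using hne, ?_⟩
      apply m2_ext <;> simp [mul_apply2, det_fin_two, trace_fin_two, h10, h01] <;> ring
    · refine ⟨!![0, m 0 1; 1, m 1 1], by simpa [det_fin_two] using h01, ?_⟩
      apply m2_ext <;> simp [mul_apply2, det_fin_two, trace_fin_two] <;> ring
  · refine ⟨!![1, m 0 0; 0, m 1 0], by simpa [det_fin_two] using h10, ?_⟩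
    apply m2_ext <;> simp [mul_apply2, det_fin_two, trace_fin_two] <;> ring

theorem exists_conj_of_trace_det {m m' : M2 F} (h : ¬ IsScal m) (h' : ¬ IsScal m')
    (h1 : m.trace = m'.trace) (h2 : m.det = m'.det) :
    ∃ x : GL (Fin 2) F, (x : M2 F) * m * (x⁻¹ : GL (Fin 2) F) = m' := by
  obtain ⟨x, hx, hx'⟩ := exists_companion h
  obtain ⟨y, hy, hy'⟩ := exists_companion h'
  set X := GeneralLinearGroup.mkOfDetNeZero x hx
  set Y := GeneralLinearGroup.mkOfDetNeZero y hy
  have hX : (X : M2 F) = x := rfl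
  have hY : (Y : M2 F) = y := rfl
  refine ⟨Y * X⁻¹, ?_⟩
  rw [_root_.mul_inv_rev, inv_inv, Units.val_mul, Units.val_mul]
  calc (Y : M2 F) * (X⁻¹ : GL (Fin 2) F) * m * ((X : M2 F) * (Y⁻¹ : GL (Fin 2) F))
      = Y * ((X⁻¹ : GL (Fin 2) F) * (m * X)) * (Y⁻¹ : GL (Fin 2) F) := by simp only [mul_assoc]
    _ = Y * !![0, -m.det; 1, m.trace] * (Y⁻¹ : GL (Fin 2) F) := by
      rw [hX, hx', ← hX, ← mul_assoc _ (X : M2 F), Units.inv_mul, one_mul]
    _ = m' := by rw [h1, h2, hY, ← hy', ← hY, mul_assoc, Units.mul_inv, mul_one]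

theorem trace_conj' (x : GL (Fin 2) F) (m : M2 F) :
    ((x : M2 F) * m * (x⁻¹ : GL (Fin 2) F)).trace = m.trace := by
  rw [trace_mul_cycle, Units.inv_mul, one_mul]

theorem det_conj'' (x : GL (Fin 2) F) (m : M2 F) :
    ((x : M2 F) * m * (x⁻¹ : GL (Fin 2) F)).det = m.det := by
  rw [det_mul, det_mul, mul_right_comm, ← det_mul, Units.mul_inv, det_one, one_mul]

theorem isScal_conj (x : GL (Fin 2) F) {m : M2 F} (h : IsScal m) :
    (x : M2 F) * m * (x⁻¹ : GL (Fin 2) F) = m := by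
  rw [h.comm, mul_assoc, Units.mul_inv, mul_one]

theorem trace_eq_of_isConj {g h : GL (Fin 2) F} (hc : IsConj g h) :
    (g : M2 F).trace = (h : M2 F).trace := by
  obtain ⟨x, rfl⟩ := isConj_iff.1 hc
  simp only [Units.val_mul, trace_conj']

theorem det_eq_of_isConj {g h : GL (Fin 2) F} (hc : IsConj g h) :
    (g : M2 F).det = (h : M2 F).det := by
  obtain ⟨x, rfl⟩ := isConj_iff.1 hc
  simp only [Units.val_mul, det_conj'']

theorem eq_of_isConj_scal {g h : GL (Fin 2) F} (hc : IsConj g h) (hg : IsScal (g : M2 F)) :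
    h = g := by
  obtain ⟨x, rfl⟩ := isConj_iff.1 hc
  apply Units.ext
  simp only [Units.val_mul, isScal_conj x hg]

theorem isScal_of_isConj {g h : GL (Fin 2) F} (hc : IsConj g h) (hg : IsScal (g : M2 F)) :
    IsScal (h : M2 F) := by rw [eq_of_isConj_scal hc hg]; exact hg

theorem isEll_of_isConj {g h : GL (Fin 2) F} (hc : IsConj g h) (hg : IsEll (g : M2 F)) :
    IsEll (h : M2 F) := hg.of_trace_det (trace_eq_of_isConj hc).symm (det_eq_of_isConj hc).symm

theorem isConj_of_trace_det {g h : GL (Fin 2) F} (hg : ¬ IsScal (g : M2 F))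
    (hh : ¬ IsScal (h : M2 F)) (h1 : (g : M2 F).trace = (h : M2 F).trace)
    (h2 : (g : M2 F).det = (h : M2 F).det) : IsConj g h := by
  obtain ⟨x, hx⟩ := exists_conj_of_trace_det hg hh h1 h2
  exact isConj_iff.2 ⟨x, Units.ext (by simpa only [Units.val_mul] using hx)⟩

theorem det_ne (g : GL (Fin 2) F) : (g : M2 F).det ≠ 0 := (GeneralLinearGroup.det g).ne_zero

/-- upper triangular matrix with given entries -/
def up (a d : Fˣ) (b : F) : GL (Fin 2) F :=
  GeneralLinearGroup.mkOfDetNeZero !![(a : F), b; 0, d] (by simp [det_fin_two])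

@[simp] theorem coe_up (a d : Fˣ) (b : F) : (up a d b : M2 F) = !![(a : F), b; 0, d] := rfl

theorem upper_ne {g : GL (Fin 2) F} (h : (g : M2 F) 1 0 = 0) :
    (g : M2 F) 0 0 ≠ 0 ∧ (g : M2 F) 1 1 ≠ 0 := by
  have := det_ne g
  rw [det_fin_two, h, mul_zero, sub_zero] at this
  exact mul_ne_zero_iff.1 this

theorem eq_up {g : GL (Fin 2) F} (h : (g : M2 F) 1 0 = 0) :
    g = up (Units.mk0 _ (upper_ne h).1) (Units.mk0 _ (upper_ne h).2) ((g : M2 F) 0 1) :=
  Units.ext (m2_ext (by simp) (by simp) (by simp [h]) (by simp))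

theorem classify (g : GL (Fin 2) F) : IsScal (g : M2 F) ∨ IsEll (g : M2 F) ∨
    (∃ h : GL (Fin 2) F, IsConj g h ∧ IsJord (h : M2 F)) ∨
    (∃ h : GL (Fin 2) F, IsConj g h ∧ IsDiag (h : M2 F)) := by
  by_cases hs : IsScal (g : M2 F)
  · exact Or.inl hs
  by_cases he : IsEll (g : M2 F)
  · exact Or.inr (Or.inl he)
  right; right
  rw [isEll_iff] at he
  push Not at he
  obtain ⟨c, hc⟩ := he
  have hd : c * ((g : M2 F).trace - c) = (g : M2 F).det := by linear_combination -hc
  have h0 := mul_ne_zero_iff.1 (hd ▸ det_ne g)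
  by_cases h : c = (g : M2 F).trace - c
  · left
    have hj : IsJord (up (Units.mk0 _ h0.1) (Units.mk0 _ h0.2) 1 : M2 F) := by
      refine ⟨by simp, by simpa using h, by simp⟩
    exact ⟨_, isConj_of_trace_det hs hj.not_scal (by simp [trace_fin_two])
      (by simp [det_fin_two, hd]), hj⟩
  · right
    have hj : IsDiag (up (Units.mk0 _ h0.1) (Units.mk0 _ h0.2) 0 : M2 F) := by
      refine ⟨by simp, by simp, by simpa using h⟩
    exact ⟨_, isConj_of_trace_det hs hj.not_scal (by simp [trace_fin_two])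
      (by simp [det_fin_two, hd]), hj⟩

theorem exists_ell [Finite F] : ∃ e : GL (Fin 2) F, IsEll (e : M2 F) := by
  have : ¬ Function.Surjective fun p : F × F => (p.1 + p.2, p.1 * p.2) := by
    intro h
    have := Finite.injective_iff_surjective.2 h (a₁ := (0, 1)) (a₂ := (1, 0)) (by simp)
    simp at this
  obtain ⟨⟨t, d⟩, h⟩ := not_forall.1 this
  have h1 : ∀ c : F, c ^ 2 - t * c + d ≠ 0 := by
    intro c hc
    apply h
    refine ⟨(c, t - c), Prod.ext (by simp) ?_⟩
    show c * (t - c) = d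
    linear_combination -hc
  have hd : d ≠ 0 := by simpa using h1 0
  refine ⟨GeneralLinearGroup.mkOfDetNeZero !![0, -d; 1, t] (by simpa [det_fin_two] using hd), ?_⟩
  rw [isEll_iff]
  simpa [det_fin_two, trace_fin_two] using h1

/-- The centraliser of a group element. -/
abbrev cent {G : Type*} [Group G] (e : G) : Subgroup G := Subgroup.centralizer {e}

theorem mem_cent {G : Type*} [Group G] {e x : G} : x ∈ cent e ↔ x * e = e * x := by
  rw [Subgroup.mem_centralizer_singleton_iff]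

theorem mem_cent' {e x : GL (Fin 2) F} : x ∈ cent e ↔ (x : M2 F) * e = e * x := by
  rw [mem_cent, ← Units.val_inj, Units.val_mul, Units.val_mul]

theorem cent_comm {e : GL (Fin 2) F} (he : ¬ IsScal (e : M2 F)) {x y : GL (Fin 2) F}
    (hx : x ∈ cent e) (hy : y ∈ cent e) : x * y = y * x :=
  Units.ext (comm_comm he (mem_cent'.1 hx) (mem_cent'.1 hy))

theorem cent_eq_cent {e : GL (Fin 2) F} (he : ¬ IsScal (e : M2 F)) {c : GL (Fin 2) F}
    (hc : c ∈ cent e) (hs : ¬ IsScal (c : M2 F)) : cent c = cent e := by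
  ext x
  constructor
  · intro hx
    exact mem_cent.2 (cent_comm hs hx (mem_cent.2 (mem_cent.1 hc).symm))
  · intro hx
    exact mem_cent.2 (cent_comm he hx hc)

theorem scal_mem_cent {z : GL (Fin 2) F} (hz : IsScal (z : M2 F)) (e : GL (Fin 2) F) :
    z ∈ cent e := mem_cent'.2 (hz.comm _).symm

theorem cent_scal {z : GL (Fin 2) F} (hz : IsScal (z : M2 F)) : cent z = ⊤ :=
  eq_top_iff.2 fun x _ => mem_cent'.2 (hz.comm _)

/-- scalar matrices in `GL₂` -/
abbrev sc (a : Fˣ) : GL (Fin 2) F := GeneralLinearGroup.scalar (Fin 2) a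

theorem coe_sc (a : Fˣ) : (sc a : M2 F) = (a : F) • (1 : M2 F) := by
  apply m2_ext <;> simp [sc, GeneralLinearGroup.scalar]

theorem isScal_sc (a : Fˣ) : IsScal (sc a : M2 F) := isScal_iff.2 ⟨_, coe_sc a⟩

theorem sc_apply00 (a : Fˣ) : (sc a : M2 F) 0 0 = a := by simp [coe_sc]

theorem sc_injective : Function.Injective (sc : Fˣ → GL (Fin 2) F) := fun a b h =>
  Units.ext (by rw [← sc_apply00, h, sc_apply00])

theorem eq_sc {z : GL (Fin 2) F} (hz : IsScal (z : M2 F)) :
    z = sc (Units.mk0 _ (upper_ne hz.2.1).1) := Units.ext (by rw [coe_sc]; exact hz.eq)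

theorem isScal_iff_sc {z : GL (Fin 2) F} : IsScal (z : M2 F) ↔ ∃ a, z = sc a :=
  ⟨fun h => ⟨_, eq_sc h⟩, by rintro ⟨a, rfl⟩; exact isScal_sc a⟩

theorem isScal_iff_center {z : GL (Fin 2) F} :
    IsScal (z : M2 F) ↔ z ∈ Subgroup.center (GL (Fin 2) F) := by
  rw [isScal_iff_sc, GeneralLinearGroup.center_eq_range_scalar]
  simp [eq_comm]

theorem sc_comm (a : Fˣ) (g : GL (Fin 2) F) : sc a * g = g * sc a :=
  mem_cent.1 (scal_mem_cent (isScal_sc a) g)

/-- The adjugate in `GL₂`. -/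
def bar (g : GL (Fin 2) F) : GL (Fin 2) F := sc (GeneralLinearGroup.det g) * g⁻¹

theorem coe_bar (g : GL (Fin 2) F) : (bar g : M2 F) = (g : M2 F).adjugate := by
  have h : (g : M2 F) * (bar g : M2 F) = (g : M2 F) * (g : M2 F).adjugate := by
    rw [mul_adjugate, ← Units.val_mul, bar, sc_comm, mul_inv_cancel_left, coe_sc]; rfl
  exact (Units.mul_right_inj g).1 h

theorem mul_bar (g : GL (Fin 2) F) : g * bar g = sc (GeneralLinearGroup.det g) := by
  rw [bar, sc_comm, mul_inv_cancel_left]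

theorem bar_mem_cent {e c : GL (Fin 2) F} (hc : c ∈ cent e) : bar c ∈ cent e :=
  mul_mem (scal_mem_cent (isScal_sc _) e) (inv_mem hc)

theorem bar_bar (g : GL (Fin 2) F) : bar (bar g) = g := by
  apply Units.ext
  rw [coe_bar, coe_bar]
  apply m2_ext <;> simp [adjugate_fin_two]

theorem bar_mul (g h : GL (Fin 2) F) : bar (g * h) = bar h * bar g := by
  apply Units.ext
  simp only [coe_bar, Units.val_mul, adjugate_mul_distrib]

theorem bar_scal {z : GL (Fin 2) F} (hz : IsScal (z : M2 F)) : bar z = z := by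
  apply Units.ext
  rw [coe_bar]
  apply m2_ext <;> simp [adjugate_fin_two, hz.1, hz.2.1, hz.2.2]

theorem trace_bar (g : GL (Fin 2) F) : (bar g : M2 F).trace = (g : M2 F).trace := by
  simp [coe_bar, adjugate_fin_two, trace_fin_two, add_comm]

theorem det_bar (g : GL (Fin 2) F) : (bar g : M2 F).det = (g : M2 F).det := by
  simp [coe_bar, adjugate_fin_two, det_fin_two]; ring

theorem isScal_bar {g : GL (Fin 2) F} : IsScal (bar g : M2 F) ↔ IsScal (g : M2 F) :=
  ⟨fun h => by rw [← bar_bar g, bar_scal h]; exact h, fun h => by rw [bar_scal h]; exact h⟩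

theorem isConj_bar (g : GL (Fin 2) F) : IsConj g (bar g) := by
  by_cases h : IsScal (g : M2 F)
  · rw [bar_scal h]
  · exact isConj_of_trace_det h (fun h' => h (isScal_bar.1 h')) (trace_bar g).symm (det_bar g).symm

theorem bar_eq_inv {g : GL (Fin 2) F} (h : (g : M2 F).det = 1) : bar g = g⁻¹ := by
  have : GeneralLinearGroup.det g = 1 := Units.ext h
  rw [bar, this]; simp

theorem exists_conj_bar {e : GL (Fin 2) F} (he : ¬ IsScal (e : M2 F)) :
    ∃ w : GL (Fin 2) F, ∀ c ∈ cent e, w * c * w⁻¹ = bar c := by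
  obtain ⟨w, hw⟩ := isConj_iff.1 (isConj_bar e)
  refine ⟨w, fun c hc => Units.ext ?_⟩
  obtain ⟨a, b, h⟩ := (comm_iff he _).1 (mem_cent'.1 hc)
  have hw' := congrArg Units.val hw
  simp only [Units.val_mul, coe_bar] at hw' ⊢
  rw [h, mul_add, add_mul, mul_smul_comm, smul_mul_assoc, mul_one, Units.mul_inv, mul_smul_comm,
    smul_mul_assoc, hw']
  apply m2_ext <;> simp [adjugate_fin_two]

theorem IsEll.isConj_iff {e : GL (Fin 2) F} (he : IsEll (e : M2 F)) {c c' : GL (Fin 2) F}
    (hc : c ∈ cent e) (hc' : c' ∈ cent e) : IsConj c c' ↔ c' = c ∨ c' = bar c := by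
  constructor
  · intro h
    rcases he.eq_or_eq_adj (mem_cent'.1 hc) (mem_cent'.1 hc') (trace_eq_of_isConj h).symm
      (det_eq_of_isConj h).symm with h | h
    · exact Or.inl (Units.ext h)
    · exact Or.inr (Units.ext (h.trans (coe_bar c).symm))
  · rintro (rfl | rfl)
    · rfl
    · exact isConj_bar c

theorem IsEll.ne_bar [Finite F] {e : GL (Fin 2) F} (he : IsEll (e : M2 F)) : bar e ≠ e :=
  fun h => he.ne_adj (by rw [← coe_bar, h])

theorem IsEll.of_mem_cent {e : GL (Fin 2) F} (he : IsEll (e : M2 F)) {c : GL (Fin 2) F}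
    (hc : c ∈ cent e) (hs : ¬ IsScal (c : M2 F)) : IsEll (c : M2 F) :=
  he.of_comm (mem_cent'.1 hc) hs

/-- The algebra of matrices commuting with `m`. -/
abbrev cAlg (m : M2 F) : Subalgebra F (M2 F) := Subalgebra.centralizer F {m}

theorem mem_cAlg {m x : M2 F} : x ∈ cAlg m ↔ x * m = m * x := by
  simp [Subalgebra.mem_centralizer_iff, eq_comm]

/-- coordinates on the centraliser algebra -/
noncomputable def cAlgEquiv {m : M2 F} (h : ¬ IsScal m) : F × F ≃ cAlg m :=
  Equiv.ofBijective (fun p => ⟨p.1 • (1 : M2 F) + p.2 • m,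
    mem_cAlg.2 ((comm_iff h _).2 ⟨_, _, rfl⟩)⟩) ⟨fun p p' hp => by
      have := comb_inj h (congrArg Subtype.val hp)
      exact Prod.ext this.1 this.2, fun x => by
      obtain ⟨a, b, h⟩ := (comm_iff h _).1 (mem_cAlg.1 x.2)
      exact ⟨(a, b), Subtype.ext h.symm⟩⟩

theorem card_cAlg [Fintype F] {m : M2 F} (h : ¬ IsScal m) :
    Nat.card (cAlg m) = Fintype.card F ^ 2 := by
  rw [← Nat.card_congr (cAlgEquiv h), Nat.card_prod, Nat.card_eq_fintype_card, sq]

theorem IsEll.isField {e : M2 F} (he : IsEll e) : IsField (cAlg e) where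
  exists_pair_ne := ⟨0, 1, zero_ne_one⟩
  mul_comm x y := Subtype.ext (comm_comm he.not_scal (mem_cAlg.1 x.2) (mem_cAlg.1 y.2))
  mul_inv_cancel := by
    intro x hx
    have hd := he.det_ne_of_comm (mem_cAlg.1 x.2) (fun h => hx (Subtype.ext h))
    refine ⟨⟨(x : M2 F).det⁻¹ • (x : M2 F).adjugate, mem_cAlg.2 ?_⟩, Subtype.ext ?_⟩
    · simp [adj_eq, sub_mul, mul_sub, mem_cAlg.1 x.2]
    · show (x : M2 F) * ((x : M2 F).det⁻¹ • (x : M2 F).adjugate) = 1
      rw [mul_smul_comm, mul_adjugate, smul_smul, inv_mul_cancel₀ hd, one_smul]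

theorem card_cent_eq [Finite F] (g : GL (Fin 2) F) :
    Nat.card (cent g) = Nat.card {x : cAlg (g : M2 F) // (x : M2 F).det ≠ 0} := by
  refine Nat.card_congr ⟨fun c => ⟨⟨(c : GL (Fin 2) F), mem_cAlg.2 (mem_cent'.1 c.2)⟩, det_ne _⟩,
    fun x => ⟨GeneralLinearGroup.mkOfDetNeZero _ x.2, mem_cent'.2 (mem_cAlg.1 x.1.2)⟩,
    fun c => ?_, fun x => ?_⟩
  · exact Subtype.ext (Units.ext rfl)
  · rfl

theorem IsEll.card_cent [Fintype F] {e : GL (Fin 2) F} (he : IsEll (e : M2 F)) :
    Nat.card (cent e) = Fintype.card F ^ 2 - 1 := by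
  classical
  rw [card_cent_eq, ← card_cAlg he.not_scal]
  haveI : Fintype (cAlg (e : M2 F)) := Fintype.ofFinite _
  have : ∀ x : cAlg (e : M2 F), (x : M2 F).det ≠ 0 ↔ ¬ x = 0 := fun x =>
    ⟨fun h h0 => h (by simp [h0]), fun h =>
      he.det_ne_of_comm (mem_cAlg.1 x.2) (fun h' => h (Subtype.ext h'))⟩
  rw [Nat.card_congr (Equiv.subtypeEquivRight this), Nat.card_eq_fintype_card,
    Fintype.card_subtype_compl, Fintype.card_subtype_eq, Nat.card_eq_fintype_card]

theorem IsEll.isCyclic [Finite F] {e : GL (Fin 2) F} (he : IsEll (e : M2 F)) :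
    IsCyclic (cent e) := by
  letI := he.isField.toField
  let f : cent e →* cAlg (e : M2 F) :=
    { toFun := fun c => ⟨(c : GL (Fin 2) F), mem_cAlg.2 (mem_cent'.1 c.2)⟩
      map_one' := rfl
      map_mul' := fun _ _ => rfl }
  exact isCyclic_of_injective_ringHom f fun a b h =>
    Subtype.ext (Units.ext (congrArg Subtype.val h))

theorem IsEll.exists_isConj [Finite F] {e g : GL (Fin 2) F} (he : IsEll (e : M2 F))
    (hg : IsEll (g : M2 F)) : ∃ c ∈ cent e, IsConj g c := by
  classical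
  haveI := Fintype.ofFinite F
  letI := he.isField.toField
  letI := hg.isField.toField
  haveI : Fintype (cAlg (e : M2 F)) := Fintype.ofFinite _
  haveI : Fintype (cAlg (g : M2 F)) := Fintype.ofFinite _
  have h1 := Module.card_eq_pow_finrank (K := F) (V := cAlg (e : M2 F))
  have h2 := Module.card_eq_pow_finrank (K := F) (V := cAlg (g : M2 F))
  rw [← Nat.card_eq_fintype_card, card_cAlg he.not_scal] at h1
  rw [← Nat.card_eq_fintype_card, card_cAlg hg.not_scal] at h2
  have h3 := Nat.pow_right_injective Fintype.one_lt_card (h2.symm.trans h1)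
  obtain ⟨f⟩ := FiniteField.nonempty_algHom_of_finrank_dvd (F := F) (K := cAlg (g : M2 F))
    (L := cAlg (e : M2 F)) (h3 ▸ dvd_rfl)
  let g' : cAlg (g : M2 F) := ⟨g, mem_cAlg.2 rfl⟩
  have hg' : g' * g' = (g : M2 F).trace • g' - (g : M2 F).det • 1 := Subtype.ext (cayley _)
  have h4 := congrArg (fun x => ((f x : cAlg (e : M2 F)) : M2 F)) hg'
  simp only [map_mul, map_sub, map_smul, map_one, MulMemClass.coe_mul, AddSubgroupClass.coe_sub,
    SetLike.val_smul, OneMemClass.coe_one] at h4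
  set c : M2 F := (f g').val with hc
  have hs : ¬ IsScal c := by
    intro hs
    apply isEll_iff.1 hg (c 0 0)
    have := congrFun (congrFun h4 0) 0
    simp [mul_apply2, hs.1] at this
    linear_combination this
  have h5 : (-c.det) • (1 : M2 F) + c.trace • c =
      (-(g : M2 F).det) • (1 : M2 F) + (g : M2 F).trace • c := by
    rw [neg_smul, neg_smul, neg_add_eq_sub, neg_add_eq_sub, ← h4, cayley]
  obtain ⟨h6, h7⟩ := comb_inj hs h5
  have h8 : c.det = (g : M2 F).det := neg_injective h6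
  refine ⟨GeneralLinearGroup.mkOfDetNeZero c (h8 ▸ hg.det_ne), mem_cent'.2 (mem_cAlg.1 (f g').2),
    isConj_of_trace_det hg.not_scal hs h7.symm h8.symm⟩

theorem IsEll.exists_det [Finite F] {e : GL (Fin 2) F} (he : IsEll (e : M2 F)) (n : Fˣ) :
    ∃ c ∈ cent e, GeneralLinearGroup.det c = n := by
  haveI := Fintype.ofFinite F
  suffices ∃ a b : F, a ^ 2 + a * b * (e : M2 F).trace + b ^ 2 * (e : M2 F).det = n by
    obtain ⟨a, b, h⟩ := this
    rw [← det_comb] at h
    exact ⟨GeneralLinearGroup.mkOfDetNeZero _ (h ▸ n.ne_zero),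
      mem_cent'.2 ((comm_iff he.not_scal _).2 ⟨a, b, rfl⟩), Units.ext h⟩
  by_cases h2 : ringChar F = 2
  · obtain ⟨s, hs⟩ := FiniteField.isSquare_of_char_two h2 (n : F)
    exact ⟨s, 0, by rw [hs]; ring⟩
  · have h2' : (2 : F) ≠ 0 := Ring.two_ne_zero h2
    set t := (e : M2 F).trace
    set d := (e : M2 F).det
    have hD : 4 * d - t ^ 2 ≠ 0 := by
      intro h
      apply isEll_iff.1 he (t / 2)
      field_simp
      linear_combination h
    obtain ⟨a, b, h⟩ := FiniteField.exists_root_sum_quadratic (R := F)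
      (f := Polynomial.X ^ 2) (g := Polynomial.C (4 * d - t ^ 2) * Polynomial.X ^ 2
        - Polynomial.C (4 * n : F)) (by simp) (by
        rw [Polynomial.degree_sub_C] <;> rw [Polynomial.degree_C_mul_X_pow _ hD] <;> norm_num)
      (FiniteField.odd_card_of_char_ne_two h2)
    simp only [Polynomial.eval_pow, Polynomial.eval_X, Polynomial.eval_sub, Polynomial.eval_mul,
      Polynomial.eval_C] at h
    refine ⟨(a - b * t) / 2, b, ?_⟩
    field_simp
    linear_combination h

theorem card_GL2 [Fintype F] : Nat.card (GL (Fin 2) F) =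
    Fintype.card F * (Fintype.card F + 1) * (Fintype.card F - 1) ^ 2 := by
  rw [Matrix.card_GL_field, Fin.prod_univ_two]
  obtain ⟨k, hk⟩ : ∃ k, Fintype.card F = k + 1 := ⟨_, (Nat.succ_pred_eq_of_pos Fintype.card_pos).symm⟩
  rw [hk]
  simp only [Fin.val_zero, pow_zero, Fin.val_one, pow_one, Nat.add_sub_cancel]
  have h1 : (k + 1) ^ 2 - 1 = k * (k + 2) := by
    rw [show (k + 1) ^ 2 = k * (k + 2) + 1 by ring, Nat.add_sub_cancel]
  have h2 : (k + 1) ^ 2 - (k + 1) = k * (k + 1) := by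
    rw [show (k + 1) ^ 2 = k * (k + 1) + (k + 1) by ring, Nat.add_sub_cancel]
  rw [h1, h2]; ring

theorem mem_B {g : GL (Fin 2) F} : g ∈ upperTriangularGL 2 F ↔ (g : M2 F) 1 0 = 0 := by
  show (g : M2 F).BlockTriangular id ↔ _
  constructor
  · intro h; exact h (show (0 : Fin 2) < 1 by decide)
  · intro h i j hij
    fin_cases i <;> fin_cases j <;> simp_all

/-- coordinates on the Borel subgroup -/
def borelEquiv : Fˣ × Fˣ × F ≃ upperTriangularGL 2 F where
  toFun p := ⟨up p.1 p.2.1 p.2.2, mem_B.2 (by simp)⟩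
  invFun g := (Units.mk0 _ (upper_ne (mem_B.1 g.2)).1, Units.mk0 _ (upper_ne (mem_B.1 g.2)).2,
    ((g : GL (Fin 2) F) : M2 F) 0 1)
  left_inv p := by ext <;> simp
  right_inv g := Subtype.ext (eq_up (mem_B.1 g.2)).symm

theorem card_B [Fintype F] : Nat.card (upperTriangularGL 2 F) =
    Fintype.card F * (Fintype.card F - 1) ^ 2 := by
  classical
  rw [← Nat.card_congr borelEquiv]
  simp only [Nat.card_eq_fintype_card, Fintype.card_prod, Fintype.card_units]; ring

theorem IsDiag.mem_cent {g x : GL (Fin 2) F} (hg : IsDiag (g : M2 F)) :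
    x ∈ cent g ↔ (x : M2 F) 0 1 = 0 ∧ (x : M2 F) 1 0 = 0 := by
  rw [mem_cent', m2_ext_iff]
  simp only [mul_apply2, hg.1, hg.2.1, mul_zero, zero_mul, add_zero, zero_add]
  constructor
  · rintro ⟨-, h1, h2, -⟩
    have := sub_ne_zero.2 hg.2.2
    constructor
    · apply mul_left_cancel₀ this; linear_combination -h1
    · apply mul_left_cancel₀ this; linear_combination h2
  · rintro ⟨h1, h2⟩
    simp [h1, h2, mul_comm]

theorem IsJord.mem_cent {g x : GL (Fin 2) F} (hg : IsJord (g : M2 F)) :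
    x ∈ cent g ↔ (x : M2 F) 1 0 = 0 ∧ (x : M2 F) 0 0 = (x : M2 F) 1 1 := by
  rw [mem_cent', m2_ext_iff]
  simp only [mul_apply2, hg.1, hg.2.1, mul_zero, zero_mul, add_zero, zero_add]
  constructor
  · rintro ⟨h1, h2, -, -⟩
    constructor
    · apply mul_left_cancel₀ hg.2.2; linear_combination -h1
    · apply mul_left_cancel₀ hg.2.2; linear_combination h2
  · rintro ⟨h1, h2⟩
    simp [h1, h2, mul_comm, add_comm]

theorem IsDiag.card_cent [Fintype F] {g : GL (Fin 2) F} (hg : IsDiag (g : M2 F)) :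
    Nat.card (cent g) = (Fintype.card F - 1) ^ 2 := by
  classical
  have : Fˣ × Fˣ ≃ cent g :=
    { toFun := fun p => ⟨up p.1 p.2 0, hg.mem_cent.2 (by simp)⟩
      invFun := fun x => (Units.mk0 _ (upper_ne (hg.mem_cent.1 x.2).2).1,
        Units.mk0 _ (upper_ne (hg.mem_cent.1 x.2).2).2)
      left_inv := fun p => by ext <;> simp
      right_inv := fun x => Subtype.ext (Units.ext (m2_ext (by simp)
        (by simp [(hg.mem_cent.1 x.2).1]) (by simp [(hg.mem_cent.1 x.2).2]) (by simp))) }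
  rw [← Nat.card_congr this]
  simp only [Nat.card_eq_fintype_card, Fintype.card_prod, Fintype.card_units]; ring

theorem IsJord.card_cent [Fintype F] {g : GL (Fin 2) F} (hg : IsJord (g : M2 F)) :
    Nat.card (cent g) = Fintype.card F * (Fintype.card F - 1) := by
  classical
  have : F × Fˣ ≃ cent g :=
    { toFun := fun p => ⟨up p.2 p.2 p.1, hg.mem_cent.2 (by simp)⟩
      invFun := fun x => (((x : GL (Fin 2) F) : M2 F) 0 1,
        Units.mk0 _ (upper_ne (hg.mem_cent.1 x.2).1).1)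
      left_inv := fun p => by ext <;> simp
      right_inv := fun x => Subtype.ext (Units.ext (m2_ext (by simp)
        (by simp) (by simp [(hg.mem_cent.1 x.2).1]) (by simp [(hg.mem_cent.1 x.2).2]))) }
  rw [← Nat.card_congr this]
  simp only [Nat.card_eq_fintype_card, Fintype.card_prod, Fintype.card_units]

theorem IsDiag.exists_det {g : GL (Fin 2) F} (hg : IsDiag (g : M2 F)) (n : Fˣ) :
    ∃ c ∈ cent g, GeneralLinearGroup.det c = n :=
  ⟨up n 1 0, hg.mem_cent.2 (by simp), Units.ext (by simp [det_fin_two])⟩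

end Cfsg.Agent.Perm.GL2
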