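import Mathlib

set_option autoImplicit false

/-! Basic facts on group actions: multiple transitivity in terms of functions,
centralisers of transitive groups, orbit counting. -/

namespace Cfsg.Agent.Perm

open MulAction

section
variable {G : Type*} [Group G] {α : Type*} [MulAction G α]

theorem multTrans_iff {n : ℕ} : IsMultiplyPretransitive G α n ↔
    ∀ x y : Fin n → α, Function.Injective x → Function.Injective y →
      ∃ g : G, ∀ i, g • x i = y i := by
  rw [isMultiplyPretransitive_iff]
  constructor
  · intro h x y hx hy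
    obtain ⟨g, hg⟩ := h ⟨x, hx⟩ ⟨y, hy⟩
    exact ⟨g, fun i => by simpa using congrArg (fun e : Fin n ↪ α => e i) hg⟩
  · intro h x y
    obtain ⟨g, hg⟩ := h x y x.injective y.injective
    exact ⟨g, by ext i; simpa using hg i⟩

theorem mem_stab_emb {ι : Type*} (x : ι ↪ α) (g : G) :
    g ∈ stabilizer G x ↔ ∀ i, g • x i = x i := by
  rw [mem_stabilizer_iff]
  constructor
  · intro h i
    simpa using congrArg (fun e : ι ↪ α => e i) h
  · intro h
    ext i
    simpa using h i

theorem sharp_iff {n : ℕ} : (∀ x : Fin n ↪ α, stabilizer G x = ⊥) ↔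
    ∀ x : Fin n → α, Function.Injective x → ∀ g : G, (∀ i, g • x i = x i) → g = 1 := by
  constructor
  · intro h x hx g hg
    have : g ∈ stabilizer G (⟨x, hx⟩ : Fin n ↪ α) := (mem_stab_emb _ _).2 hg
    rwa [h, Subgroup.mem_bot] at this
  · intro h x
    rw [eq_bot_iff]
    intro g hg
    exact h x x.injective g ((mem_stab_emb _ _).1 hg)

theorem inj2 {a b : α} (h : a ≠ b) : Function.Injective ![a, b] := by
  intro i j; fin_cases i <;> fin_cases j <;> simp [h, h.symm]

theorem inj3 {a b c : α} (hab : a ≠ b) (hac : a ≠ c) (hbc : b ≠ c) :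
    Function.Injective ![a, b, c] := by
  intro i j; fin_cases i <;> fin_cases j <;> simp [hab, hac, hbc, hab.symm, hac.symm, hbc.symm]

theorem inj4 {a b c d : α} (hab : a ≠ b) (hac : a ≠ c) (hbc : b ≠ c) (had : a ≠ d)
    (hbd : b ≠ d) (hcd : c ≠ d) : Function.Injective ![a, b, c, d] := by
  intro i j
  fin_cases i <;> fin_cases j <;>
    simp [hab, hac, hbc, hab.symm, hac.symm, hbc.symm, had, hbd, hcd, had.symm, hbd.symm, hcd.symm]

theorem sharp2_iff : (∀ x : Fin 2 ↪ α, stabilizer G x = ⊥) ↔
    ∀ a b : α, a ≠ b → ∀ g : G, g • a = a → g • b = b → g = 1 := by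
  rw [sharp_iff]
  constructor
  · intro h a b hab g ha hb
    exact h ![a, b] (inj2 hab) g (fun i => by fin_cases i <;> simpa)
  · intro h x hx g hg
    exact h (x 0) (x 1) (fun e => by simpa using hx e) g (hg 0) (hg 1)

theorem sharp3_iff : (∀ x : Fin 3 ↪ α, stabilizer G x = ⊥) ↔
    ∀ a b c : α, a ≠ b → a ≠ c → b ≠ c → ∀ g : G, g • a = a → g • b = b → g • c = c → g = 1 := by
  rw [sharp_iff]
  constructor
  · intro h a b c hab hac hbc g ha hb hc
    exact h ![a, b, c] (inj3 hab hac hbc) g (fun i => by fin_cases i <;> simpa)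
  · intro h x hx g hg
    exact h (x 0) (x 1) (x 2) (fun e => by simpa using hx e) (fun e => by simpa using hx e)
      (fun e => by simpa using hx e) g (hg 0) (hg 1) (hg 2)

theorem three_trans_iff : IsMultiplyPretransitive G α 3 ↔
    ∀ a b c a' b' c' : α, a ≠ b → a ≠ c → b ≠ c → a' ≠ b' → a' ≠ c' → b' ≠ c' →
      ∃ g : G, g • a = a' ∧ g • b = b' ∧ g • c = c' := by
  rw [multTrans_iff]
  constructor
  · intro h a b c a' b' c' hab hac hbc hab' hac' hbc'
    obtain ⟨g, hg⟩ := h _ _ (inj3 hab hac hbc) (inj3 hab' hac' hbc')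
    exact ⟨g, hg 0, hg 1, hg 2⟩
  · intro h x y hx hy
    obtain ⟨g, h0, h1, h2⟩ := h (x 0) (x 1) (x 2) (y 0) (y 1) (y 2)
      (fun e => by simpa using hx e) (fun e => by simpa using hx e)
      (fun e => by simpa using hx e) (fun e => by simpa using hy e)
      (fun e => by simpa using hy e) (fun e => by simpa using hy e)
    exact ⟨g, fun i => by fin_cases i <;> assumption⟩

theorem two_trans_iff : IsMultiplyPretransitive G α 2 ↔
    ∀ a b c d : α, a ≠ b → c ≠ d → ∃ g : G, g • a = c ∧ g • b = d := by
  rw [is_two_pretransitive_iff]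

/-- 2-transitivity from transitivity and transitivity of one point stabiliser. -/
theorem two_trans_of_stab [IsPretransitive G α] (a : α)
    (h : ∀ b c : α, b ≠ a → c ≠ a → ∃ g : G, g • a = a ∧ g • b = c) :
    IsMultiplyPretransitive G α 2 := by
  rw [two_trans_iff]
  intro x y z w hxy hzw
  obtain ⟨g, hg⟩ := exists_smul_eq G x a
  obtain ⟨k, hk⟩ := exists_smul_eq G z a
  obtain ⟨m, hm1, hm2⟩ := h (g • y) (k • w)
    (by rw [← hg]; exact fun e => hxy (smul_left_cancel g e).symm)
    (by rw [← hk]; exact fun e => hzw (smul_left_cancel k e).symm)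
  refine ⟨k⁻¹ * m * g, ?_, ?_⟩
  · rw [mul_smul, mul_smul, hg, hm1, ← hk, inv_smul_smul]
  · rw [mul_smul, mul_smul, hm2, inv_smul_smul]

theorem card_eq_mul_stab [IsPretransitive G α] (a : α) :
    Nat.card G = Nat.card α * Nat.card (stabilizer G a) := by
  rw [← index_stabilizer_of_transitive G a, Subgroup.index_mul_card]

theorem card_orbit_mul_stab (a : α) :
    Nat.card (orbit G a) * Nat.card (stabilizer G a) = Nat.card G := by
  rw [Nat.card_coe_set_eq, ← index_stabilizer, Subgroup.index_mul_card]

theorem card_orbit_eq_index (a : α) : Nat.card (orbit G a) = (stabilizer G a).index := by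
  rw [Nat.card_coe_set_eq, ← index_stabilizer]

theorem card_stab_eq [IsPretransitive G α] (a b : α) :
    Nat.card (stabilizer G a) = Nat.card (stabilizer G b) := by
  obtain ⟨g, hg⟩ := exists_smul_eq G a b
  exact Nat.card_congr (stabilizerEquivStabilizer hg.symm).toEquiv

theorem smul_eq_smul_iff_mem_stab {g h : G} {a : α} :
    g • a = h • a ↔ h⁻¹ * g ∈ stabilizer G a := by
  rw [mem_stabilizer_iff, mul_smul, inv_smul_eq_iff]

/-- If two points have the same stabiliser in a transitive group, a permutation commuting with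
the action maps one to the other. -/
theorem exists_comm_perm [IsPretransitive G α] {x y : α} (h : stabilizer G x = stabilizer G y) :
    ∃ c : Equiv.Perm α, c x = y ∧ ∀ (g : G) (z : α), c (g • z) = g • c z := by
  choose t ht using fun z => exists_smul_eq G x z
  choose s hs using fun z => exists_smul_eq G y z
  have key : ∀ g g' : G, g • x = g' • x ↔ g • y = g' • y := by
    intro g g'
    rw [smul_eq_smul_iff_mem_stab, smul_eq_smul_iff_mem_stab, h]
  refine ⟨⟨fun z => t z • y, fun z => s z • x, fun z => ?_, fun z => ?_⟩, ?_, ?_⟩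
  · show s (t z • y) • x = z
    rw [(key _ _).2 (hs (t z • y)), ht]
  · show t (s z • x) • y = z
    rw [(key _ _).1 (ht (s z • x)), hs]
  · show t x • y = y
    have := (key (t x) 1).1 (by rw [ht, one_smul])
    rwa [one_smul] at this
  · intro g z
    show t (g • z) • y = g • t z • y
    rw [← mul_smul]
    apply (key _ _).1
    rw [ht, mul_smul, ht]

/-- A permutation commuting with a transitive action and fixing a point is trivial. -/
theorem comm_perm_eq_one [IsPretransitive G α] {c : Equiv.Perm α}
    (hc : ∀ (g : G) (z : α), c (g • z) = g • c z) {a : α} (ha : c a = a) : c = 1 := by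
  ext b
  obtain ⟨g, rfl⟩ := exists_smul_eq G a b
  rw [hc, ha]; rfl

/-- A group whose only subgroups are trivial has prime order. -/
theorem prime_card_of_isCoatom_bot (h : IsCoatom (⊥ : Subgroup G)) : (Nat.card G).Prime := by
  have h1 : ∀ H : Subgroup G, H = ⊥ ∨ H = ⊤ := fun H => by
    by_cases hH : H = ⊥
    · exact Or.inl hH
    · exact Or.inr (h.2 H (bot_lt_iff_ne_bot.2 hH))
  have hnt : Nontrivial G := by
    by_contra hn
    rw [not_nontrivial_iff_subsingleton] at hn
    exact h.1 (Subsingleton.elim _ _)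
  obtain ⟨g, hg⟩ := exists_ne (1 : G)
  have hz : Subgroup.zpowers g = ⊤ := (h1 _).resolve_left (by simpa using hg)
  have hc : IsCyclic G := ⟨⟨g, fun x => by
    have : x ∈ Subgroup.zpowers g := hz ▸ Subgroup.mem_top x
    exact this⟩⟩
  have : IsSimpleGroup G := ⟨fun H _ => h1 H⟩
  have : IsMulCommutative G := IsCyclic.isMulCommutative
  exact Group.is_simple_iff_prime_card.1 inferInstance

end

section
variable {α : Type*} {G : Subgroup (Equiv.Perm α)}

theorem sub_smul (g : G) (a : α) : g • a = (g : Equiv.Perm α) a := rfl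

theorem subsub_smul {N : Subgroup G} (g : N) (a : α) : g • a = ((g : G) : Equiv.Perm α) a := rfl

theorem mem_centralizer_perm {c : Equiv.Perm α} :
    c ∈ Subgroup.centralizer (G : Set (Equiv.Perm α)) ↔ ∀ (g : G) (z : α), c (g • z) = g • c z := by
  rw [Subgroup.mem_centralizer_iff]
  constructor
  · intro h g z
    have := congrArg (fun σ : Equiv.Perm α => σ z) (h g g.2)
    exact this.symm
  · intro h g hg
    ext z
    exact (h ⟨g, hg⟩ z).symm

theorem eq_one_of_fix {g : G} (h : ∀ a : α, g • a = a) : g = 1 := by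
  ext a; exact h a

end

end Cfsg.Agent.Perm
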