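import Mathlib
import Cfsg.Agent.Lib.Perm.Basic

set_option autoImplicit false

/-! Primitivity through invariant equivalence relations; regular normal subgroups;
counting fixed-point-free elements. -/

namespace Cfsg.Agent.Perm

open MulAction
open scoped Pointwise

section
variable {G : Type*} [Group G] {α : Type*} [MulAction G α]

theorem isBlock_of_rel (r : α → α → Prop) (hr : Equivalence r)
    (hinv : ∀ (g : G) x y, r x y → r (g • x) (g • y)) (a : α) : IsBlock G {x | r a x} := by
  rw [isBlock_iff_smul_eq_of_mem]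
  intro g x hx hgx
  ext y
  rw [Set.mem_smul_set_iff_inv_smul_mem]
  simp only [Set.mem_setOf_eq] at *
  constructor
  · intro h
    have := hinv g _ _ (hr.trans (hr.symm hx) h)
    rw [smul_inv_smul] at this
    exact hr.trans hgx this
  · intro h
    have := hinv g⁻¹ _ _ (hr.trans (hr.symm hgx) h)
    rw [inv_smul_smul] at this
    exact hr.trans hx this

theorem prim_rel [IsPreprimitive G α] (r : α → α → Prop) (hr : Equivalence r)
    (hinv : ∀ (g : G) x y, r x y → r (g • x) (g • y)) :
    (∀ x y, r x y → x = y) ∨ (∀ x y, r x y) := by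
  by_cases h : ∀ x y, r x y → x = y
  · exact Or.inl h
  right
  push Not at h
  obtain ⟨a, b, hab, hne⟩ := h
  rcases (isBlock_of_rel r hr hinv a).subsingleton_or_eq_univ with h | h
  · exact absurd (h (show a ∈ {x | r a x} from hr.refl a) (show b ∈ {x | r a x} from hab)) hne
  · have h2 : ∀ x, r a x := fun x => by
      have : x ∈ {x | r a x} := h ▸ Set.mem_univ x
      exact this
    exact fun x y => hr.trans (hr.symm (h2 x)) (h2 y)

theorem prim_of_rel [IsPretransitive G α]
    (h : ∀ r : α → α → Prop, Equivalence r → (∀ (g : G) x y, r x y → r (g • x) (g • y)) →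
      (∀ x y, r x y → x = y) ∨ (∀ x y, r x y)) : IsPreprimitive G α := by
  refine ⟨fun {B} hB => ?_⟩
  by_cases hs : B.Subsingleton
  · exact Or.inl hs
  right
  rw [Set.not_subsingleton_iff] at hs
  obtain ⟨a, ha, b, hb, hab⟩ := hs
  have := h (fun x y => ∃ g : G, x ∈ g • B ∧ y ∈ g • B) ⟨?_, ?_, ?_⟩ ?_
  · rcases this with h1 | h1
    · exact absurd (h1 a b ⟨1, by simpa, by simpa⟩) hab
    · refine Set.eq_univ_of_forall fun y => ?_
      obtain ⟨g, h2, h3⟩ := h1 a y
      have : g • B = (1 : G) • B := isBlock_iff_smul_eq_smul_of_nonempty.1 hB ⟨a, h2, by simpa⟩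
      simpa [this] using h3
  · intro x
    obtain ⟨g, rfl⟩ := exists_smul_eq G a x
    exact ⟨g, Set.smul_mem_smul_set ha, Set.smul_mem_smul_set ha⟩
  · rintro x y ⟨g, h1, h2⟩
    exact ⟨g, h2, h1⟩
  · rintro x y z ⟨g, h1, h2⟩ ⟨k, h3, h4⟩
    have : g • B = k • B := isBlock_iff_smul_eq_smul_of_nonempty.1 hB ⟨y, h2, h3⟩
    exact ⟨k, this ▸ h1, h4⟩
  · rintro g x y ⟨k, h1, h2⟩
    exact ⟨g * k, by rw [mul_smul]; exact Set.smul_mem_smul_set h1,
      by rw [mul_smul]; exact Set.smul_mem_smul_set h2⟩

theorem eq_one_of_smul_eq [FaithfulSMul G α] {g : G} (h : ∀ a : α, g • a = a) : g = 1 :=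
  eq_of_smul_eq_smul (α := α) (fun a => by rw [h, one_smul])

theorem mem_stab_smul {g k : G} {a : α} :
    k ∈ stabilizer G (g • a) ↔ g⁻¹ * k * g ∈ stabilizer G a := by
  simp only [mem_stabilizer_iff, mul_smul, inv_smul_eq_iff]

theorem stab_eq_bot_of_stab_eq [IsPreprimitive G α] [FaithfulSMul G α] {a b : α} (hab : a ≠ b)
    (h : stabilizer G a = stabilizer G b) (x : α) : stabilizer G x = ⊥ := by
  rcases prim_rel (G := G) (fun x y : α => stabilizer G x = stabilizer G y)
    ⟨fun _ => rfl, Eq.symm, Eq.trans⟩ (fun g x y h => by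
      ext k; rw [mem_stab_smul, mem_stab_smul, h]) with h1 | h1
  · exact absurd (h1 a b h) hab
  · rw [eq_bot_iff]
    intro g hg
    apply eq_one_of_smul_eq (α := α)
    intro y
    rw [h1 x y] at hg
    exact hg

theorem prime_card_of_prim_regular [IsPreprimitive G α] [Nontrivial α] {a : α}
    (h : stabilizer G a = ⊥) : (Nat.card G).Prime := by
  have h1 := IsPreprimitive.isCoatom_stabilizer_of_isPreprimitive G a
  rw [h] at h1
  exact prime_card_of_isCoatom_bot h1

theorem normal_trans_of_prim [IsPreprimitive G α] [FaithfulSMul G α] (N : Subgroup G) [hn : N.Normal]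
    (hN : N ≠ ⊥) : IsPretransitive N α := by
  rcases prim_rel (G := G) (fun x y : α => ∃ n : N, n • x = y)
    ⟨fun x => ⟨1, one_smul _ _⟩, fun ⟨n, h⟩ => ⟨n⁻¹, by rw [← h, inv_smul_smul]⟩,
      fun ⟨n, h⟩ ⟨m, h'⟩ => ⟨m * n, by rw [mul_smul, h, h']⟩⟩ (fun g x y ⟨n, h⟩ =>
      ⟨⟨g * n * g⁻¹, hn.conj_mem _ n.2 g⟩, by
        show (g * n * g⁻¹) • g • x = g • y
        rw [← h, mul_smul, mul_smul, inv_smul_smul]; rfl⟩) with h1 | h1
  · exfalso; apply hN
    rw [eq_bot_iff]
    intro n hn
    apply eq_one_of_smul_eq (α := α)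
    intro y
    exact (h1 y _ ⟨⟨n, hn⟩, rfl⟩).symm
  · exact ⟨h1⟩

theorem card_eq_of_regular [IsPretransitive G α] {a : α} (h : stabilizer G a = ⊥) :
    Nat.card G = Nat.card α := by
  rw [card_eq_mul_stab a, h, Subgroup.card_bot, mul_one]

theorem eq_of_smul_eq_of_stab_bot {a : α} (h : stabilizer G a = ⊥) {g k : G}
    (hgk : g • a = k • a) : g = k := by
  rw [smul_eq_smul_iff_mem_stab, h, Subgroup.mem_bot, inv_mul_eq_one] at hgk
  exact hgk.symm

/-- Burnside's count for a transitive action. -/
theorem sum_card_fixedBy_trans [Fintype G] [Finite α] [Nonempty α] [IsPretransitive G α] :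
    ∑ g : G, Nat.card (fixedBy α g) = Nat.card G := by
  classical
  have := Fintype.ofFinite α
  have h := sum_card_fixedBy_eq_card_orbits_mul_card_group G α
  have h1 : Fintype.card (orbitRel.Quotient G α) = 1 := by
    obtain ⟨u⟩ := (pretransitive_iff_unique_quotient_of_nonempty G α).1 inferInstance
    exact Fintype.card_unique
  simp only [Nat.card_eq_fintype_card]
  rw [h]
  convert one_mul _

theorem sum_card_fixedBy [Fintype G] [Finite α] :
    ∑ g : G, Nat.card (fixedBy α g) = Nat.card (orbitRel.Quotient G α) * Nat.card G := by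
  classical
  have := Fintype.ofFinite α
  have h := sum_card_fixedBy_eq_card_orbits_mul_card_group G α
  simp only [Nat.card_eq_fintype_card]
  convert h

/-- In a transitive group in which non-identity elements fix at most one point, there are
`n - 1` fixed-point-free elements. -/
theorem card_fpf_of_frobenius [Finite G] [Finite α] [Nonempty α] [IsPretransitive G α]
    (h : ∀ a b : α, a ≠ b → ∀ g : G, g • a = a → g • b = b → g = 1) :
    Nat.card {g : G | ∀ a : α, g • a ≠ a} + 1 = Nat.card α := by
  classical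
  have := Fintype.ofFinite G
  have h1 := sum_card_fixedBy_trans (G := G) (α := α)
  have h2 : ∀ g : G, Nat.card (fixedBy α g) + (if ∀ a : α, g • a ≠ a then 1 else 0) =
      if g = 1 then Nat.card α else 1 := by
    intro g
    by_cases hg : g = 1
    · subst hg
      have : ¬ ∀ a : α, (1 : G) • a ≠ a := fun h => h (Classical.arbitrary α) (one_smul _ _)
      simp [this, fixedBy_one_eq_univ]
    · rw [if_neg hg]
      split_ifs with hf
      · have : fixedBy α g = ∅ := Set.eq_empty_of_forall_notMem hf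
        simp [this]
      · push Not at hf
        obtain ⟨a, ha⟩ := hf
        have : fixedBy α g = {a} := by
          ext b
          simp only [mem_fixedBy, Set.mem_singleton_iff]
          refine ⟨fun hb => ?_, fun hb => hb ▸ ha⟩
          by_contra hne
          exact hg (h b a hne g hb ha)
        simp [this]
  have h3 := Finset.sum_congr (rfl : (Finset.univ : Finset G) = _) (fun g _ => h2 g)
  rw [Finset.sum_add_distrib, h1, Finset.sum_ite, Finset.sum_ite] at h3
  simp only [Finset.sum_const, smul_eq_mul, mul_one, mul_zero, add_zero, Finset.filter_eq',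
    Finset.mem_univ, if_true, Finset.card_singleton, one_mul, Finset.filter_ne',
    Finset.card_erase_of_mem, Finset.card_univ] at h3
  have h4 : 0 < Fintype.card G := Fintype.card_pos
  have h6 : Nat.card G = Fintype.card G := Nat.card_eq_fintype_card
  have h5 : Nat.card {g : G | ∀ a : α, g • a ≠ a} =
      (Finset.univ.filter fun g : G => ∀ a : α, g • a ≠ a).card := by
    rw [Nat.card_eq_fintype_card, Fintype.card_subtype]; rfl
  rw [← h5, h6] at h3
  have h7 : (Finset.univ.filter fun x : G => x = 1).card = 1 := by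
    rw [Finset.card_eq_one]; exact ⟨1, by ext; simp⟩
  rw [h7] at h3
  omega

end

/-- A finite non-trivial group whose automorphisms are transitive on non-identity elements is
elementary abelian. -/
theorem elemAb_of_aut_trans {N : Type*} [Group N] [Finite N] [Nontrivial N]
    (h : ∀ x y : N, x ≠ 1 → y ≠ 1 → ∃ φ : N ≃* N, φ x = y) :
    ∃ p : ℕ, p.Prime ∧ (∀ x : N, x ^ p = 1) ∧ ∀ x y : N, x * y = y * x := by
  have h1 : Nat.card N ≠ 1 := Finite.one_lt_card.ne'
  have hp := Nat.minFac_prime h1
  have := Fact.mk hp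
  obtain ⟨u, hu⟩ := exists_prime_orderOf_dvd_card' _ (Nat.minFac_dvd (Nat.card N))
  have hu1 : u ≠ 1 := by
    rintro rfl
    rw [orderOf_one] at hu
    exact hp.one_lt.ne hu
  have h2 : ∀ x : N, x ^ (Nat.card N).minFac = 1 := by
    intro x
    by_cases hx : x = 1
    · simp [hx]
    obtain ⟨φ, rfl⟩ := h u x hu1 hx
    rw [← map_pow, ← hu, pow_orderOf_eq_one, map_one]
  refine ⟨_, hp, h2, ?_⟩
  have hP : IsPGroup (Nat.card N).minFac N := fun x => ⟨1, by simpa using h2 x⟩
  have := hP.center_nontrivial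
  obtain ⟨⟨z, hz⟩, hz1⟩ := exists_ne (1 : Subgroup.center N)
  intro x y
  by_cases hx : x = 1
  · simp [hx]
  obtain ⟨φ, rfl⟩ := h z x (fun e => hz1 (Subtype.ext e)) hx
  obtain ⟨y, rfl⟩ := φ.surjective y
  rw [← map_mul, ← map_mul, Subgroup.mem_center_iff.1 hz]

theorem comm_of_sq {N : Type*} [Group N] (h : ∀ x : N, x ^ 2 = 1) (x y : N) : x * y = y * x := by
  have h1 : ∀ x : N, x⁻¹ = x := fun x => by
    rw [inv_eq_iff_mul_eq_one, ← sq, h]
  rw [← h1 (x * y), mul_inv_rev, h1, h1]

end Cfsg.Agent.Perm
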