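import Mathlib
import Cfsg.Prelude.Def_Perm
import Cfsg.Agent.Lib.Perm.Basic
import Cfsg.Agent.Lib.Block.Defect

/-! Permutation modules in characteristic `p` of transitive groups of degree a power of `p`. -/

set_option autoImplicit false
set_option linter.unusedSectionVars false

namespace Cfsg.Agent.Perm.Md

open MulAction Module Polynomial

section gen
variable {K : Type*} [Field K] (G : Type*) [Group G] {Ω : Type*} [Fintype Ω] [MulAction G Ω]

/-- invariant subspaces of the permutation module -/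
def Inv (W : Submodule K (Ω → K)) : Prop := ∀ g : G, ∀ f ∈ W, (fun x => f (g • x)) ∈ W

variable {G}

theorem inv_sub (W : Subrepresentation (permRep K G Ω)) : Inv G W.toSubmodule := fun g f hf => by
  have := W.apply_mem_toSubmodule g⁻¹ hf
  convert this using 1
  ext x; change _ = f (g⁻¹⁻¹ • x); rw [inv_inv]

/-- the subrepresentation given by an invariant subspace -/
def Inv.sub {W : Submodule K (Ω → K)} (h : Inv G W) : Subrepresentation (permRep K G Ω) :=
  ⟨W, fun g _ hv => h g⁻¹ _ hv⟩

theorem sum_smul_eq (g : G) (f : Ω → K) : ∑ x, f (g • x) = ∑ x, f x :=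
  Fintype.sum_equiv (toPerm g) _ _ fun _ => rfl

/-- the orthogonal complement for the dot product -/
noncomputable def perp (W : Submodule K (Ω → K)) : Submodule K (Ω → K) :=
  LinearMap.BilinForm.orthogonal (dotProductBilin K K) W

theorem mem_perp {W : Submodule K (Ω → K)} {f : Ω → K} :
    f ∈ perp W ↔ ∀ w ∈ W, ∑ x, w x * f x = 0 := Iff.rfl

theorem finrank_perp (W : Submodule K (Ω → K)) :
    finrank K (perp W) = Fintype.card Ω - finrank K W := by
  classical
  have h : ∀ v : Ω → K, (∀ w : Ω → K, v ⬝ᵥ w = 0) → v = 0 := fun v hv => by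
    ext x; simpa using hv (Pi.single x 1)
  rw [perp, LinearMap.BilinForm.finrank_orthogonal, finrank_fintype_fun_eq_card]
  exact ⟨h, fun v hv => h v fun w => by rw [dotProduct_comm]; exact hv w⟩

theorem Inv.perp {W : Submodule K (Ω → K)} (h : Inv G W) : Inv G (perp W) := fun g f hf => mem_perp.2 fun w hw => by
  have := mem_perp.1 hf _ (h g⁻¹ w hw)
  rw [← sum_smul_eq g (fun x => w (g⁻¹ • x) * f x)] at this
  simpa using this

theorem mem_const {f : Ω → K} : f ∈ (permConstants K G Ω).toSubmodule ↔ ∃ c, f = fun _ => c := by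
  refine Submodule.mem_span_singleton.trans ⟨?_, ?_⟩
  · rintro ⟨c, rfl⟩; exact ⟨c, funext fun x => by simp⟩
  · rintro ⟨c, rfl⟩; exact ⟨c, funext fun x => by simp⟩

theorem mem_zero {f : Ω → K} : f ∈ (permSumZero K G Ω).toSubmodule ↔ ∑ x, f x = 0 := Iff.rfl

theorem const_of_perp {c : Ω → K} (h : ∀ w : Ω → K, ∑ x, w x = 0 → ∑ x, w x * c x = 0) (a b : Ω) :
    c a = c b := by
  classical
  have := h (Pi.single a 1 - Pi.single b 1) (by simp [Finset.sum_sub_distrib])
  simpa [sub_mul, Finset.sum_sub_distrib, Pi.single_apply, sub_eq_zero] using this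

variable [Finite G] {p f : ℕ} [hp : Fact p.Prime] [IsPretransitive G Ω]

theorem syl_trans (hc : Fintype.card Ω = p ^ f) (P : Sylow p G) (a b : Ω) :
    ∃ x ∈ (P : Subgroup G), x • a = b := by
  have h1 : (stabilizer G a).index = p ^ f := by
    rw [index_stabilizer_of_transitive, Nat.card_eq_fintype_card, hc]
  have h2 : p ^ f ∣ (stabilizer G a).relIndex P := by
    have h3 := Subgroup.relIndex_mul_index (inf_le_right : stabilizer G a ⊓ P ≤ (P : Subgroup G))
    have h4 := Subgroup.index_dvd_of_le (inf_le_left : stabilizer G a ⊓ P ≤ stabilizer G a)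
    rw [← h3, h1, Subgroup.inf_relIndex_right] at h4
    exact (Nat.Coprime.pow_left _ ((Nat.Prime.coprime_iff_not_dvd hp.out).2 P.not_dvd_index)).dvd_of_dvd_mul_right h4
  have h5 : Nat.card (orbit (P : Subgroup G) a) = (stabilizer G a).relIndex P := by
    rw [card_orbit_eq_index]; rfl
  have h6 : orbit (P : Subgroup G) a = Set.univ := by
    refine Set.eq_of_subset_of_ncard_le (Set.subset_univ _) ?_
    rw [Set.ncard_univ, Nat.card_eq_fintype_card, hc, ← Nat.card_coe_set_eq, h5]
    exact Nat.le_of_dvd (Nat.pos_of_ne_zero (Subgroup.FiniteIndex.index_ne_zero)) h2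
  obtain ⟨x, hx⟩ : b ∈ orbit (P : Subgroup G) a := h6 ▸ Set.mem_univ _
  exact ⟨x, x.2, hx⟩

variable [CharP K p]

theorem Inv.one_mem (hc : Fintype.card Ω = p ^ f) {W : Submodule K (Ω → K)} (h : Inv G W)
    (hW : W ≠ ⊥) : (fun _ => 1) ∈ W := by
  obtain ⟨v, hv, hv0⟩ := Submodule.exists_mem_ne_zero_of_ne_bot hW
  obtain ⟨P⟩ : Nonempty (Sylow p G) := inferInstance
  obtain ⟨w, hw, hw0, hf⟩ := Blk.exists_fixed_vector P.isPGroup'
    ((permRep K G Ω).comp (P : Subgroup G).subtype) W.toAddSubgroup (fun x w hw => h _ w hw) hv hv0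
  obtain ⟨a, ha⟩ := Function.ne_iff.1 hw0
  have : ∀ b, w b = w a := fun b => by
    obtain ⟨x, hx, rfl⟩ := syl_trans hc P a b
    have := congrFun (hf ⟨x, hx⟩) (x • a)
    exact this.symm.trans (by change w (x⁻¹ • x • a) = _; simp)
  convert W.smul_mem (w a)⁻¹ hw using 1
  ext b; simp [this b, inv_mul_cancel₀ ha]

theorem Inv.eq_top (hc : Fintype.card Ω = p ^ f) {W : Submodule K (Ω → K)} (h : Inv G W)
    {w : Ω → K} (hw : w ∈ W) (h0 : ∑ x, w x ≠ 0) : W = ⊤ := by
  have h1 : Md.perp W = ⊥ := by
    by_contra h1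
    exact h0 (by simpa using mem_perp.1 (h.perp.one_mem hc h1) w hw)
  have h2 := finrank_perp W
  rw [h1, finrank_bot] at h2
  refine Submodule.eq_top_of_finrank_eq (le_antisymm W.finrank_le ?_)
  rw [finrank_fintype_fun_eq_card]; omega

end gen

section cyc
variable {p : ℕ} [hp : Fact p.Prime] {K : Type*} [Field K] [CharP K p]

/-- translation of the argument -/
def tr (p : ℕ) (K : Type*) [Field K] : End K (ZMod p → K) := LinearMap.funLeft K K fun j => j - 1

theorem tr_pow (n : ℕ) (f : ZMod p → K) (j : ZMod p) : (tr p K ^ n) f j = f (j - n) := by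
  induction n generalizing j with
  | zero => simp
  | succ n ih => rw [pow_succ', End.mul_apply]; change (tr p K ^ n) f (j - 1) = _
                 rw [ih]; congr 1; push_cast; ring

theorem df_pow : (1 - tr p K) ^ p = 0 := by
  have : CharP (End K (ZMod p → K)) p :=
    charP_of_injective_algebraMap (algebraMap K (End K (ZMod p → K))).injective p
  rw [sub_pow_char_of_commute _ (Commute.one_left _), one_pow, sub_eq_zero]
  refine LinearMap.ext fun x => funext fun j => ?_
  simp [tr_pow]

theorem finrank_ker_df (r : ℕ) : finrank K (LinearMap.ker ((1 - tr p K) ^ r)) ≤ r := by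
  induction r with
  | zero => rw [pow_zero, End.one_eq_id, LinearMap.ker_id, finrank_bot]
  | succ r ih =>
    set U := LinearMap.ker ((1 - tr p K) ^ (r + 1))
    have h1 := LinearMap.finrank_range_add_finrank_ker ((1 - tr p K).domRestrict U)
    have h2 : LinearMap.range ((1 - tr p K).domRestrict U) ≤ LinearMap.ker ((1 - tr p K) ^ r) := by
      rintro _ ⟨u, rfl⟩
      have := u.2
      rw [LinearMap.mem_ker, pow_succ, End.mul_apply] at this
      exact this
    have h3 : finrank K (LinearMap.ker ((1 - tr p K).domRestrict U)) ≤ finrank K K := by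
      refine LinearMap.finrank_le_finrank_of_injective
        (f := (LinearMap.proj 0) ∘ₗ U.subtype ∘ₗ Submodule.subtype _) ?_
      refine (injective_iff_map_eq_zero _).2 ?_
      rintro ⟨⟨u, hu⟩, hu2⟩ h0
      have h4 : ∀ j, u j = u (j - 1) := fun j => sub_eq_zero.1 (congrFun hu2 j)
      have h5 : ∀ n : ℕ, u n = 0 := fun n => by
        induction n with
        | zero => simpa using h0
        | succ n ih => rw [h4]; simpa using ih
      refine Subtype.ext (Subtype.ext (funext fun j => ?_))
      simpa using h5 j.val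
    have := Submodule.finrank_mono h2
    rw [finrank_self] at h3
    omega

theorem eq_ker {W : Submodule K (ZMod p → K)} (hW : ∀ f ∈ W, (fun j => f (j - 1)) ∈ W) :
    W = LinearMap.ker ((1 - tr p K) ^ finrank K W) := by
  refine Submodule.eq_of_le_of_finrank_le (fun w hw => ?_) (finrank_ker_df _)
  have h : ∀ x ∈ W, (1 - tr p K) x ∈ W := fun x hx => W.sub_mem hx (hW x hx)
  have h1 := End.ker_pow_le_ker_pow_finrank ((1 - tr p K).restrict h) p (x := ⟨w, hw⟩) (by
    rw [End.pow_restrict, LinearMap.mem_ker]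
    apply Subtype.ext; simp [df_pow])
  rw [End.pow_restrict, LinearMap.mem_ker] at h1
  exact congrArg Subtype.val h1

theorem cast_inj : Function.Injective (ZMod.cast : ZMod p → K) := (ZMod.castHom dvd_rfl K).injective

theorem poly_eq {P Q : K[X]} (hP : P.degree < p) (hQ : Q.degree < p)
    (h : ∀ j : ZMod p, P.eval (ZMod.cast j) = Q.eval (ZMod.cast j)) : P = Q :=
  eq_of_degrees_lt_of_eval_index_eq (Finset.univ : Finset (ZMod p)) cast_inj.injOn
    (by simpa using hP) (by simpa using hQ) fun j _ => h j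

/-- polynomial functions -/
noncomputable def ev (p : ℕ) (K : Type*) [Field K] : K[X] →ₗ[K] (ZMod p → K) :=
  LinearMap.pi fun j => leval (ZMod.cast j : K)

theorem ev_apply (P : K[X]) (j : ZMod p) : ev p K P j = P.eval (ZMod.cast j) := by simp [ev]

theorem poly_of_inv {W : Submodule K (ZMod p → K)} (hW : ∀ f ∈ W, (fun j => f (j - 1)) ∈ W)
    (f : ZMod p → K) : f ∈ W ↔
      ∃ P : K[X], P.degree < finrank K W ∧ ∀ j : ZMod p, f j = P.eval (ZMod.cast j : K) := by
  have hr : finrank K W ≤ p := W.finrank_le.trans (by simp)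
  have h1 : finrank K ((degreeLT K (finrank K W)).map (ev p K)) = finrank K W := by
    rw [← LinearMap.range_domRestrict, LinearMap.finrank_range_of_inj, (degreeLTEquiv _ _).finrank_eq]
    · simp
    · intro P Q h
      refine Subtype.ext (poly_eq (p := p) ((mem_degreeLT.1 P.2).trans_le (by exact_mod_cast hr))
        ((mem_degreeLT.1 Q.2).trans_le (by exact_mod_cast hr)) fun j => ?_)
      simpa [ev_apply] using congrFun h j
  have h2 := eq_ker (W := (degreeLT K (finrank K W)).map (ev p K)) (by
    rintro _ ⟨P, hP, rfl⟩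
    refine ⟨taylor (-1) P, mem_degreeLT.2 (by simpa using mem_degreeLT.1 hP), funext fun j => ?_⟩
    rw [ev_apply, ev_apply, taylor_eval, ZMod.cast_sub dvd_rfl, ZMod.cast_one dvd_rfl, sub_eq_add_neg])
  rw [h1, ← eq_ker hW] at h2
  rw [← SetLike.ext_iff.1 h2 f]
  exact ⟨fun ⟨P, hP, h⟩ => ⟨P, mem_degreeLT.1 hP, fun j => by rw [← h, ev_apply]⟩,
    fun ⟨P, hP, h⟩ => ⟨P, mem_degreeLT.2 hP, funext fun j => by rw [h, ev_apply]⟩⟩

end cyc

end Cfsg.Agent.Perm.Md
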