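import Cfsg.Agent.Lib.Perm.Mod2
import Cfsg.Agent.S0672

/-! Transitive groups of prime degree: Sylow normalisers and multiple transitivity. -/

set_option autoImplicit false
set_option linter.unusedSectionVars false

namespace Cfsg.Agent.Perm.Md

open MulAction Module Subgroup
open scoped Pointwise

variable {G : Type*} [Group G] [Finite G] {Ω : Type*} [Fintype Ω] [MulAction G Ω] [FaithfulSMul G Ω]
  {p : ℕ} [hp : Fact p.Prime]

section
variable [IsPretransitive G Ω] (hα : Nat.card Ω = p)
include hα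

theorem card_syl (P : Sylow p G) : Nat.card P = p := by
  obtain ⟨a⟩ : Nonempty Ω := (Nat.card_pos_iff.1 (hα ▸ hp.out.pos)).1
  exact Br.card_syl_prime hα P ⟨_, hα ▸ card_eq_mul_stab (G := G) a⟩

theorem coord_syl (P : Sylow p G) :
    ∃ (e : Ω ≃ ZMod p) (τ : G), zpowers τ = P ∧ ∀ x, e (τ • x) = e x + 1 :=
  exists_coord hα (card_syl hα P)

theorem syl_data (P : Sylow p G) : ∃ t n, Nat.card G = n * (p * t) ∧ t ∣ p - 1 ∧ n ≡ 1 [MOD p] ∧
    Nat.card (normalizer ((P : Subgroup G) : Set G)) = p * t ∧ n = Nat.card (Sylow p G) ∧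
    t = (P : Subgroup G).relIndex (normalizer ((P : Subgroup G) : Set G)) := by
  have h1 : Nat.card (normalizer ((P : Subgroup G) : Set G)) =
      p * (P : Subgroup G).relIndex (normalizer ((P : Subgroup G) : Set G)) := by
    rw [← card_mul_index ((P : Subgroup G).subgroupOf _), Nat.card_congr (subgroupOfEquivOfLe le_normalizer).toEquiv,
      card_syl hα P]; rfl
  refine ⟨_, _, by rw [← h1, SylNum.card_eq_mul P], ?_, card_sylow_modEq_one p G, h1, rfl, rfl⟩
  have := SylNum.relIndex_centralizer_dvd hp.out (card_syl hα P)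
  rwa [Br.cent_prime hα (card_syl hα P)] at this

theorem two_of_not_solv (hG : ¬ Group.IsSolvable G) : IsMultiplyPretransitive G Ω 2 := by
  obtain ⟨e, τ, -, hτ⟩ := coord_syl hα (default : Sylow p G)
  exact (aff_or_two hτ).resolve_left fun h => hG (solv_of_aff h)

end

variable {e : Ω ≃ ZMod p} {τ : G} (hτ : ∀ x, e (τ • x) = e x + 1)
include hτ

theorem exists_neg (h2 : p ≠ 2) (h : Even (Nat.card (normalizer (zpowers τ : Set G)))) (c : ZMod p) :
    ∃ u : G, ∀ x, e (u • x) = c - e x := by
  obtain ⟨u, hu⟩ := exists_prime_orderOf_dvd_card' 2 h.two_dvd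
  obtain ⟨a, b, h1⟩ := aff_of_norm hτ u.2
  have h3 : ∀ x, a * (a * x + b) + b = x := fun x => by
    have : (u : G) • (u : G) • e.symm x = e.symm x := by
      rw [← mul_smul, ← Subgroup.coe_mul, ← sq, ← hu, pow_orderOf_eq_one]; simp
    simpa [h1] using congrArg e this
  have h4 : (2 : ZMod p) ≠ 0 := by exact_mod_cast cast_ne (n := 2) (p := p) two_pos (by have := hp.out.two_le; omega)
  rcases mul_self_eq_one_iff.1 (show a * a = 1 by linear_combination h3 1 - h3 0) with rfl | rfl
  · have h5 : b = 0 := (mul_eq_zero.1 (show 2 * b = 0 by linear_combination h3 0)).resolve_left h4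
    rw [show u = 1 from Subtype.ext (eq_of_smul_eq_smul fun x : Ω => e.injective (by simp [h1, h5]))] at hu
    simp at hu
  · exact ⟨τ ^ (c - b).val * u, fun x => by rw [mul_smul, e_val hτ, h1]; ring⟩

omit hτ in
theorem sum_e (h2 : p ≠ 2) : ∑ x, e x = 0 := by
  have := FiniteField.sum_pow_lt_card_sub_one (ZMod p) 1 (by
    have := hp.out.two_le; rw [ZMod.card]; omega)
  simpa [← e.sum_comp] using this

theorem mem_of_irr (hG : ¬ ∀ g : G, Aff e g) {W : Submodule (ZMod p) (Ω → ZMod p)} (hW : Inv G W)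
    (h : (fun x => e x) ∈ W) (w : Ω → ZMod p) (hw : ∑ x, w x = 0) : w ∈ W := by
  have h2 : p ≠ 2 := fun h => hG (aff_of_le (by omega))
  rcases (aff_or_irr hτ (ZMod p)).resolve_left hG (W ⊓ (permSumZero _ G Ω).toSubmodule)
    (fun g v hv => ⟨hW g v hv.1, (inv_sub _) g v hv.2⟩) fun w hw => hw.2 with h3 | h3
  · obtain ⟨c, hc⟩ := h3 _ ⟨h, sum_e h2⟩
    simpa using (congrFun hc (e.symm 0)).trans (congrFun hc (e.symm 1)).symm
  · exact (h3 w hw).1

theorem three_of_even (hG : ¬ ∀ g : G, Aff e g) (h : Even (Nat.card (normalizer (zpowers τ : Set G)))) :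
    IsMultiplyPretransitive G Ω 3 := by
  classical
  have h3 : ¬ p ≤ 3 := fun h => hG (aff_of_le h)
  have h4 : (2 : ZMod p) ≠ 0 := by exact_mod_cast cast_ne (n := 2) (p := p) two_pos (by omega)
  have hc : Fintype.card Ω = p := by simpa using Fintype.card_congr e
  refine S0672.result (K := ZMod p) (p := p) ((aff_or_two hτ).resolve_left hG) (hc ▸ dvd_rfl) (fun a => ?_)
    fun f hf => ?_
  · obtain ⟨u, hu⟩ := exists_neg hτ (by omega) h (2 * e a)
    refine even_iff_two_dvd.2 ?_
    rw [← orderOf_eq_prime (p := 2) (x := (⟨u, e.injective (by rw [hu]; ring)⟩ : stabilizer G a))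
      (Subtype.ext (eq_of_smul_eq_smul fun x : Ω => e.injective (by simp [sq, mul_smul, hu]))) fun h1 => ?_]
    · exact orderOf_dvd_natCard _
    · have := hu (e.symm (e a + 1))
      rw [show u = 1 from congrArg Subtype.val h1] at this
      exact h4 (by simp at this; linear_combination this)
  have h5 : f ⟨fun x => e x, sum_e (by omega)⟩ = 0 := funext fun s => by
    obtain ⟨y, z, hyz, hs⟩ := Finset.card_eq_two.1 s.2
    obtain ⟨u, hu⟩ := exists_neg hτ (by omega) h (e y + e z)
    have h6 : u • s = s := Subtype.ext (by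
      rw [Set.powersetCard.coe_smul, hs, Finset.smul_finset_insert, Finset.smul_finset_singleton,
        show u • y = z from e.injective (by simp [hu]), show u • z = y from e.injective (by simp [hu]),
        Finset.pair_comm])
    have h7 := congrFun (f.isIntertwining _ _ u⁻¹ ⟨fun x => e x, sum_e (by omega)⟩) s
    rw [show (permSumZero (ZMod p) G Ω).toRepresentation u⁻¹ ⟨fun x => e x, sum_e (by omega)⟩ =
      ⟨fun _ => e y + e z, by simp [mem_zero, hc]⟩ - ⟨fun x => e x, sum_e (by omega)⟩ from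
        Subtype.ext (funext fun x => by change e (u⁻¹⁻¹ • x) = _; simp [hu]), map_sub,
      hf _ (mem_const.2 ⟨_, rfl⟩)] at h7
    change _ = f _ (u⁻¹⁻¹ • s) at h7
    rw [inv_inv, h6] at h7
    exact (mul_eq_zero.1 (show 2 * f _ s = 0 by simp at h7; linear_combination -h7)).resolve_left h4
  refine Representation.IntertwiningMap.ext (LinearMap.ext fun v => ?_)
  obtain ⟨w, h6, h7⟩ := mem_of_irr hτ hG (W := (LinearMap.ker f.toLinearMap).map (Submodule.subtype _)) (by
    rintro g _ ⟨u, hu, rfl⟩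
    refine ⟨(permSumZero (ZMod p) G Ω).toRepresentation g⁻¹ u, ?_, funext fun x => ?_⟩
    · change f _ = 0
      rw [f.isIntertwining, show f u = 0 from hu, map_zero]
    · change u.1 (g⁻¹⁻¹ • x) = _
      simp) ⟨_, h5, rfl⟩ v.1 v.2
  exact Subtype.ext h7 ▸ h6

/-- a bound for the number of orbits of a subgroup -/
theorem card_orbits_le (hG : ¬ ∀ g : G, Aff e g) (L : Subgroup G) {ι : Type*} [Fintype ι] (s : ι → G)
    (hs : ∀ g, ∃ n i, ∃ l ∈ L, Aff e n ∧ g = n * s i * l) :
    Nat.card (orbitRel.Quotient L Ω) ≤ Fintype.card ι + 2 := by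
  classical
  have := Fintype.ofFinite (orbitRel.Quotient L Ω)
  let T : (orbitRel.Quotient L Ω → ZMod p) →ₗ[ZMod p] (ι → ZMod p) × ZMod p × ZMod p :=
    (((LinearMap.pi fun i => dotProductBilin (ZMod p) (ZMod p) fun x => e (s i • x)).prod
      ((dotProductBilin (ZMod p) (ZMod p) fun _ => 1).prod (LinearMap.proj (e.symm 0))))) ∘ₗ
      LinearMap.funLeft _ _ Quotient.mk''
  have h1 := LinearMap.finrank_le_finrank_of_injective (f := T) ((injective_iff_map_eq_zero _).2 fun c hc => ?_)
  · simpa [finrank_prod, add_assoc] using h1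
  obtain ⟨h2, h3, h4⟩ : (∀ i, ∑ x, e (s i • x) * c (Quotient.mk'' x) = 0) ∧ ∑ x, c (Quotient.mk'' x) = 0 ∧
      c (Quotient.mk'' (e.symm 0)) = 0 := by
    simpa [T, funext_iff, dotProduct] using hc
  let W : Submodule (ZMod p) (Ω → ZMod p) :=
    { carrier := {w | ∀ g : G, ∑ x, w (g • x) * c (Quotient.mk'' x) = 0}
      add_mem' := fun hv hw g => by simp [add_mul, Finset.sum_add_distrib, hv g, hw g]
      zero_mem' := fun g => by simp
      smul_mem' := fun r v hv g => by simp [mul_assoc, ← Finset.mul_sum, hv g] }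
  have h5 := const_of_perp (c := fun x => c (Quotient.mk'' x)) fun w hw => by
    simpa using mem_of_irr hτ hG (W := W) (fun g v hv k => by simpa [mul_smul] using hv (g * k)) (fun g => by
      obtain ⟨n, i, l, hl, ⟨a, b, hn⟩, rfl⟩ := hs g
      have h6 : ∀ x : Ω, (Quotient.mk'' x : orbitRel.Quotient L Ω) = Quotient.mk'' (l • x) := fun x =>
        Eq.symm (Quotient.sound' ⟨⟨l, hl⟩, rfl⟩)
      simp only [mul_smul, hn]
      rw [Finset.sum_congr rfl fun x _ => congrArg _ (congrArg c (h6 x)),
        sum_smul_eq l fun x => (a * e (s i • x) + b) * c (Quotient.mk'' x)]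
      simp [add_mul, Finset.sum_add_distrib, mul_assoc, ← Finset.mul_sum, h2, h3]) w hw 1
  funext q
  induction q using Quotient.inductionOn' with | h q => exact (h5 q _).trans h4

end Cfsg.Agent.Perm.Md
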