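import Mathlib
import Cfsg.Agent.Lib.Perm.Prim

set_option autoImplicit false

/-! Orbit counting, Witt's lemma, criteria for multiple transitivity, minimal normal
subgroups. -/

namespace Cfsg.Agent.Perm

open MulAction
open scoped Pointwise

section
variable {G : Type*} [Group G] {α : Type*} [MulAction G α]

theorem dvd_card_of_dvd_index [Finite α] {d : ℕ} (hd : ∀ x : α, d ∣ (stabilizer G x).index) :
    d ∣ Nat.card α := by
  classical
  have := Fintype.ofFinite (orbitRel.Quotient G α)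
  rw [Nat.card_congr (selfEquivSigmaOrbits G α), Nat.card_sigma]
  exact Finset.dvd_sum fun q _ => by rw [card_orbit_eq_index]; exact hd _

/-- If `d` divides all orbit lengths on an invariant finite set then it divides its size. -/
theorem dvd_ncard_of_invariant {S : Set α} (hfin : S.Finite)
    (hS : ∀ g : G, ∀ x ∈ S, g • x ∈ S) {d : ℕ} (hd : ∀ x ∈ S, d ∣ (stabilizer G x).index) :
    d ∣ S.ncard := by
  let T : SubMulAction G α := ⟨S, fun g x hx => hS g x hx⟩
  have : Finite T := hfin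
  have := dvd_card_of_dvd_index (G := G) (α := T) (d := d) (fun x => by
    rw [SubMulAction.stabilizer_of_subMul]; exact hd x x.2)
  exact this

theorem card_dvd_ncard_of_semiregular {S : Set α} (hfin : S.Finite)
    (hS : ∀ g : G, ∀ x ∈ S, g • x ∈ S) (hd : ∀ x ∈ S, ∀ g : G, g • x = x → g = 1) :
    Nat.card G ∣ S.ncard :=
  dvd_ncard_of_invariant hfin hS fun x hx => by
    rw [show stabilizer G x = ⊥ from eq_bot_iff.2 fun g hg => hd x hx g hg, Subgroup.index_bot]

theorem fixedPoints_zpowers (g : G) : fixedPoints (Subgroup.zpowers g) α = fixedBy α g := by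
  ext a
  constructor
  · intro h
    exact h ⟨g, Subgroup.mem_zpowers g⟩
  · rintro h ⟨_, j, rfl⟩
    exact mem_fixedBy_zpow h j

theorem isPGroup_zpowers {p : ℕ} {g : G} {k : ℕ} (h : g ^ p ^ k = 1) :
    IsPGroup p (Subgroup.zpowers g) := by
  rintro ⟨_, j, rfl⟩
  refine ⟨k, Subtype.ext ?_⟩
  show (g ^ j) ^ p ^ k = 1
  rw [← zpow_natCast, ← zpow_mul, mul_comm, zpow_mul, zpow_natCast, h, one_zpow]

theorem card_modEq_fixedBy [Finite α] {p : ℕ} (hp : p.Prime) {g : G} {k : ℕ} (h : g ^ p ^ k = 1) :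
    Nat.card α ≡ Nat.card (fixedBy α g) [MOD p] := by
  have := Fact.mk hp
  rw [← fixedPoints_zpowers]
  exact (isPGroup_zpowers h).card_modEq_card_fixedPoints α

theorem card_fixedBy_conj (g k : G) :
    Nat.card (fixedBy α (k * g * k⁻¹)) = Nat.card (fixedBy α g) := by
  rw [← smul_fixedBy, Nat.card_coe_set_eq, Nat.card_coe_set_eq, Set.ncard_smul_set]

/-- Witt's lemma: the normaliser of a Sylow subgroup `U` of a point stabiliser is transitive on
the points of the orbit fixed by `U`. -/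
theorem witt_normalizer [Finite G] {p : ℕ} (hp : p.Prime) {x : α} {U : Subgroup G}
    (hU : U ≤ stabilizer G x) (hP : IsPGroup p U) (hi : ¬ p ∣ U.relIndex (stabilizer G x))
    {h : G} (hy : U ≤ stabilizer G (h • x)) :
    ∃ n ∈ Subgroup.normalizer (U : Set G), n • x = h • x := by
  have := Fact.mk hp
  set U' : Subgroup G := U.map (MulAut.conj h⁻¹).toMonoidHom with hU'
  have hmem : ∀ g, g ∈ U' ↔ h * g * h⁻¹ ∈ U := by
    intro g
    rw [hU', Subgroup.mem_map_equiv]
    simp
  have hU'le : U' ≤ stabilizer G x := fun g hg => by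
    have := mem_stab_smul.1 (hy ((hmem g).1 hg))
    simpa [mul_assoc] using this
  have hc : Nat.card U' = Nat.card U := Subgroup.card_map_of_injective (MulAut.conj h⁻¹).injective
  have hi' : ¬ p ∣ U'.relIndex (stabilizer G x) := by
    have e1 := Subgroup.index_mul_card (U.subgroupOf (stabilizer G x))
    have e2 := Subgroup.index_mul_card (U'.subgroupOf (stabilizer G x))
    rw [Nat.card_congr (Subgroup.subgroupOfEquivOfLe hU).toEquiv] at e1
    rw [Nat.card_congr (Subgroup.subgroupOfEquivOfLe hU'le).toEquiv, hc, ← e1] at e2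
    have := Nat.eq_of_mul_eq_mul_right Nat.card_pos e2
    unfold Subgroup.relIndex at hi ⊢
    rwa [this]
  let S1 : Sylow p (stabilizer G x) := (hP.comap_subtype (K := stabilizer G x)).toSylow hi
  let S2 : Sylow p (stabilizer G x) :=
    ((hP.map (MulAut.conj h⁻¹).toMonoidHom).comap_subtype (K := stabilizer G x)).toSylow hi'
  obtain ⟨k, hk⟩ := exists_smul_eq (stabilizer G x) S1 S2
  have hk' : ∀ u ∈ U, (k : G) * u * (k : G)⁻¹ ∈ U' := by
    intro u hu
    have : k * ⟨u, hU hu⟩ * k⁻¹ ∈ (S2 : Subgroup (stabilizer G x)) := by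
      rw [← hk, Sylow.coe_subgroup_smul]
      exact Subgroup.smul_mem_pointwise_smul _ (MulAut.conj k) _ hu
    exact this
  refine ⟨h * k, ?_, by rw [mul_smul, mem_stabilizer_iff.1 k.2]⟩
  apply Subgroup.mem_normalizer_fintype
  intro u hu
  have := (hmem _).1 (hk' u hu)
  simpa [mul_assoc] using this

theorem swap_three [DecidableEq α] {a b c : α} (hab : a ≠ b) (hac : a ≠ c) (hbc : b ≠ c) :
    Equiv.swap b c * Equiv.swap a b * Equiv.swap a c = Equiv.swap a b := by
  ext x
  simp only [Equiv.Perm.mul_apply, Equiv.swap_apply_def]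
  split_ifs <;> simp_all

/-- Multiple transitivity from the possibility to move one coordinate at a time. -/
theorem multTrans_of_update [Finite α] {k : ℕ} (hk : k < Nat.card α)
    (h : ∀ x : Fin k → α, Function.Injective x → ∀ i, ∀ c ∉ Set.range x,
      ∃ g : G, g • x i = c ∧ ∀ j, j ≠ i → g • x j = x j) : IsMultiplyPretransitive G α k := by
  classical
  have A : ∀ x : Fin k → α, Function.Injective x → ∀ a, ∀ c ∉ Set.range x,
      ∃ g : G, ∀ j, g • x j = Equiv.swap a c (x j) := by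
    intro x hx a c hc
    by_cases ha : a ∈ Set.range x
    · obtain ⟨i, rfl⟩ := ha
      obtain ⟨g, h1, h2⟩ := h x hx i c hc
      refine ⟨g, fun j => ?_⟩
      by_cases hj : j = i
      · rw [hj, h1, Equiv.swap_apply_left]
      · rw [h2 j hj, Equiv.swap_apply_of_ne_of_ne (fun e => hj (hx e)) (fun e => hc ⟨j, e⟩)]
    · exact ⟨1, fun j => by
        rw [one_smul, Equiv.swap_apply_of_ne_of_ne (fun e => ha ⟨j, e⟩) (fun e => hc ⟨j, e⟩)]⟩
  have B : ∀ x : Fin k → α, Function.Injective x → ∀ a b, a ≠ b →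
      ∃ g : G, ∀ j, g • x j = Equiv.swap a b (x j) := by
    intro x hx a b hab
    by_cases hb : b ∈ Set.range x
    swap
    · exact A x hx a b hb
    by_cases ha : a ∈ Set.range x
    swap
    · rw [Equiv.swap_comm]; exact A x hx b a ha
    obtain ⟨c, hc⟩ : ∃ c, c ∉ Set.range x := by
      by_contra hcon
      push Not at hcon
      have := Nat.card_le_card_of_surjective x hcon
      simp at this; omega
    have hac : a ≠ c := fun e => hc (e ▸ ha)
    have hbc : b ≠ c := fun e => hc (e ▸ hb)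
    obtain ⟨g1, h1⟩ := A x hx a c hc
    obtain ⟨g2, h2⟩ := A (Equiv.swap a c ∘ x) ((Equiv.injective _).comp hx) b a (by
      rintro ⟨j, hj⟩
      rw [Function.comp_apply, Equiv.swap_apply_eq_iff, Equiv.swap_apply_left] at hj
      exact hc ⟨j, hj⟩)
    obtain ⟨g3, h3⟩ := A (Equiv.swap b a ∘ Equiv.swap a c ∘ x)
      ((Equiv.injective _).comp ((Equiv.injective _).comp hx)) c b (by
      rintro ⟨j, hj⟩
      rw [Function.comp_apply, Function.comp_apply, Equiv.swap_apply_eq_iff, Equiv.swap_apply_left,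
        Equiv.swap_apply_eq_iff, Equiv.swap_apply_left] at hj
      exact hc ⟨j, hj⟩)
    refine ⟨g3 * g2 * g1, fun j => ?_⟩
    simp only [Function.comp_apply] at h2 h3
    rw [mul_smul, mul_smul, h1, h2, h3, ← swap_three hab hac hbc, Equiv.swap_comm c b,
      Equiv.swap_comm b a]
    rfl
  have := Fintype.ofFinite α
  have C : ∀ σ : Equiv.Perm α, ∀ x : Fin k → α, Function.Injective x →
      ∃ g : G, ∀ j, g • x j = σ (x j) := by
    intro σ
    induction σ using Equiv.Perm.swap_induction_on with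
    | one => exact fun x _ => ⟨1, fun j => by simp⟩
    | swap_mul f a b hab ih =>
      intro x hx
      obtain ⟨g, hg⟩ := ih x hx
      obtain ⟨g', hg'⟩ := B (f ∘ x) (f.injective.comp hx) a b hab
      exact ⟨g' * g, fun j => by rw [mul_smul, hg]; exact hg' j⟩
  rw [multTrans_iff]
  intro x y hx hy
  obtain ⟨σ, hσ⟩ := multTrans_iff.1 (Equiv.Perm.isMultiplyPretransitive α k) x y hx hy
  obtain ⟨g, hg⟩ := C σ x hx
  exact ⟨g, fun j => (hg j).trans (hσ j)⟩

theorem multTrans_add_of_fixing {m k : ℕ} (hm : IsMultiplyPretransitive G α m) {s : Set α}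
    (hfin : s.Finite) (hs : s.ncard = m)
    (hk : IsMultiplyPretransitive (fixingSubgroup G s) (SubMulAction.ofFixingSubgroup G s) k) :
    IsMultiplyPretransitive G α (m + k) := by
  have : Finite s := hfin
  have e : Fin m ≃ s := (Finite.equivFinOfCardEq hs).symm
  have key : ∀ x : Fin (m + k) → α, Function.Injective x → ∃ g : G,
      (∀ i, g • x (Fin.castAdd k i) = e i) ∧ ∀ j, g • x (Fin.natAdd m j) ∉ s := by
    intro x hx
    obtain ⟨g, hg⟩ := multTrans_iff.1 hm (fun i => x (Fin.castAdd k i)) (fun i => e i)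
      (hx.comp (Fin.castAdd_injective _ _)) (Subtype.val_injective.comp e.injective)
    refine ⟨g, hg, fun j hj => ?_⟩
    have h1 := hg (e.symm ⟨_, hj⟩)
    rw [Equiv.apply_symm_apply] at h1
    have h2 := congrArg Fin.val (hx (smul_left_cancel g h1))
    simp only [Fin.val_castAdd, Fin.val_natAdd] at h2
    have := (e.symm ⟨_, hj⟩).2
    omega
  rw [multTrans_iff]
  intro x y hx hy
  obtain ⟨g1, h1, h1'⟩ := key x hx
  obtain ⟨g2, h2, h2'⟩ := key y hy
  obtain ⟨h, hh⟩ := multTrans_iff.1 hk (fun j => ⟨_, h1' j⟩) (fun j => ⟨_, h2' j⟩)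
    (fun i j e => Fin.natAdd_injective _ _ (hx (smul_left_cancel g1 (congrArg Subtype.val e))))
    (fun i j e => Fin.natAdd_injective _ _ (hy (smul_left_cancel g2 (congrArg Subtype.val e))))
  refine ⟨g2⁻¹ * h * g1, fun i => ?_⟩
  rw [mul_smul, mul_smul, inv_smul_eq_iff]
  induction i using Fin.addCases with
  | left i => rw [h1, h2]; exact (mem_fixingSubgroup_iff G).1 h.2 _ (e i).2
  | right j => exact congrArg Subtype.val (hh j)

end

section
variable {G : Type*} [Group G]

/-- An abelian minimal normal subgroup of a finite group is elementary abelian. -/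
theorem elem_of_minNormal_comm (M : Subgroup G) [Finite M] [hn : M.Normal] (hM : M ≠ ⊥)
    (hmin : ∀ L : Subgroup G, L.Normal → L ≤ M → L = ⊥ ∨ L = M)
    (hab : ∀ x ∈ M, ∀ y ∈ M, x * y = y * x) : ∃ p : ℕ, p.Prime ∧ ∀ m ∈ M, m ^ p = 1 := by
  have : Nontrivial M := (Subgroup.nontrivial_iff_ne_bot M).2 hM
  have hp := Nat.minFac_prime (Finite.one_lt_card (α := M)).ne'
  have := Fact.mk hp
  obtain ⟨u, hu⟩ := exists_prime_orderOf_dvd_card' _ (Nat.minFac_dvd (Nat.card M))
  set p := (Nat.card M).minFac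
  let L : Subgroup G :=
    { carrier := {x | x ∈ M ∧ x ^ p = 1}
      one_mem' := ⟨M.one_mem, one_pow _⟩
      mul_mem' := fun {x y} hx hy => ⟨M.mul_mem hx.1 hy.1, by
        rw [Commute.mul_pow (hab x hx.1 y hy.1), hx.2, hy.2, one_mul]⟩
      inv_mem' := fun {x} hx => ⟨M.inv_mem hx.1, by rw [inv_pow, hx.2, inv_one]⟩ }
  have hL : L.Normal := ⟨fun x hx g => ⟨hn.conj_mem x hx.1 g, by rw [conj_pow, hx.2]; simp⟩⟩
  rcases hmin L hL (fun x hx => hx.1) with h | h
  · exfalso
    have : (u : G) ∈ L := ⟨u.2, by rw [← hu, ← Subgroup.coe_pow, pow_orderOf_eq_one]; rfl⟩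
    rw [h, Subgroup.mem_bot] at this
    rw [show u = 1 from Subtype.ext this, orderOf_one] at hu
    exact hp.one_lt.ne hu
  · exact ⟨p, hp, fun m hm => (show m ∈ L from h.symm ▸ hm).2⟩

theorem commute_of_minNormal_ne {M N : Subgroup G} (hMn : M.Normal) (hNn : N.Normal)
    (hMmin : ∀ L : Subgroup G, L.Normal → L ≤ M → L = ⊥ ∨ L = M)
    (hNmin : ∀ L : Subgroup G, L.Normal → L ≤ N → L = ⊥ ∨ L = N) (hM : M ≠ ⊥) (hMN : M ≠ N)
    {x y : G} (hx : x ∈ M) (hy : y ∈ N) : x * y = y * x := by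
  refine Subgroup.commute_of_normal_of_disjoint M N hMn hNn ?_ x y hx hy
  rw [disjoint_iff]
  rcases hMmin (M ⊓ N) inferInstance inf_le_left with h | h
  · exact h
  · rcases hNmin M hMn (h ▸ inf_le_right) with h' | h'
    · exact absurd h' hM
    · exact absurd h' hMN

theorem exists_minNormal_le [Finite G] (N : Subgroup G) (hn : N.Normal) (hN : N ≠ ⊥) :
    ∃ M : Subgroup G, M.Normal ∧ M ≠ ⊥ ∧ M ≤ N ∧
      ∀ L : Subgroup G, L.Normal → L ≤ M → L = ⊥ ∨ L = M := by
  obtain ⟨M, hM⟩ := exists_minimal_of_wellFoundedLT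
    (fun M : Subgroup G => M.Normal ∧ M ≠ ⊥ ∧ M ≤ N) ⟨N, hn, hN, le_rfl⟩
  refine ⟨M, hM.1.1, hM.1.2.1, hM.1.2.2, fun L hL hLM => ?_⟩
  by_cases h : L = ⊥
  · exact Or.inl h
  · exact Or.inr (le_antisymm hLM (hM.2 ⟨hL, h, hLM.trans hM.1.2.2⟩ hLM))

theorem exists_prime_order_pow {g : G} (hfin : IsOfFinOrder g) (hg : g ≠ 1) :
    ∃ k : ℕ, (orderOf (g ^ k)).Prime ∧ orderOf (g ^ k) ∣ orderOf g := by
  have h1 : orderOf g ≠ 1 := by simpa using hg
  have hp := Nat.minFac_prime h1
  refine ⟨orderOf g / (orderOf g).minFac, ?_⟩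
  rw [orderOf_pow_orderOf_div hfin.orderOf_pos.ne' (Nat.minFac_dvd _)]
  exact ⟨hp, Nat.minFac_dvd _⟩

end

end Cfsg.Agent.Perm
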