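import Mathlib
import Cfsg.Agent.Lib.Solv.Coprime
import Cfsg.Agent.Lib.Perm.Prim
import Cfsg.Agent.Lib.Perm.Count

/-! Numbers of Sylow subgroups: reduction lemmas and local tools. -/

namespace Cfsg.Agent.Perm.SylNum
open Subgroup MulAction Cfsg.Agent.Solv Cfsg.Agent.Perm
open scoped Pointwise

universe u
variable {G : Type*} [Group G] {p : ℕ}

theorem card_syl [Finite G] [Fact p.Prime] (P : Sylow p G) :
    Nat.card (Sylow p G) = (normalizer ((P : Subgroup G) : Set G)).index :=
  P.card_eq_index_normalizer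

theorem smul_eq_iff {g : G} {P : Sylow p G} :
    g • P = P ↔ g ∈ normalizer ((P : Subgroup G) : Set G) := Sylow.smul_eq_iff_mem_normalizer

theorem card_syl_sub [Finite G] [Fact p.Prime] {P K : Subgroup G} (h : IsSylowIn p P K) :
    Nat.card (Sylow p K) = (normalizer (P : Set G)).relIndex K := by
  obtain ⟨Q, hQ⟩ := h.exists_sylow
  rw [card_syl Q, hQ, ← subgroupOf_normalizer_eq h.le]; rfl

theorem card_syl_equiv {H : Type*} [Group H] [Finite G] [Fact p.Prime] (e : G ≃* H) :
    Nat.card (Sylow p G) = Nat.card (Sylow p H) := by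
  haveI : Finite H := Finite.of_equiv _ e.toEquiv
  obtain ⟨P⟩ : Nonempty (Sylow p H) := inferInstance
  have h1 : IsSylowIn p ((P : Subgroup H).map e.symm.toMonoidHom) (⊤ : Subgroup G) := by
    have := (isSylowIn_top P).map e.symm.toMonoidHom
    rwa [map_top_of_surjective _ e.symm.surjective] at this
  obtain ⟨Q, hQ⟩ := h1.exists_sylow_top
  rw [card_syl P, card_syl Q, hQ, ← index_comap_of_surjective _ (f := e.toMonoidHom) e.surjective,
    comap_normalizer_eq_of_surjective _ e.surjective, comap_equiv_eq_map_symm']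

theorem card_syl_normal [Finite G] [hp : Fact p.Prime] (N : Subgroup G) [N.Normal] (h : ¬ p ∣ N.index) :
    Nat.card (Sylow p N) = Nat.card (Sylow p G) := by
  obtain ⟨P⟩ : Nonempty (Sylow p G) := inferInstance
  have hle : (P : Subgroup G) ≤ N := le_of_coprime_index (coprime_card_of_isPGroup P.isPGroup' h)
  rw [card_syl_sub (isSylowIn_of_le P hle), card_syl P]
  have h2 : N ⊔ normalizer ((P : Subgroup G) : Set G) = ⊤ := (isSylowIn_of_le P hle).frattini_top
  have a := card_inf_mul_relIndex (normalizer ((P : Subgroup G) : Set G)) N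
  have b := card_sup_mul_card_inf (H := normalizer ((P : Subgroup G) : Set G)) (N := N)
    (by rw [normalizer_eq_top N]; exact le_top)
  rw [sup_comm, h2, card_top, ← (normalizer ((P : Subgroup G) : Set G)).card_mul_index, ← a] at b
  have p1 : 0 < Nat.card (normalizer ((P : Subgroup G) : Set G)) := Nat.card_pos
  have p2 : 0 < Nat.card (normalizer ((P : Subgroup G) : Set G) ⊓ N : Subgroup G) := Nat.card_pos
  apply Nat.eq_of_mul_eq_mul_left (Nat.mul_pos p1 p2)
  linarith

theorem normalizer_sup_normal [Finite G] [Fact p.Prime] (P : Sylow p G) (K : Subgroup G) [K.Normal] :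
    normalizer (((P : Subgroup G) ⊔ K : Subgroup G) : Set G) = normalizer ((P : Subgroup G) : Set G) ⊔ K := by
  apply le_antisymm
  · intro g hg
    obtain ⟨k, hk, hk'⟩ := (isSylowIn_of_le P (le_sup_left (b := K))).frattini_elt hg
    have : k ∈ normalizer ((P : Subgroup G) : Set G) ⊔ K :=
      (sup_le_sup_right le_normalizer K) hk
    have h2 := mul_mem this (le_sup_left (b := K) hk')
    simpa using h2
  · apply sup_le
    · exact le_normalizer_sup le_rfl (by rw [normalizer_eq_top K]; exact le_top)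
    · exact le_sup_right.trans le_normalizer

theorem card_syl_quot [Finite G] [Fact p.Prime] (P : Sylow p G) (K : Subgroup G) [K.Normal] :
    Nat.card (Sylow p (G ⧸ K)) = (normalizer ((P : Subgroup G) : Set G) ⊔ K).index := by
  have hs := QuotientGroup.mk'_surjective K
  rw [card_syl (Sylow.mapSurjective hs P), Sylow.coe_mapSurjective,
    ← index_comap_of_surjective _ hs, comap_normalizer_eq_of_surjective _ hs, comap_map_mk,
    normalizer_sup_normal]

theorem card_syl_quot_of_le [Finite G] [Fact p.Prime] (P : Sylow p G) (K : Subgroup G) [K.Normal]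
    (h : K ≤ normalizer ((P : Subgroup G) : Set G)) :
    Nat.card (Sylow p (G ⧸ K)) = Nat.card (Sylow p G) := by
  rw [card_syl_quot P, sup_eq_left.2 h, card_syl P]

/-- no proper normal subgroup of index prime to `p` -/
def NoQuot (p : ℕ) (G : Type*) [Group G] : Prop :=
  ∀ N : Subgroup G, N.Normal → ¬ p ∣ N.index → N = ⊤

theorem reduce (p n : ℕ) [Fact p.Prime]
    (h : ∀ (G : Type u) [Group G] [Finite G], NoQuot p G →
      (∀ g : G, (∀ P : Sylow p G, g • P = P) → g = 1) → Nat.card (Sylow p G) ≠ n)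
    (G : Type u) [Group G] [Finite G] : Nat.card (Sylow p G) ≠ n := by
  refine card_induction (P := fun G _ _ => Nat.card (Sylow p G) ≠ n) ?_ G
  intro G _ _ ih
  by_cases h1 : NoQuot p G
  · by_cases h2 : (toPermHom G (Sylow p G)).ker = ⊥
    · refine h G h1 fun g hg => ?_
      have : g ∈ (toPermHom G (Sylow p G)).ker := by
        rw [MonoidHom.mem_ker]; ext1 P; exact hg P
      rwa [h2, mem_bot] at this
    · obtain ⟨P⟩ : Nonempty (Sylow p G) := inferInstance
      rw [← card_syl_quot_of_le P (toPermHom G (Sylow p G)).ker]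
      · exact ih _ (card_quotient_lt h2)
      · intro g hg
        rw [← smul_eq_iff]
        exact congrArg (fun e : Equiv.Perm (Sylow p G) => e P) (MonoidHom.mem_ker.1 hg)
  · unfold NoQuot at h1
    push Not at h1
    obtain ⟨N, hN, h3, h4⟩ := h1
    rw [← card_syl_normal N h3]
    exact ih _ (card_lt_of_ne_top h4)

theorem NoQuot.hom_eq_one [Finite G] (h : NoQuot p G) {A : Type*} [Group A] [Finite A]
    (hA : ¬ p ∣ Nat.card A) (f : G →* A) (g : G) : f g = 1 := by
  have : f.ker = ⊤ := by
    apply h _ inferInstance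
    intro hd
    apply hA
    rw [index_ker] at hd
    exact hd.trans (card_subgroup_dvd_card _)
  have h2 : g ∈ f.ker := by rw [this]; trivial
  exact h2

theorem NoQuot.four_dvd [Finite G] [hp : Fact p.Prime] (h : NoQuot p G) (h2 : p ≠ 2) {α : Type*} [Finite α]
    [MulAction G α] {t : G} (ht : t ^ 2 = 1) :
    ∃ k, Nat.card α = Nat.card (fixedBy α t) + 4 * k := by
  classical
  haveI := Fintype.ofFinite α
  have hs : Equiv.Perm.sign (toPermHom G α t) = 1 := by
    have := h.hom_eq_one (A := ℤˣ) (by
      rw [Nat.card_eq_fintype_card, Fintype.card_units_int]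
      intro hd; exact h2 ((Nat.prime_dvd_prime_iff_eq hp.out Nat.prime_two).1 hd))
      (Equiv.Perm.sign.comp (toPermHom G α)) t
    exact this
  rw [Equiv.Perm.sign_of_pow_two_eq_one (by rw [← map_pow, ht, map_one])] at hs
  have e : Fintype.card (Function.fixedPoints (toPermHom G α t)) = Nat.card (fixedBy α t) := by
    rw [← Nat.card_eq_fintype_card]; rfl
  rw [e, ← Nat.card_eq_fintype_card] at hs
  have hev : Even ((Nat.card α - Nat.card (fixedBy α t)) / 2) := by
    by_contra hne
    rw [Nat.not_even_iff_odd] at hne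
    rw [hne.neg_one_pow] at hs
    exact absurd hs (by decide)
  have hm : Nat.card α ≡ Nat.card (fixedBy α t) [MOD 2] :=
    card_modEq_fixedBy Nat.prime_two (k := 1) (by simpa using ht)
  have hle : Nat.card (fixedBy α t) ≤ Nat.card α := Finite.card_subtype_le _
  obtain ⟨k, hk⟩ := hev
  refine ⟨k, ?_⟩
  unfold Nat.ModEq at hm
  omega

theorem NoQuot.burnside [Finite G] [hp : Fact p.Prime] (h : NoQuot p G) {r : ℕ} [hr : Fact r.Prime]
    (hrp : r ≠ p) (S : Sylow r G) (hS : (S : Subgroup G) ≠ ⊥)
    (hN : normalizer ((S : Subgroup G) : Set G) ≤ centralizer ((S : Subgroup G) : Set G)) : False := by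
  have hc := MonoidHom.ker_transferSylow_isComplement' S hN
  have hi := hc.symm.index_eq_card
  have := h _ (inferInstance : (MonoidHom.transferSylow S hN).ker.Normal) (by
    rw [hi]
    intro hd
    exact hrp (eq_of_isPGroup_of_dvd S.isPGroup' hp.out hd).symm)
  rw [this, index_top] at hi
  exact hS (card_eq_one.1 hi.symm)

theorem NoQuot.not_isCyclic [Finite G] [hp : Fact p.Prime] (h : NoQuot p G) (h2 : p ≠ 2)
    (S : Sylow 2 G) (hS : (S : Subgroup G) ≠ ⊥) : ¬ IsCyclic S := by
  intro hc
  have hd : 2 ∣ Nat.card G := (dvd_card_of_isPGroup S.isPGroup' hS).trans (card_subgroup_dvd_card _)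
  have hm : (Nat.card G).minFac = 2 := (Nat.minFac_eq_two_iff _).2 hd
  exact h.burnside (Ne.symm h2) S hS (IsCyclic.normalizer_le_centralizer hm hc)

/-- an element normalising a subgroup of prime order `r`, of order prime to `r - 1`, centralises it -/
theorem mem_centralizer_of_coprime [Finite G] {S : Subgroup G} {r : ℕ} (hr : r.Prime)
    (hS : Nat.card S = r) {g : G} (hg : g ∈ normalizer (S : Set G))
    (hc : (orderOf g).Coprime (r - 1)) : g ∈ centralizer (S : Set G) := by
  haveI := Fact.mk hr
  haveI : IsCyclic S := isCyclic_of_prime_card hS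
  have h1 : orderOf (S.normalizerMonoidHom ⟨g, hg⟩) ∣ r - 1 := by
    have := orderOf_dvd_natCard (S.normalizerMonoidHom ⟨g, hg⟩)
    rwa [IsCyclic.card_mulAut, hS, Nat.totient_prime hr] at this
  have h2 : orderOf (S.normalizerMonoidHom ⟨g, hg⟩) ∣ orderOf g := by
    have := orderOf_map_dvd S.normalizerMonoidHom ⟨g, hg⟩
    rwa [Subgroup.orderOf_mk] at this
  have h3 : S.normalizerMonoidHom ⟨g, hg⟩ = 1 := by
    rw [← orderOf_eq_one_iff]
    exact Nat.eq_one_of_dvd_coprimes hc h2 h1
  have h4 : (⟨g, hg⟩ : normalizer (S : Set G)) ∈ S.normalizerMonoidHom.ker := h3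
  rw [normalizerMonoidHom_ker, mem_subgroupOf] at h4
  exact h4

theorem relIndex_centralizer_dvd [Finite G] {S : Subgroup G} {r : ℕ} (hr : r.Prime)
    (hS : Nat.card S = r) :
    (centralizer (S : Set G)).relIndex (normalizer (S : Set G)) ∣ r - 1 := by
  haveI := Fact.mk hr
  haveI : IsCyclic S := isCyclic_of_prime_card hS
  have := S.normalizerMonoidHom.ker.index_dvd_card
  unfold relIndex
  rw [← normalizerMonoidHom_ker, index_ker]
  have h2 := card_subgroup_dvd_card S.normalizerMonoidHom.range
  rwa [IsCyclic.card_mulAut, hS, Nat.totient_prime hr] at h2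

section Act
variable {α : Type*} [MulAction G α]

/-- commuting elements of distinct prime orders moving a common point -/
theorem comm_fix [Finite α] {w y : G} {r s : ℕ} (hr : r.Prime) (hs : s.Prime) (hrs : r ≠ s)
    (hw : orderOf w = s) (hy : orderOf y = r) (hc : Commute w y) {a : α} (h1 : w • a ≠ a)
    (h2 : y • a ≠ a) : r * s + Nat.card (fixedBy α w) ≤ Nat.card α := by
  have hcop : (orderOf w).Coprime (orderOf y) := by
    rw [hw, hy]; exact (Nat.coprime_primes hs hr).2 hrs.symm
  have ho : orderOf (w * y) = r * s := by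
    rw [hc.orderOf_mul_eq_mul_orderOf_of_coprime hcop, hw, hy, mul_comm]
  have hper : MulAction.period (w * y) a = r * s := by
    have hd : MulAction.period (w * y) a ∣ r * s := ho ▸ MulAction.period_dvd_orderOf _ _
    have key : ∀ {u v : G} {m k : ℕ}, Commute u v → orderOf u = m → orderOf v = k → m.Coprime k →
        (u * v) ^ k • a = a → u • a = a := by
      intro u v m k huv hu hv hmk h
      rw [huv.mul_pow, ← hv, pow_orderOf_eq_one, mul_one, hv] at h
      have : u ∈ zpowers (u ^ k) := by
        rw [mem_zpowers_pow_iff, hu]; exact hmk.symm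
      obtain ⟨i, hi⟩ := this
      have h3 : u ^ k ∈ stabilizer G a := h
      have h4 := (stabilizer G a).zpow_mem h3 i
      simp only at hi
      rw [hi] at h4; exact h4
    have n1 : ¬ MulAction.period (w * y) a ∣ r := by
      intro h
      exact h1 (key hc hw hy (hw ▸ hy ▸ hcop) (MulAction.pow_smul_eq_iff_period_dvd.2 h))
    have n2 : ¬ MulAction.period (w * y) a ∣ s := by
      intro h
      refine h2 (key hc.symm hy hw (hw ▸ hy ▸ hcop.symm) ?_)
      rw [← hc.eq]; exact MulAction.pow_smul_eq_iff_period_dvd.2 h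
    obtain ⟨x, z, hx, hz, hxz⟩ := (Nat.dvd_mul).1 hd
    rcases (Nat.dvd_prime hr).1 hx with rfl | rfl
    · exact absurd (by rw [← hxz, one_mul]; exact hz) n2
    · rcases (Nat.dvd_prime hs).1 hz with rfl | rfl
      · exact absurd (by rw [← hxz, mul_one]) n1
      · exact hxz.symm
  have hc1 : (orbit (zpowers (w * y)) a).ncard = r * s := by
    rw [← hper, ← Nat.card_coe_set_eq]
    haveI := Fintype.ofFinite (orbit (zpowers (w * y)) a)
    rw [MulAction.period_eq_minimalPeriod, MulAction.minimalPeriod_eq_card, Nat.card_eq_fintype_card]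
  have hdis : Disjoint (orbit (zpowers (w * y)) a) (fixedBy α w) := by
    rw [Set.disjoint_left]
    rintro _ ⟨⟨g, i, rfl⟩, rfl⟩ hb
    apply h1
    have hb' : w • ((w * y) ^ i • a) = (w * y) ^ i • a := hb
    have hcm : Commute w ((w * y) ^ i) := ((Commute.refl w).mul_right hc).zpow_right i
    rw [smul_smul, hcm.eq, mul_smul] at hb'
    exact smul_left_cancel _ hb'
  rw [← hc1, Nat.card_coe_set_eq, ← Set.ncard_union_eq hdis (Set.toFinite _) (Set.toFinite _),
    ← Set.ncard_univ]
  exact Set.ncard_le_ncard (Set.subset_univ _)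

/-- `y` normalises `X` without fixed points: at most one fixed point in each regular orbit -/
theorem card_mul_fix_le [Finite α] {X : Subgroup G} {y : G} (hy : y ∈ normalizer (X : Set G))
    (hf : ∀ x ∈ X, Commute x y → x = 1) {S : Set α} (hS : ∀ a ∈ S, y • a = a)
    (hr : ∀ a ∈ S, ∀ x ∈ X, x • a = a → x = 1) : Nat.card X * S.ncard ≤ Nat.card α := by
  rw [← Nat.card_coe_set_eq, ← Nat.card_prod]
  refine Nat.card_le_card_of_injective (fun z : X × S => (z.1 : G) • (z.2 : α)) ?_
  rintro ⟨⟨x, hx⟩, a, ha⟩ ⟨⟨x', hx'⟩, b, hb⟩ h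
  simp only at h
  have hb' : b = (x'⁻¹ * x) • a := by rw [mul_smul, h, inv_smul_smul]
  set u := x'⁻¹ * x with hu
  have huX : u ∈ X := X.mul_mem (X.inv_mem hx') hx
  have h1 : (u⁻¹ * (y * u * y⁻¹)) • a = a := by
    have e1 : y⁻¹ • a = a := by rw [inv_smul_eq_iff, hS a ha]
    rw [mul_smul, mul_smul, mul_smul, e1, ← hb', hS b hb, hb', inv_smul_smul]
  have h2 := hr a ha _ (X.mul_mem (X.inv_mem huX) (conj_mem_of_mem_normalizer hy huX)) h1
  have h3 : u = 1 := by
    apply hf u huX
    have : y * u * y⁻¹ = u := by rw [inv_mul_eq_one] at h2; exact h2.symm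
    rw [mul_inv_eq_iff_eq_mul] at this
    exact this.symm
  have h4 : x' = x := by rwa [hu, inv_mul_eq_one] at h3
  rw [h3, one_smul] at hb'
  subst h4 hb'
  rfl

end Act

/-- transfer into `Aut(P)`: every involution centralises a Sylow subgroup -/
theorem NoQuot.invol_centralizes [Finite G] [hp : Fact p.Prime] (h : NoQuot p G) (h2 : p ≠ 2)
    (P : Sylow p G) (hP : Nat.card P = p) (hodd : Odd (Nat.card (Sylow p G))) (t : G) (ht : t ^ 2 = 1) :
    ∃ Q : Sylow p G, t ∈ centralizer ((Q : Subgroup G) : Set G) := by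
  classical
  by_contra hne
  push Not at hne
  haveI : IsCyclic (P : Subgroup G) := isCyclic_of_prime_card hP
  haveI : Fact (Nat.card (P : Subgroup G)).Prime := ⟨by rw [hP]; exact hp.out⟩
  set N := normalizer ((P : Subgroup G) : Set G) with hN
  let φ : N →* (ZMod (Nat.card (P : Subgroup G)))ˣ :=
    (IsCyclic.mulAutMulEquiv (P : Subgroup G)).toMonoidHom.comp (P : Subgroup G).normalizerMonoidHom
  have h1 : MonoidHom.transfer φ t = 1 := by
    apply h.hom_eq_one
    rw [Nat.card_eq_fintype_card, ZMod.card_units, hP]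
    intro hd
    have := Nat.le_of_dvd (by have := hp.out.two_le; omega) hd
    have := hp.out.two_le; omega
  haveI := Fintype.ofFinite (Quotient (MulAction.orbitRel (zpowers t) (G ⧸ N)))
  rw [MonoidHom.transfer_eq_prod_quotient_orbitRel_zpowers_quot] at h1
  have h3 : ∀ (g : G) (k : ℕ) (hk : g⁻¹ * t ^ k * g ∈ N), φ ⟨_, hk⟩ = (-1) ^ k := by
    intro g k hk
    rcases Nat.even_or_odd k with ⟨j, rfl⟩ | ⟨j, rfl⟩
    · have : (⟨_, hk⟩ : N) = 1 := by
        apply Subtype.ext
        simp only [← two_mul, pow_mul, ht, one_pow, mul_one, inv_mul_cancel, OneMemClass.coe_one]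
      rw [this, map_one, ← two_mul, pow_mul]; simp
    · have e : g⁻¹ * t ^ (2 * j + 1) * g = g⁻¹ * t * g := by rw [pow_succ, pow_mul, ht]; simp
      have hsq : φ ⟨_, hk⟩ ^ 2 = 1 := by
        rw [← map_pow]
        have : (⟨_, hk⟩ : N) ^ 2 = 1 := by
          apply Subtype.ext
          simp only [SubmonoidClass.mk_pow, OneMemClass.coe_one, e]
          have : (g⁻¹ * t * g) ^ 2 = g⁻¹ * t ^ 2 * g := by simp [pow_two, mul_assoc]
          rw [this, ht]; simp
        rw [this, map_one]
      have hne1 : φ ⟨_, hk⟩ ≠ 1 := by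
        intro h0
        have h4 : (⟨_, hk⟩ : N) ∈ (P : Subgroup G).normalizerMonoidHom.ker := by
          rw [MonoidHom.mem_ker]
          exact (IsCyclic.mulAutMulEquiv (P : Subgroup G)).injective (by rw [map_one]; exact h0)
        rw [normalizerMonoidHom_ker, mem_subgroupOf] at h4
        apply hne (g • P)
        rw [Sylow.coe_subgroup_smul, centralizer_conj_smul, mem_conj_smul, ← e]
        exact h4
      have : φ ⟨_, hk⟩ = -1 := by
        have h5 : (φ ⟨_, hk⟩).val * (φ ⟨_, hk⟩).val = 1 := by
          rw [← pow_two, ← Units.val_pow_eq_pow_val, hsq, Units.val_one]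
        rcases mul_self_eq_one_iff.1 h5 with h6 | h6
        · exact absurd (Units.ext h6) hne1
        · exact Units.ext h6
      rw [this, pow_succ, pow_mul]; simp
  simp only [h3] at h1
  rw [Finset.prod_pow_eq_pow_sum, ← index_eq_sum_minimalPeriod, ← card_syl P, hodd.neg_one_pow] at h1
  have h7 : ((-1 : (ZMod (Nat.card (P : Subgroup G)))ˣ) : ZMod (Nat.card (P : Subgroup G))) = 1 := by
    rw [h1]; rfl
  haveI : Fact (2 < Nat.card (P : Subgroup G)) := ⟨by
    rw [hP]; have := hp.out.two_le; omega⟩
  exact ZMod.neg_one_ne_one (by simpa using h7)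

end Cfsg.Agent.Perm.SylNum
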