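import Mathlib
import Cfsg.Agent.Lib.Perm.SylNum

/-! Numbers of Sylow subgroups: the line lemma. -/

namespace Cfsg.Agent.Perm.SylNum
open Subgroup MulAction Cfsg.Agent.Solv Cfsg.Agent.Perm
open scoped Pointwise

variable {G : Type*} [Group G] {p : ℕ}

theorem smul_eq_iff_mem {H : Subgroup G} (hH : IsPGroup p H) {x : G} (hx : x ∈ H) {Q : Sylow p G} :
    x • Q = Q ↔ x ∈ (Q : Subgroup G) := by
  rw [smul_eq_iff]
  have := hH.inf_normalizer_sylow Q
  constructor
  · intro h
    have h2 : x ∈ H ⊓ normalizer (Q : Set G) := ⟨hx, h⟩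
    rw [this] at h2; exact h2.2
  · intro h; exact le_normalizer h

theorem card_syl_eq [Finite G] [Fact p.Prime] (P Q : Sylow p G) :
    Nat.card (P : Subgroup G) = Nat.card (Q : Subgroup G) := by
  rw [Sylow.card_eq_multiplicity, Sylow.card_eq_multiplicity]

theorem eq_of_max [Finite G] [hp : Fact p.Prime] {S E H : Subgroup G} (hc : p * Nat.card E = Nat.card S)
    (h1 : E ≤ H) (h2 : H ≤ S) (h3 : H ≠ S) : H = E := by
  obtain ⟨a, ha⟩ := card_dvd_of_le h1
  obtain ⟨b, hb⟩ := card_dvd_of_le h2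
  have pos : 0 < Nat.card E := Nat.card_pos
  have h4 : p = a * b := by
    apply Nat.eq_of_mul_eq_mul_left pos
    rw [mul_comm, hc, hb, ha, mul_assoc]
  rcases (Nat.dvd_prime hp.out).1 (Dvd.intro _ h4.symm) with h5 | h5
  · rw [h5, mul_one] at ha
    exact (eq_of_le_of_card_le h1 ha.le).symm
  · have : b = 1 := by
      rw [h5] at h4
      exact Nat.eq_of_mul_eq_mul_left hp.out.pos (by rw [← h4, mul_one])
    rw [this, mul_one] at hb
    exact absurd (eq_of_le_of_card_le h2 hb.le) h3

theorem le_normalizer_of_max [Finite G] [hp : Fact p.Prime] {S E : Subgroup G} (hS : IsPGroup p S)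
    (hc : p * Nat.card E = Nat.card S) (h1 : E ≤ S) : S ≤ normalizer (E : Set G) := by
  have hne : E ≠ S := by
    rintro rfl
    have pos : 0 < Nat.card E := Nat.card_pos
    have := hp.out.two_le
    nlinarith
  have h2 := lt_normalizer_inf_of_isPGroup hS (lt_of_le_of_ne h1 hne)
  by_contra h3
  have := eq_of_max hc h2.le inf_le_right (fun h => h3 (by rw [← h]; exact inf_le_left))
  exact h2.ne this.symm

/-- adjacency: the intersection has index `p` -/
def Adj (P Q : Sylow p G) : Prop :=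
  p * Nat.card ((P : Subgroup G) ⊓ Q : Subgroup G) = Nat.card (P : Subgroup G)

theorem Adj.symm [Finite G] [Fact p.Prime] {P Q : Sylow p G} (h : Adj P Q) : Adj Q P := by
  unfold Adj at *; rw [inf_comm, h, card_syl_eq P Q]

theorem Adj.ne [Finite G] [hp : Fact p.Prime] {P Q : Sylow p G} (h : Adj P Q) : P ≠ Q := by
  rintro rfl
  unfold Adj at h
  rw [inf_idem] at h
  have pos : 0 < Nat.card (P : Subgroup G) := Nat.card_pos
  have := hp.out.two_le
  nlinarith

theorem Adj.smul {P Q : Sylow p G} (h : Adj P Q) (g : G) : Adj (g • P) (g • Q) := by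
  unfold Adj at *
  rw [Sylow.coe_subgroup_smul, Sylow.coe_subgroup_smul, ← Subgroup.smul_inf, card_conj_smul,
    card_conj_smul, h]

theorem ncard_adj_eq [Finite G] [Fact p.Prime] (P Q : Sylow p G) :
    {R | Adj P R}.ncard = {R | Adj Q R}.ncard := by
  obtain ⟨g, rfl⟩ := exists_smul_eq G P Q
  have : {R | Adj (g • P) R} = (fun R => g • R) '' {R | Adj P R} := by
    ext R
    constructor
    · intro h
      refine ⟨g⁻¹ • R, ?_, smul_inv_smul _ _⟩
      have := Adj.smul h g⁻¹
      rwa [inv_smul_smul] at this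
    · rintro ⟨R, h, rfl⟩; exact Adj.smul h g
  rw [this, Set.ncard_image_of_injective _ (MulAction.injective g)]

theorem inf_ne_of_ne {R S : Sylow p G} [Finite G] [Fact p.Prime] (h : R ≠ S) :
    (R : Subgroup G) ⊓ S ≠ R := by
  intro h2
  apply h
  exact Sylow.ext (eq_of_le_of_card_le (inf_eq_left.1 h2) (card_syl_eq S R).le)

theorem index_stab (P Q : Sylow p G) :
    Nat.card ((P : Subgroup G) ⊓ Q : Subgroup G) * (stabilizer (P : Subgroup G) Q).index
      = Nat.card (P : Subgroup G) := by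
  have : stabilizer (P : Subgroup G) Q = (Q : Subgroup G).subgroupOf P := by
    ext x
    rw [mem_stabilizer_iff, mem_subgroupOf, ← smul_eq_iff_mem P.isPGroup' x.2]; rfl
  rw [this, inf_comm]; exact card_inf_mul_relIndex _ _

theorem card_eq_adj [Finite G] [hp : Fact p.Prime] (P : Sylow p G) :
    ∃ k, Nat.card (Sylow p G) = 1 + {R | Adj P R}.ncard + p ^ 2 * k := by
  have h1 : p ^ 2 ∣ {R : Sylow p G | R ≠ P ∧ ¬ Adj P R}.ncard := by
    apply dvd_ncard_of_invariant (G := (P : Subgroup G)) (Set.toFinite _)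
    · rintro g R ⟨h1, h2⟩
      have hg : (g : G)⁻¹ • P = P := (smul_eq_iff_mem P.isPGroup' (inv_mem g.2)).2 (inv_mem g.2)
      refine ⟨fun h => h1 ?_, fun h => h2 ?_⟩
      · have h' : (g : G) • R = P := h
        exact (eq_inv_smul_iff.2 h').trans hg
      · have h' : Adj P ((g : G) • R) := h
        have := h'.smul (g : G)⁻¹
        rwa [hg, inv_smul_smul] at this
    · rintro R ⟨h1, h2⟩
      have e := index_stab P R
      obtain ⟨j, hj⟩ := P.isPGroup'.index (stabilizer (P : Subgroup G) R)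
      rw [hj] at e ⊢
      apply pow_dvd_pow
      by_contra hlt
      have : j = 0 ∨ j = 1 := by omega
      rcases this with rfl | rfl
      · rw [pow_zero, mul_one] at e
        exact inf_ne_of_ne (Ne.symm h1) (eq_of_le_of_card_le inf_le_left e.ge)
      · apply h2; unfold Adj; rw [← e, pow_one, mul_comm]
  obtain ⟨k, hk⟩ := h1
  refine ⟨k, ?_⟩
  rw [← hk, ← Set.ncard_singleton P, ← Set.ncard_union_eq, ← Set.ncard_union_eq, ← Set.ncard_univ]
  · congr 1
    ext R
    simp only [Set.mem_univ, Set.mem_union, Set.mem_singleton_iff, Set.mem_setOf_eq, true_iff]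
    tauto
  · rw [Set.disjoint_left]
    rintro R (h | h) ⟨h1, h2⟩
    · exact h1 h
    · exact h2 h
  · rw [Set.disjoint_left]
    rintro R rfl h
    exact Adj.ne h rfl

theorem line [Finite G] [hp : Fact p.Prime] (hf : ∀ g : G, (∀ P : Sylow p G, g • P = P) → g = 1)
    (hn : ∀ k, Nat.card (Sylow p G) ≠ 1 + p ^ 2 * k) :
    ∃ m l k j, Nat.card (Sylow p G) = 1 + m + p ^ 2 * k ∧ l = 1 + p * j ∧ 0 < j ∧ l ≤ m + 1 ∧
      l * (m + 1 - l) + l ≤ Nat.card (Sylow p G) ∧ (l = m + 1 → l ∣ Nat.card (Sylow p G)) ∧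
      (l = Nat.card (Sylow p G) → ∀ P : Sylow p G, Nat.card (P : Subgroup G) = p) := by
  classical
  obtain ⟨P⟩ : Nonempty (Sylow p G) := inferInstance
  obtain ⟨k, hk⟩ := card_eq_adj P
  obtain ⟨Q, hQ⟩ : {R | Adj P R}.Nonempty := by
    rw [Set.nonempty_iff_ne_empty]
    intro h
    rw [h, Set.ncard_empty, add_zero] at hk
    exact hn k hk
  have hQ : Adj P Q := hQ
  set D : Subgroup G := (P : Subgroup G) ⊓ Q with hD
  set L : Set (Sylow p G) := {R | D ≤ R} with hL
  have hDc : ∀ R : Sylow p G, p * Nat.card D = Nat.card (R : Subgroup G) := fun R =>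
    hQ.trans (card_syl_eq P R)
  have hinf : ∀ R ∈ L, ∀ R' ∈ L, R ≠ R' → (R : Subgroup G) ⊓ R' = D := fun R hR R' hR' h =>
    eq_of_max (hDc R) (le_inf hR hR') inf_le_left (inf_ne_of_ne h)
  have hadj : ∀ R ∈ L, ∀ R' ∈ L, R ≠ R' → Adj R R' := fun R hR R' hR' h => by
    unfold Adj; rw [hinf R hR R' hR' h]; exact hDc R
  have hPL : P ∈ L := (inf_le_left : D ≤ P)
  have hQL : Q ∈ L := (inf_le_right : D ≤ Q)
  have hl : p ∣ (L \ {P}).ncard := by
    apply dvd_ncard_of_invariant (G := (P : Subgroup G)) (Set.toFinite _)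
    · rintro g R ⟨h1, h2⟩
      have hg : (g : G)⁻¹ • P = P := (smul_eq_iff_mem P.isPGroup' (inv_mem g.2)).2 (inv_mem g.2)
      refine ⟨?_, fun h => h2 ?_⟩
      · show D ≤ (((g : G) • R : Sylow p G) : Subgroup G)
        rw [Sylow.coe_subgroup_smul,
          ← conj_smul_eq_self_iff.2 (le_normalizer_of_max P.isPGroup' (hDc P) hPL g.2)]
        exact conj_smul_mono _ h1
      · have h' : (g : G) • R = P := h
        show R = P
        exact (eq_inv_smul_iff.2 h').trans hg
    · rintro R ⟨h1, h2⟩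
      have e := index_stab P R
      have e2 : Adj P R := hadj P hPL R h1 (Ne.symm h2)
      unfold Adj at e2
      have pos : 0 < Nat.card ((P : Subgroup G) ⊓ R : Subgroup G) := Nat.card_pos
      have : (stabilizer (P : Subgroup G) R).index = p :=
        Nat.eq_of_mul_eq_mul_left pos (by rw [e, ← e2, mul_comm])
      rw [this]
  obtain ⟨j, hj⟩ := hl
  have hdiff : ∀ R ∈ L, L.ncard = 1 + (L \ {R}).ncard := fun R hR => by
    rw [add_comm, Set.ncard_diff_singleton_add_one hR]
  have hA : ∀ R ∈ L, ({S | Adj R S} \ L).ncard + L.ncard = {S | Adj P S}.ncard + 1 := by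
    intro R hR
    have : {S | Adj R S} = ({S | Adj R S} \ L) ∪ (L \ {R}) := by
      ext S
      constructor
      · intro h
        by_cases h2 : S ∈ L
        · exact Or.inr ⟨h2, fun h3 => Adj.ne h (Eq.symm h3)⟩
        · exact Or.inl ⟨h, h2⟩
      · rintro (h | h)
        · exact h.1
        · exact hadj R hR S h.1 (Ne.symm h.2)
    rw [ncard_adj_eq P R]
    conv_rhs => rw [this, Set.ncard_union_eq (Set.disjoint_left.2 fun S h1 h2 => h1.2 h2.1)]
    rw [hdiff R hR]; omega
  have hdisj : ∀ R ∈ L, ∀ R' ∈ L, ∀ S ∉ L, Adj R S → Adj R' S → R = R' := by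
    intro R hR R' hR' S hS h1 h2
    by_contra hne
    obtain ⟨d, hd, hdS⟩ : ∃ d ∈ D, d ∉ (S : Subgroup G) := by
      by_contra h; push Not at h; exact hS h
    have hne2 : S ≠ d • S := fun h => hdS ((smul_eq_iff_mem R.isPGroup' (hR hd)).1 h.symm)
    have key : ∀ T ∈ L, Adj T S → (S : Subgroup G) ⊓ (d • S : Sylow p G) = (T : Subgroup G) ⊓ S := by
      intro T hT h
      refine eq_of_max (S := S) (h.trans (card_syl_eq T S)) (le_inf inf_le_right ?_) inf_le_left
        (inf_ne_of_ne hne2)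
      rw [Sylow.coe_subgroup_smul,
        ← conj_smul_eq_self_iff.2 (le_normalizer_of_max T.isPGroup' h inf_le_left (hT hd))]
      exact conj_smul_mono _ inf_le_right
    have e1 := key R hR h1
    have e2 := key R' hR' h2
    have e3 : (R : Subgroup G) ⊓ S ≤ D := by
      rw [← hinf R hR R' hR' hne]
      exact le_inf inf_le_left (by rw [← e1, e2]; exact inf_le_left)
    have e4 : (R : Subgroup G) ⊓ S = D := by
      apply eq_of_le_of_card_le e3
      exact (Nat.eq_of_mul_eq_mul_left hp.out.pos ((hDc R).trans (Eq.symm h1))).le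
    apply hS
    show D ≤ S
    rw [← e4]; exact inf_le_right
  refine ⟨{S | Adj P S}.ncard, L.ncard, k, j, hk, by rw [hdiff P hPL, hj], ?_, ?_, ?_, ?_, ?_⟩
  · rcases Nat.eq_zero_or_pos j with rfl | h
    · rw [mul_zero, Set.ncard_eq_zero] at hj
      have : Q ∈ L \ {P} := ⟨hQL, fun h => hQ.ne (Eq.symm h)⟩
      rw [hj] at this; exact this.elim
    · exact h
  · have := hA P hPL; omega
  · have h1 : Nat.card (Σ R : L, ({S | Adj (R : Sylow p G) S} \ L : Set (Sylow p G))) ≤ Nat.card (Lᶜ : Set _) := by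
      refine Nat.card_le_card_of_injective (fun z => ⟨z.2.1, z.2.2.2⟩) ?_
      rintro ⟨⟨R, hR⟩, S, hS⟩ ⟨⟨R', hR'⟩, S', hS'⟩ h
      simp only [Subtype.mk.injEq] at h
      subst h
      have := hdisj R hR R' hR' S hS.2 hS.1 hS'.1
      subst this
      rfl
    haveI := Fintype.ofFinite L
    rw [Nat.card_sigma] at h1
    have h2 : ∀ R : L, Nat.card ({S | Adj (R : Sylow p G) S} \ L : Set (Sylow p G))
        = {S | Adj P S}.ncard + 1 - L.ncard := fun R => by
      rw [Nat.card_coe_set_eq, ← hA R R.2]; omega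
    simp only [h2, Finset.sum_const, Finset.card_univ, smul_eq_mul] at h1
    rw [← Nat.card_eq_fintype_card, Nat.card_coe_set_eq, Nat.card_coe_set_eq] at h1
    have h3 := Set.ncard_add_ncard_compl L
    omega
  · intro he
    have hcl : ∀ R ∈ L, ∀ S, Adj R S → S ∈ L := by
      intro R hR S hS
      have := hA R hR
      have h0 : ({S | Adj R S} \ L).ncard = 0 := by omega
      rw [Set.ncard_eq_zero] at h0
      by_contra h
      have : S ∈ {S | Adj R S} \ L := ⟨hS, h⟩
      rw [h0] at this; exact this.elim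
    refine IsBlock.ncard_dvd_card (G := G) ?_ ⟨P, hPL⟩
    rw [isBlock_iff_smul_eq_of_mem]
    intro g R hR hgR
    refine Set.eq_of_subset_of_ncard_le ?_ ?_ (Set.toFinite _)
    · rintro _ ⟨S, hS, rfl⟩
      by_cases h : R = S
      · subst h; exact hgR
      · exact hcl _ hgR _ ((hadj R hR S hS h).smul g)
    · rw [Set.ncard_smul_set]
  · intro he R
    have hu : L = Set.univ := by
      refine Set.eq_of_subset_of_ncard_le (Set.subset_univ _) ?_ (Set.toFinite _)
      rw [he, Set.ncard_univ]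
    have hb : D = ⊥ := by
      rw [eq_bot_iff]
      intro d hd
      apply hf
      intro S
      have : S ∈ L := hu ▸ Set.mem_univ _
      exact (smul_eq_iff_mem S.isPGroup' (this hd)).2 (this hd)
    rw [← hDc R, hb, card_bot, mul_one]

/-- when Sylow subgroups have order `p`, a nontrivial element of `P` fixes `P` only -/
theorem fix_of_mem [Finite G] [hp : Fact p.Prime] {P : Sylow p G} (hP : Nat.card (P : Subgroup G) = p)
    {x : G} (hx : x ∈ (P : Subgroup G)) (h1 : x ≠ 1) {Q : Sylow p G} (h : x • Q = Q) : Q = P := by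
  by_contra hne
  have h2 := (smul_eq_iff_mem P.isPGroup' hx).1 h
  have h3 : (P : Subgroup G) ⊓ Q = ⊥ :=
    eq_of_max (p := p) (S := P) (by rw [card_bot, mul_one, hP]) bot_le inf_le_left (inf_ne_of_ne (Ne.symm hne))
  have : x ∈ (P : Subgroup G) ⊓ Q := ⟨hx, h2⟩
  rw [h3] at this
  exact h1 this

theorem exists_gen [Finite G] [hp : Fact p.Prime] {P : Subgroup G} (hP : Nat.card P = p) :
    ∃ x ∈ P, orderOf x = p ∧ x ≠ 1 := by
  obtain ⟨x, hx⟩ := exists_prime_orderOf_dvd_card' (G := P) p (by rw [hP])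
  refine ⟨x, x.2, by rw [Subgroup.orderOf_coe, hx], ?_⟩
  intro h
  rw [← Subgroup.orderOf_coe, h, orderOf_one] at hx
  exact hp.out.one_lt.ne hx

theorem card_fix_of_mem [Finite G] [hp : Fact p.Prime] {P : Sylow p G} (hP : Nat.card (P : Subgroup G) = p)
    {x : G} (hx : x ∈ (P : Subgroup G)) (h1 : x ≠ 1) : Nat.card (fixedBy (Sylow p G) x) = 1 := by
  rw [Nat.card_coe_set_eq, Set.ncard_eq_one]
  refine ⟨P, ?_⟩
  ext Q
  constructor
  · intro h; exact fix_of_mem hP hx h1 h
  · rintro rfl; exact (smul_eq_iff_mem Q.isPGroup' hx).2 hx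

/-- an element centralising `P` fixes `1 + p j` Sylow subgroups -/
theorem card_fix_of_cent [Finite G] [hp : Fact p.Prime] {P : Sylow p G} (hP : Nat.card (P : Subgroup G) = p)
    {u : G} (hu : u ∈ centralizer ((P : Subgroup G) : Set G)) :
    ∃ j, Nat.card (fixedBy (Sylow p G) u) = 1 + p * j := by
  have hPu : P ∈ fixedBy (Sylow p G) u := smul_eq_iff.2 (centralizer_le_normalizer _ hu)
  have h1 : Nat.card (P : Subgroup G) ∣ (fixedBy (Sylow p G) u \ {P}).ncard := by
    apply card_dvd_ncard_of_semiregular (Set.toFinite _)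
    · rintro g R ⟨h1, h2⟩
      have hg : (g : G)⁻¹ • P = P := (smul_eq_iff_mem P.isPGroup' (inv_mem g.2)).2 (inv_mem g.2)
      refine ⟨?_, fun h => h2 ?_⟩
      · show u • (g : G) • R = (g : G) • R
        have h1' : u • R = R := h1
        rw [smul_smul, ← hu g g.2, mul_smul, h1']
      · have h' : (g : G) • R = P := h
        show R = P
        exact (eq_inv_smul_iff.2 h').trans hg
    · rintro R ⟨_, h2⟩ g hg
      by_contra hne
      exact h2 (fix_of_mem hP g.2 (fun h => hne (Subtype.ext h)) hg)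
  obtain ⟨j, hj⟩ := h1
  refine ⟨j, ?_⟩
  rw [Nat.card_coe_set_eq, ← Set.ncard_diff_singleton_add_one hPu, hj, hP, add_comm]

/-- no element of large prime order centralises `P` -/
theorem not_cent [Finite G] [hp : Fact p.Prime] (hf : ∀ g : G, (∀ P : Sylow p G, g • P = P) → g = 1)
    {P : Sylow p G} (hP : Nat.card (P : Subgroup G) = p) {r : ℕ} (hr : r.Prime) (hrp : r ≠ p)
    (hn : Nat.card (Sylow p G) ≤ r * p) {y : G} (hy : orderOf y = r) :
    y ∉ centralizer ((P : Subgroup G) : Set G) := by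
  intro hc
  obtain ⟨x, hx, hxo, hx1⟩ := exists_gen hP
  have : y = 1 := by
    apply hf
    intro Q
    by_contra hQ
    by_cases hxQ : x • Q = Q
    · rw [fix_of_mem hP hx hx1 hxQ] at hQ
      exact hQ (smul_eq_iff.2 (centralizer_le_normalizer _ hc))
    · have := comm_fix hr hp.out hrp hxo hy (hc x hx) hxQ hQ
      rw [card_fix_of_mem hP hx hx1] at this
      omega
  rw [this, orderOf_one] at hy
  exact hr.one_lt.ne hy

theorem not_dvd_card_normalizer [Finite G] [hp : Fact p.Prime]
    (hf : ∀ g : G, (∀ P : Sylow p G, g • P = P) → g = 1)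
    {P : Sylow p G} (hP : Nat.card (P : Subgroup G) = p) {r : ℕ} (hr : r.Prime) (hrp : r ≠ p)
    (hn : Nat.card (Sylow p G) ≤ r * p) (hc : r.Coprime (p - 1)) :
    ¬ r ∣ Nat.card (normalizer ((P : Subgroup G) : Set G)) := by
  intro hd
  haveI := Fact.mk hr
  obtain ⟨y, hy⟩ := exists_prime_orderOf_dvd_card' r hd
  rw [← Subgroup.orderOf_coe] at hy
  exact not_cent hf hP hr hrp hn hy (mem_centralizer_of_coprime hp.out hP y.2 (hy ▸ hc))

theorem card_eq_mul [Finite G] [Fact p.Prime] (P : Sylow p G) :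
    Nat.card G = Nat.card (Sylow p G) * Nat.card (normalizer ((P : Subgroup G) : Set G)) := by
  rw [card_syl P, mul_comm, card_mul_index]

theorem card_sylow_eq_prime [Finite G] {r : ℕ} [hr : Fact r.Prime] {m : ℕ} (h : Nat.card G = r * m)
    (hm : ¬ r ∣ m) (S : Sylow r G) : Nat.card (S : Subgroup G) = r := by
  have h0 : m ≠ 0 := by rintro rfl; exact hm (dvd_zero _)
  rw [Sylow.card_eq_multiplicity, h, Nat.factorization_mul hr.out.ne_zero h0, Finsupp.add_apply,
    hr.out.factorization_self, Nat.factorization_eq_zero_of_not_dvd hm, add_zero, pow_one]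

end Cfsg.Agent.Perm.SylNum
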