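import Mathlib
import Cfsg.Agent.Lib.Perm.SylNum2
import Cfsg.Agent.Lib.Solv.Cores

/-! Numbers of Sylow subgroups: the case `1 + 2p`, and the product formula. -/

namespace Cfsg.Agent.Perm.SylNum
open Subgroup MulAction Cfsg.Agent.Solv Cfsg.Agent.Perm
open scoped Pointwise

universe u
variable {G : Type*} [Group G] {p : ℕ}

theorem eq_one_of_card_fix {α : Type*} [MulAction G α] [Finite α] (hf : ∀ g : G, (∀ a : α, g • a = a) → g = 1)
    {g : G} (h : Nat.card α ≤ Nat.card (fixedBy α g)) : g = 1 := by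
  apply hf
  intro a
  have : fixedBy α g = Set.univ :=
    Set.eq_of_subset_of_ncard_le (Set.subset_univ _) (by rwa [Set.ncard_univ, ← Nat.card_coe_set_eq])
      (Set.toFinite _)
  have h2 : a ∈ fixedBy α g := this ▸ Set.mem_univ _
  exact h2

theorem card_eq_of_lt_sq [Finite G] [hp : Fact p.Prime] (hf : ∀ g : G, (∀ P : Sylow p G, g • P = P) → g = 1)
    (h1 : 1 < Nat.card (Sylow p G)) (h2 : Nat.card (Sylow p G) ≤ p ^ 2) (P : Sylow p G) :
    Nat.card (P : Subgroup G) = p := by
  have hk : ∀ k m, Nat.card (Sylow p G) = 1 + m + p ^ 2 * k → k = 0 := by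
    intro k m h
    by_contra hk
    have : p ^ 2 * 1 ≤ p ^ 2 * k := Nat.mul_le_mul_left _ (Nat.pos_of_ne_zero hk)
    omega
  obtain ⟨m, l, k, j, a1, a2, a3, a4, a5, -, a7⟩ := line hf (fun k h => by
    have := hk k 0 (by rw [h]); subst this; omega)
  have := hk k m a1
  subst this
  apply a7
  by_contra hne
  have hl : 2 ≤ l := by have := hp.out.two_le; nlinarith
  have : 2 * (m + 1 - l) ≤ l * (m + 1 - l) := Nat.mul_le_mul_right _ hl
  omega

theorem not_one_add_two_mul (p : ℕ) [hp : Fact p.Prime] (h5 : 5 < p) (h1 : 5 ∣ 1 + 2 * p)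
    (h2 : ¬ 25 ∣ 1 + 2 * p) (G : Type u) [Group G] [Finite G] : Nat.card (Sylow p G) ≠ 1 + 2 * p := by
  refine reduce p _ ?_ G
  intro G _ _ hq hf hn
  have hP := card_eq_of_lt_sq hf (by omega) (by rw [hn]; nlinarith)
  have hodd : p % 2 = 1 := (hp.out.eq_two_or_odd).resolve_left (by omega)
  obtain ⟨P⟩ : Nonempty (Sylow p G) := inferInstance
  have hG : ¬ 2 ∣ Nat.card G := by
    intro hd
    obtain ⟨t, ht⟩ := exists_prime_orderOf_dvd_card' 2 hd
    have ht2 : t ^ 2 = 1 := by rw [← ht, pow_orderOf_eq_one]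
    obtain ⟨Q, hQ⟩ := hq.invol_centralizes (by omega) P (hP P) (by rw [hn]; exact ⟨p, by ring⟩) t ht2
    obtain ⟨j, hj⟩ := card_fix_of_cent (hP Q) hQ
    obtain ⟨k, hk⟩ := hq.four_dvd (α := Sylow p G) (by omega) ht2
    have : t = 1 := by
      apply eq_one_of_card_fix hf
      rw [hj, hn] at *
      have hj2 : j ≤ 2 := by by_contra h; nlinarith
      interval_cases j <;> omega
    rw [this, orderOf_one] at ht
    omega
  haveI : Fact (Nat.Prime 5) := ⟨by norm_num⟩
  have h3 := not_dvd_card_normalizer hf (hP P) (r := 5) (by norm_num) (by omega) (by omega) (by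
    rw [Nat.Prime.coprime_iff_not_dvd (by norm_num)]; omega)
  obtain ⟨S⟩ : Nonempty (Sylow 5 G) := inferInstance
  obtain ⟨c, hc⟩ := h1
  have hS : Nat.card (S : Subgroup G) = 5 := by
    apply card_sylow_eq_prime (m := c * Nat.card (normalizer ((P : Subgroup G) : Set G)))
    · rw [card_eq_mul P, hn, hc, mul_assoc]
    · intro hd
      rcases (Nat.Prime.dvd_mul (by norm_num)).1 hd with h | h
      · omega
      · exact h3 h
  refine hq.burnside (by omega) S (by intro h; rw [h, card_bot] at hS; omega) fun g hg => ?_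
  apply mem_centralizer_of_coprime (by norm_num) hS hg
  have : ¬ 2 ∣ orderOf g := fun h => hG (h.trans (orderOf_dvd_natCard g))
  show (orderOf g).Coprime (2 ^ 2)
  exact Nat.Coprime.pow_right _ ((Nat.Prime.coprime_iff_not_dvd Nat.prime_two).2 this).symm

theorem product_formula [Finite G] [Fact p.Prime] (K : Subgroup G) [K.Normal] (P : Sylow p G) (N : Subgroup G)
    (hN : N = ((P : Subgroup G) ⊔ K) ⊓ normalizer (((P : Subgroup G) ⊓ K : Subgroup G) : Set G))
    [hn : (((P : Subgroup G) ⊓ K).subgroupOf N).Normal] :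
    Nat.card (Sylow p G) = Nat.card (Sylow p (G ⧸ K)) * Nat.card (Sylow p K) *
      Nat.card (Sylow p (N ⧸ ((P : Subgroup G) ⊓ K).subgroupOf N)) := by
  have hK : ∀ H : Subgroup G, H ≤ normalizer (K : Set G) := fun H => by
    rw [normalizer_eq_top K]; exact le_top
  have hPK : normalizer ((P : Subgroup G) : Set G) ≤ normalizer (((P : Subgroup G) ⊓ K : Subgroup G) : Set G) :=
    le_normalizer_inf le_rfl (hK _)
  have hPN : (P : Subgroup G) ≤ N := by
    rw [hN]; exact le_inf le_sup_left (le_normalizer.trans hPK)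
  obtain ⟨Q, hQ⟩ := (isSylowIn_of_le P hPN).exists_sylow
  rw [card_syl_quot_of_le Q _ (by
    rw [hQ]; exact (subgroupOf_mono N inf_le_left).trans le_normalizer),
    card_syl_sub (isSylowIn_of_le P hPN), card_syl_quot P, card_syl P,
    card_syl_sub ((isSylowIn_top P).inf_normal le_top (hK _))]
  set H := normalizer ((P : Subgroup G) : Set G) with hH
  set M := normalizer (((P : Subgroup G) ⊓ K : Subgroup G) : Set G) with hM
  rw [← relIndex_mul_index (le_sup_left : H ≤ H ⊔ K), mul_comm, mul_assoc]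
  congr 1
  -- [HK : H] = [K : H ∩ K] = [K : M ∩ K] [M ∩ K : H ∩ K],  [N : H ∩ N] = [M ∩ K : H ∩ K]
  have key : ∀ A B : Subgroup G, A ≤ B → A.relIndex (A ⊔ (B ⊓ K)) = A.relIndex (B ⊓ K) := by
    intro A B hAB
    have hn : A ≤ normalizer ((B ⊓ K : Subgroup G) : Set G) :=
      le_normalizer_inf (hAB.trans le_normalizer) (hK _)
    have a := card_inf_mul_relIndex A (B ⊓ K)
    have b := card_sup_mul_card_inf hn
    have c := card_mul_relIndex (le_sup_left : A ≤ A ⊔ (B ⊓ K))
    have p1 : 0 < Nat.card A := Nat.card_pos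
    have p2 : 0 < Nat.card (A ⊓ (B ⊓ K) : Subgroup G) := Nat.card_pos
    rw [← c, ← a] at b
    apply Nat.eq_of_mul_eq_mul_left (Nat.mul_pos p1 p2)
    linarith
  have e1 := key H ⊤ le_top
  rw [top_inf_eq] at e1
  have e2 : N = (H ⊓ N) ⊔ (N ⊓ K) := by
    apply le_antisymm
    · have := dedekind' (A := (P : Subgroup G)) (B := K) (C := N) hPN (hK _)
      have h2 : ((P : Subgroup G) ⊔ K) ⊓ N = N := inf_eq_right.2 (by rw [hN]; exact inf_le_left)
      rw [h2] at this
      conv_lhs => rw [this]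
      exact sup_le_sup (le_inf le_normalizer hPN) (inf_comm K N).le
    · exact sup_le inf_le_right inf_le_left
  have e3 := key (H ⊓ N) N inf_le_right
  rw [← e2, inf_relIndex_right] at e3
  have e4 : N ⊓ K = M ⊓ K := by
    rw [hN]
    apply le_antisymm
    · exact inf_le_inf_right _ inf_le_right
    · exact le_inf (le_inf (inf_le_right.trans le_sup_right) inf_le_left) inf_le_right
  have e5 : (H ⊓ N).relIndex (N ⊓ K) = H.relIndex (M ⊓ K) := by
    rw [← inf_relIndex_right (H ⊓ N), ← inf_relIndex_right H, ← e4]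
    congr 1
    apply le_antisymm
    · exact inf_le_inf_right _ inf_le_left
    · exact le_inf (le_inf inf_le_left (inf_le_right.trans inf_le_left)) inf_le_right
  rw [e1, e3, e5, ← inf_relIndex_right H K, ← inf_relIndex_right M K, ← inf_relIndex_right H (M ⊓ K), mul_comm]
  have e6 : H ⊓ (M ⊓ K) = H ⊓ K := by rw [← inf_assoc, inf_eq_left.2 hPK]
  rw [e6]
  exact (relIndex_mul_relIndex _ _ _ (inf_le_inf_right _ hPK) inf_le_right).symm

theorem card_modEq_inf_cent [Finite G] [hp : Fact p.Prime] {P L : Subgroup G} (hP : IsPGroup p P)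
    (h : P ≤ normalizer (L : Set G)) :
    Nat.card L ≡ Nat.card (L ⊓ centralizer (P : Set G) : Subgroup G) [MOD p] := by
  letI : MulAction P L := MulAction.compHom L (L.normalizerMonoidHom.comp (inclusion h))
  have h1 := hP.card_modEq_card_fixedPoints L
  have : Nat.card (fixedPoints P L) = Nat.card (L ⊓ centralizer (P : Set G) : Subgroup G) := by
    have key : ∀ (x : L), x ∈ fixedPoints P L ↔ (x : G) ∈ centralizer (P : Set G) := by
      intro x
      constructor
      · intro hx g hg
        have : g * x * g⁻¹ = x := congrArg Subtype.val (hx ⟨g, hg⟩)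
        rwa [mul_inv_eq_iff_eq_mul] at this
      · intro hx g
        apply Subtype.ext
        show (g : G) * x * (g : G)⁻¹ = x
        rw [mul_inv_eq_iff_eq_mul]; exact hx g g.2
    exact Nat.card_congr
      { toFun := fun x => ⟨x.1, x.1.2, (key x.1).1 x.2⟩
        invFun := fun x => ⟨⟨x.1, x.2.1⟩, (key _).2 x.2.2⟩
        left_inv := fun _ => rfl
        right_inv := fun _ => rfl }
  rwa [this] at h1

theorem coprime_case [Finite G] [hp : Fact p.Prime] (K : Subgroup G) [K.Normal] (P : Sylow p G)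
    (h1 : (P : Subgroup G) ⊔ K = ⊤) (h2 : (P : Subgroup G) ⊓ K = ⊥) (l : ℕ) (hl : l.Prime) :
    l ^ (Nat.card (Sylow p G)).factorization l ≡ 1 [MOD p] := by
  haveI := Fact.mk hl
  have hK : ∀ H : Subgroup G, H ≤ normalizer (K : Set G) := fun H => by
    rw [normalizer_eq_top K]; exact le_top
  set C := K ⊓ centralizer ((P : Subgroup G) : Set G) with hC
  have e0 : normalizer ((P : Subgroup G) : Set G) ⊓ K = C := by
    apply le_antisymm
    · refine le_inf inf_le_right ?_
      apply le_centralizer_of_inf_eq_bot inf_le_left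
      · exact le_normalizer_inf (le_normalizer.trans le_normalizer) (hK _)
      · rw [eq_bot_iff, ← h2]
        exact le_inf inf_le_right (inf_le_left.trans inf_le_right)
    · exact le_inf (inf_le_right.trans (centralizer_le_normalizer _)) inf_le_left
  have e1 : Nat.card C * Nat.card (Sylow p G) = Nat.card K := by
    have b := card_sup_mul_card_inf (hK (normalizer ((P : Subgroup G) : Set G)))
    have h3 : normalizer ((P : Subgroup G) : Set G) ⊔ K = ⊤ :=
      top_le_iff.1 (h1.ge.trans (sup_le_sup_right le_normalizer K))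
    rw [e0, h3, card_top, card_eq_mul P] at b
    have p1 : 0 < Nat.card (normalizer ((P : Subgroup G) : Set G)) := Nat.card_pos
    apply Nat.eq_of_mul_eq_mul_left p1
    linarith
  have hKp : ¬ p ∣ Nat.card K := by
    have := ((isSylowIn_top P).inf_normal le_top (hK _)).card_eq
    rw [h2, card_bot] at this
    intro hd
    have h3 := (hp.out.factorization_pos_of_dvd (Nat.card_pos (α := K)).ne' hd)
    have := Nat.one_lt_pow h3.ne' hp.out.one_lt
    omega
  obtain ⟨U, hU⟩ := exists_isSylowIn l C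
  obtain ⟨L, hL, hUL, hPL⟩ := coprime_exists_sylowIn_ge (hK P)
    (coprime_card_of_isPGroup P.isPGroup' hKp) (Or.inl (by
      haveI := P.isPGroup'.isNilpotent; infer_instance)) (hU.le.trans inf_le_left) hU.isPGroup
    ((le_centralizer_iff.1 (hU.le.trans inf_le_right)).trans (centralizer_le_normalizer _))
  have e2 : L ⊓ centralizer ((P : Subgroup G) : Set G) = U :=
    hU.eq_of_le (hL.isPGroup.to_le inf_le_left) (inf_le_inf_right _ hL.le)
      (le_inf hUL (hU.le.trans inf_le_right))
  have e3 := card_modEq_inf_cent P.isPGroup' hPL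
  rw [e2, hL.card_eq, ← e1, Nat.factorization_mul Nat.card_pos.ne' Nat.card_pos.ne', Finsupp.add_apply,
    pow_add, ← hU.card_eq] at e3
  have hc : (Nat.card U).Coprime p := by
    apply Nat.Coprime.symm
    rw [hp.out.coprime_iff_not_dvd]
    exact fun h => hKp (h.trans (card_dvd_of_le (hU.le.trans inf_le_left)))
  exact Nat.ModEq.cancel_left_of_coprime hc.symm (by rwa [mul_one])

theorem sylNum_induction (p : ℕ) [hp : Fact p.Prime] (Φ : ℕ → Prop) (h1 : Φ 1)
    (hmul : ∀ a b, a ≠ 0 → b ≠ 0 → Φ a → Φ b → Φ (a * b))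
    (hpp : ∀ l k : ℕ, l.Prime → l ^ k ≡ 1 [MOD p] → Φ (l ^ k)) (b : Prop)
    (hs : ∀ (S : Type u) [Group S] [Finite S], IsSimpleGroup S → (b → Group.IsSolvable S) →
      Φ (Nat.card (Sylow p S)))
    (G : Type u) [Group G] [Finite G] : (b → Group.IsSolvable G) → Φ (Nat.card (Sylow p G)) := by
  refine card_induction (P := fun G _ _ => (b → Group.IsSolvable G) → Φ (Nat.card (Sylow p G))) ?_ G
  intro G _ _ ih hb
  obtain ⟨P⟩ : Nonempty (Sylow p G) := inferInstance
  rcases subsingleton_or_nontrivial G with hG | hG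
  · rw [card_syl P, Subsingleton.elim (normalizer _) ⊤, index_top]; exact h1
  by_cases hsimp : IsSimpleGroup G
  · exact hs G hsimp hb
  obtain ⟨K, hK, hK1, hK2⟩ : ∃ K : Subgroup G, K.Normal ∧ K ≠ ⊥ ∧ K ≠ ⊤ := by
    by_contra h
    push Not at h
    exact hsimp ⟨fun H hH => by
      by_cases h0 : H = ⊥
      · exact Or.inl h0
      · exact Or.inr (h H hH h0)⟩
  by_cases hc : (P : Subgroup G) ⊔ K = ⊤ ∧ (P : Subgroup G) ⊓ K = ⊥
  · have hn : Nat.card (Sylow p G) ≠ 0 := Nat.card_pos.ne'
    rw [← Nat.factorization_prod_pow_eq_self hn]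
    refine (Finset.prod_induction _ (fun n => n ≠ 0 ∧ Φ n)
      (fun a b ha hb => ⟨mul_ne_zero ha.1 hb.1, hmul a b ha.1 hb.1 ha.2 hb.2⟩) ⟨one_ne_zero, h1⟩ ?_).2
    intro l hl
    have hl' := Nat.prime_of_mem_primeFactors hl
    exact ⟨pow_ne_zero _ hl'.ne_zero, hpp _ _ hl' (coprime_case K P hc.1 hc.2 l hl')⟩
  set N := ((P : Subgroup G) ⊔ K) ⊓ normalizer (((P : Subgroup G) ⊓ K : Subgroup G) : Set G) with hN
  have hle : (P : Subgroup G) ⊓ K ≤ N := le_inf (inf_le_left.trans le_sup_left) le_normalizer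
  haveI : (((P : Subgroup G) ⊓ K).subgroupOf N).Normal :=
    (normal_subgroupOf_iff_le_normalizer hle).2 inf_le_right
  rw [product_formula K P N hN]
  refine hmul _ _ (mul_ne_zero Nat.card_pos.ne' Nat.card_pos.ne') Nat.card_pos.ne'
    (hmul _ _ Nat.card_pos.ne' Nat.card_pos.ne' (ih _ (card_quotient_lt hK1) fun h => ?_)
    (ih _ (card_lt_of_ne_top hK2) fun h => ?_)) (ih _ ?_ fun h => ?_)
  · haveI := hb h; infer_instance
  · haveI := hb h; infer_instance
  · by_cases hN2 : N = ⊤
    · have h3 : (P : Subgroup G) ⊓ K ≠ ⊥ := fun h => hc ⟨top_le_iff.1 (hN2 ▸ inf_le_left), h⟩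
      refine lt_of_lt_of_le (card_quotient_lt ?_) (Finite.card_subtype_le _)
      intro h
      apply h3
      rw [← card_eq_one, ← card_subgroupOf_of_le hle, h, card_bot]
    · exact lt_of_le_of_lt (Nat.card_le_card_of_surjective _ (QuotientGroup.mk'_surjective _))
        (card_lt_of_ne_top hN2)
  · haveI := hb h; infer_instance

end Cfsg.Agent.Perm.SylNum
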