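import Mathlib
import Cfsg.Agent.Lib.Perm.SylNum3

/-! Identification of `A₄`, `S₄`, `A₅` from the order and the element orders. -/

namespace Cfsg.Agent.Perm.Small
open Subgroup MulAction Cfsg.Agent.Solv Cfsg.Agent.Perm Cfsg.Agent.Perm.SylNum

variable {G : Type*} [Group G]

theorem iso_perm_of_faithful [Finite G] {α : Type*} [Finite α] [MulAction G α] {n : ℕ}
    (hn : Nat.card α = n) (hf : ∀ g : G, (∀ a : α, g • a = a) → g = 1)
    (hc : Nat.card G = n.factorial) : Nonempty (G ≃* Equiv.Perm (Fin n)) := by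
  let e := Finite.equivFinOfCardEq hn
  let f : G →* Equiv.Perm (Fin n) := e.permCongrHom.toMonoidHom.comp (toPermHom G α)
  have hi : Function.Injective f := by
    apply e.permCongrHom.injective.comp
    rw [injective_iff_map_eq_one]
    intro g hg
    exact hf g fun a => congrArg (fun σ : Equiv.Perm α => σ a) hg
  refine ⟨MulEquiv.ofBijective f (hi.bijective_of_nat_card_le ?_)⟩
  rw [hc, Nat.card_perm, Nat.card_eq_fintype_card, Fintype.card_fin]

theorem iso_alt_of_faithful [Finite G] {α : Type*} [Finite α] [MulAction G α] {n : ℕ}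
    (hn : Nat.card α = n) (hf : ∀ g : G, (∀ a : α, g • a = a) → g = 1)
    (hc : 2 * Nat.card G = n.factorial) : Nonempty (G ≃* alternatingGroup (Fin n)) := by
  let e := Finite.equivFinOfCardEq hn
  let f : G →* Equiv.Perm (Fin n) := e.permCongrHom.toMonoidHom.comp (toPermHom G α)
  have hi : Function.Injective f := by
    apply e.permCongrHom.injective.comp
    rw [injective_iff_map_eq_one]
    intro g hg
    exact hf g fun a => congrArg (fun σ : Equiv.Perm α => σ a) hg
  have h1 : f.range.index = 2 := by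
    have a := f.range.card_mul_index
    rw [← Nat.card_congr (MonoidHom.ofInjective hi).toEquiv, Nat.card_perm,
      Nat.card_eq_fintype_card (α := Fin n), Fintype.card_fin, ← hc, mul_comm 2] at a
    exact Nat.eq_of_mul_eq_mul_left Nat.card_pos a
  exact ⟨(MonoidHom.ofInjective hi).trans
    (MulEquiv.subgroupCongr (Equiv.Perm.eq_alternatingGroup_of_index_eq_two h1))⟩

/-- a normal subgroup acting trivially on the Sylow subgroups -/
theorem sylow_faithful [Finite G] {p : ℕ} [hp : Fact p.Prime] (hn : Nat.card (Sylow p G) ≠ 1)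
    (hP : ∀ P : Sylow p G, Nat.card (P : Subgroup G) = p)
    (hc : ∀ x y : G, orderOf x = p → (orderOf y).Prime → Commute x y → orderOf y = p) (g : G)
    (hg : ∀ P : Sylow p G, g • P = P) : g = 1 := by
  by_contra hne
  obtain ⟨k, hk, -⟩ := exists_prime_order_pow (isOfFinOrder_of_finite g) hne
  have hy : ∀ P : Sylow p G, g ^ k • P = P := fun P => (stabilizer G P).pow_mem (hg P) k
  set y := g ^ k
  obtain ⟨P⟩ : Nonempty (Sylow p G) := inferInstance
  by_cases h : orderOf y = p
  · apply hn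
    have h1 : ∀ Q : Sylow p G, y ∈ (Q : Subgroup G) := fun Q =>
      (smul_eq_iff_mem (isPGroup_zpowers (k := 1) (by rw [pow_one, ← h, pow_orderOf_eq_one]))
        (mem_zpowers y)).1 (hy Q)
    have hy1 : y ≠ 1 := by intro h2; rw [h2, orderOf_one] at hk; exact Nat.not_prime_one hk
    rw [Nat.card_eq_one_iff_unique]
    exact ⟨⟨fun Q R => (fix_of_mem (hP P) (h1 P) hy1 (hy Q)).trans
      (fix_of_mem (hP P) (h1 P) hy1 (hy R)).symm⟩, inferInstance⟩
  · obtain ⟨x, hx, hxo, hx1⟩ := exists_gen (hP P)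
    apply h (hc x y hxo hk _)
    -- the commutator lies in `P` and acts trivially
    have h1 : x * y * x⁻¹ * y⁻¹ ∈ (P : Subgroup G) := by
      rw [mul_assoc, mul_assoc, ← mul_assoc y]
      exact mul_mem hx (conj_mem_of_mem_normalizer (smul_eq_iff.1 (hy P)) (inv_mem hx))
    by_contra hne2
    have h2 : x * y * x⁻¹ * y⁻¹ ≠ 1 := by
      intro h3; apply hne2
      rw [mul_inv_eq_one, mul_inv_eq_iff_eq_mul] at h3; exact h3
    apply hn
    rw [Nat.card_eq_one_iff_unique]
    have h3 : ∀ Q : Sylow p G, Q = P := fun Q => fix_of_mem (hP P) h1 h2 (by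
      have e : y⁻¹ • Q = Q := by rw [inv_smul_eq_iff, hy]
      rw [mul_smul, mul_smul, mul_smul, e, hy, smul_inv_smul])
    exact ⟨⟨fun Q R => (h3 Q).trans (h3 R).symm⟩, inferInstance⟩

theorem card_sylow_ne_one [Finite G] {p r : ℕ} [hp : Fact p.Prime] (hr : r.Prime) (hrp : r ≠ p)
    (hP : ∀ P : Sylow p G, Nat.card (P : Subgroup G) = p)
    (hd : ∀ d, d ∣ p - 1 → d * r ∣ Nat.card G → d ∣ Nat.card G → ∀ c, c * d = Nat.card G → r ∣ c)
    (hc : ∀ x : G, orderOf x ≠ p * r) (hr2 : ∀ d, d ∣ p - 1 → d ∣ Nat.card G → d * r ∣ Nat.card G) :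
    Nat.card (Sylow p G) ≠ 1 := by
  intro h
  obtain ⟨P⟩ : Nonempty (Sylow p G) := inferInstance
  rw [card_syl P, index_eq_one] at h
  have a := relIndex_centralizer_dvd hp.out (hP P)
  have b := card_mul_relIndex (centralizer_le_normalizer ((P : Subgroup G) : Set G))
  rw [h, card_top] at b
  rw [h] at a
  have c := hd _ a (hr2 _ a (Dvd.intro_left _ b)) (Dvd.intro_left _ b) _ b
  haveI := Fact.mk hr
  obtain ⟨y, hy⟩ := exists_prime_orderOf_dvd_card' r c
  rw [← Subgroup.orderOf_coe] at hy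
  obtain ⟨x, hx, hxo, -⟩ := exists_gen (hP P)
  apply hc (x * y)
  rw [Commute.orderOf_mul_eq_mul_orderOf_of_coprime (y.2 x hx), hxo, hy]
  rw [hxo, hy]; exact (Nat.coprime_primes hp.out hr).2 hrp.symm

theorem no_mul_order {p : ℕ} (hp : p.Prime) {S : Set ℕ} (hS : ∀ g : G, orderOf g ∈ S)
    (h : ∀ r : ℕ, r.Prime → p * r ∈ S → r = p) (x y : G) (hx : orderOf x = p) (hy : (orderOf y).Prime)
    (hc : Commute x y) : orderOf y = p := by
  by_contra hne
  apply hne (h _ hy _)
  have := hS (x * y)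
  rwa [hc.orderOf_mul_eq_mul_orderOf_of_coprime (by
    rw [hx]; exact (Nat.coprime_primes hp hy).2 (Ne.symm hne)), hx] at this

theorem card_sylow_three [Finite G] {c : ℕ} (hc : Nat.card G = 12 * c) (hc2 : c = 1 ∨ c = 2)
    (ho : ∀ g : G, orderOf g ≤ 4) : Nat.card (Sylow 3 G) = 4 ∧
      ∀ g : G, (∀ P : Sylow 3 G, g • P = P) → g = 1 := by
  haveI : Fact (Nat.Prime 3) := ⟨by norm_num⟩
  have hP : ∀ P : Sylow 3 G, Nat.card (P : Subgroup G) = 3 :=
    card_sylow_eq_prime (m := 4 * c) (by omega) (by omega)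
  have h1 : Nat.card (Sylow 3 G) ≠ 1 := by
    refine card_sylow_ne_one (r := 2) (by norm_num) (by norm_num) hP ?_
      (fun x h => by have := ho x; omega) ?_
    · intro d h1 _ _ e he
      have := Nat.le_of_dvd (by norm_num) h1
      interval_cases d <;> omega
    · intro d h1 _
      have := Nat.le_of_dvd (by norm_num) h1
      interval_cases d <;> omega
  refine ⟨?_, sylow_faithful h1 hP (no_mul_order (by norm_num) (S := {n | n ≤ 4}) ho fun r hr h => by
    have := hr.two_le; simp only [Set.mem_setOf_eq] at h; omega)⟩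
  obtain ⟨P⟩ : Nonempty (Sylow 3 G) := inferInstance
  have a := P.card_dvd_index
  have b := (P : Subgroup G).card_mul_index
  have d := card_sylow_modEq_one 3 G
  unfold Nat.ModEq at d
  rw [hP] at b
  have e : Nat.card (Sylow 3 G) ∣ 8 := a.trans (by
    rcases hc2 with rfl | rfl
    · exact Dvd.intro 2 (by omega)
    · exact Dvd.intro 1 (by omega))
  have := Nat.le_of_dvd (by norm_num) e
  interval_cases h : Nat.card (Sylow 3 G) <;> omega

theorem iso_A4 [Finite G] (hc : Nat.card G = 12) (ho : ∀ g : G, orderOf g ≤ 4) :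
    Nonempty (G ≃* alternatingGroup (Fin 4)) := by
  obtain ⟨h1, h2⟩ := card_sylow_three (c := 1) hc (Or.inl rfl) ho
  exact iso_alt_of_faithful h1 h2 (by rw [hc]; rfl)

theorem iso_S4 [Finite G] (hc : Nat.card G = 24) (ho : ∀ g : G, orderOf g ≤ 4) :
    Nonempty (G ≃* Equiv.Perm (Fin 4)) := by
  obtain ⟨h1, h2⟩ := card_sylow_three (c := 2) hc (Or.inr rfl) ho
  exact iso_perm_of_faithful h1 h2 (by rw [hc]; rfl)

theorem iso_A5 [Finite G] (hc : Nat.card G = 60) (ho : ∀ g : G, orderOf g ≤ 5 ∧ orderOf g ≠ 4) :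
    Nonempty (G ≃* alternatingGroup (Fin 5)) := by
  classical
  haveI : Fact (Nat.Prime 3) := ⟨by norm_num⟩
  haveI : Fact (Nat.Prime 5) := ⟨by norm_num⟩
  have hcomm : ∀ x y : G, (orderOf x).Prime → (orderOf y).Prime → Commute x y → orderOf y = orderOf x :=
    fun x y hx hy h => no_mul_order hx (S := {n | n ≤ 5 ∧ n ≠ 4}) ho (fun r hr h => by
      have := hr.two_le; have := hx.two_le
      simp only [Set.mem_setOf_eq] at h
      have : 2 * 2 ≤ orderOf x * r := Nat.mul_le_mul ‹_› ‹_›
      have h5 : orderOf x * r = 5 := by omega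
      have : orderOf x ≤ 2 := by nlinarith
      have : orderOf x = 2 := by omega
      rw [this] at h5
      omega) x y rfl hy h
  have hV : ∀ V : Sylow 2 G, Nat.card (V : Subgroup G) = 4 := fun V => by
    rw [Sylow.card_eq_multiplicity, hc]
    have : Nat.factorization 60 2 = 2 := by
      rw [show 60 = 2 ^ 2 * 15 by norm_num, Nat.factorization_mul (by norm_num) (by norm_num),
        Finsupp.add_apply, Nat.Prime.factorization_pow Nat.prime_two,
        Nat.factorization_eq_zero_of_not_dvd (by norm_num)]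
      simp
    rw [this]; rfl
  have hsq : ∀ V : Sylow 2 G, ∀ t ∈ (V : Subgroup G), t ≠ 1 → orderOf t = 2 := by
    intro V t ht h1
    have a : orderOf t ∣ 4 := hV V ▸ Subgroup.orderOf_dvd_natCard _ ht
    have b := (ho t).2
    have c : orderOf t ≠ 1 := by rwa [Ne, orderOf_eq_one_iff]
    have := Nat.le_of_dvd (by norm_num) a
    interval_cases h : orderOf t <;> omega
  have hC : ∀ V : Sylow 2 G, ∀ t ∈ (V : Subgroup G), t ≠ 1 → centralizer ({t} : Set G) = V := by
    intro V t ht h1
    apply V.is_maximal'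
    · apply isPGroup_of_forall_prime_dvd
      intro r hr hd
      haveI := Fact.mk hr
      obtain ⟨y, hy⟩ := exists_prime_orderOf_dvd_card' r hd
      rw [← Subgroup.orderOf_coe] at hy
      rw [← hy, ← hsq V t ht h1]
      exact hcomm t y (by rw [hsq V t ht h1]; norm_num) (hy ▸ hr) (y.2 t rfl)
    · intro y hy
      rw [mem_centralizer_singleton_iff]
      have := comm_of_sq (N := (V : Subgroup G)) (fun z => by
        apply Subtype.ext
        by_cases h : (z : G) = 1
        · simp [h]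
        · exact orderOf_dvd_iff_pow_eq_one.1 (hsq V z z.2 h).dvd) ⟨y, hy⟩ ⟨t, ht⟩
      exact congrArg Subtype.val this
  have hTI : ∀ V W : Sylow 2 G, ∀ t ∈ (V : Subgroup G), t ∈ (W : Subgroup G) → t ≠ 1 → V = W :=
    fun V W t h1 h2 h3 => Sylow.ext ((hC V t h1 h3).symm.trans (hC W t h2 h3))
  -- counting elements in TI Sylow families
  have count : ∀ (r m : ℕ) [Fact r.Prime], (∀ V : Sylow r G, Nat.card (V : Subgroup G) = m + 1) →
      (∀ V W : Sylow r G, ∀ t ∈ (V : Subgroup G), t ∈ (W : Subgroup G) → t ≠ 1 → V = W) →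
      Nat.card (Sylow r G) * m ≤ {t : G | t ≠ 1 ∧ ∃ k, t ^ r ^ k = 1}.ncard := by
    intro r m _ h1 h2
    have : Nat.card (Σ V : Sylow r G, (((V : Subgroup G) : Set G) \ {1} : Set G)) ≤
        Nat.card {t : G | t ≠ 1 ∧ ∃ k, t ^ r ^ k = 1} := by
      refine Nat.card_le_card_of_injective (fun z => ⟨z.2.1, z.2.2.2, ?_⟩) ?_
      · obtain ⟨k, hk⟩ := z.1.isPGroup' ⟨z.2.1, z.2.2.1⟩
        exact ⟨k, congrArg Subtype.val hk⟩
      · rintro ⟨V, t, ht⟩ ⟨W, t', ht'⟩ h
        simp only [Subtype.mk.injEq] at h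
        subst h
        have := h2 V W t ht.1 ht'.1 ht.2
        subst this; rfl
    haveI hft := Fintype.ofFinite (Sylow r G)
    rw [Nat.card_sigma] at this
    have h3 : ∀ V : Sylow r G, Nat.card (((V : Subgroup G) : Set G) \ {1} : Set G) = m := fun V => by
      have := Set.ncard_diff_singleton_add_one (s := ((V : Subgroup G) : Set G)) (one_mem _)
      rw [← Nat.card_coe_set_eq ((V : Subgroup G) : Set G)] at this
      have h4 := h1 V
      rw [Nat.card_coe_set_eq]
      simp only [SetLike.coe_sort_coe] at this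
      omega
    simp only [h3, Finset.sum_const, Finset.card_univ, smul_eq_mul] at this
    rwa [← Nat.card_eq_fintype_card, Nat.card_coe_set_eq] at this
  have hP5 : ∀ P : Sylow 5 G, Nat.card (P : Subgroup G) = 5 :=
    card_sylow_eq_prime (m := 12) (by omega) (by omega)
  have n5 : 6 ≤ Nat.card (Sylow 5 G) := by
    have h1 : Nat.card (Sylow 5 G) ≠ 1 := by
      refine card_sylow_ne_one (r := 3) (by norm_num) (by norm_num) hP5 ?_
        (fun x h => by have := ho x; omega) ?_
      · intro d h1 _ _ e he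
        have := Nat.le_of_dvd (by norm_num) h1
        interval_cases d <;> omega
      · intro d h1 _
        have := Nat.le_of_dvd (by norm_num) h1
        interval_cases d <;> omega
    have d := card_sylow_modEq_one 5 G
    unfold Nat.ModEq at d
    omega
  have c5 := count 5 4 hP5 (fun V W t h1 h2 h3 => (fix_of_mem (hP5 W) h2 h3
    ((smul_eq_iff_mem V.isPGroup' h1).2 h1)))
  have c2 := count 2 3 hV hTI
  have hdisj : Disjoint {t : G | t ≠ 1 ∧ ∃ k, t ^ 5 ^ k = 1} {t : G | t ≠ 1 ∧ ∃ k, t ^ 2 ^ k = 1} := by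
    rw [Set.disjoint_left]
    rintro t ⟨h1, k, hk⟩ ⟨-, l, hl⟩
    apply h1
    rw [← orderOf_eq_one_iff]
    exact Nat.eq_one_of_dvd_coprimes (Nat.Coprime.pow k l (by norm_num : Nat.Coprime 5 2))
      (orderOf_dvd_of_pow_eq_one hk) (orderOf_dvd_of_pow_eq_one hl)
  have hle := Set.ncard_le_ncard (Set.subset_univ
    ({t : G | t ≠ 1 ∧ ∃ k, t ^ 5 ^ k = 1} ∪ {t : G | t ≠ 1 ∧ ∃ k, t ^ 2 ^ k = 1}))
  rw [Set.ncard_union_eq hdisj, Set.ncard_univ, hc] at hle
  obtain ⟨V⟩ : Nonempty (Sylow 2 G) := inferInstance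
  -- elements of order five do not normalise a Sylow 2-subgroup
  have h5N : ∀ W : Sylow 2 G, ∀ y : G, orderOf y = 5 → y • W ≠ W := by
    intro W y hy hW
    have hyN := smul_eq_iff.1 hW
    have h1 := card_modEq_inf_cent (p := 5) (P := zpowers y) (L := (W : Subgroup G))
      (isPGroup_zpowers (k := 1) (by rw [pow_one, ← hy, pow_orderOf_eq_one])) (zpowers_le.2 hyN)
    have h2 : (W : Subgroup G) ⊓ centralizer (zpowers y : Set G) = ⊥ := by
      rw [eq_bot_iff]
      rintro t ⟨ht, ht'⟩
      by_contra h3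
      have := hcomm y t (by rw [hy]; norm_num) (by rw [hsq W t ht h3]; norm_num) (ht' y (mem_zpowers y))
      rw [hy, hsq W t ht h3] at this; omega
    rw [h2, card_bot, hV] at h1
    exact absurd h1 (by decide)
  have n2 : Nat.card (Sylow 2 G) = 5 := by
    have a := V.card_dvd_index
    have b := (V : Subgroup G).card_mul_index
    rw [hV] at b
    have e : Nat.card (Sylow 2 G) ∣ 15 := a.trans (Dvd.intro 1 (by omega))
    obtain ⟨y, hy⟩ := exists_prime_orderOf_dvd_card' (G := G) 5 (by omega)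
    have h1 := card_modEq_fixedBy (α := Sylow 2 G) (p := 5) (by norm_num) (g := y) (k := 1)
      (by rw [pow_one, ← hy, pow_orderOf_eq_one])
    have h2 : fixedBy (Sylow 2 G) y = ∅ := Set.eq_empty_of_forall_notMem fun W hW => h5N W y hy hW
    rw [h2, Nat.card_coe_set_eq, Set.ncard_empty] at h1
    unfold Nat.ModEq at h1
    have := Nat.le_of_dvd (by norm_num) e
    interval_cases h : Nat.card (Sylow 2 G) <;> omega
  refine iso_alt_of_faithful n2 (fun g hg => ?_) (by rw [hc]; rfl)
  by_contra hne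
  obtain ⟨k, hk, -⟩ := exists_prime_order_pow (isOfFinOrder_of_finite g) hne
  have hy : ∀ P : Sylow 2 G, g ^ k • P = P := fun P => (stabilizer G P).pow_mem (hg P) k
  set y := g ^ k
  have hy1 : y ≠ 1 := by intro h2; rw [h2, orderOf_one] at hk; exact Nat.not_prime_one hk
  have hnt : ∃ W : Sylow 2 G, W ≠ V := by
    haveI : Nontrivial (Sylow 2 G) := Finite.one_lt_card_iff_nontrivial.1 (by omega)
    exact exists_ne V
  obtain ⟨W, hW⟩ := hnt
  have key : ∀ z : G, z ∈ (V : Subgroup G) → (∀ P : Sylow 2 G, z • P = P) → z = 1 := by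
    intro z hz h
    by_contra h1
    exact hW (hTI W V z ((smul_eq_iff_mem V.isPGroup' hz).1 (h W)) hz h1)
  obtain ⟨t, ht, ht1⟩ := exists_ne_one_of_ne_bot (H := (V : Subgroup G)) (by
    intro h; have := hV V; rw [h, card_bot] at this; omega)
  have h1 : t * y * t⁻¹ * y⁻¹ = 1 := by
    apply key
    · rw [mul_assoc, mul_assoc, ← mul_assoc y]
      exact mul_mem ht (conj_mem_of_mem_normalizer (smul_eq_iff.1 (hy V)) (inv_mem ht))
    · intro Q
      have e : y⁻¹ • Q = Q := by rw [inv_smul_eq_iff, hy]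
      rw [mul_smul, mul_smul, mul_smul, e, hy, smul_inv_smul]
  rw [mul_inv_eq_one, mul_inv_eq_iff_eq_mul] at h1
  apply hy1 (key y _ hy)
  rw [← hC V t ht ht1, mem_centralizer_singleton_iff]
  exact h1.symm

end Cfsg.Agent.Perm.Small
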