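import Mathlib

/-! Spectra (sets of element orders) of finite groups. -/

namespace Cfsg.Agent.Perm

open Set

section General
variable {G H : Type*} [Group G] [Group H]

theorem spec_dvd [Finite G] {m n : ℕ} (hn : n ∈ Set.range (orderOf : G → ℕ)) (h : m ∣ n) :
    m ∈ Set.range (orderOf : G → ℕ) := by
  obtain ⟨x, rfl⟩ := hn
  exact ⟨_, orderOf_pow_orderOf_div (orderOf_pos x).ne' h⟩

theorem spec_pos [Finite G] {n : ℕ} (hn : n ∈ Set.range (orderOf : G → ℕ)) : 0 < n := by
  obtain ⟨x, rfl⟩ := hn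
  exact orderOf_pos x

theorem spec_subset_of_injective (f : G →* H) (hf : Function.Injective f) :
    Set.range (orderOf : G → ℕ) ⊆ Set.range (orderOf : H → ℕ) := by
  rintro _ ⟨x, rfl⟩
  exact ⟨f x, orderOf_injective f hf x⟩

theorem spec_subset_of_surjective [Finite G] (f : G →* H) (hf : Function.Surjective f) :
    Set.range (orderOf : H → ℕ) ⊆ Set.range (orderOf : G → ℕ) := by
  rintro _ ⟨y, rfl⟩
  obtain ⟨x, rfl⟩ := hf y
  exact spec_dvd ⟨x, rfl⟩ (orderOf_map_dvd f x)

theorem spec_equiv (e : G ≃* H) :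
    Set.range (orderOf : G → ℕ) = Set.range (orderOf : H → ℕ) :=
  Set.Subset.antisymm (spec_subset_of_injective e.toMonoidHom e.injective)
    (spec_subset_of_injective e.symm.toMonoidHom e.symm.injective)

theorem mem_spec_prod {n : ℕ} : n ∈ Set.range (orderOf : G × H → ℕ) ↔
    ∃ a ∈ Set.range (orderOf : G → ℕ), ∃ b ∈ Set.range (orderOf : H → ℕ), Nat.lcm a b = n := by
  constructor
  · rintro ⟨x, rfl⟩
    exact ⟨_, ⟨x.1, rfl⟩, _, ⟨x.2, rfl⟩, (Prod.orderOf x).symm⟩
  · rintro ⟨_, ⟨x, rfl⟩, _, ⟨y, rfl⟩, rfl⟩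
    exact ⟨(x, y), Prod.orderOf _⟩

theorem spec_prod_congr {G' H' : Type*} [Group G'] [Group H']
    (h1 : Set.range (orderOf : G → ℕ) = Set.range (orderOf : G' → ℕ))
    (h2 : Set.range (orderOf : H → ℕ) = Set.range (orderOf : H' → ℕ)) :
    Set.range (orderOf : G × H → ℕ) = Set.range (orderOf : G' × H' → ℕ) := by
  ext n
  rw [mem_spec_prod, mem_spec_prod, h1, h2]

theorem spec_prod_list {A B C : List ℕ}
    (h1 : Set.range (orderOf : G → ℕ) = {x | x ∈ A})
    (h2 : Set.range (orderOf : H → ℕ) = {x | x ∈ B})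
    (h3 : ∀ a ∈ A, ∀ b ∈ B, Nat.lcm a b ∈ C) (h4 : ∀ c ∈ C, ∃ a ∈ A, ∃ b ∈ B, Nat.lcm a b = c) :
    Set.range (orderOf : G × H → ℕ) = {x | x ∈ C} := by
  ext n
  rw [mem_spec_prod, h1, h2]
  constructor
  · rintro ⟨a, ha, b, hb, rfl⟩
    exact h3 a ha b hb
  · intro hn
    exact h4 n hn

theorem prime_dvd_card_iff_mem_spec [Finite G] {p : ℕ} (hp : p.Prime) :
    p ∣ Nat.card G ↔ p ∈ Set.range (orderOf : G → ℕ) := by
  haveI := Fact.mk hp
  constructor
  · intro h
    exact exists_prime_orderOf_dvd_card' p h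
  · rintro ⟨x, rfl⟩
    exact orderOf_dvd_natCard x

theorem orderOf_eq_mul_orderOf_pow [Finite G] {x : G} {k : ℕ} (h : k ∣ orderOf x) :
    orderOf x = k * orderOf (x ^ k) := by
  have hk : k ≠ 0 := by
    rintro rfl
    exact (orderOf_pos x).ne' (zero_dvd_iff.1 h)
  rw [orderOf_pow_of_dvd hk h, Nat.mul_div_cancel' h]

theorem orderOf_eq_mul_orderOf_pow' {x : G} {k : ℕ} (hk : k ≠ 0) (h : k ∣ orderOf x) :
    orderOf x = k * orderOf (x ^ k) := by
  rw [orderOf_pow_of_dvd hk h, Nat.mul_div_cancel' h]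

theorem spec_cyclic [Finite G] [IsCyclic G] :
    Set.range (orderOf : G → ℕ) = {m | m ∣ Nat.card G} := by
  obtain ⟨g, hg⟩ := IsCyclic.exists_ofOrder_eq_natCard (α := G)
  ext m
  constructor
  · rintro ⟨x, rfl⟩
    exact orderOf_dvd_natCard x
  · intro hm
    exact spec_dvd ⟨g, hg⟩ hm

theorem exists_type0 (G : Type*) [Group G] [Finite G] :
    ∃ (K : Type) (_ : Group K) (_ : Fintype K), Nonempty (K ≃* G) := by
  let e := (Finite.equivFin G).symm
  exact ⟨Fin (Nat.card G), e.group, inferInstance, ⟨e.mulEquiv⟩⟩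

/-- The fibre power of `G` over `G / V`. -/
def fibPow (V : Subgroup G) [V.Normal] (k : ℕ) : Subgroup (Fin (k + 1) → G) where
  carrier := {x | ∀ i, (QuotientGroup.mk (x i) : G ⧸ V) = QuotientGroup.mk (x 0)}
  mul_mem' := by
    intro a b ha hb i
    simp only [Pi.mul_apply, QuotientGroup.mk_mul, ha i, hb i]
  one_mem' := by intro i; rfl
  inv_mem' := by
    intro a ha i
    simp only [Pi.inv_apply, QuotientGroup.mk_inv, ha i]

theorem orderOf_mem_of_exp [Finite G] (V : Subgroup G) [V.Normal] {p : ℕ} (hp : p.Prime)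
    (hexp : ∀ x ∈ V, x ^ p = 1) (x : G) :
    orderOf x = orderOf (QuotientGroup.mk x : G ⧸ V) ∨
      orderOf x = orderOf (QuotientGroup.mk x : G ⧸ V) * p := by
  have hd : orderOf (QuotientGroup.mk x : G ⧸ V) ∣ orderOf x :=
    orderOf_map_dvd (QuotientGroup.mk' V) x
  have hm : x ^ orderOf (QuotientGroup.mk x : G ⧸ V) ∈ V := by
    rw [← QuotientGroup.eq_one_iff, QuotientGroup.mk_pow, pow_orderOf_eq_one]
  have h1 := orderOf_eq_mul_orderOf_pow hd
  have h2 := (Nat.dvd_prime hp).1 (orderOf_dvd_of_pow_eq_one (hexp _ hm))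
  rcases h2 with h2 | h2
  · left; rw [h1, h2, mul_one]
  · right; rw [h1, h2]

theorem spec_fibPow [Finite G] (V : Subgroup G) [V.Normal] {p : ℕ} (hp : p.Prime)
    (hexp : ∀ x ∈ V, x ^ p = 1) (k : ℕ) :
    Set.range (orderOf : fibPow V k → ℕ) = Set.range (orderOf : G → ℕ) := by
  apply Set.Subset.antisymm
  · rintro _ ⟨⟨x, hx⟩, rfl⟩
    rw [Subgroup.orderOf_mk]
    set m := orderOf (QuotientGroup.mk (x 0) : G ⧸ V) with hm
    have h : ∀ i, orderOf (x i) = m ∨ orderOf (x i) = m * p := by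
      intro i
      have := orderOf_mem_of_exp V hp hexp (x i)
      rwa [hx i] at this
    by_cases h' : ∃ i, orderOf (x i) = m * p
    · obtain ⟨i, hi⟩ := h'
      refine ⟨x i, Nat.dvd_antisymm ?_ ?_⟩
      · exact orderOf_map_dvd (Pi.evalMonoidHom (fun _ => G) i) x
      · rw [orderOf_dvd_iff_pow_eq_one]
        funext j
        rw [Pi.pow_apply, Pi.one_apply, ← orderOf_dvd_iff_pow_eq_one, hi]
        rcases h j with h | h <;> rw [h]
        exact dvd_mul_right _ _
    · push Not at h'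
      refine ⟨x 0, Nat.dvd_antisymm ?_ ?_⟩
      · exact orderOf_map_dvd (Pi.evalMonoidHom (fun _ => G) 0) x
      · rw [orderOf_dvd_iff_pow_eq_one]
        funext j
        rw [Pi.pow_apply, Pi.one_apply, ← orderOf_dvd_iff_pow_eq_one,
          (h j).resolve_right (h' j), (h 0).resolve_right (h' 0)]
  · rintro _ ⟨g, rfl⟩
    refine ⟨⟨fun _ => g, fun _ => rfl⟩, ?_⟩
    exact (Subgroup.orderOf_mk _ _).trans
      (orderOf_injective (Pi.monoidHom fun _ : Fin (k + 1) => MonoidHom.id G)
      (fun a b h => congrFun h 0) g)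

theorem lt_card_fibPow [Finite G] (V : Subgroup G) [V.Normal] (hV : V ≠ ⊥) (k : ℕ) :
    k < Nat.card (fibPow V k) := by
  have h1 : Nat.card (Fin k → V) ≤ Nat.card (fibPow V k) := by
    refine Nat.card_le_card_of_injective
      (fun v : Fin k → V => (⟨Fin.cons 1 fun i => (v i : G), ?_⟩ : fibPow V k)) ?_
    · intro i
      refine Fin.cases rfl (fun j => ?_) i
      simp only [Fin.cons_succ, Fin.cons_zero, QuotientGroup.mk_one, QuotientGroup.eq_one_iff]
      exact (v j).2
    · intro a b h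
      funext i
      have := congrFun (congrArg Subtype.val h) i.succ
      simpa using this
  have h2 : 2 ≤ Nat.card V := by
    have := (Subgroup.one_lt_card_iff_ne_bot V).2 hV
    omega
  rw [Nat.card_pi, Finset.prod_const, Finset.card_univ, Fintype.card_fin] at h1
  calc k < 2 ^ k := Nat.lt_two_pow_self
    _ ≤ Nat.card V ^ k := Nat.pow_le_pow_left h2 k
    _ ≤ _ := h1

/-- A group with a non-trivial normal subgroup of prime exponent has arbitrarily large
isospectral groups. -/
theorem exists_large_isospectral [Finite G] (V : Subgroup G) [V.Normal] (hV : V ≠ ⊥) {p : ℕ}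
    (hp : p.Prime) (hexp : ∀ x ∈ V, x ^ p = 1) (N : ℕ) :
    ∃ (K : Type) (_ : Group K) (_ : Fintype K), N < Fintype.card K ∧
      Set.range (orderOf : K → ℕ) = Set.range (orderOf : G → ℕ) := by
  obtain ⟨K, i1, i2, ⟨e⟩⟩ := exists_type0 (fibPow V N)
  refine ⟨K, i1, i2, ?_, ?_⟩
  · rw [← Nat.card_eq_fintype_card, Nat.card_congr e.toEquiv]
    exact lt_card_fibPow V hV N
  · rw [spec_equiv e, spec_fibPow V hp hexp]

/-- Isospectral groups have the same prime graph. -/
theorem primeGraph_of_spec [Finite G] [Finite H]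
    (h : Set.range (orderOf : G → ℕ) = Set.range (orderOf : H → ℕ)) :
    (∀ p : ℕ, p.Prime → (p ∣ Nat.card G ↔ p ∣ Nat.card H)) ∧
      (∀ p q : ℕ, p.Prime → q.Prime → p ≠ q →
        ((∃ g : G, orderOf g = p * q) ↔ (∃ g : H, orderOf g = p * q))) := by
  refine ⟨fun p hp => ?_, fun p q _ _ _ => ?_⟩
  · rw [prime_dvd_card_iff_mem_spec hp, prime_dvd_card_iff_mem_spec hp, h]
  · exact Iff.of_eq (congrArg (fun S : Set ℕ => p * q ∈ S) h)

end General

section Semidirect
variable {N G : Type*} [CommGroup N] [Group G] {φ : G →* MulAut N}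

theorem sd_pow_left (x : N ⋊[φ] G) (k : ℕ) :
    (x ^ k).left = ∏ i ∈ Finset.range k, φ (x.right ^ i) x.left := by
  induction k with
  | zero => simp
  | succ k ih =>
    rw [pow_succ, SemidirectProduct.mul_left, ih, Finset.prod_range_succ]
    congr 2
    exact congrArg φ (map_pow SemidirectProduct.rightHom x k)

theorem sd_pow_right (x : N ⋊[φ] G) (k : ℕ) : (x ^ k).right = x.right ^ k :=
  map_pow SemidirectProduct.rightHom x k

theorem sd_orderOf (x : N ⋊[φ] G) (h : orderOf x.right ≠ 0) :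
    orderOf x = orderOf x.right *
      orderOf (∏ i ∈ Finset.range (orderOf x.right), φ (x.right ^ i) x.left) := by
  have hd : orderOf x.right ∣ orderOf x := orderOf_map_dvd SemidirectProduct.rightHom x
  rw [orderOf_eq_mul_orderOf_pow' h hd]
  congr 1
  rw [← orderOf_injective SemidirectProduct.inl (SemidirectProduct.inl_injective (φ := φ))]
  congr 1
  ext
  · rw [sd_pow_left]; simp
  · rw [sd_pow_right]; simp

/-- If `g` acts without non-trivial fixed points then every element over `g` has its order. -/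
theorem sd_orderOf_of_fpf (x : N ⋊[φ] G) (h : orderOf x.right ≠ 0)
    (hf : ∀ n : N, φ x.right n = n → n = 1) : orderOf x = orderOf x.right := by
  rw [sd_orderOf x h, hf (∏ i ∈ Finset.range (orderOf x.right), φ (x.right ^ i) x.left),
    orderOf_one, mul_one]
  obtain ⟨k, hk⟩ := Nat.exists_eq_succ_of_ne_zero h
  rw [map_prod]
  simp only [← MulAut.mul_apply, ← map_mul, ← pow_succ']
  have h1 := Finset.prod_range_succ' (fun i => φ (x.right ^ i) x.left) (orderOf x.right)
  have h2 := Finset.prod_range_succ (fun i => φ (x.right ^ i) x.left) (orderOf x.right)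
  rw [h1, pow_orderOf_eq_one, pow_zero] at h2
  exact mul_right_cancel h2

end Semidirect

section Sym

theorem mem_spec_perm (n m : ℕ) : m ∈ Set.range (orderOf : Equiv.Perm (Fin n) → ℕ) ↔
    ∃ C : Multiset ℕ, C.sum ≤ n ∧ (∀ a ∈ C, 2 ≤ a) ∧ C.lcm = m := by
  constructor
  · rintro ⟨g, rfl⟩
    exact ⟨g.cycleType, by simpa using g.sum_cycleType_le,
      fun a ha => Equiv.Perm.two_le_of_mem_cycleType ha, g.lcm_cycleType⟩
  · rintro ⟨C, h1, h2, rfl⟩
    obtain ⟨g, rfl⟩ := (Equiv.Perm.exists_with_cycleType_iff (Fin n) (m := C)).2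
      ⟨by simpa using h1, h2⟩
    exact ⟨g, g.lcm_cycleType.symm⟩

theorem mem_alt_iff_even {α : Type*} [Fintype α] [DecidableEq α] (g : Equiv.Perm α) :
    g ∈ alternatingGroup α ↔ Even (g.cycleType.sum + g.cycleType.card) := by
  rw [Equiv.Perm.mem_alternatingGroup, Equiv.Perm.sign_of_cycleType]
  exact neg_one_pow_eq_one_iff_even (by decide)

theorem mem_spec_alt (n m : ℕ) : m ∈ Set.range (orderOf : alternatingGroup (Fin n) → ℕ) ↔
    ∃ C : Multiset ℕ, C.sum ≤ n ∧ (∀ a ∈ C, 2 ≤ a) ∧ C.lcm = m ∧ Even (C.sum + C.card) := by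
  constructor
  · rintro ⟨⟨g, hg⟩, rfl⟩
    exact ⟨g.cycleType, by simpa using g.sum_cycleType_le,
      fun a ha => Equiv.Perm.two_le_of_mem_cycleType ha,
      by rw [Subgroup.orderOf_mk, g.lcm_cycleType], (mem_alt_iff_even g).1 hg⟩
  · rintro ⟨C, h1, h2, rfl, h3⟩
    obtain ⟨g, rfl⟩ := (Equiv.Perm.exists_with_cycleType_iff (Fin n) (m := C)).2
      ⟨by simpa using h1, h2⟩
    exact ⟨⟨g, (mem_alt_iff_even g).2 h3⟩, by rw [Subgroup.orderOf_mk, g.lcm_cycleType]⟩

/-- All lists with entries at least 2, sum at most `n` and length at most the fuel. -/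
def comps : ℕ → ℕ → List (List ℕ)
  | 0, _ => [[]]
  | f + 1, n => [] :: (List.range (n + 1)).flatMap
      (fun a => if 2 ≤ a then (comps f (n - a)).map (a :: ·) else [])

theorem mem_comps_iff (f n : ℕ) (l : List ℕ) :
    l ∈ comps f n ↔ l.length ≤ f ∧ l.sum ≤ n ∧ ∀ a ∈ l, 2 ≤ a := by
  induction f generalizing n l with
  | zero =>
    simp only [comps, List.mem_singleton, Nat.le_zero, List.length_eq_zero_iff]
    constructor
    · rintro rfl; simp
    · exact fun h => h.1
  | succ f ih =>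
    simp only [comps, List.mem_cons, List.mem_flatMap, List.mem_range]
    constructor
    · rintro (rfl | ⟨a, ha, h⟩)
      · simp
      · split_ifs at h with h2
        · obtain ⟨l', hl', rfl⟩ := List.mem_map.1 h
          obtain ⟨h3, h4, h5⟩ := (ih _ _).1 hl'
          refine ⟨by simp; omega, by simp; omega, ?_⟩
          intro b hb
          rcases List.mem_cons.1 hb with rfl | hb
          · exact h2
          · exact h5 b hb
        · simp at h
    · rintro ⟨h1, h2, h3⟩
      cases l with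
      | nil => left; rfl
      | cons a l =>
        right
        simp only [List.length_cons, List.sum_cons, List.mem_cons, forall_eq_or_imp] at h1 h2 h3
        refine ⟨a, by omega, ?_⟩
        rw [if_pos h3.1]
        exact List.mem_map.2 ⟨l, (ih _ _).2 ⟨by omega, by omega, h3.2⟩, rfl⟩

theorem length_le_sum_of_two_le (l : List ℕ) (h : ∀ a ∈ l, 2 ≤ a) : l.length ≤ l.sum := by
  induction l with
  | nil => simp
  | cons a l ih =>
    simp only [List.length_cons, List.sum_cons, List.mem_cons, forall_eq_or_imp] at h ⊢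
    have := ih h.2
    omega

theorem coe_lcm_eq (l : List ℕ) : (l : Multiset ℕ).lcm = l.foldr Nat.lcm 1 := by
  induction l with
  | nil => simp
  | cons a l ih => rw [← Multiset.cons_coe, Multiset.lcm_cons, ih]; rfl

/-- The element orders of the symmetric group. -/
def symOrders (n : ℕ) : List ℕ := (comps n n).map fun l => l.foldr Nat.lcm 1

/-- The element orders of the alternating group. -/
def altOrders (n : ℕ) : List ℕ :=
  ((comps n n).filter fun l => (l.sum + l.length) % 2 == 0).map fun l => l.foldr Nat.lcm 1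

theorem spec_perm_eq (n : ℕ) :
    Set.range (orderOf : Equiv.Perm (Fin n) → ℕ) = {m | m ∈ symOrders n} := by
  ext m
  rw [mem_spec_perm, Set.mem_setOf_eq, symOrders, List.mem_map]
  constructor
  · rintro ⟨C, h1, h2, rfl⟩
    induction C using Quotient.inductionOn with
    | h l =>
      simp only [Multiset.quot_mk_to_coe, Multiset.sum_coe, Multiset.mem_coe] at h1 h2 ⊢
      exact ⟨l, (mem_comps_iff _ _ _).2 ⟨(length_le_sum_of_two_le l h2).trans h1, h1, h2⟩,
        (coe_lcm_eq l).symm⟩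
  · rintro ⟨l, hl, rfl⟩
    obtain ⟨-, h1, h2⟩ := (mem_comps_iff _ _ _).1 hl
    exact ⟨l, by simpa using h1, by simpa using h2, coe_lcm_eq l⟩

theorem spec_alt_eq (n : ℕ) :
    Set.range (orderOf : alternatingGroup (Fin n) → ℕ) = {m | m ∈ altOrders n} := by
  ext m
  rw [mem_spec_alt, Set.mem_setOf_eq, altOrders, List.mem_map]
  constructor
  · rintro ⟨C, h1, h2, rfl, h3⟩
    induction C using Quotient.inductionOn with
    | h l =>
      simp only [Multiset.quot_mk_to_coe, Multiset.sum_coe, Multiset.mem_coe,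
        Multiset.coe_card] at h1 h2 h3 ⊢
      refine ⟨l, List.mem_filter.2
        ⟨(mem_comps_iff _ _ _).2 ⟨(length_le_sum_of_two_le l h2).trans h1, h1, h2⟩, ?_⟩,
        (coe_lcm_eq l).symm⟩
      simpa [Nat.even_iff] using h3
  · rintro ⟨l, hl, rfl⟩
    obtain ⟨hl, h3⟩ := List.mem_filter.1 hl
    obtain ⟨-, h1, h2⟩ := (mem_comps_iff _ _ _).1 hl
    refine ⟨l, by simpa using h1, by simpa using h2, coe_lcm_eq l, ?_⟩
    simpa [Nat.even_iff] using h3

theorem setOf_mem_list_eq {A B : List ℕ} (h1 : ∀ a ∈ A, a ∈ B) (h2 : ∀ a ∈ B, a ∈ A) :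
    {m | m ∈ A} = {m | m ∈ B} := Set.ext fun a => ⟨h1 a, h2 a⟩

theorem spec_alt5 : Set.range (orderOf : alternatingGroup (Fin 5) → ℕ) =
    {m | m ∈ [1, 2, 3, 5]} := by
  rw [spec_alt_eq]; exact setOf_mem_list_eq (by decide +kernel) (by decide +kernel)

theorem spec_alt6 : Set.range (orderOf : alternatingGroup (Fin 6) → ℕ) =
    {m | m ∈ [1, 2, 3, 4, 5]} := by
  rw [spec_alt_eq]; exact setOf_mem_list_eq (by decide +kernel) (by decide +kernel)

theorem spec_alt7 : Set.range (orderOf : alternatingGroup (Fin 7) → ℕ) =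
    {m | m ∈ [1, 2, 3, 4, 5, 6, 7]} := by
  rw [spec_alt_eq]; exact setOf_mem_list_eq (by decide +kernel) (by decide +kernel)

theorem spec_alt10 : Set.range (orderOf : alternatingGroup (Fin 10) → ℕ) =
    {m | m ∈ [1, 2, 3, 4, 5, 6, 7, 8, 9, 10, 12, 15, 21]} := by
  rw [spec_alt_eq]; exact setOf_mem_list_eq (by decide +kernel) (by decide +kernel)

theorem spec_perm8 : Set.range (orderOf : Equiv.Perm (Fin 8) → ℕ) =
    {m | m ∈ [1, 2, 3, 4, 5, 6, 7, 8, 10, 12, 15]} := by
  rw [spec_perm_eq]; exact setOf_mem_list_eq (by decide +kernel) (by decide +kernel)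

end Sym

end Cfsg.Agent.Perm
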