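import Mathlib

/-! The spherical triangle groups. -/

namespace Cfsg.Agent.Perm.Tri
open Subgroup MulAction

variable {G : Type*} [Group G]

theorem tri_orbit3 {X : Type*} [MulAction G X] {x y : G} (hx : x ^ 2 = 1) (hy : y ^ 3 = 1)
    (hz : (x * y) ^ 3 = 1) (p0 : X) (ho : x • y • p0 = p0) :
    ∃ l : List X, l.length = 4 ∧ p0 ∈ l ∧ ∀ s ∈ l, x • s ∈ l ∧ y • s ∈ l := by
  have rx : ∀ p : X, x • x • p = p := fun p => by
    simpa only [pow_succ, pow_zero, one_mul, mul_smul, one_smul] using congrArg (· • p) hx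
  have ry : ∀ p : X, y • y • y • p = p := fun p => by
    simpa only [pow_succ, pow_zero, one_mul, mul_smul, one_smul] using congrArg (· • p) hy
  have r1 : ∀ p : X, x • y • x • y • x • y • p = p := fun p => by
    simpa only [pow_succ, pow_zero, one_mul, mul_smul, one_smul] using congrArg (· • p) hz
  have r2 : ∀ p : X, y • x • y • x • y • x • p = p := fun p => smul_left_cancel x (r1 (x • p))
  obtain ⟨p1, ey0⟩ : ∃ p, y • p0 = p := ⟨_, rfl⟩
  have ex1 : x • p1 = p0 := by rw [← ey0]; exact ho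
  have ex0 : x • p0 = p1 := by
    have h : x • p1 = p0 := by rw [ex1]
    simpa only [smul_left_cancel_iff] using (rx p0).trans h.symm
  obtain ⟨p2, ey1⟩ : ∃ p, y • p1 = p := ⟨_, rfl⟩
  have ey2 : y • p2 = p0 := by
    have h : y • y • p0 = p2 := by rw [ey0, ey1]
    simpa only [smul_left_cancel_iff] using (ry p2).trans h.symm
  obtain ⟨p3, ex2⟩ : ∃ p, x • p2 = p := ⟨_, rfl⟩
  have ex3 : x • p3 = p2 := by
    have h : x • p2 = p3 := by rw [ex2]
    simpa only [smul_left_cancel_iff] using (rx p3).trans h.symm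
  have ey3 : y • p3 = p3 := by
    have h : x • y • x • y • x • p3 = p3 := by rw [ex3, ey2, ex0, ey1, ex2]
    simpa only [smul_left_cancel_iff] using (r1 p3).trans h.symm
  exact ⟨[p0, p1, p2, p3], rfl, by simp, by simp [ey0, ex1, ex0, ey1, ey2, ex2, ex3, ey3]⟩

theorem tri_orbit4 {X : Type*} [MulAction G X] {x y : G} (hx : x ^ 2 = 1) (hy : y ^ 3 = 1)
    (hz : (x * y) ^ 4 = 1) (p0 : X) (ho : x • y • p0 = p0) :
    ∃ l : List X, l.length = 6 ∧ p0 ∈ l ∧ ∀ s ∈ l, x • s ∈ l ∧ y • s ∈ l := by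
  have rx : ∀ p : X, x • x • p = p := fun p => by
    simpa only [pow_succ, pow_zero, one_mul, mul_smul, one_smul] using congrArg (· • p) hx
  have ry : ∀ p : X, y • y • y • p = p := fun p => by
    simpa only [pow_succ, pow_zero, one_mul, mul_smul, one_smul] using congrArg (· • p) hy
  have r1 : ∀ p : X, x • y • x • y • x • y • x • y • p = p := fun p => by
    simpa only [pow_succ, pow_zero, one_mul, mul_smul, one_smul] using congrArg (· • p) hz
  have r2 : ∀ p : X, y • x • y • x • y • x • y • x • p = p := fun p => smul_left_cancel x (r1 (x • p))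
  obtain ⟨p1, ey0⟩ : ∃ p, y • p0 = p := ⟨_, rfl⟩
  have ex1 : x • p1 = p0 := by rw [← ey0]; exact ho
  have ex0 : x • p0 = p1 := by
    have h : x • p1 = p0 := by rw [ex1]
    simpa only [smul_left_cancel_iff] using (rx p0).trans h.symm
  obtain ⟨p2, ey1⟩ : ∃ p, y • p1 = p := ⟨_, rfl⟩
  have ey2 : y • p2 = p0 := by
    have h : y • y • p0 = p2 := by rw [ey0, ey1]
    simpa only [smul_left_cancel_iff] using (ry p2).trans h.symm
  obtain ⟨p3, ex2⟩ : ∃ p, x • p2 = p := ⟨_, rfl⟩
  have ex3 : x • p3 = p2 := by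
    have h : x • p2 = p3 := by rw [ex2]
    simpa only [smul_left_cancel_iff] using (rx p3).trans h.symm
  obtain ⟨p4, ey3⟩ : ∃ p, y • p3 = p := ⟨_, rfl⟩
  obtain ⟨p5, ex4⟩ : ∃ p, x • p4 = p := ⟨_, rfl⟩
  have ex5 : x • p5 = p4 := by
    have h : x • p4 = p5 := by rw [ex4]
    simpa only [smul_left_cancel_iff] using (rx p5).trans h.symm
  have ey5 : y • p5 = p3 := by
    have h : x • y • x • y • x • y • x • p3 = p5 := by rw [ex3, ey2, ex0, ey1, ex2, ey3, ex4]
    simpa only [smul_left_cancel_iff] using (r1 p5).trans h.symm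
  have ey4 : y • p4 = p5 := by
    have h : y • y • p5 = p4 := by rw [ey5, ey3]
    simpa only [smul_left_cancel_iff] using (ry p4).trans h.symm
  exact ⟨[p0, p1, p2, p3, p4, p5], rfl, by simp, by simp [ey0, ex1, ex0, ey1, ey2, ex2, ex3, ey3, ex4, ex5, ey5, ey4]⟩

theorem tri_orbit5 {X : Type*} [MulAction G X] {x y : G} (hx : x ^ 2 = 1) (hy : y ^ 3 = 1)
    (hz : (x * y) ^ 5 = 1) (p0 : X) (ho : x • y • p0 = p0) :
    ∃ l : List X, l.length = 12 ∧ p0 ∈ l ∧ ∀ s ∈ l, x • s ∈ l ∧ y • s ∈ l := by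
  have rx : ∀ p : X, x • x • p = p := fun p => by
    simpa only [pow_succ, pow_zero, one_mul, mul_smul, one_smul] using congrArg (· • p) hx
  have ry : ∀ p : X, y • y • y • p = p := fun p => by
    simpa only [pow_succ, pow_zero, one_mul, mul_smul, one_smul] using congrArg (· • p) hy
  have r1 : ∀ p : X, x • y • x • y • x • y • x • y • x • y • p = p := fun p => by
    simpa only [pow_succ, pow_zero, one_mul, mul_smul, one_smul] using congrArg (· • p) hz
  have r2 : ∀ p : X, y • x • y • x • y • x • y • x • y • x • p = p := fun p => smul_left_cancel x (r1 (x • p))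
  obtain ⟨p1, ey0⟩ : ∃ p, y • p0 = p := ⟨_, rfl⟩
  have ex1 : x • p1 = p0 := by rw [← ey0]; exact ho
  have ex0 : x • p0 = p1 := by
    have h : x • p1 = p0 := by rw [ex1]
    simpa only [smul_left_cancel_iff] using (rx p0).trans h.symm
  obtain ⟨p2, ey1⟩ : ∃ p, y • p1 = p := ⟨_, rfl⟩
  have ey2 : y • p2 = p0 := by
    have h : y • y • p0 = p2 := by rw [ey0, ey1]
    simpa only [smul_left_cancel_iff] using (ry p2).trans h.symm
  obtain ⟨p3, ex2⟩ : ∃ p, x • p2 = p := ⟨_, rfl⟩
  have ex3 : x • p3 = p2 := by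
    have h : x • p2 = p3 := by rw [ex2]
    simpa only [smul_left_cancel_iff] using (rx p3).trans h.symm
  obtain ⟨p4, ey3⟩ : ∃ p, y • p3 = p := ⟨_, rfl⟩
  obtain ⟨p5, ex4⟩ : ∃ p, x • p4 = p := ⟨_, rfl⟩
  have ex5 : x • p5 = p4 := by
    have h : x • p4 = p5 := by rw [ex4]
    simpa only [smul_left_cancel_iff] using (rx p5).trans h.symm
  obtain ⟨p6, ey4⟩ : ∃ p, y • p4 = p := ⟨_, rfl⟩
  have ey6 : y • p6 = p3 := by
    have h : y • y • p3 = p6 := by rw [ey3, ey4]
    simpa only [smul_left_cancel_iff] using (ry p6).trans h.symm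
  obtain ⟨p7, ey5⟩ : ∃ p, y • p5 = p := ⟨_, rfl⟩
  have ex7 : x • p7 = p6 := by
    have h : y • x • y • x • y • x • y • x • y • p6 = p7 := by rw [ey6, ex3, ey2, ex0, ey1, ex2, ey3, ex4, ey5]
    simpa only [smul_left_cancel_iff] using (r2 p7).trans h.symm
  have ex6 : x • p6 = p7 := by
    have h : x • p7 = p6 := by rw [ex7]
    simpa only [smul_left_cancel_iff] using (rx p6).trans h.symm
  obtain ⟨p8, ey7⟩ : ∃ p, y • p7 = p := ⟨_, rfl⟩
  have ey8 : y • p8 = p5 := by
    have h : y • y • p5 = p8 := by rw [ey5, ey7]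
    simpa only [smul_left_cancel_iff] using (ry p8).trans h.symm
  obtain ⟨p9, ex8⟩ : ∃ p, x • p8 = p := ⟨_, rfl⟩
  have ex9 : x • p9 = p8 := by
    have h : x • p8 = p9 := by rw [ex8]
    simpa only [smul_left_cancel_iff] using (rx p9).trans h.symm
  obtain ⟨p10, ey9⟩ : ∃ p, y • p9 = p := ⟨_, rfl⟩
  obtain ⟨p11, ex10⟩ : ∃ p, x • p10 = p := ⟨_, rfl⟩
  have ex11 : x • p11 = p10 := by
    have h : x • p10 = p11 := by rw [ex10]
    simpa only [smul_left_cancel_iff] using (rx p11).trans h.symm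
  have ey11 : y • p11 = p9 := by
    have h : x • y • x • y • x • y • x • y • x • p9 = p11 := by rw [ex9, ey8, ex5, ey4, ex6, ey7, ex8, ey9, ex10]
    simpa only [smul_left_cancel_iff] using (r1 p11).trans h.symm
  have ey10 : y • p10 = p11 := by
    have h : y • y • p11 = p10 := by rw [ey11, ey9]
    simpa only [smul_left_cancel_iff] using (ry p10).trans h.symm
  exact ⟨[p0, p1, p2, p3, p4, p5, p6, p7, p8, p9, p10, p11], rfl, by simp, by simp [ey0, ex1, ex0, ey1, ey2, ex2, ex3, ey3, ex4, ex5, ey4, ey6, ey5, ex7, ex6, ey7, ey8, ex8, ex9, ey9, ex10, ex11, ey11, ey10]⟩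

theorem card_le_of_list [Finite G] {x y : G} (hx : x ^ 2 = 1) (hy : y ^ 3 = 1) (C : Subgroup G) (l : List (G ⧸ C))
    (h0 : ((1 : G) : G ⧸ C) ∈ l) (h : ∀ s ∈ l, x • s ∈ l ∧ y • s ∈ l) :
    Nat.card (closure ({x, y} : Set G)) ≤ l.length * Nat.card C := by
  classical
  have key : ∀ g ∈ closure ({x, y} : Set G), ∀ s ∈ l, g • s ∈ l := by
    intro g hg
    induction hg using closure_induction'' with
    | mem g hg => rcases hg with rfl | rfl <;> intro s hs; exacts [(h s hs).1, (h s hs).2]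
    | inv_mem g hg =>
      rcases hg with rfl | rfl <;> intro s hs
      · rw [show g⁻¹ = g from inv_eq_of_mul_eq_one_right (by rw [← pow_two, hx])]; exact (h s hs).1
      · rw [show g⁻¹ = g * g from inv_eq_of_mul_eq_one_right (by rw [← pow_three, hy]), mul_smul]
        exact (h _ (h s hs).2).2
    | one => simp
    | mul a b _ _ ha hb => intro s hs; rw [mul_smul]; exact ha _ (hb s hs)
  rw [Nat.card_congr (orbitProdStabilizerEquivGroup (closure ({x, y} : Set G)) ((1 : G) : G ⧸ C)).symm,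
    Nat.card_prod]
  refine Nat.mul_le_mul (le_trans ?_ (List.toFinset_card_le l)) ?_
  · rw [Nat.card_coe_set_eq, ← Set.ncard_coe_finset]
    refine Set.ncard_le_ncard ?_
    rintro _ ⟨g, rfl⟩
    exact Finset.mem_coe.2 (List.mem_toFinset.2 (key g g.2 _ h0))
  · refine Nat.card_le_card_of_injective (fun g => ⟨g.1.1, ?_⟩) ?_
    · have : (g.1.1 : G) ∈ stabilizer G ((1 : G) : G ⧸ C) := g.2
      rwa [stabilizer_quotient] at this
    · intro a b hab
      exact Subtype.ext (Subtype.ext (congrArg (fun z : C => (z : G)) hab))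

theorem tri_card [Finite G] {x y : G} (hx : x ^ 2 = 1) (hy : y ^ 3 = 1) {n N : ℕ} (hz : (x * y) ^ n = 1)
    (hn : (n = 3 ∧ N = 12) ∨ (n = 4 ∧ N = 24) ∨ (n = 5 ∧ N = 60)) :
    Nat.card (closure ({x, y} : Set G)) ≤ N := by
  have ho : x • y • ((1 : G) : G ⧸ zpowers (x * y)) = ((1 : G) : G ⧸ zpowers (x * y)) := by
    rw [← mul_smul, ← mem_stabilizer_iff, stabilizer_quotient]; exact mem_zpowers _
  have hc : Nat.card (zpowers (x * y)) ≤ n := by
    rw [Nat.card_zpowers]; exact orderOf_le_of_pow_eq_one (by omega) hz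
  rcases hn with ⟨rfl, rfl⟩ | ⟨rfl, rfl⟩ | ⟨rfl, rfl⟩
  · obtain ⟨l, h1, h2, h3⟩ := tri_orbit3 hx hy hz _ ho
    have := card_le_of_list hx hy _ l h2 h3
    rw [h1] at this; omega
  · obtain ⟨l, h1, h2, h3⟩ := tri_orbit4 hx hy hz _ ho
    have := card_le_of_list hx hy _ l h2 h3
    rw [h1] at this; omega
  · obtain ⟨l, h1, h2, h3⟩ := tri_orbit5 hx hy hz _ ho
    have := card_le_of_list hx hy _ l h2 h3
    rw [h1] at this; omega

theorem exists_hom_pair {A : Type*} [Group A] [Finite A] [Finite G] {a b : A} {x y : G}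
    (hab : closure ({a, b} : Set A) = ⊤)
    (h : Nat.card (closure ({(a, x), (b, y)} : Set (A × G))) ≤ Nat.card A) :
    ∃ φ : A →* G, φ a = x ∧ φ b = y := by
  set D := closure ({(a, x), (b, y)} : Set (A × G))
  have hs : Function.Surjective ((MonoidHom.fst A G).comp D.subtype) := by
    rw [← MonoidHom.range_eq_top, MonoidHom.range_comp, range_subtype, MonoidHom.map_closure, ← hab]
    simp [Set.image_insert_eq]
  let e := MulEquiv.ofBijective _ (hs.bijective_of_nat_card_le h)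
  have key : ∀ d : D, ((MonoidHom.snd A G).comp (D.subtype.comp e.symm.toMonoidHom)) d.1.1 = d.1.2 := by
    intro d
    have : e.symm d.1.1 = d := by rw [MulEquiv.symm_apply_eq]; rfl
    simp [this]
  exact ⟨_, key ⟨(a, x), subset_closure (by simp)⟩, key ⟨(b, y), subset_closure (by simp)⟩⟩

theorem range_eq_of_pair {A : Type*} [Group A] {a b : A} (hab : closure ({a, b} : Set A) = ⊤) (φ : A →* G) :
    φ.range = closure {φ a, φ b} := by
  rw [MonoidHom.range_eq_map, ← hab, MonoidHom.map_closure, Set.image_insert_eq, Set.image_singleton]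

theorem exists_hom_tri {A : Type*} [Group A] [Finite A] [Finite G] {a b : A} {x y : G} {n : ℕ}
    (hab : closure ({a, b} : Set A) = ⊤) (ha : a ^ 2 = 1) (hb : b ^ 3 = 1) (hc : (a * b) ^ n = 1)
    (hn : (n = 3 ∧ Nat.card A = 12) ∨ (n = 4 ∧ Nat.card A = 24) ∨ (n = 5 ∧ Nat.card A = 60))
    (hx : x ^ 2 = 1) (hy : y ^ 3 = 1) (hz : (x * y) ^ n = 1) : ∃ φ : A →* G, φ a = x ∧ φ b = y :=
  exists_hom_pair hab (tri_card (Prod.ext ha hx) (Prod.ext hb hy) (Prod.ext hc hz) hn)

/-- generators -/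
def a4 : alternatingGroup (Fin 4) := ⟨c[0, 1] * c[2, 3], Equiv.Perm.mem_alternatingGroup.2 (by decide +kernel)⟩
/-- generators -/
def b4 : alternatingGroup (Fin 4) := ⟨c[0, 1, 2], Equiv.Perm.mem_alternatingGroup.2 (by decide +kernel)⟩
/-- generators -/
def s4 : Equiv.Perm (Fin 4) := c[0, 1]
/-- generators -/
def t4 : Equiv.Perm (Fin 4) := c[1, 2, 3]
/-- generators -/
def a5 : alternatingGroup (Fin 5) := ⟨c[0, 1] * c[2, 3], Equiv.Perm.mem_alternatingGroup.2 (by decide +kernel)⟩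
/-- generators -/
def b5 : alternatingGroup (Fin 5) := ⟨c[0, 2, 4], Equiv.Perm.mem_alternatingGroup.2 (by decide +kernel)⟩

theorem card_A4 : Nat.card (alternatingGroup (Fin 4)) = 12 := by
  have := two_mul_nat_card_alternatingGroup (α := Fin 4)
  rw [Nat.card_perm, Nat.card_eq_fintype_card (α := Fin 4), Fintype.card_fin] at this
  simp only [Nat.factorial] at this; omega

theorem card_A5 : Nat.card (alternatingGroup (Fin 5)) = 60 := by
  have := two_mul_nat_card_alternatingGroup (α := Fin 5)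
  rw [Nat.card_perm, Nat.card_eq_fintype_card (α := Fin 5), Fintype.card_fin] at this
  simp only [Nat.factorial] at this; omega

theorem card_S4 : Nat.card (Equiv.Perm (Fin 4)) = 24 := by
  rw [Nat.card_perm, Nat.card_eq_fintype_card, Fintype.card_fin]; rfl

theorem order_a4 : orderOf a4 = 2 := orderOf_eq_prime (by decide +kernel) (by decide +kernel)
theorem order_b4 : orderOf b4 = 3 := orderOf_eq_prime (by decide +kernel) (by decide +kernel)
theorem order_ab4 : orderOf (a4 * b4) = 3 := orderOf_eq_prime (by decide +kernel) (by decide +kernel)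
theorem order_s4 : orderOf s4 = 2 := orderOf_eq_prime (by decide +kernel) (by decide +kernel)
theorem order_t4 : orderOf t4 = 3 := orderOf_eq_prime (by decide +kernel) (by decide +kernel)
theorem order_st4 : orderOf (s4 * t4) = 4 :=
  orderOf_eq_prime_pow (p := 2) (n := 1) (by decide +kernel) (by decide +kernel)
theorem order_a5 : orderOf a5 = 2 := orderOf_eq_prime (by decide +kernel) (by decide +kernel)
theorem order_b5 : orderOf b5 = 3 := orderOf_eq_prime (by decide +kernel) (by decide +kernel)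
theorem order_ab5 : orderOf (a5 * b5) = 5 :=
  haveI : Fact (Nat.Prime 5) := ⟨by norm_num⟩
  orderOf_eq_prime (by decide +kernel) (by decide +kernel)

theorem closure_A4 : closure ({a4, b4} : Set (alternatingGroup (Fin 4))) = ⊤ := by
  have : ∀ g : alternatingGroup (Fin 4), ∃ (i : Fin 3) (j : Fin 2) (k : Fin 3),
      g = b4 ^ (i : ℕ) * a4 ^ (j : ℕ) * b4 ^ (k : ℕ) := by decide +kernel
  rw [eq_top_iff]
  intro g _
  obtain ⟨i, j, k, rfl⟩ := this g
  have h1 : a4 ∈ closure ({a4, b4} : Set _) := subset_closure (by simp)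
  have h2 : b4 ∈ closure ({a4, b4} : Set _) := subset_closure (by simp)
  exact mul_mem (mul_mem (pow_mem h2 _) (pow_mem h1 _)) (pow_mem h2 _)

theorem closure_S4 : closure ({s4, t4} : Set (Equiv.Perm (Fin 4))) = ⊤ := by
  have : ∀ g : Equiv.Perm (Fin 4), ∃ (i : Fin 4) (j : Fin 3) (k : Fin 4),
      g = (s4 * t4) ^ (i : ℕ) * t4 ^ (j : ℕ) * (s4 * t4) ^ (k : ℕ) ∨
      g = (s4 * t4) ^ (i : ℕ) * t4 ^ (j : ℕ) * s4 * t4⁻¹ * (s4 * t4) ^ (k : ℕ) := by decide +kernel
  rw [eq_top_iff]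
  intro g _
  have h1 : s4 ∈ closure ({s4, t4} : Set _) := subset_closure (by simp)
  have h2 : t4 ∈ closure ({s4, t4} : Set _) := subset_closure (by simp)
  have h3 := mul_mem h1 h2
  obtain ⟨i, j, k, rfl | rfl⟩ := this g
  · exact mul_mem (mul_mem (pow_mem h3 _) (pow_mem h2 _)) (pow_mem h3 _)
  · exact mul_mem (mul_mem (mul_mem (mul_mem (pow_mem h3 _) (pow_mem h2 _)) h1) (inv_mem h2)) (pow_mem h3 _)

theorem simple_A5 : IsSimpleGroup (alternatingGroup (Fin 5)) :=
  alternatingGroup.isSimpleGroup (by simp)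

theorem closure_A5 : closure ({a5, b5} : Set (alternatingGroup (Fin 5))) = ⊤ := by
  haveI := simple_A5
  set H := closure ({a5, b5} : Set (alternatingGroup (Fin 5)))
  have h1 : a5 ∈ H := subset_closure (by simp)
  have h2 : b5 ∈ H := subset_closure (by simp)
  have e1 := order_a5 ▸ orderOf_dvd_natCard H h1
  have e2 := order_b5 ▸ orderOf_dvd_natCard H h2
  have e3 := order_ab5 ▸ orderOf_dvd_natCard H (mul_mem h1 h2)
  have e4 := H.card_mul_index
  rw [card_A5] at e4
  obtain ⟨k, hk⟩ : 30 ∣ Nat.card H := by omega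
  have : H.index = 1 ∨ H.index = 2 := by
    rw [hk, mul_assoc] at e4
    have : k * H.index = 2 := by omega
    exact (Nat.dvd_prime Nat.prime_two).1 (Dvd.intro_left _ this)
  rcases this with h | h
  · exact index_eq_one.1 h
  · rcases (normal_of_index_eq_two h).eq_bot_or_eq_top with h' | h'
    · rw [h', mem_bot] at h1; exact absurd h1 (by decide +kernel)
    · exact h'

theorem inj_A4 (φ : alternatingGroup (Fin 4) →* G) (h : φ a4 ≠ 1) : Function.Injective φ := by
  have : ∀ g : alternatingGroup (Fin 4), g ≠ 1 → ∃ k, a4 = k * g * k⁻¹ ∨ a4 = k * g * k⁻¹ * g⁻¹ := by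
    decide +kernel
  rw [injective_iff_map_eq_one]
  intro g hg
  by_contra hne
  obtain ⟨k, hk | hk⟩ := this g hne <;> exact h (by rw [hk]; simp [hg])

theorem inj_S4 (φ : Equiv.Perm (Fin 4) →* G) (h : φ (s4 * t4) ^ 2 ≠ 1) : Function.Injective φ := by
  have h1 : ∀ g : Equiv.Perm (Fin 4), g ≠ 1 → ∃ k w, (w = g ∨ w = k * g * k⁻¹ * g⁻¹) ∧
      w ∈ [c[0, 1] * c[2, 3], c[0, 2] * c[1, 3], c[0, 3] * c[1, 2]] := by
    simp only [List.mem_cons, List.not_mem_nil, or_false, or_and_right, exists_or, exists_eq_left]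
    decide +kernel
  have h2 : ∀ w ∈ [c[0, 1] * c[2, 3], c[0, 2] * c[1, 3], c[0, 3] * c[1, 2]], ∃ k : Equiv.Perm (Fin 4),
      (s4 * t4) ^ 2 = k * w * k⁻¹ := by decide +kernel
  rw [injective_iff_map_eq_one]
  intro g hg
  by_contra hne
  obtain ⟨k, w, hw, hw'⟩ := h1 g hne
  obtain ⟨l, hl⟩ := h2 w hw'
  apply h
  rw [← map_pow, hl]
  rcases hw with rfl | rfl <;> simp [hg]

theorem inj_A5 (φ : alternatingGroup (Fin 5) →* G) (h : φ a5 ≠ 1) : Function.Injective φ := by
  haveI := simple_A5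
  rw [← MonoidHom.ker_eq_bot_iff]
  refine φ.normal_ker.eq_bot_or_eq_top.resolve_right fun h' => h ?_
  rw [← MonoidHom.mem_ker, h']; trivial

theorem iso_of_inj {A : Type*} [Group A] {a b : A} (hab : closure ({a, b} : Set A) = ⊤) (φ : A →* G)
    (h : Function.Injective φ) : Nonempty (closure ({φ a, φ b} : Set G) ≃* A) :=
  ⟨((MonoidHom.ofInjective h).trans (MulEquiv.subgroupCongr (range_eq_of_pair hab φ))).symm⟩

theorem tri_A4 [Finite G] {x y : G} (hx : x ^ 2 = 1) (hy : y ^ 3 = 1) (hz : (x * y) ^ 3 = 1) (h : x ≠ 1) :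
    Nonempty (closure ({x, y} : Set G) ≃* alternatingGroup (Fin 4)) := by
  obtain ⟨φ, rfl, rfl⟩ := exists_hom_tri closure_A4 (by decide +kernel) (by decide +kernel) (by decide +kernel)
    (Or.inl ⟨rfl, card_A4⟩) hx hy hz
  exact iso_of_inj closure_A4 φ (inj_A4 φ h)

theorem tri_S4 [Finite G] {x y : G} (hx : x ^ 2 = 1) (hy : y ^ 3 = 1) (hz : (x * y) ^ 4 = 1)
    (h : (x * y) ^ 2 ≠ 1) : Nonempty (closure ({x, y} : Set G) ≃* Equiv.Perm (Fin 4)) := by
  obtain ⟨φ, rfl, rfl⟩ := exists_hom_tri closure_S4 (by decide +kernel) (by decide +kernel) (by decide +kernel)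
    (Or.inr (Or.inl ⟨rfl, card_S4⟩)) hx hy hz
  exact iso_of_inj closure_S4 φ (inj_S4 φ (by rwa [map_mul]))

theorem tri_A5 [Finite G] {x y : G} (hx : x ^ 2 = 1) (hy : y ^ 3 = 1) (hz : (x * y) ^ 5 = 1) (h : x ≠ 1) :
    Nonempty (closure ({x, y} : Set G) ≃* alternatingGroup (Fin 5)) := by
  obtain ⟨φ, rfl, rfl⟩ := exists_hom_tri closure_A5 (by decide +kernel) (by decide +kernel) (by decide +kernel)
    (Or.inr (Or.inr ⟨rfl, card_A5⟩)) hx hy hz
  exact iso_of_inj closure_A5 φ (inj_A5 φ h)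

theorem gens_of_iso {A : Type*} [Group A] {a b : A} (hab : closure ({a, b} : Set A) = ⊤) {H : Subgroup G}
    (e : H ≃* A) : ∃ x y : G, H = closure {x, y} ∧ orderOf x = orderOf a ∧ orderOf y = orderOf b ∧
      orderOf (x * y) = orderOf (a * b) := by
  let φ : A →* G := H.subtype.comp e.symm.toMonoidHom
  have hφ : Function.Injective φ := H.subtype_injective.comp e.symm.injective
  refine ⟨φ a, φ b, ?_, orderOf_injective φ hφ _, orderOf_injective φ hφ _, ?_⟩
  · rw [← range_eq_of_pair hab, MonoidHom.range_comp, MonoidHom.range_eq_top.2 e.symm.surjective,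
      ← MonoidHom.range_eq_map, range_subtype]
  · rw [← map_mul, orderOf_injective φ hφ]

theorem orders_A4 (g : alternatingGroup (Fin 4)) : orderOf g ∣ 2 ∨ orderOf g ∣ 3 := by
  simp only [orderOf_dvd_iff_pow_eq_one]; revert g; decide +kernel

theorem orders_S4 (g : Equiv.Perm (Fin 4)) : orderOf g ∣ 4 ∨ orderOf g ∣ 3 := by
  simp only [orderOf_dvd_iff_pow_eq_one]; revert g; decide +kernel

theorem orders_A5 (g : alternatingGroup (Fin 5)) : orderOf g ∣ 2 ∨ orderOf g ∣ 3 ∨ orderOf g ∣ 5 := by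
  simp only [orderOf_dvd_iff_pow_eq_one]; revert g; decide +kernel

theorem A4_le_S4 : Nonempty (closure ({(s4 * t4) ^ 2, t4} : Set (Equiv.Perm (Fin 4))) ≃* alternatingGroup (Fin 4)) :=
  tri_A4 (by decide +kernel) (by decide +kernel) (by decide +kernel) (by decide +kernel)

theorem A4_le_A5 : Nonempty (closure ({a5, ⟨c[0, 1, 2], Equiv.Perm.mem_alternatingGroup.2 (by decide +kernel)⟩} : Set (alternatingGroup (Fin 5))) ≃*
    alternatingGroup (Fin 4)) :=
  tri_A4 (by decide +kernel) (by decide +kernel) (by decide +kernel) (by decide +kernel)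

end Cfsg.Agent.Perm.Tri

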