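import Cfsg.Agent.Lib.Perm.GL2g

/-! Tori of `SL₂` and their normalisers; centralisers in `PSL₂`. -/

namespace Cfsg.Agent.Perm.GL2

open Matrix
open Matrix.SpecialLinearGroup (toGL toGL_injective)

section General
variable {G : Type*} [Group G]

theorem sum_card_cent [Fintype G] :
    ∑ g : G, Nat.card (cent g) = Nat.card (ConjClasses G) * Nat.card G := by
  classical
  rw [← card_comm_eq_card_conjClasses_mul_card, ← Nat.card_sigma]
  exact Nat.card_congr
    { toFun := fun x => ⟨(x.1, x.2), (mem_cent.1 x.2.2).symm⟩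
      invFun := fun p => ⟨p.1.1, p.1.2, mem_cent.2 p.2.symm⟩
      left_inv := fun _ => rfl
      right_inv := fun _ => rfl }

theorem card_eq_two_mul_inf {T : Subgroup G} (hT : T.index = 2) {H : Subgroup G} {w : G}
    (hw : w ∈ H) (hw' : w ∉ T) : Nat.card H = 2 * Nat.card (T ⊓ H : Subgroup G) := by
  haveI := T.normal_of_index_eq_two hT
  have h1 : T.relIndex H ∣ 2 := hT ▸ T.relIndex_dvd_index_of_normal H
  have h2 : T.relIndex H ≠ 1 := fun h => hw' (Subgroup.relIndex_eq_one.1 h hw)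
  have h3 : T.relIndex H = 2 := ((Nat.dvd_prime Nat.prime_two).1 h1).resolve_left h2
  rw [← (T.subgroupOf H).index_mul_card, ← Subgroup.relIndex, h3,
    ← Subgroup.inf_subgroupOf_right,
    Nat.card_congr (Subgroup.subgroupOfEquivOfLe inf_le_right).toEquiv]

/-- class number of a generalised dihedral or dicyclic group -/
theorem card_conjClasses_of_inverted [Finite G] {T : Subgroup G} (hT : T.index = 2)
    (hc : ∀ a ∈ T, ∀ b ∈ T, a * b = b * a) (hi : ∀ w, w ∉ T → ∀ t ∈ T, w * t * w⁻¹ = t⁻¹) :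
    2 * Nat.card (ConjClasses G) = Nat.card T + 3 * Nat.card {t : G // t ∈ T ∧ t * t = 1} := by
  classical
  haveI := Fintype.ofFinite G
  set k := Nat.card {t : G // t ∈ T ∧ t * t = 1} with hk
  have hG : Nat.card G = 2 * Nat.card T := by rw [← hT, T.index_mul_card]
  have h1 : ∀ g : G, Nat.card (cent g) = (if g ∈ T then Nat.card T else 2 * k) +
      if g ∈ T ∧ g * g = 1 then Nat.card T else 0 := by
    intro g
    by_cases hg : g ∈ T
    · by_cases h2 : g * g = 1
      · have : cent g = ⊤ := eq_top_iff.2 fun x _ => mem_cent.2 (by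
          by_cases hx : x ∈ T
          · exact hc x hx g hg
          · rw [← mul_inv_eq_iff_eq_mul, hi x hx g hg, inv_eq_iff_mul_eq_one, h2])
        rw [this, Subgroup.card_top, hG, if_pos hg, if_pos ⟨hg, h2⟩, two_mul]
      · have : cent g = T := by
          ext x
          refine ⟨fun h => ?_, fun h => mem_cent.2 (hc x h g hg)⟩
          by_contra hx
          have := hi x hx g hg
          rw [mem_cent.1 h, mul_inv_cancel_right, eq_inv_iff_mul_eq_one] at this
          exact h2 this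
        rw [this, if_pos hg, if_neg fun h => h2 h.2, add_zero]
    · rw [if_neg hg, if_neg fun h => hg h.1, add_zero,
        card_eq_two_mul_inf hT (mem_cent.2 rfl) hg, hk]
      congr 1
      refine Nat.card_congr (Equiv.subtypeEquivRight fun x => ?_)
      rw [Subgroup.mem_inf, mem_cent]
      refine and_congr_right fun hx => ?_
      rw [← eq_inv_iff_mul_eq_one, ← hi g hg x hx, eq_mul_inv_iff_mul_eq]
  have h2 := sum_card_cent (G := G)
  simp only [h1, Finset.sum_add_distrib, Finset.sum_ite, Finset.sum_const, smul_eq_mul,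
    mul_zero, add_zero] at h2
  have h3 : (Finset.univ.filter fun g => g ∈ T).card = Nat.card T := by
    rw [Nat.card_eq_fintype_card, Fintype.card_subtype]
  have h4 : (Finset.univ.filter fun g => g ∈ T ∧ g * g = 1).card = k := by
    rw [hk, Nat.card_eq_fintype_card, Fintype.card_subtype]
  have h5 : (Finset.univ.filter fun g => g ∉ T).card = Nat.card T := by
    have := Finset.card_filter_add_card_filter_not (s := Finset.univ) fun g => g ∈ T
    rw [h3, Finset.card_univ, ← Nat.card_eq_fintype_card, hG] at this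
    omega
  rw [h3, h4, h5, hG] at h2
  refine Nat.eq_of_mul_eq_mul_right (Nat.card_pos (α := T)) ?_
  linarith

theorem card_conjClass_eq_index [Finite G] (g : G) :
    Nat.card (ConjClasses.mk g).carrier = (cent g).index := by
  rw [← Char.card_isConj_eq_index]
  exact Nat.card_congr (Equiv.subtypeEquivRight fun x => by
    rw [ConjClasses.mem_carrier_iff_mk_eq, ConjClasses.mk_eq_mk_iff_isConj, isConj_comm])

theorem cent_conj (g x : G) : cent (x * g * x⁻¹) = (cent g).map (MulAut.conj x).toMonoidHom := by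
  ext y
  rw [Subgroup.mem_map_equiv, mem_cent, mem_cent, MulAut.conj_symm_apply]
  constructor
  · intro h
    calc x⁻¹ * y * x * g = x⁻¹ * (y * (x * g * x⁻¹)) * x := by group
      _ = _ := by rw [h]; group
  · intro h
    calc y * (x * g * x⁻¹) = x * (x⁻¹ * y * x * g) * x⁻¹ := by group
      _ = _ := by rw [h]; group

theorem card_cent_of_isConj {g h : G} (hc : IsConj g h) : Nat.card (cent g) = Nat.card (cent h) := by
  obtain ⟨x, rfl⟩ := isConj_iff.1 hc
  rw [cent_conj, Subgroup.card_map_of_injective (MulAut.conj x).injective]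

theorem isCyclic_cent_of_isConj {g h : G} (hc : IsConj g h) (hh : IsCyclic (cent h)) :
    IsCyclic (cent g) := by
  obtain ⟨x, rfl⟩ := isConj_iff.1 hc
  rw [cent_conj] at hh
  exact (((cent g).equivMapOfInjective _ (MulAut.conj x).injective).isCyclic).2 hh

theorem index_cent_of_isConj [Finite G] {g h : G} (hc : IsConj g h) :
    (cent g).index = (cent h).index := by
  have h1 := (cent g).index_mul_card
  rw [← (cent h).index_mul_card, card_cent_of_isConj hc] at h1
  exact Nat.eq_of_mul_eq_mul_right Nat.card_pos h1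

end General

variable {F : Type*} [Field F]

/-- regular semisimple matrices -/
def IsReg (m : M2 F) : Prop := m.trace ^ 2 ≠ 4 * m.det

theorem IsReg.not_scal {m : M2 F} (h : IsReg m) : ¬ IsScal m := fun ⟨h1, h2, h3⟩ =>
  h (by rw [trace_fin_two, det_fin_two, h1, h3]; ring)

theorem IsReg.not_jord {m : M2 F} (h : IsReg m) : ¬ IsJord m := fun ⟨h1, h2, h3⟩ =>
  h (by rw [trace_fin_two, det_fin_two, h1, h2]; ring)

theorem IsDiag.isReg {m : M2 F} (h : IsDiag m) : IsReg m := fun h' => by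
  rw [trace_fin_two, det_fin_two, h.1] at h'
  exact h.2.2 (sub_eq_zero.1 (pow_eq_zero_iff two_ne_zero |>.1 (by linear_combination h')))

theorem IsEll.isReg [Finite F] {m : M2 F} (h : IsEll m) : IsReg m := fun h' => by
  by_cases h2 : (2 : F) = 0
  · refine h.ne_adj ?_
    have : m.trace = 0 := pow_eq_zero_iff two_ne_zero |>.1 (by linear_combination h' + 2 * m.det * h2)
    rw [adj_eq, this, zero_smul, zero_sub, eq_neg_iff_add_eq_zero, ← two_smul F, h2, zero_smul]
  · refine isEll_iff.1 h (m.trace / 2) ?_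
    field_simp
    linear_combination -h'

theorem IsReg.of_trace_det {m m' : M2 F} (h : IsReg m) (h1 : m'.trace = m.trace)
    (h2 : m'.det = m.det) : IsReg m' := by rwa [IsReg, h1, h2]

theorem IsReg.of_isConj {g h : SL2 F} (hg : IsReg (g : M2 F)) (hc : IsConj g h) :
    IsReg (h : M2 F) :=
  hg.of_trace_det (trace_eq_of_isConj_SL hc).symm (h.2.trans g.2.symm)

theorem IsReg.of_comm {m x : M2 F} (h : IsReg m) (hx : x * m = m * x) (hs : ¬ IsScal x) :
    IsReg x := by
  obtain ⟨a, b, rfl⟩ := (comm_iff h.not_scal x).1 hx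
  have hb : b ≠ 0 := by rintro rfl; exact hs (isScal_iff.2 ⟨a, by simp⟩)
  intro h'
  rw [trace_comb, det_comb] at h'
  exact h (mul_left_cancel₀ (pow_ne_zero 2 hb) (by linear_combination h'))

theorem IsReg.eq_or_eq_adj {m x y : M2 F} (h : IsReg m) (hx : x * m = m * x) (hy : y * m = m * y)
    (h1 : y.trace = x.trace) (h2 : y.det = x.det) : y = x ∨ y = x.adjugate := by
  obtain ⟨a, b, rfl⟩ := (comm_iff h.not_scal x).1 hx
  obtain ⟨a', b', rfl⟩ := (comm_iff h.not_scal y).1 hy
  rw [adj_eq, trace_comb]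
  rw [trace_comb, trace_comb] at h1
  rw [det_comb, det_comb] at h2
  have h3 : (b' - b) * (b' + b) = 0 := by
    refine mul_right_cancel₀ (sub_ne_zero.2 h) ?_
    linear_combination (2 * a' + b' * m.trace + 2 * a + b * m.trace) * h1 - 4 * h2
  have key : a' = a + b * m.trace → b' = -b → a' • (1 : M2 F) + b' • m =
      (2 * a + b * m.trace) • (1 : M2 F) - (a • 1 + b • m) := by
    rintro rfl rfl
    module
  by_cases h4 : (2 : F) = 0
  · have h5 : b' = b := by
      rcases mul_eq_zero.1 h3 with h | h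
      · linear_combination h
      · linear_combination h - b * h4
    subst h5
    have h6 : (a' - a) * (a' + a + b' * m.trace) = 0 := by linear_combination h2
    rcases mul_eq_zero.1 h6 with h | h
    · rw [sub_eq_zero.1 h]; exact Or.inl rfl
    · exact Or.inr (key (by linear_combination h - (a + b' * m.trace) * h4)
        (by linear_combination b' * h4))
  · rcases mul_eq_zero.1 h3 with h | h
    · obtain rfl := sub_eq_zero.1 h
      obtain rfl : a' = a := mul_left_cancel₀ h4 (by linear_combination h1)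
      exact Or.inl rfl
    · obtain rfl : b' = -b := by linear_combination h
      exact Or.inr (key (mul_left_cancel₀ h4 (by linear_combination h1)) rfl)

theorem IsReg.cases {g : SL2 F} (hg : IsReg (g : M2 F)) :
    IsEll (g : M2 F) ∨ ∃ h : SL2 F, IsConj g h ∧ IsDiag (h : M2 F) := by
  rcases classify_SL g with h | h | ⟨h, h1, h2⟩ | h
  · exact (hg.not_scal h).elim
  · exact Or.inl h
  · exact ((hg.of_isConj h1).not_jord h2).elim
  · exact Or.inr h

theorem classify_reg [Finite F] (g : SL2 F) : IsScal (g : M2 F) ∨ IsReg (g : M2 F) ∨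
    ∃ h : SL2 F, IsConj g h ∧ IsJord (h : M2 F) := by
  rcases classify_SL g with h | h | h | ⟨h, h1, h2⟩
  · exact Or.inl h
  · exact Or.inr (Or.inl h.isReg)
  · exact Or.inr (Or.inr h)
  · exact Or.inr (Or.inl (h2.isReg.of_isConj h1.symm))

theorem IsReg.not_conj_jord {g : SL2 F} (hg : IsReg (g : M2 F)) :
    ¬ ∃ h : SL2 F, IsConj g h ∧ IsJord (h : M2 F) :=
  fun ⟨_, h1, h2⟩ => (hg.of_isConj h1).not_jord h2

theorem IsReg.isConj_SL [Finite F] {g h : SL2 F} (hg : IsReg (g : M2 F))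
    (ht : (g : M2 F).trace = (h : M2 F).trace) : IsConj g h := by
  rcases hg.cases with h1 | ⟨k, h1, h2⟩
  · exact h1.isConj_SL ht
  · exact h1.trans (h2.isConj_SL (hg.of_trace_det ht.symm (h.2.trans g.2.symm)).not_scal
      ((trace_eq_of_isConj_SL h1).symm.trans ht))

theorem coe_inv_SL (g : SL2 F) : ((g⁻¹ : SL2 F) : M2 F) = (g : M2 F).adjugate := rfl

theorem trace_inv_SL (g : SL2 F) : ((g⁻¹ : SL2 F) : M2 F).trace = (g : M2 F).trace := by
  rw [coe_inv_SL, adjugate_fin_two, trace_fin_two, trace_fin_two]; simp [add_comm]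

theorem mem_cent_coe {g x : SL2 F} : x ∈ cent g ↔ (x : M2 F) * g = g * x :=
  mem_cent.trans ⟨fun h => congrArg Subtype.val h, fun h => Subtype.ext h⟩

theorem cent_comm_SL {g : SL2 F} (hg : ¬ IsScal (g : M2 F)) {x y : SL2 F} (hx : x ∈ cent g)
    (hy : y ∈ cent g) : x * y = y * x :=
  Subtype.ext (comm_comm hg (mem_cent_coe.1 hx) (mem_cent_coe.1 hy))

theorem cent_eq_cent_SL {g : SL2 F} (hg : ¬ IsScal (g : M2 F)) {c : SL2 F} (hc : c ∈ cent g)
    (hs : ¬ IsScal (c : M2 F)) : cent c = cent g := by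
  rw [cent_SL, cent_SL, cent_eq_cent (e := toGL g) hg (mem_cent_SL.1 hc) hs]

theorem scal_mem_cent_SL {z : SL2 F} (hz : IsScal (z : M2 F)) (g : SL2 F) : z ∈ cent g :=
  mem_cent_coe.2 (hz.comm _).symm

theorem IsReg.of_mem_cent {g c : SL2 F} (hg : IsReg (g : M2 F)) (hc : c ∈ cent g)
    (hs : ¬ IsScal (c : M2 F)) : IsReg (c : M2 F) := hg.of_comm (mem_cent_coe.1 hc) hs

theorem IsReg.eq_or_eq_inv {g x y : SL2 F} (hg : IsReg (g : M2 F)) (hx : x ∈ cent g)
    (hy : y ∈ cent g) (h : IsConj x y) : y = x ∨ y = x⁻¹ :=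
  (hg.eq_or_eq_adj (mem_cent_coe.1 hx) (mem_cent_coe.1 hy) (trace_eq_of_isConj_SL h).symm
    (y.2.trans x.2.symm)).imp Subtype.ext Subtype.ext

theorem isScal_of_mul_self {g : SL2 F} (h : IsScal ((g * g : SL2 F) : M2 F)) :
    IsScal (g : M2 F) ∨ (g : M2 F).trace = 0 := by
  by_contra hc
  push Not at hc
  obtain ⟨a, ha⟩ := isScal_iff.1 h
  rw [Matrix.SpecialLinearGroup.coe_mul, cayley, g.2] at ha
  refine hc.2 (comb_inj hc.1 (a := -1) (b := (g : M2 F).trace) (a' := a) (b' := 0) ?_).2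
  rw [zero_smul, add_zero, ← ha]; module

theorem mul_self_of_trace {g : SL2 F} (h : (g : M2 F).trace = 0) : g * g = -1 :=
  Subtype.ext (by rw [Matrix.SpecialLinearGroup.coe_mul, cayley, g.2, h]; simp)

theorem trace_of_mul_self {g : SL2 F} (hs : ¬ IsScal (g : M2 F)) (h : g * g = -1) :
    (g : M2 F).trace = 0 :=
  (isScal_of_mul_self (by rw [h]; exact isScal_SL_iff.2 (Or.inr rfl))).resolve_left hs

theorem IsReg.mul_self_ne {g : SL2 F} (hg : IsReg (g : M2 F)) : g * g ≠ 1 := fun h => by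
  have h1 := (isScal_of_mul_self (g := g) (by rw [h]; exact isScal_SL_iff.2 (Or.inl rfl))).resolve_left
    hg.not_scal
  have h2 := mul_self_of_trace h1
  rw [h] at h2
  have h3 : (2 : F) = 0 := by
    by_contra h3; exact neg_one_ne_one_SL h3 h2.symm
  exact hg (by rw [h1]; linear_combination -2 * (g : M2 F).det * h3)

theorem IsReg.ne_inv {g : SL2 F} (hg : IsReg (g : M2 F)) : g⁻¹ ≠ g := fun h =>
  hg.mul_self_ne (by nth_rewrite 1 [← h]; exact inv_mul_cancel g)

theorem isScal_of_mul_self_eq_one (h2 : (2 : F) ≠ 0) {g : SL2 F} (h : g * g = 1) :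
    IsScal (g : M2 F) := by
  refine (isScal_of_mul_self (by rw [h]; exact isScal_SL_iff.2 (Or.inl rfl))).resolve_right
    fun h1 => neg_one_ne_one_SL h2 ?_
  rw [← mul_self_of_trace h1, h]

theorem IsReg.inverts {g w : SL2 F} (hg : IsReg (g : M2 F)) (hw : w * g * w⁻¹ = g⁻¹) {c : SL2 F}
    (hc : c ∈ cent g) : w * c * w⁻¹ = c⁻¹ := by
  obtain ⟨a, b, h⟩ := (comm_iff hg.not_scal _).1 (mem_cent_coe.1 hc)
  have hw' := congrArg Subtype.val hw
  have h1 : (w : M2 F) * (w⁻¹ : SL2 F) = 1 := by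
    rw [← Matrix.SpecialLinearGroup.coe_mul, mul_inv_cancel]; rfl
  apply Subtype.ext
  simp only [Matrix.SpecialLinearGroup.coe_mul, coe_inv_SL c, coe_inv_SL g] at hw' ⊢
  rw [h, mul_add, add_mul, mul_smul_comm, smul_mul_assoc, mul_one, h1, mul_smul_comm,
    smul_mul_assoc, hw']
  apply m2_ext <;> simp [adjugate_fin_two]

theorem IsReg.mem_normalizer_iff {g w : SL2 F} (hg : IsReg (g : M2 F)) :
    w ∈ Subgroup.normalizer (cent g : Set (SL2 F)) ↔ w ∈ cent g ∨ w * g * w⁻¹ = g⁻¹ := by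
  constructor
  · intro h
    refine (hg.eq_or_eq_inv (mem_cent.2 rfl) ((Subgroup.mem_normalizer_iff.1 h g).1
      (mem_cent.2 rfl)) (isConj_iff.2 ⟨w, rfl⟩)).imp_left fun h => ?_
    rw [mem_cent, ← mul_inv_eq_iff_eq_mul, h]
  · rintro (h | h)
    · exact Subgroup.le_normalizer h
    · refine Subgroup.mem_normalizer_iff.2 fun c => ⟨fun hc => ?_, fun hc => ?_⟩
      · rw [hg.inverts h hc]; exact inv_mem hc
      · have h' : w⁻¹ * g * w⁻¹⁻¹ = g⁻¹ := by
          have : w⁻¹ * g⁻¹ * w = g := by rw [← h]; group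
          calc w⁻¹ * g * w⁻¹⁻¹ = (w⁻¹ * g⁻¹ * w)⁻¹ := by group
            _ = g⁻¹ := by rw [this]
        have := hg.inverts h' hc
        rw [show w⁻¹ * (w * c * w⁻¹) * w⁻¹⁻¹ = c by group] at this
        rw [this]; exact inv_mem hc

theorem IsReg.inverts_of_mem {g w : SL2 F} (hg : IsReg (g : M2 F))
    (hw : w ∈ Subgroup.normalizer (cent g : Set (SL2 F))) (hw' : w ∉ cent g) {c : SL2 F}
    (hc : c ∈ cent g) : w * c * w⁻¹ = c⁻¹ :=
  hg.inverts ((hg.mem_normalizer_iff.1 hw).resolve_left hw') hc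

theorem IsReg.not_mem_of_inverts {g w : SL2 F} (hg : IsReg (g : M2 F))
    (hw : w * g * w⁻¹ = g⁻¹) : w ∉ cent g := fun h => by
  rw [mem_cent.1 h, mul_inv_cancel_right] at hw
  exact hg.ne_inv hw.symm

theorem IsReg.trace_of_inverts {g w : SL2 F} (hg : IsReg (g : M2 F))
    (hw : w * g * w⁻¹ = g⁻¹) : (w : M2 F).trace = 0 := by
  have h1 := hg.not_mem_of_inverts hw
  have h2 : w * w ∈ cent g := by
    rw [mem_cent, ← mul_inv_eq_iff_eq_mul]
    calc w * w * g * (w * w)⁻¹ = w * (w * g * w⁻¹) * w⁻¹ := by group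
      _ = w * g⁻¹ * w⁻¹ := by rw [hw]
      _ = (w * g * w⁻¹)⁻¹ := by group
      _ = g := by rw [hw, inv_inv]
  by_cases h3 : IsScal ((w * w : SL2 F) : M2 F)
  · exact (isScal_of_mul_self h3).resolve_left fun h => h1 (scal_mem_cent_SL h g)
  · rw [← cent_eq_cent_SL hg.not_scal h2 h3] at h1
    exact (h1 (mem_cent.2 (mul_assoc _ _ _).symm)).elim

theorem IsReg.exists_inverts [Finite F] {g : SL2 F} (hg : IsReg (g : M2 F)) :
    ∃ w : SL2 F, w * g * w⁻¹ = g⁻¹ :=
  isConj_iff.1 (hg.isConj_SL (trace_inv_SL g).symm)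

theorem IsReg.index_subgroupOf [Finite F] {g : SL2 F} (hg : IsReg (g : M2 F)) :
    ((cent g).subgroupOf (Subgroup.normalizer (cent g : Set (SL2 F)))).index = 2 := by
  obtain ⟨w, hw⟩ := hg.exists_inverts
  refine Subgroup.index_eq_two_iff.2 ⟨⟨w, hg.mem_normalizer_iff.2 (Or.inr hw)⟩, fun b => ?_⟩
  simp only [Subgroup.mem_subgroupOf, Subgroup.coe_mul]
  by_cases hb : (b : SL2 F) ∈ cent g
  · exact Or.inr ⟨hb, fun h => hg.not_mem_of_inverts hw ((Subgroup.mul_mem_cancel_left _ hb).1 h)⟩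
  · refine Or.inl ⟨?_, hb⟩
    have h1 := hg.inverts_of_mem b.2 hb (mem_cent.2 rfl)
    rw [mem_cent, ← mul_inv_eq_iff_eq_mul]
    calc (b : SL2 F) * w * g * (b * w)⁻¹ = b * (w * g * w⁻¹) * (b : SL2 F)⁻¹ := by group
      _ = ((b : SL2 F) * g * (b : SL2 F)⁻¹)⁻¹ := by rw [hw]; group
      _ = g := by rw [h1, inv_inv]

theorem IsReg.card_normalizer [Finite F] {g : SL2 F} (hg : IsReg (g : M2 F)) :
    Nat.card (Subgroup.normalizer (cent g : Set (SL2 F))) = 2 * Nat.card (cent g) := by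
  rw [← ((cent g).subgroupOf _).index_mul_card, hg.index_subgroupOf,
    Nat.card_congr (Subgroup.subgroupOfEquivOfLe Subgroup.le_normalizer).toEquiv]

theorem IsReg.isCyclic_cent [Finite F] {g : SL2 F} (hg : IsReg (g : M2 F)) : IsCyclic (cent g) := by
  rcases hg.cases with h | ⟨h, h1, h2⟩
  · exact h.isCyclic_cent_SL
  · refine isCyclic_cent_of_isConj h1 ?_
    rw [h2.cent_eq_range]; exact isCyclic_range_torS

theorem IsReg.card_cent [Fintype F] {g : SL2 F} (hg : IsReg (g : M2 F)) :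
    Nat.card (cent g) = Fintype.card F + 1 ∨ Nat.card (cent g) = Fintype.card F - 1 := by
  rcases hg.cases with h | ⟨h, h1, h2⟩
  · exact Or.inl h.card_cent_SL
  · exact Or.inr ((card_cent_of_isConj h1).trans h2.card_cent_SL)

theorem IsReg.card_conjClasses_normalizer [Finite F] (h2 : (2 : F) ≠ 0) {g : SL2 F}
    (hg : IsReg (g : M2 F)) :
    2 * Nat.card (ConjClasses (Subgroup.normalizer (cent g : Set (SL2 F)))) =
      Nat.card (cent g) + 6 := by
  rw [card_conjClasses_of_inverted hg.index_subgroupOf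
    (fun a ha b hb => Subtype.ext (cent_comm_SL hg.not_scal ha hb))
    (fun w hw t ht => Subtype.ext (hg.inverts_of_mem w.2 hw ht)),
    Nat.card_congr (Subgroup.subgroupOfEquivOfLe Subgroup.le_normalizer).toEquiv]
  congr 1
  have : Nat.card {t : Subgroup.normalizer (cent g : Set (SL2 F)) //
      t ∈ (cent g).subgroupOf _ ∧ t * t = 1} = Nat.card (Subgroup.center (SL2 F)) := by
    refine Nat.card_congr
      { toFun := fun t => ⟨t.1, isScal_iff_center_SL.1
          (isScal_of_mul_self_eq_one h2 (congrArg Subtype.val t.2.2))⟩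
        invFun := fun z => ⟨⟨z, Subgroup.le_normalizer
          (scal_mem_cent_SL (isScal_iff_center_SL.2 z.2) g)⟩,
          scal_mem_cent_SL (isScal_iff_center_SL.2 z.2) g, Subtype.ext (by
            rcases isScal_SL_iff.1 (isScal_iff_center_SL.2 z.2) with h | h <;> simp [h])⟩
        left_inv := fun _ => rfl
        right_inv := fun _ => rfl }
  rw [this, card_center_SL_odd h2]

theorem centralizer_eq_cent {g : SL2 F} (hg : ¬ IsScal (g : M2 F)) {A : Subgroup (SL2 F)}
    (hA : A ≤ cent g) {a : SL2 F} (ha : a ∈ A) (hs : ¬ IsScal (a : M2 F)) :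
    Subgroup.centralizer (A : Set (SL2 F)) = cent g := by
  apply le_antisymm
  · rw [← cent_eq_cent_SL hg (hA ha) hs]
    exact Subgroup.centralizer_le (Set.singleton_subset_iff.2 ha)
  · exact fun x hx y hy => cent_comm_SL hg (hA hy) hx

theorem IsReg.normalizer_eq {g : SL2 F} (hg : IsReg (g : M2 F)) {A : Subgroup (SL2 F)}
    (hA : A ≤ cent g) {a : SL2 F} (ha : a ∈ A) (hs : ¬ IsScal (a : M2 F)) :
    Subgroup.normalizer (A : Set (SL2 F)) = Subgroup.normalizer (cent g : Set (SL2 F)) := by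
  have h1 := hg.of_mem_cent (hA ha) hs
  have h2 := cent_eq_cent_SL hg.not_scal (hA ha) hs
  apply le_antisymm
  · intro w hw
    rw [← h2, h1.mem_normalizer_iff]
    refine (hg.eq_or_eq_inv (hA ha) (hA ((Subgroup.mem_normalizer_iff.1 hw a).1 ha))
      (isConj_iff.2 ⟨w, rfl⟩)).imp_left fun h => ?_
    rw [mem_cent, ← mul_inv_eq_iff_eq_mul, h]
  · have key : ∀ w ∈ Subgroup.normalizer (cent g : Set (SL2 F)), ∀ x ∈ A, w * x * w⁻¹ ∈ A := by
      intro w hw x hx
      by_cases h : w ∈ cent g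
      · rwa [cent_comm_SL hg.not_scal h (hA hx), mul_inv_cancel_right]
      · rw [hg.inverts_of_mem hw h (hA hx)]; exact inv_mem hx
    intro w hw
    refine Subgroup.mem_normalizer_iff.2 fun x => ⟨key w hw x, fun h => ?_⟩
    have := key w⁻¹ (inv_mem hw) _ h
    rwa [show w⁻¹ * (w * x * w⁻¹) * w⁻¹⁻¹ = x by group] at this

theorem orderOf_dvd_of_scal {g : SL2 F} (hg : IsScal (g : M2 F)) : orderOf g ∣ 2 := by
  rw [orderOf_dvd_iff_pow_eq_one]
  rcases isScal_SL_iff.1 hg with rfl | rfl <;> simp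

theorem isReg_of_orderOf [Fintype F] {g : SL2 F} (h2 : ¬ orderOf g ∣ 2)
    (hp : ¬ ringChar F ∣ orderOf g) : IsReg (g : M2 F) := by
  rcases classify_reg g with h | h | ⟨h, h1, h3⟩
  · exact (h2 (orderOf_dvd_of_scal h)).elim
  · exact h
  · refine (hp ?_).elim
    rw [orderOf_eq_of_isConj h1, ← ringChar.spec, ← h3.isScal_pow_iff, pow_orderOf_eq_one]
    exact isScal_SL_iff.2 (Or.inl rfl)

theorem exists_reg_add [Fintype F] : ∃ g : SL2 F, IsEll (g : M2 F) ∧
    orderOf g = Fintype.card F + 1 := by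
  obtain ⟨e, he⟩ := exists_ell (F := F)
  obtain ⟨g, hg⟩ := (Subgroup.isCyclic_iff_exists_zpowers_eq_top _).1 he.isCyclic_comap
  have h1 : orderOf g = Fintype.card F + 1 := by rw [← Nat.card_zpowers, hg, he.card_comap]
  have := Fintype.one_lt_card (α := F)
  exact ⟨g, isEll_of_orderOf (by omega) h1.dvd, h1⟩

theorem exists_reg_sub [Fintype F] (hq : 4 ≤ Fintype.card F) : ∃ g : SL2 F, IsDiag (g : M2 F) ∧
    orderOf g = Fintype.card F - 1 := by
  obtain ⟨g, hg⟩ := (Subgroup.isCyclic_iff_exists_zpowers_eq_top _).1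
    (isCyclic_range_torS (F := F))
  have h1 : orderOf g = Fintype.card F - 1 := by rw [← Nat.card_zpowers, hg, card_range_torS]
  have h2 := mem_range_torS.1 (hg ▸ Subgroup.mem_zpowers g)
  refine ⟨g, ⟨h2.1, h2.2, fun h => ?_⟩, h1⟩
  have := Nat.le_of_dvd two_pos (orderOf_dvd_of_scal (g := g) ⟨h2.1, h2.2, h⟩)
  omega

/-! ### Centralisers in `PSL₂` -/

theorem mem_comap_cent {g x : SL2 F} :
    x ∈ (cent (toP g)).comap toP ↔ x * g * x⁻¹ = g ∨ x * g * x⁻¹ = -g := by
  rw [Subgroup.mem_comap, mem_cent, ← mul_inv_eq_iff_eq_mul, ← map_inv, ← map_mul, ← map_mul,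
    toP_eq_iff]

theorem comap_cent_of_ne {g : SL2 F} (h : (2 : F) = 0 ∨ (g : M2 F).trace ≠ 0) :
    (cent (toP g)).comap toP = cent g := by
  ext x
  rw [mem_comap_cent, mem_cent, ← mul_inv_eq_iff_eq_mul, or_iff_left_iff_imp]
  intro h1
  by_cases h2 : (2 : F) = 0
  · rw [h1, ← neg_one_mul, neg_one_eq_one_SL h2, one_mul]
  · have := trace_eq_of_isConj_SL (isConj_iff.2 ⟨x, h1⟩)
    rw [Matrix.SpecialLinearGroup.coe_neg, trace_neg] at this
    exact (h.resolve_left h2 (mul_left_cancel₀ h2 (by linear_combination this))).elim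

theorem isReg_of_trace (h2 : (2 : F) ≠ 0) {g : SL2 F} (h : (g : M2 F).trace = 0) :
    IsReg (g : M2 F) := by
  rw [IsReg, h, g.2]
  intro h3
  exact mul_ne_zero h2 h2 (by linear_combination -h3)

theorem inv_eq_neg_of_trace {g : SL2 F} (h : (g : M2 F).trace = 0) : g⁻¹ = -g := by
  rw [inv_eq_iff_mul_eq_one, mul_neg, mul_self_of_trace h, neg_neg]

theorem comap_cent_of_trace (h2 : (2 : F) ≠ 0) {g : SL2 F} (h : (g : M2 F).trace = 0) :
    (cent (toP g)).comap toP = Subgroup.normalizer (cent g : Set (SL2 F)) := by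
  ext x
  rw [mem_comap_cent, (isReg_of_trace h2 h).mem_normalizer_iff, mem_cent, ← mul_inv_eq_iff_eq_mul,
    inv_eq_neg_of_trace h]

theorem index_cent_toP (g : SL2 F) : (cent (toP g)).index = ((cent (toP g)).comap toP).index :=
  (Subgroup.index_comap_of_surjective _ toP_surjective).symm

theorem IsJord.trace_ne {g : SL2 F} (hg : IsJord (g : M2 F)) :
    (2 : F) = 0 ∨ (g : M2 F).trace ≠ 0 := by
  rw [or_iff_not_imp_left, trace_fin_two, ← hg.2.1, ← two_mul]
  exact fun h => mul_ne_zero h (upper_ne_SL hg.1)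

theorem index_eq_of_card [Fintype F] {H : Subgroup (SL2 F)} {n m : ℕ} (h : Nat.card H = n)
    (hm : m * n = Fintype.card F * (Fintype.card F + 1) * (Fintype.card F - 1)) : H.index = m := by
  have := H.index_mul_card
  rw [card_SL2, ← hm, h] at this
  exact Nat.eq_of_mul_eq_mul_right (h ▸ Nat.card_pos) this

theorem orderOf_eq_four (h2 : (2 : F) ≠ 0) {g : SL2 F} (h : (g : M2 F).trace = 0) :
    orderOf g = 4 := by
  have h1 := mul_self_of_trace h
  haveI : Fact (Nat.Prime 2) := ⟨Nat.prime_two⟩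
  refine orderOf_eq_prime_pow (p := 2) (n := 1) ?_ ?_
  · rw [pow_one, sq, h1]; exact neg_one_ne_one_SL h2
  · rw [show (2 : ℕ) ^ (1 + 1) = 2 * 2 from rfl, pow_mul, sq g, h1]; simp

theorem trace_of_orderOf_four (h2 : (2 : F) ≠ 0) {g : SL2 F} (h : orderOf g = 4) :
    (g : M2 F).trace = 0 := by
  have h1 : IsScal ((g * g : SL2 F) : M2 F) := isScal_of_mul_self_eq_one h2 (by
    rw [← pow_orderOf_eq_one g, h]; simp only [pow_succ, pow_zero, one_mul, mul_assoc])
  refine (isScal_of_mul_self h1).resolve_left fun hs => ?_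
  have := orderOf_dvd_of_scal hs
  rw [h] at this
  omega

/-- an element of `SL₂` from its entries -/
def mkS (a b c d : F) (h : a * d - b * c = 1) : SL2 F := ⟨!![a, b; c, d], by simpa [det_fin_two]⟩

@[simp] theorem coe_mkS (a b c d : F) (h : a * d - b * c = 1) :
    (mkS a b c d h : M2 F) = !![a, b; c, d] := rfl

theorem mul_apply_SL (g h : SL2 F) (i j : Fin 2) : ((g * h : SL2 F) : M2 F) i j =
    (g : M2 F) i 0 * (h : M2 F) 0 j + (g : M2 F) i 1 * (h : M2 F) 1 j := mul_apply2 _ _ i j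

theorem inv00 (g : SL2 F) : ((g⁻¹ : SL2 F) : M2 F) 0 0 = (g : M2 F) 1 1 := by
  rw [coe_inv_SL, adjugate_fin_two]; rfl
theorem inv01 (g : SL2 F) : ((g⁻¹ : SL2 F) : M2 F) 0 1 = -(g : M2 F) 0 1 := by
  rw [coe_inv_SL, adjugate_fin_two]; rfl
theorem inv10 (g : SL2 F) : ((g⁻¹ : SL2 F) : M2 F) 1 0 = -(g : M2 F) 1 0 := by
  rw [coe_inv_SL, adjugate_fin_two]; rfl
theorem inv11 (g : SL2 F) : ((g⁻¹ : SL2 F) : M2 F) 1 1 = (g : M2 F) 0 0 := by
  rw [coe_inv_SL, adjugate_fin_two]; rfl

theorem exists_trace_zero : ∃ g : SL2 F, (g : M2 F).trace = 0 :=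
  ⟨mkS 0 (-1) 1 0 (by simp), by simp [trace_fin_two]⟩

theorem exists_conj_ne10 {g : SL2 F} (hg : ¬ IsScal (g : M2 F)) :
    ∃ x : SL2 F, ((x * g * x⁻¹ : SL2 F) : M2 F) 1 0 ≠ 0 := by
  by_contra hc
  push Not at hc
  have h1 := hc 1
  have h2 := hc (mkS 0 (-1) 1 0 (by simp))
  have h3 := hc (mkS 1 0 1 1 (by simp))
  simp only [mul_apply_SL, inv00, inv10] at h2 h3
  simp at h1 h2 h3
  exact hg ⟨h2, h1, by linear_combination h3 - h1 + h2⟩

end Cfsg.Agent.Perm.GL2
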