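import Mathlib
import Cfsg.Agent.Lib.Perm.Small

/-! Klein's orbit count for finite groups acting like subgroups of `PGL₂` on the projective line. -/

namespace Cfsg.Agent.Perm
open Subgroup MulAction Cfsg.Agent.Solv Cfsg.Agent.Perm.Small

/-- the properties of the action of `PGL₂(K)`, `K` algebraically closed of characteristic `p` -/
structure Klein (p : ℕ) (G : Type*) [Group G] (Ω : Type*) [MulAction G Ω] : Prop where
  fix1 : ∀ g : G, g ≠ 1 → g ^ p = 1 → ∃ x : Ω, ∀ z, g • z = z ↔ z = x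
  fix2 : ∀ g : G, g ^ p ≠ 1 → ∃ x y : Ω, x ≠ y ∧ ∀ z, g • z = z ↔ z = x ∨ z = y
  comm : ∀ (x : Ω) (g h : G), g • x = x → h • x = x → g ^ p = 1 → h ^ p = 1 → g * h = h * g
  cyc : ∀ (x : Ω) (H : Subgroup G), Finite H → (∀ g ∈ H, g • x = x) → (∀ g ∈ H, g ^ p = 1 → g = 1) →
    IsCyclic H

namespace Klein
variable {p : ℕ} {G : Type*} [Group G] {Ω : Type*} [MulAction G Ω]

theorem comap (hK : Klein p G Ω) {H : Type*} [Group H] (f : H →* G) (hf : Function.Injective f) :
    @Klein p H _ Ω (MulAction.compHom Ω f) := by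
  letI := MulAction.compHom Ω f
  have h1 : ∀ g : H, g ^ p = 1 ↔ f g ^ p = 1 := fun g => by
    rw [← map_pow, ← f.map_one, hf.eq_iff]
  refine ⟨fun g a b => hK.fix1 (f g) (fun h => a (hf (by rw [h, map_one]))) ((h1 g).1 b),
    fun g a => hK.fix2 (f g) (fun h => a ((h1 g).2 h)),
    fun x g h a b c d => hf (by
      rw [map_mul, map_mul]; exact hK.comm x _ _ a b ((h1 g).1 c) ((h1 h).1 d)), ?_⟩
  intro x L hL a b
  have e := L.equivMapOfInjective f hf
  haveI : Finite (L.map f) := Finite.of_equiv _ e.toEquiv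
  have := hK.cyc x (L.map f) inferInstance (by rintro _ ⟨g, hg, rfl⟩; exact a g hg) (by
    rintro _ ⟨g, hg, rfl⟩ h
    rw [b g hg ((h1 g).2 h), map_one])
  exact isCyclic_of_surjective e.symm e.symm.surjective

/-- the unipotent radical of a point stabiliser -/
def U (hK : Klein p G Ω) (x : Ω) : Subgroup G where
  carrier := {g | g • x = x ∧ g ^ p = 1}
  one_mem' := ⟨one_smul _ _, one_pow _⟩
  mul_mem' := fun {a b} ha hb => ⟨by rw [mul_smul, hb.1, ha.1], by
    rw [Commute.mul_pow (hK.comm x a b ha.1 hb.1 ha.2 hb.2), ha.2, hb.2, mul_one]⟩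
  inv_mem' := fun {a} ha => ⟨by rw [inv_smul_eq_iff, ha.1], by rw [inv_pow, ha.2, inv_one]⟩

variable (hK : Klein p G Ω)
include hK

theorem mem_U {x : Ω} {g : G} : g ∈ hK.U x ↔ g • x = x ∧ g ^ p = 1 := Iff.rfl

theorem U_le (x : Ω) : hK.U x ≤ stabilizer G x := fun _ h => h.1

theorem eq_of_mem_U {x y : Ω} {u : G} (hu : u ∈ hK.U x) (h1 : u ≠ 1) (hy : u • y = y) : y = x := by
  obtain ⟨z, hz⟩ := hK.fix1 u h1 hu.2
  rw [(hz y).1 hy, (hz x).1 hu.1]

theorem eq_one_of_three {g : G} {x y z : Ω} (h1 : x ≠ y) (h2 : x ≠ z) (h3 : y ≠ z) (hx : g • x = x)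
    (hy : g • y = y) (hz : g • z = z) : g = 1 := by
  by_contra hne
  by_cases hp : g ^ p = 1
  · exact h1 (hK.eq_of_mem_U ⟨hy, hp⟩ hne hx)
  · obtain ⟨a, b, -, h⟩ := hK.fix2 g hp
    rcases (h x).1 hx with rfl | rfl <;> rcases (h y).1 hy with h4 | h4 <;>
      rcases (h z).1 hz with h5 | h5 <;> simp_all

theorem exists_fix (g : G) (h1 : g ≠ 1) : ∃ x : Ω, g • x = x := by
  by_cases hp : g ^ p = 1
  · obtain ⟨x, hx⟩ := hK.fix1 g h1 hp; exact ⟨x, (hx x).2 rfl⟩
  · obtain ⟨x, y, -, h⟩ := hK.fix2 g hp; exact ⟨x, (h x).2 (Or.inl rfl)⟩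

theorem mem_U_smul {x : Ω} {g u : G} : u ∈ hK.U (g • x) ↔ g⁻¹ * u * g ∈ hK.U x := by
  rw [mem_U, mem_U, mul_smul, mul_smul, inv_smul_eq_iff]
  have : (g⁻¹ * u * g) ^ p = g⁻¹ * u ^ p * g := by
    have := conj_pow (a := g⁻¹) (b := u) (i := p); rwa [inv_inv] at this
  rw [this, mul_assoc, inv_mul_eq_one, eq_comm (a := g), mul_eq_right]

theorem card_U_smul (g : G) (x : Ω) : Nat.card (hK.U (g • x)) = Nat.card (hK.U x) := by
  have : hK.U (g • x) = (open scoped Pointwise in MulAut.conj g • hK.U x) := by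
    ext u; rw [mem_U_smul, mem_conj_smul]
  rw [this, card_conj_smul]

omit hK in
theorem card_stab_smul (g : G) (x : Ω) : Nat.card (stabilizer G (g • x)) = Nat.card (stabilizer G x) := by
  rw [stabilizer_smul_eq_stabilizer_map_conj]
  exact card_map_of_injective (MulAut.conj g).injective

theorem commute_fix {x : Ω} {g u : G} (hg : g • x = x) (hu : u ∈ hK.U x) (h1 : u ≠ 1)
    (hc : g * u = u * g) : g ∈ hK.U x := by
  refine ⟨hg, ?_⟩
  by_contra hp
  obtain ⟨a, b, hab, h⟩ := hK.fix2 g hp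
  have key : ∀ z, g • z = z → z ≠ x → False := by
    intro z hz hzx
    have h2 : g • u • z = u • z := by rw [smul_smul, hc, mul_smul, hz]
    have h3 : u • z ≠ x := fun h => hzx (by rw [← hu.1] at h; exact smul_left_cancel _ h)
    have h4 : u • z ≠ z := fun h => hzx (hK.eq_of_mem_U hu h1 h)
    have hg1 : g ≠ 1 := by rintro rfl; exact hp (one_pow _)
    exact hg1 (hK.eq_one_of_three (Ne.symm hzx) (Ne.symm h3) (Ne.symm h4) hg hz h2)
  by_cases ha : a = x
  · exact key b ((h b).2 (Or.inr rfl)) (fun h => hab (ha.trans h.symm))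
  · exact key a ((h a).2 (Or.inl rfl)) ha

theorem mem_U_of_pow {x : Ω} {g : G} (hg : g • x = x) {k : ℕ} (h : g ^ p ^ k = 1) : g ∈ hK.U x := by
  induction k generalizing g with
  | zero => rw [pow_zero, pow_one] at h; rw [h]; exact one_mem _
  | succ k ih =>
    have h1 : g ^ p ∈ hK.U x := ih ((stabilizer G x).pow_mem hg p) (by rw [← pow_mul, ← pow_succ', h])
    by_cases h2 : g ^ p = 1
    · exact ⟨hg, h2⟩
    · exact hK.commute_fix hg h1 h2 (Commute.self_pow g p).eq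

theorem isPGroup_U (x : Ω) : IsPGroup p (hK.U x) := isPGroup_of_pow_eq_one fun _ h => h.2

theorem exists_sylow [Finite G] [hp : Fact p.Prime] {x : Ω} (h : hK.U x ≠ ⊥) :
    ∃ P : Sylow p G, (P : Subgroup G) = hK.U x := by
  obtain ⟨P, hP⟩ := (hK.isPGroup_U x).exists_le_sylow
  refine ⟨P, le_antisymm ?_ hP⟩
  by_contra hne
  have hlt : hK.U x < P := lt_of_le_of_ne hP (fun h => hne h.ge)
  obtain ⟨g, ⟨hg1, hg2⟩, hg3⟩ := SetLike.exists_of_lt (lt_normalizer_inf_of_isPGroup P.isPGroup' hlt)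
  obtain ⟨u, hu, hu1⟩ := exists_ne_one_of_ne_bot h
  have h1 := conj_mem_of_mem_normalizer' hg1 hu
  rw [← mem_U_smul] at h1
  obtain ⟨k, hk⟩ := P.isPGroup' ⟨g, hg2⟩
  exact hg3 (hK.mem_U_of_pow (hK.eq_of_mem_U hu hu1 h1.1) (congrArg Subtype.val hk))

theorem mem_orbit_of_U [Finite G] [hp : Fact p.Prime] {x y : Ω} (hx : hK.U x ≠ ⊥) (hy : hK.U y ≠ ⊥) :
    y ∈ orbit G x := by
  obtain ⟨P, hP⟩ := hK.exists_sylow hx
  obtain ⟨Q, hQ⟩ := hK.exists_sylow hy
  obtain ⟨g, rfl⟩ := exists_smul_eq G P Q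
  obtain ⟨u, hu, hu1⟩ := exists_ne_one_of_ne_bot hy
  have h1 := hu
  rw [← hQ, Sylow.coe_subgroup_smul, mem_conj_smul, hP, ← mem_U_smul] at h1
  exact ⟨g, hK.eq_of_mem_U hu hu1 h1.1⟩

theorem finite_X [Finite G] : {x : Ω | stabilizer G x ≠ ⊥}.Finite := by
  refine (Set.Finite.biUnion (Set.toFinite {g : G | g ≠ 1}) (t := fun g => fixedBy Ω g) ?_).subset ?_
  · intro g hg
    by_cases hp : g ^ p = 1
    · obtain ⟨x, hx⟩ := hK.fix1 g hg hp
      exact (Set.finite_singleton x).subset fun z hz => (hx z).1 hz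
    · obtain ⟨x, y, -, h⟩ := hK.fix2 g hp
      exact (Set.toFinite {x, y}).subset fun z hz => (h z).1 hz
  · intro x hx
    obtain ⟨g, hg, h1⟩ := exists_ne_one_of_ne_bot hx
    exact Set.mem_biUnion h1 hg

/-- the weight of a point -/
noncomputable def w (x : Ω) : ℕ := (Nat.card (stabilizer G x) - 1) + (Nat.card (hK.U x) - 1)

theorem sum_w [Finite G] : ∑ x ∈ hK.finite_X.toFinset, hK.w x = 2 * (Nat.card G - 1) := by
  classical
  haveI := Fintype.ofFinite G
  have h1 : ∀ (H : Subgroup G), Nat.card H - 1 = ∑ g ∈ Finset.univ.erase (1 : G), if g ∈ H then 1 else 0 := by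
    intro H
    rw [← Finset.card_filter, Finset.filter_erase, Finset.card_erase_of_mem (by simp [one_mem]),
      Nat.card_eq_fintype_card, Fintype.card_subtype]
  simp only [w, h1]
  rw [← card_top (G := G), h1 ⊤]
  simp only [← Finset.sum_add_distrib]
  rw [Finset.sum_comm, Finset.mul_sum]
  apply Finset.sum_congr rfl
  intro g hg
  have hg1 : g ≠ 1 := Finset.ne_of_mem_erase hg
  have hX : ∀ z, g • z = z → z ∈ hK.finite_X.toFinset := fun z hz => by
    rw [Set.Finite.mem_toFinset]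
    intro h
    have : g ∈ stabilizer G z := hz
    rw [h] at this; exact hg1 this
  have h3 : ∀ (H : Ω → Subgroup G) (S : Finset Ω), (∀ z, z ∈ S ↔ g ∈ H z) → (∀ z, g ∈ H z → g • z = z) →
      ∑ x ∈ hK.finite_X.toFinset, (if g ∈ H x then 1 else 0) = S.card := by
    intro H S h h'
    rw [← Finset.card_filter]
    congr 1
    ext z
    rw [Finset.mem_filter, h]
    exact ⟨fun h => h.2, fun h => ⟨hX z (h' z h), h⟩⟩
  rw [Finset.sum_add_distrib]
  simp only [mem_top, if_true, mul_one]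
  by_cases hp : g ^ p = 1
  · obtain ⟨x, hx⟩ := hK.fix1 g hg1 hp
    rw [h3 (stabilizer G) {x} (fun z => by rw [Finset.mem_singleton, mem_stabilizer_iff, hx]) (fun _ h => h),
      h3 hK.U {x} (fun z => by rw [Finset.mem_singleton, mem_U, hx]; tauto) (fun _ h => h.1)]
    rfl
  · obtain ⟨x, y, hxy, h⟩ := hK.fix2 g hp
    rw [h3 (stabilizer G) {x, y} (fun z => by
        rw [Finset.mem_insert, Finset.mem_singleton, mem_stabilizer_iff, h]) (fun _ h => h),
      h3 hK.U ∅ (fun z => by rw [mem_U]; simp [hp]) (fun _ h => h.1), Finset.card_pair hxy]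
    rfl

/-- orbits as finsets -/
noncomputable def orb [Finite G] (_ : Klein p G Ω) (x : Ω) : Finset Ω := (Set.finite_range (fun g : G => g • x)).toFinset

theorem mem_orb [Finite G] {x y : Ω} : y ∈ hK.orb x ↔ y ∈ orbit G x := Set.Finite.mem_toFinset _

theorem card_orb [Finite G] (x : Ω) : (hK.orb x).card = Nat.card (orbit G x) := by
  rw [Nat.card_coe_set_eq]
  exact (Set.ncard_eq_toFinset_card _ (Set.finite_range (fun g : G => g • x))).symm

theorem sum_orb [Finite G] (x : Ω) : ∑ y ∈ hK.orb x, hK.w y = Nat.card (orbit G x) * hK.w x := by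
  rw [← hK.card_orb, ← smul_eq_mul, ← Finset.sum_const]
  apply Finset.sum_congr rfl
  intro y hy
  obtain ⟨g, rfl⟩ := hK.mem_orb.1 hy
  simp only [w, card_U_smul, card_stab_smul]

theorem orb_subset [Finite G] {x : Ω} (hx : stabilizer G x ≠ ⊥) : hK.orb x ⊆ hK.finite_X.toFinset := by
  intro y hy
  obtain ⟨g, rfl⟩ := hK.mem_orb.1 hy
  rw [Set.Finite.mem_toFinset]
  intro h
  apply hx
  rw [← card_eq_one] at h ⊢
  rw [← card_stab_smul g]; exact h

theorem orb_disjoint [Finite G] {x y : Ω} (h : y ∉ orbit G x) : Disjoint (hK.orb x) (hK.orb y) := by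
  rw [Finset.disjoint_left]
  intro z h1 h2
  rw [mem_orb] at h1 h2
  exact h ((orbit_eq_iff.2 h1) ▸ (mem_orbit_symm.1 h2))

/-- the weights of pairwise distinct orbits -/
theorem sum_list [Finite G] (l : List Ω) (hl : ∀ x ∈ l, stabilizer G x ≠ ⊥)
    (hd : l.Pairwise fun x y => y ∉ orbit G x) :
    (l.map fun x => Nat.card (orbit G x) * hK.w x).sum ≤ 2 * (Nat.card G - 1) ∧
    ((∀ z, stabilizer G z ≠ ⊥ → ∃ x ∈ l, z ∈ orbit G x) →
      (l.map fun x => Nat.card (orbit G x) * hK.w x).sum = 2 * (Nat.card G - 1)) := by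
  classical
  have key : ∀ l : List Ω, (l.Pairwise fun x y => y ∉ orbit G x) →
      ∃ S : Finset Ω, (∀ z, z ∈ S ↔ ∃ x ∈ l, z ∈ orbit G x) ∧
        (l.map fun x => Nat.card (orbit G x) * hK.w x).sum = ∑ z ∈ S, hK.w z := by
    intro l
    induction l with
    | nil => intro _; exact ⟨∅, by simp, by simp⟩
    | cons a l ih =>
      intro h
      obtain ⟨S, h1, h2⟩ := ih h.of_cons
      refine ⟨hK.orb a ∪ S, fun z => by simp [h1, hK.mem_orb], ?_⟩
      rw [List.map_cons, List.sum_cons, h2, Finset.sum_union, hK.sum_orb]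
      rw [Finset.disjoint_left]
      intro z hz hz'
      obtain ⟨x, hx, hx'⟩ := (h1 z).1 hz'
      exact Finset.disjoint_left.1 (hK.orb_disjoint (List.rel_of_pairwise_cons h hx)) hz (hK.mem_orb.2 hx')
  obtain ⟨S, h1, h2⟩ := key l hd
  have hsub : S ⊆ hK.finite_X.toFinset := fun z hz => by
    obtain ⟨x, hx, hx'⟩ := (h1 z).1 hz
    exact hK.orb_subset (hl x hx) (hK.mem_orb.2 hx')
  rw [h2, ← hK.sum_w]
  refine ⟨Finset.sum_le_sum_of_subset hsub, fun h => ?_⟩
  congr 1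
  exact Finset.Subset.antisymm hsub fun z hz => (h1 z).2 (h z ((Set.Finite.mem_toFinset _).1 hz))

theorem w_of_bot [Finite G] {x : Ω} (h : hK.U x = ⊥) :
    Nat.card (orbit G x) * hK.w x + Nat.card (orbit G x) = Nat.card G := by
  rw [w, h, card_bot, ← card_orbit_mul_stab (G := G) x]
  have : 0 < Nat.card (stabilizer G x) := Nat.card_pos
  obtain ⟨k, hk⟩ := Nat.exists_eq_add_of_lt this
  rw [hk]; simp; ring

omit hK in
theorem two_mul_le [Finite G] {x : Ω} (h : stabilizer G x ≠ ⊥) : 2 * Nat.card (orbit G x) ≤ Nat.card G := by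
  rw [← card_orbit_mul_stab (G := G) x, mul_comm]
  apply Nat.mul_le_mul_left
  have := (stabilizer G x).one_lt_card_iff_ne_bot.2 h
  omega

theorem isCyclic_stab [Finite G] {x : Ω} (h : hK.U x = ⊥) : IsCyclic (stabilizer G x) :=
  hK.cyc x _ inferInstance (fun _ h => h) (fun g hg hp => by
    have : g ∈ hK.U x := ⟨hg, hp⟩
    rwa [h] at this)

theorem not_dvd_stab [Finite G] [hp : Fact p.Prime] {x : Ω} (h : hK.U x = ⊥) :
    ¬ p ∣ Nat.card (stabilizer G x) := by
  intro hd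
  obtain ⟨g, hg⟩ := exists_prime_orderOf_dvd_card' p hd
  have : (g : G) ∈ hK.U x := ⟨g.2, by rw [← Subgroup.coe_pow, ← hg, pow_orderOf_eq_one]; rfl⟩
  rw [h, mem_bot] at this
  rw [← Subgroup.orderOf_coe, this, orderOf_one] at hg
  exact hp.out.one_lt.ne hg

/-- dihedral data -/
def IsDih (p : ℕ) (G : Type*) [Group G] : Prop :=
  ∃ a s : G, ¬ p ∣ orderOf a ∧ s * a * s⁻¹ = a⁻¹ ∧ s ^ 2 = 1 ∧ s ∉ zpowers a ∧ a ≠ 1 ∧
    ∀ g : G, g ∈ zpowers a ∨ g * s ∈ zpowers a

theorem small_orbit [Finite G] [hp : Fact p.Prime] {x : Ω} (h : hK.U x = ⊥) (hx : stabilizer G x ≠ ⊥)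
    (h2 : Nat.card (orbit G x) ≤ 2) : (IsCyclic G ∧ ¬ p ∣ Nat.card G) ∨ IsDih p G := by
  have hc := hK.isCyclic_stab h
  have hd := hK.not_dvd_stab h
  by_cases ht : stabilizer G x = ⊤
  · left
    rw [ht] at hc hd
    exact ⟨isCyclic_of_surjective topEquiv topEquiv.surjective, by rwa [card_top] at hd⟩
  right
  obtain ⟨a, ha⟩ := (Subgroup.isCyclic_iff_exists_zpowers_eq_top _).1 hc
  have hi : (stabilizer G x).index = 2 := by
    rw [card_orbit_eq_index] at h2
    have := (stabilizer G x).index_ne_zero_of_finite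
    have : (stabilizer G x).index ≠ 1 := by rwa [Ne, index_eq_one]
    omega
  have hsq : ∀ s : G, s ∉ stabilizer G x → s ^ 2 = 1 := by
    intro s hs
    have hs1 : s ≠ 1 := by rintro rfl; exact hs (one_mem _)
    obtain ⟨z, hz⟩ := hK.exists_fix s hs1
    have h1 : s ^ 2 • x = x := sq_mem_of_index_two hi s
    refine hK.eq_one_of_three (x := x) (y := s • x) (z := z) (Ne.symm hs) ?_ ?_ h1 ?_
      ((stabilizer G z).pow_mem hz 2)
    · rintro rfl; exact hs hz
    · intro h3; apply hs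
      rw [← h3] at hz; exact smul_left_cancel _ hz
    · rw [smul_smul, ← pow_succ, pow_succ', mul_smul, h1]
  obtain ⟨s, hs⟩ : ∃ s, s ∉ stabilizer G x := by
    by_contra h3; push Not at h3; exact ht ((eq_top_iff' _).2 h3)
  have haS : a ∈ stabilizer G x := ha ▸ mem_zpowers a
  refine ⟨a, s, by rwa [← Nat.card_zpowers, ha], ?_, hsq s hs, by rwa [ha], ?_, ?_⟩
  · have h1 := hsq (s * a) (fun h => hs (by simpa using mul_mem h (inv_mem haS)))
    have h3 := hsq s hs
    rw [pow_two] at h1 h3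
    rw [inv_eq_of_mul_eq_one_right h3, eq_inv_iff_mul_eq_one, ← h1]; group
  · rintro rfl; apply hx; rw [← ha, zpowers_one_eq_bot]
  · intro g
    rw [ha, mul_mem_iff_of_index_two hi]
    tauto

end Klein
end Cfsg.Agent.Perm
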