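import Mathlib
import Cfsg.Agent.Lib.Perm.Klein

/-! The abstract form of Dickson's theorem. -/

namespace Cfsg.Agent.Perm.Klein
open Subgroup MulAction Cfsg.Agent.Solv Cfsg.Agent.Perm.Small

theorem arith3_sorted {g n1 n2 n3 e1 e2 e3 : ℕ} (h1 : n1 * e1 = g) (h2 : n2 * e2 = g) (h3 : n3 * e3 = g)
    (a : 2 ≤ e1) (b : e1 ≤ e2) (c : e2 ≤ e3) (hn : 3 ≤ n3) (hs : n1 + n2 + n3 = g + 2) :
    e1 = 2 ∧ e2 = 3 ∧ ((e3 = 3 ∧ g = 12) ∨ (e3 = 4 ∧ g = 24) ∨ (e3 = 5 ∧ g = 60)) := by
  have k1 : e1 = 2 := by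
    by_contra h
    have : n1 * 3 ≤ n1 * e1 := Nat.mul_le_mul_left _ (by omega)
    have : n2 * 3 ≤ n2 * e2 := Nat.mul_le_mul_left _ (by omega)
    have : n3 * 3 ≤ n3 * e3 := Nat.mul_le_mul_left _ (by omega)
    omega
  subst k1
  have k2 : e2 = 3 := by
    by_contra h
    by_cases h' : e2 = 2
    · subst h'; omega
    · have : n2 * 4 ≤ n2 * e2 := Nat.mul_le_mul_left _ (by omega)
      have : n3 * 4 ≤ n3 * e3 := Nat.mul_le_mul_left _ (by omega)
      omega
  subst k2
  have k3 : e3 ≤ 5 := by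
    by_contra h
    have : n3 * 6 ≤ n3 * e3 := Nat.mul_le_mul_left _ (by omega)
    omega
  refine ⟨rfl, rfl, ?_⟩
  interval_cases e3 <;> omega

theorem arith3 {g n1 n2 n3 e1 e2 e3 : ℕ} (h1 : n1 * e1 = g) (h2 : n2 * e2 = g) (h3 : n3 * e3 = g)
    (a1 : 2 ≤ e1) (a2 : 2 ≤ e2) (a3 : 2 ≤ e3) (b1 : 3 ≤ n1) (b2 : 3 ≤ n2) (b3 : 3 ≤ n3)
    (hs : n1 + n2 + n3 = g + 2) :
    ((g = 12 ∨ g = 24) ∧ e1 ≤ 4 ∧ e2 ≤ 4 ∧ e3 ≤ 4) ∨
      (g = 60 ∧ (e1 ≤ 5 ∧ e1 ≠ 4) ∧ (e2 ≤ 5 ∧ e2 ≠ 4) ∧ (e3 ≤ 5 ∧ e3 ≠ 4)) := by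
  rcases le_total e1 e2 with a | a <;> rcases le_total e2 e3 with b | b <;>
    rcases le_total e1 e3 with c | c
  · have := arith3_sorted h1 h2 h3 a1 a b b3 hs; omega
  · have := arith3_sorted h1 h2 h3 a1 a b b3 hs; omega
  · have := arith3_sorted h1 h3 h2 a1 c b b2 (by omega); omega
  · have := arith3_sorted h3 h1 h2 a3 c a b2 (by omega); omega
  · have := arith3_sorted h2 h1 h3 a2 a c b3 (by omega); omega
  · have := arith3_sorted h2 h3 h1 a2 b c b1 (by omega); omega
  · have := arith3_sorted h3 h2 h1 a3 b a b1 (by omega); omega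
  · have := arith3_sorted h3 h2 h1 a3 b a b1 (by omega); omega

theorem arithP {n q k e m s : ℕ} (hq : 2 < q) (hn : n = 1 + q * s) (hs : 0 < s) (hk : k ∣ q - 1)
    (h1 : n * (q * k) = m * e) (h2 : m + 2 * n = n * q + 2) (he : e ∣ n ∨ e ∣ n - 1) :
    (s = 1 ∧ (k = q - 1 ∨ 2 * k = q - 1)) ∨ (q = 3 ∧ s = 3 ∧ k = 2 ∧ e = 5) := by
  obtain ⟨r, rfl⟩ : ∃ r, q = r + 3 := ⟨q - 3, by omega⟩
  have hm : m = n * (r + 1) + 2 := by nlinarith
  have hn0 : 0 < n := by omega
  have hd : n ∣ 2 * e := by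
    have : n * ((r + 3) * k) = n * ((r + 1) * e) + 2 * e := by rw [h1, hm]; ring
    exact (Nat.dvd_add_right (Dvd.intro _ rfl)).1 (this ▸ Dvd.intro _ rfl)
  have hn4 : r + 4 ≤ n := by nlinarith
  have hk1 : k ≤ r + 2 := Nat.le_of_dvd (by omega) hk
  have he0 : 0 < e := by
    rcases Nat.eq_zero_or_pos e with rfl | h
    · have : k = 0 := by
        rcases Nat.eq_zero_or_pos k with h | h
        · exact h
        · have : 0 < n * ((r + 3) * k) := by positivity
          omega
      subst this; simp at hk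
    · exact h
  have h2e : n ≤ 2 * e := Nat.le_of_dvd (by omega) hd
  rcases he with he | he
  · obtain ⟨c, hc⟩ := he
    have hc2 : c ≤ 2 := by nlinarith
    have hc0 : 0 < c := by rcases Nat.eq_zero_or_pos c with rfl | h <;> omega
    have e1 : c * ((r + 3) * k) = m := by
      apply Nat.eq_of_mul_eq_mul_left he0
      rw [mul_comm e m, ← h1, hc]; ring
    have e2 : c * k = 1 + s * (r + 1) := by
      apply Nat.eq_of_mul_eq_mul_left (show 0 < r + 3 by omega)
      have : (r + 3) * (c * k) = m := by rw [← e1]; ring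
      rw [this, hm, hn]; ring
    interval_cases c
    · left
      have : s = 1 := by nlinarith
      subst this; omega
    · obtain ⟨d, hd'⟩ := hk
      simp only [show r + 3 - 1 = r + 2 by omega] at hd' ⊢
      rcases Nat.lt_or_ge d 2 with h | h
      · have : d = 1 := by
          rcases Nat.eq_zero_or_pos d with rfl | h' <;> omega
        subst this
        have hk2 : k = r + 2 := by omega
        subst hk2
        have h3 : s ≤ 3 := by nlinarith
        interval_cases s
        · left; omega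
        · omega
        · right; omega
      · left
        have : 2 * k ≤ r + 2 := by nlinarith
        have : s = 1 := by nlinarith
        subst this; omega
  · exfalso
    obtain ⟨c, hc⟩ := he
    have hc1 : c = 1 := by
      rcases Nat.lt_or_ge c 2 with h | h
      · rcases Nat.eq_zero_or_pos c with rfl | h' <;> omega
      · have : e * 2 ≤ e * c := Nat.mul_le_mul_left _ h
        omega
    subst hc1
    have : n ∣ 2 := by
      have h3 : 2 * n = 2 * e + 2 := by omega
      exact (Nat.dvd_add_right hd).1 (h3 ▸ Dvd.intro_left _ rfl)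
    have := Nat.le_of_dvd (by norm_num) this
    omega

variable {p : ℕ} {G : Type*} [Group G] {Ω : Type*} [MulAction G Ω] (hK : Klein p G Ω)
include hK

theorem orderOf_le_stab [Finite G] (g : G) (h1 : g ≠ 1) :
    ∃ x : Ω, stabilizer G x ≠ ⊥ ∧ orderOf g ∣ Nat.card (stabilizer G x) ∧ g • x = x := by
  obtain ⟨x, hx⟩ := hK.exists_fix g h1
  refine ⟨x, fun h => h1 ?_, Subgroup.orderOf_dvd_natCard _ hx, hx⟩
  have : g ∈ stabilizer G x := hx
  rwa [h] at this

theorem classify_coprime [Finite G] [hp : Fact p.Prime] (hU : ∀ x, hK.U x = ⊥) :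
    (IsCyclic G ∧ ¬ p ∣ Nat.card G) ∨ IsDih p G ∨ (¬ p ∣ Nat.card G ∧
      (Nonempty (G ≃* alternatingGroup (Fin 4)) ∨ Nonempty (G ≃* Equiv.Perm (Fin 4)) ∨
        Nonempty (G ≃* alternatingGroup (Fin 5)))) := by
  have hpG : ¬ p ∣ Nat.card G := by
    intro hd
    obtain ⟨g, hg⟩ := exists_prime_orderOf_dvd_card' p hd
    have h1 : g ≠ 1 := by rintro rfl; rw [orderOf_one] at hg; exact hp.out.one_lt.ne hg
    obtain ⟨x, hx⟩ := hK.exists_fix g h1
    have : g ∈ hK.U x := ⟨hx, by rw [← hg, pow_orderOf_eq_one]⟩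
    rw [hU] at this; exact h1 this
  by_cases hs : ∃ x : Ω, stabilizer G x ≠ ⊥ ∧ Nat.card (orbit G x) ≤ 2
  · obtain ⟨x, h1, h2⟩ := hs
    rcases hK.small_orbit (hU x) h1 h2 with h | h
    · exact Or.inl h
    · exact Or.inr (Or.inl h)
  push Not at hs
  rcases subsingleton_or_nontrivial G with hG | hG
  · exact Or.inl ⟨inferInstance, hpG⟩
  have hG1 : 1 < Nat.card G := Finite.one_lt_card
  have hw := fun x => hK.w_of_bot (hU x)
  obtain ⟨g0, hg0⟩ := exists_ne (1 : G)
  obtain ⟨x1, a1, -⟩ := hK.orderOf_le_stab g0 hg0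
  obtain ⟨x2, a2, b2⟩ : ∃ x2, stabilizer G x2 ≠ ⊥ ∧ x2 ∉ orbit G x1 := by
    by_contra h; push Not at h
    have := (hK.sum_list [x1] (by simpa using a1) (by simp)).2 (by simpa using h)
    simp only [List.map_cons, List.map_nil, List.sum_cons, List.sum_nil] at this
    have := hw x1; have := hs x1 a1; omega
  obtain ⟨x3, a3, b3, c3⟩ : ∃ x3, stabilizer G x3 ≠ ⊥ ∧ x3 ∉ orbit G x1 ∧ x3 ∉ orbit G x2 := by
    by_contra h; push Not at h
    have := (hK.sum_list [x1, x2] (by simp [a1, a2]) (by simp [b2])).2 (by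
      intro z hz; have := h z hz; simp only [List.mem_cons, List.not_mem_nil, or_false, exists_eq_or_imp,
        exists_eq_left]; tauto)
    simp only [List.map_cons, List.map_nil, List.sum_cons, List.sum_nil] at this
    have := hw x1; have := hs x1 a1; have := hw x2; have := hs x2 a2; omega
  have hall : ∀ z, stabilizer G z ≠ ⊥ → z ∈ orbit G x1 ∨ z ∈ orbit G x2 ∨ z ∈ orbit G x3 := by
    intro z hz
    by_contra h; push Not at h
    have := (hK.sum_list [x1, x2, x3, z] (by simp [a1, a2, a3, hz]) (by simp [b2, b3, c3, h])).1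
    simp only [List.map_cons, List.map_nil, List.sum_cons, List.sum_nil] at this
    have := hw x1; have := two_mul_le a1; have := hw x2; have := two_mul_le a2
    have := hw x3; have := two_mul_le a3; have := hw z; have := two_mul_le hz
    omega
  have hsum := (hK.sum_list [x1, x2, x3] (by simp [a1, a2, a3]) (by simp [b2, b3, c3])).2 (by
      intro z hz; have := hall z hz; simp only [List.mem_cons, List.not_mem_nil, or_false, exists_eq_or_imp,
        exists_eq_left]; tauto)
  simp only [List.map_cons, List.map_nil, List.sum_cons, List.sum_nil] at hsum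
  have hA := arith3 (card_orbit_mul_stab (G := G) x1) (card_orbit_mul_stab (G := G) x2)
    (card_orbit_mul_stab (G := G) x3) ((stabilizer G x1).one_lt_card_iff_ne_bot.2 a1)
    ((stabilizer G x2).one_lt_card_iff_ne_bot.2 a2) ((stabilizer G x3).one_lt_card_iff_ne_bot.2 a3)
    (hs x1 a1) (hs x2 a2) (hs x3 a3) (by have := hw x1; have := hw x2; have := hw x3; omega)
  have ho : ∀ g : G, g = 1 ∨ orderOf g ∣ Nat.card (stabilizer G x1) ∨ orderOf g ∣ Nat.card (stabilizer G x2) ∨
      orderOf g ∣ Nat.card (stabilizer G x3) := by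
    intro g
    by_cases h1 : g = 1
    · exact Or.inl h1
    obtain ⟨z, hz, hz', -⟩ := hK.orderOf_le_stab g h1
    right
    rcases hall z hz with ⟨k, rfl⟩ | ⟨k, rfl⟩ | ⟨k, rfl⟩ <;> rw [card_stab_smul] at hz' <;> tauto
  have hle : ∀ {a b : ℕ}, a ∣ b → 0 < b → b ≤ 5 → a ≤ b ∧ (b ≠ 4 → a ≠ 4) := fun h h0 h5 =>
    ⟨Nat.le_of_dvd h0 h, fun h4 h' => by subst h'; omega⟩
  refine Or.inr (Or.inr ⟨hpG, ?_⟩)
  rcases hA with ⟨h, h1, h2, h3⟩ | ⟨h, h1, h2, h3⟩
  · have ho' : ∀ g : G, orderOf g ≤ 4 := by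
      intro g
      rcases ho g with rfl | h | h | h
      · simp
      all_goals have := (hle h Nat.card_pos (by omega)).1; omega
    rcases h with h | h
    · exact Or.inl (iso_A4 h ho')
    · exact Or.inr (Or.inl (iso_S4 h ho'))
  · refine Or.inr (Or.inr (iso_A5 h fun g => ?_))
    rcases ho g with rfl | h | h | h
    · simp
    all_goals have := hle h Nat.card_pos (by omega); omega

theorem relIndex_dvd [Finite G] (x : Ω) : (hK.U x).relIndex (stabilizer G x) ∣ Nat.card (hK.U x) - 1 := by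
  letI : MulAction (stabilizer G x) G := MulAction.compHom G (MulAut.conj.comp (stabilizer G x).subtype)
  have h : (hK.U x).relIndex (stabilizer G x) ∣ ((hK.U x : Set G) \ {1}).ncard := by
    apply dvd_ncard_of_invariant (G := stabilizer G x) (Set.toFinite _)
    · rintro g u ⟨h1, h2⟩
      refine ⟨?_, fun h => h2 ?_⟩
      · show (g : G) * u * (g : G)⁻¹ ∈ hK.U x
        have e : (g : G) • x = x := g.2
        have := (hK.mem_U_smul (x := x) (g := (g : G)) (u := (g : G) * u * (g : G)⁻¹)).2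
          (by simpa [mul_assoc] using h1)
        rwa [e] at this
      · have h' : (g : G) * u * (g : G)⁻¹ = 1 := h
        simpa using h'
    · rintro u ⟨h1, h2⟩
      have : stabilizer (stabilizer G x) u = (hK.U x).subgroupOf (stabilizer G x) := by
        ext g
        rw [mem_stabilizer_iff, mem_subgroupOf]
        show (g : G) * u * (g : G)⁻¹ = u ↔ _
        rw [mul_inv_eq_iff_eq_mul]
        exact ⟨hK.commute_fix g.2 h1 h2, fun h => hK.comm x _ _ h.1 h1.1 h.2 h1.2⟩
      rw [this]; rfl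
  have h2 := Set.ncard_diff_singleton_add_one (s := (hK.U x : Set G)) (one_mem _)
  rw [← Nat.card_coe_set_eq (hK.U x : Set G)] at h2
  simp only [SetLike.coe_sort_coe] at h2
  rwa [← h2, Nat.add_sub_cancel]

theorem classify_parabolic [Finite G] [hp : Fact p.Prime] {x : Ω} (hU : hK.U x ≠ ⊥) :
    IsDih p G ∨ (∀ g : G, g • x = x) ∨ (p = 3 ∧ Nonempty (G ≃* alternatingGroup (Fin 5))) ∨
      (2 < Nat.card (hK.U x) ∧ Nat.card (orbit G x) = Nat.card (hK.U x) + 1 ∧
        (Nat.card (stabilizer G x) = Nat.card (hK.U x) * (Nat.card (hK.U x) - 1) ∨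
          2 * Nat.card (stabilizer G x) = Nat.card (hK.U x) * (Nat.card (hK.U x) - 1))) := by
  by_cases hfix : ∀ g : G, g • x = x
  · exact Or.inr (Or.inl hfix)
  have hfin : ∀ y : Ω, (orbit G y).Finite := fun y => Set.finite_range _
  have hx : stabilizer G x ≠ ⊥ := fun h => hU (eq_bot_iff.2 (h ▸ hK.U_le x))
  set q := Nat.card (hK.U x) with hq
  set n := Nat.card (orbit G x) with hn
  set k := (hK.U x).relIndex (stabilizer G x) with hk
  have hq2 : 1 < q := (hK.U x).one_lt_card_iff_ne_bot.2 hU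
  have hst : q * k = Nat.card (stabilizer G x) := card_mul_relIndex (hK.U_le x)
  have hg : n * (q * k) = Nat.card G := by rw [hst]; exact card_orbit_mul_stab x
  have hkd : k ∣ q - 1 := hK.relIndex_dvd x
  have hdiff : ∀ z ∈ orbit G x, n = 1 + (orbit G x \ {z}).ncard := fun z hz => by
    rw [add_comm, Set.ncard_diff_singleton_add_one hz (hfin x), hn, Nat.card_coe_set_eq]
  have horb : ∀ g : G, ∀ z ∈ orbit G x, g • z ∈ orbit G x := by
    rintro g _ ⟨h, rfl⟩; exact ⟨g * h, mul_smul _ _ _⟩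
  obtain ⟨s, hs⟩ : q ∣ (orbit G x \ {x}).ncard := by
    apply card_dvd_ncard_of_semiregular ((hfin x).subset Set.diff_subset)
    · rintro g z ⟨h1, h2⟩
      refine ⟨horb _ _ h1, fun h => h2 ?_⟩
      have h' : (g : G) • z = x := h
      exact (eq_inv_smul_iff.2 h').trans (inv_mem g.2).1
    · rintro z ⟨-, h2⟩ g hg
      by_contra hne
      exact h2 (hK.eq_of_mem_U g.2 (fun h => hne (Subtype.ext h)) hg)
  have hns : n = 1 + q * s := by rw [hdiff x (mem_orbit_self x), hs]
  have hs0 : 0 < s := by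
    rcases Nat.eq_zero_or_pos s with rfl | h
    · rw [mul_zero, Set.ncard_eq_zero ((hfin x).subset Set.diff_subset)] at hs
      push Not at hfix
      obtain ⟨g, hg⟩ := hfix
      have : g • x ∈ orbit G x \ {x} := ⟨mem_orbit _ _, hg⟩
      rw [hs] at this; exact this.elim
    · exact h
  have hk0 : 0 < k := by
    have : 0 < Nat.card (stabilizer G x) := Nat.card_pos
    rcases Nat.eq_zero_or_pos k with h | h
    · rw [h] at hst; omega
    · exact h
  have hn2 : q + 1 ≤ n := by nlinarith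
  have hwx : n * hK.w x + 2 * n = Nat.card G + n * q := by
    rw [w, ← hst, ← hq, ← hg]
    have : 1 ≤ q * k := Nat.mul_pos (by omega) hk0
    obtain ⟨a, ha⟩ := Nat.exists_eq_add_of_le this
    obtain ⟨b, hb⟩ := Nat.exists_eq_add_of_le hq2.le
    rw [ha]
    conv_lhs => rw [hb]
    conv_rhs => rw [hb]
    simp only [Nat.add_sub_cancel_left]; ring
  have hnq : n * q ≤ Nat.card G := by rw [← hg]; exact Nat.mul_le_mul_left _ (Nat.le_mul_of_pos_right _ hk0)
  have h2n : 2 * n ≤ n * q := by nlinarith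
  have hbot : ∀ y, y ∉ orbit G x → hK.U y = ⊥ := fun y hy => by
    by_contra h; exact hy (hK.mem_orbit_of_U hU h)
  obtain ⟨y, hy, hyx⟩ : ∃ y, stabilizer G y ≠ ⊥ ∧ y ∉ orbit G x := by
    by_contra h; push Not at h
    have := (hK.sum_list [x] (by simpa using hx) (by simp)).2 (by simpa using h)
    simp only [List.map_cons, List.map_nil, List.sum_cons, List.sum_nil] at this
    rw [← hn] at this
    omega
  have hall : ∀ z, stabilizer G z ≠ ⊥ → z ∈ orbit G x ∨ z ∈ orbit G y := by
    intro z hz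
    by_contra h; push Not at h
    have := (hK.sum_list [x, y, z] (by simp [hx, hy, hz]) (by simp [hyx, h])).1
    simp only [List.map_cons, List.map_nil, List.sum_cons, List.sum_nil] at this
    rw [← hn] at this
    have := hK.w_of_bot (hbot y hyx); have := two_mul_le hy
    have := hK.w_of_bot (hbot z h.1); have := two_mul_le hz
    omega
  have hsum := (hK.sum_list [x, y] (by simp [hx, hy]) (by simp [hyx])).2 (by
      intro z hz; have := hall z hz; simp only [List.mem_cons, List.not_mem_nil, or_false, exists_eq_or_imp,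
        exists_eq_left]; tauto)
  simp only [List.map_cons, List.map_nil, List.sum_cons, List.sum_nil] at hsum
  rw [← hn] at hsum
  have hwy := hK.w_of_bot (hbot y hyx)
  have hm : Nat.card (orbit G y) + 2 * n = n * q + 2 := by omega
  by_cases hq3 : q = 2
  · rcases hK.small_orbit (hbot y hyx) hy (by rw [hq3] at hm; omega) with h | h
    · exfalso
      apply h.2
      exact (dvd_card_of_isPGroup (hK.isPGroup_U x) hU).trans (card_subgroup_dvd_card _)
    · exact Or.inl h
  have he : Nat.card (stabilizer G y) ∣ n ∨ Nat.card (stabilizer G y) ∣ n - 1 := by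
    by_cases h : ∃ z ∈ orbit G x, ∃ c ∈ stabilizer G y, c ≠ 1 ∧ c • z = z
    · right
      obtain ⟨z, hz, c, hc, hc1, hcz⟩ := h
      have hzy : y ≠ z := fun h => hyx (h ▸ hz)
      have hall2 : ∀ g ∈ stabilizer G y, g • z = z := by
        intro g hg
        by_contra hne
        haveI := hK.isCyclic_stab (hbot y hyx)
        have hc2 : g * c = c * g := isMulCommutative_iff.1 inferInstance g hg c hc
        refine hc1 (hK.eq_one_of_three hzy (z := g • z) ?_ (Ne.symm hne) hc hcz ?_)
        · intro h; exact hyx (h ▸ horb g z hz)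
        · rw [smul_smul, ← hc2, mul_smul, hcz]
      rw [hdiff z hz, Nat.add_sub_cancel_left]
      apply card_dvd_ncard_of_semiregular ((hfin x).subset Set.diff_subset)
      · rintro g a ⟨h1, h2⟩
        refine ⟨horb _ _ h1, fun h => h2 ?_⟩
        have h' : (g : G) • a = z := h
        exact (eq_inv_smul_iff.2 h').trans (hall2 _ (inv_mem g.2))
      · rintro a ⟨h1, h2⟩ g hg
        exact Subtype.ext (hK.eq_one_of_three hzy (fun h => hyx (h ▸ h1)) (Ne.symm h2) g.2 (hall2 _ g.2) hg)
    · left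
      push Not at h
      rw [hn, Nat.card_coe_set_eq]
      apply card_dvd_ncard_of_semiregular (G := stabilizer G y) (hfin x) (fun g a ha => horb _ _ ha)
      intro a ha g hg
      by_contra hne
      exact h a ha g g.2 (fun h => hne (Subtype.ext h)) hg
  rcases arithP (by omega) hns hs0 hkd (hg.trans (card_orbit_mul_stab y).symm) hm he with ⟨h1, h2⟩ | ⟨h1, h2, h3, h4⟩
  · refine Or.inr (Or.inr (Or.inr ⟨by omega, by rw [hns, h1]; ring, ?_⟩))
    rw [← hst]
    rcases h2 with h2 | h2
    · left; rw [h2]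
    · right; rw [← h2]; ring
  · have hp3 : p = 3 := (eq_of_isPGroup_of_dvd (hK.isPGroup_U x) (q := 3) (by norm_num)
      (by rw [← hq, h1])).symm
    refine Or.inr (Or.inr (Or.inl ⟨hp3, iso_A5 (by rw [← hg, hns, h1, h2, h3]) fun g => ?_⟩))
    by_cases hg1 : g = 1
    · subst hg1; simp
    obtain ⟨z, hz, hz', hgz⟩ := hK.orderOf_le_stab g hg1
    rcases hall z hz with ⟨c, rfl⟩ | ⟨c, rfl⟩
    · rw [card_stab_smul, ← hst, h1, h3] at hz'
      have h6 : orderOf g ≠ 6 := by
        intro h6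
        have a : g ^ 2 ∈ hK.U (c • x) := ⟨(stabilizer G _).pow_mem hgz 2, by
          rw [hp3, ← pow_mul]; exact orderOf_dvd_iff_pow_eq_one.1 h6.dvd⟩
        have b := hK.commute_fix hgz a (fun h => by
          have := orderOf_dvd_of_pow_eq_one h; rw [h6] at this; omega) (Commute.self_pow g 2).eq
        have := orderOf_dvd_of_pow_eq_one b.2
        rw [h6, hp3] at this
        omega
      have := Nat.le_of_dvd (by norm_num) hz'
      interval_cases h : orderOf g <;> omega
    · rw [card_stab_smul, h4] at hz'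
      have := Nat.le_of_dvd (by norm_num) hz'
      interval_cases h : orderOf g <;> omega

end Cfsg.Agent.Perm.Klein
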