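import Mathlib
import Cfsg.Agent.Lib.Perm.Klein2
import Cfsg.Agent.Lib.Perm.GL2h

/-! `PGL₂(F)` on the projective line. -/

namespace Cfsg.Agent.Perm.GL2
open Matrix OnePoint MulAction Cfsg.Agent.Perm

/-- the projective general linear group of degree two -/
abbrev PGL2 (F : Type*) [Field F] := Matrix.ProjGenLinGroup (Fin 2) F

variable {F : Type*} [Field F]

/-- the projection -/
abbrev mkP : GL (Fin 2) F →* PGL2 F := Matrix.ProjGenLinGroup.mk

theorem mkP_surj (h : PGL2 F) : ∃ g, mkP g = h := Matrix.ProjGenLinGroup.mk_surjective h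

theorem mkP_eq_one {g : GL (Fin 2) F} : mkP g = 1 ↔ IsScal (g : M2 F) := by
  rw [Matrix.ProjGenLinGroup.mk_eq_one, isScal_iff_center]

theorem mkP_eq_iff {g h : GL (Fin 2) F} : mkP g = mkP h ↔ ∃ c : F, (h : M2 F) = c • (g : M2 F) := by
  rw [Matrix.ProjGenLinGroup.mk_eq_mk_iff]
  constructor
  · rintro ⟨u, rfl⟩
    exact ⟨u, by rw [Units.val_mul, coe_sc, mul_smul_comm, mul_one]⟩
  · rintro ⟨c, hc⟩
    have h0 : c ≠ 0 := by
      rintro rfl
      apply det_ne h; rw [hc, zero_smul, det_zero]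
    exact ⟨Units.mk0 c h0, Units.ext (by rw [Units.val_mul, coe_sc, mul_smul_comm, mul_one, hc]; rfl)⟩

/-- first homogeneous coordinate -/
def c0 (x : OnePoint F) : F := OnePoint.rec 1 (fun a => a) x
/-- second homogeneous coordinate -/
def c1 (x : OnePoint F) : F := OnePoint.rec 0 (fun _ => 1) x

@[simp] theorem c0_inf : c0 (∞ : OnePoint F) = 1 := rfl
@[simp] theorem c1_inf : c1 (∞ : OnePoint F) = 0 := rfl
@[simp] theorem c0_coe (a : F) : c0 (a : OnePoint F) = a := rfl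
@[simp] theorem c1_coe (a : F) : c1 (a : OnePoint F) = 1 := rfl

theorem pt_eq_iff {x y : OnePoint F} : x = y ↔ c0 x * c1 y = c1 x * c0 y := by
  induction x using OnePoint.rec <;> induction y using OnePoint.rec <;> simp

open Classical in
theorem gl_smul_eq_iff (g : GL (Fin 2) F) (x y : OnePoint F) : g • x = y ↔
    ((g : M2 F) 0 0 * c0 x + (g : M2 F) 0 1 * c1 x) * c1 y =
      ((g : M2 F) 1 0 * c0 x + (g : M2 F) 1 1 * c1 x) * c0 y := by
  have hd := det_ne g
  rw [det_fin_two] at hd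
  induction x using OnePoint.rec with
  | infty =>
    rw [smul_infty_eq_ite, pt_eq_iff]
    split_ifs with h
    · have : (g : M2 F) 0 0 ≠ 0 := fun h2 => hd (by rw [h, h2]; ring)
      simp [h, this]
    · simp only [c0_coe, c1_coe, c0_inf, c1_inf, mul_one, mul_zero, add_zero, one_mul]
      rw [div_mul_eq_mul_div, div_eq_iff h, mul_comm (c0 y)]
  | coe a =>
    rw [smul_some_eq_ite, pt_eq_iff]
    split_ifs with h
    · have : (g : M2 F) 0 0 * a + (g : M2 F) 0 1 ≠ 0 := fun h2 => hd (by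
        linear_combination (g : M2 F) 0 0 * h - (g : M2 F) 1 0 * h2)
      simp [h, this]
    · simp only [c0_coe, c1_coe, mul_one, one_mul]
      rw [div_mul_eq_mul_div, div_eq_iff h, mul_comm (c0 y)]

open Classical in
/-- Möbius action -/
noncomputable instance actPGL2 : MulAction (PGL2 F) (OnePoint F) :=
  Matrix.ProjGenLinGroup.mulActionOfGL (fun u a => by
    rw [gl_smul_eq_iff]; simp; ring)

theorem smul_eq_iff (g : GL (Fin 2) F) (x y : OnePoint F) : mkP g • x = y ↔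
    ((g : M2 F) 0 0 * c0 x + (g : M2 F) 0 1 * c1 x) * c1 y =
      ((g : M2 F) 1 0 * c0 x + (g : M2 F) 1 1 * c1 x) * c0 y := gl_smul_eq_iff g x y

theorem smul_inf {g : GL (Fin 2) F} : mkP g • (∞ : OnePoint F) = ∞ ↔ (g : M2 F) 1 0 = 0 := by
  rw [smul_eq_iff]; simp [eq_comm]

theorem smul_zero' {g : GL (Fin 2) F} :
    mkP g • ((0 : F) : OnePoint F) = ((0 : F) : OnePoint F) ↔ (g : M2 F) 0 1 = 0 := by
  rw [smul_eq_iff]; simp

theorem exists_three {x y z : OnePoint F} (h1 : x ≠ y) (h2 : x ≠ z) (h3 : y ≠ z) :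
    ∃ g : PGL2 F, g • (∞ : OnePoint F) = x ∧ g • ((0 : F) : OnePoint F) = y ∧
      g • ((1 : F) : OnePoint F) = z := by
  rw [Ne, pt_eq_iff, ← sub_eq_zero] at h1 h2 h3
  refine ⟨mkP (GeneralLinearGroup.mkOfDetNeZero
    !![(c0 z * c1 y - c1 z * c0 y) * c0 x, (c0 x * c1 z - c1 x * c0 z) * c0 y;
       (c0 z * c1 y - c1 z * c0 y) * c1 x, (c0 x * c1 z - c1 x * c0 z) * c1 y] ?_), ?_, ?_, ?_⟩
  · rw [det_fin_two_of]
    intro h
    apply mul_ne_zero (mul_ne_zero h1 h2) h3
    linear_combination -h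
  all_goals rw [smul_eq_iff]; simp; ring

theorem eq_one_of_three {g : PGL2 F} (h1 : g • (∞ : OnePoint F) = ∞)
    (h2 : g • ((0 : F) : OnePoint F) = ((0 : F) : OnePoint F))
    (h3 : g • ((1 : F) : OnePoint F) = ((1 : F) : OnePoint F)) : g = 1 := by
  obtain ⟨g, rfl⟩ := mkP_surj g
  rw [smul_inf] at h1
  rw [smul_zero'] at h2
  rw [smul_eq_iff] at h3
  exact mkP_eq_one.2 ⟨h2, h1, by simpa [h1, h2] using h3⟩

theorem eq_of_three {g h : PGL2 F} (h1 : g • (∞ : OnePoint F) = h • ∞)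
    (h2 : g • ((0 : F) : OnePoint F) = h • ((0 : F) : OnePoint F))
    (h3 : g • ((1 : F) : OnePoint F) = h • ((1 : F) : OnePoint F)) : g = h := by
  rw [← inv_smul_eq_iff, smul_smul] at h1 h2 h3
  exact (inv_mul_eq_one.1 (eq_one_of_three h1 h2 h3)).symm

theorem inf_ne_zero : (∞ : OnePoint F) ≠ ((0 : F) : OnePoint F) := (coe_ne_infty _).symm
theorem inf_ne_one : (∞ : OnePoint F) ≠ ((1 : F) : OnePoint F) := (coe_ne_infty _).symm
theorem zero_ne_one' : ((0 : F) : OnePoint F) ≠ ((1 : F) : OnePoint F) := by simp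

theorem eq_one_of_fix_three {g : PGL2 F} {x y z : OnePoint F} (h1 : x ≠ y) (h2 : x ≠ z) (h3 : y ≠ z)
    (hx : g • x = x) (hy : g • y = y) (hz : g • z = z) : g = 1 := by
  obtain ⟨c, rfl, rfl, rfl⟩ := exists_three h1 h2 h3
  have : c⁻¹ * g * c = 1 := eq_one_of_three (by rw [mul_smul, mul_smul, hx, inv_smul_smul])
    (by rw [mul_smul, mul_smul, hy, inv_smul_smul]) (by rw [mul_smul, mul_smul, hz, inv_smul_smul])
  rw [mul_assoc, inv_mul_eq_one] at this
  exact mul_eq_right.1 this.symm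

theorem exists_smul_inf (x : OnePoint F) : ∃ g : PGL2 F, g • (∞ : OnePoint F) = x := by
  by_cases h : x = ∞
  · exact ⟨1, by rw [h, one_smul]⟩
  by_cases h0 : x = ((0 : F) : OnePoint F)
  · obtain ⟨g, h, -⟩ := exists_three (x := x) (y := ∞) (z := ((1 : F) : OnePoint F)) h
      (by rw [h0]; exact zero_ne_one') inf_ne_one
    exact ⟨g, h⟩
  · obtain ⟨g, h, -⟩ := exists_three (x := x) (y := ∞) (z := ((0 : F) : OnePoint F)) h h0 inf_ne_zero
    exact ⟨g, h⟩

theorem card_onePoint [Fintype F] : Nat.card (OnePoint F) = Fintype.card F + 1 := by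
  rw [← Nat.card_eq_fintype_card]; exact Finite.card_option

section Map
variable {K : Type*} [Field K] (f : F →+* K)

/-- extension of scalars -/
abbrev mapP : PGL2 F →* PGL2 K := Matrix.ProjGenLinGroup.map f

theorem mapP_mk (g : GL (Fin 2) F) : mapP f (mkP g) = mkP (GeneralLinearGroup.map f g) :=
  Matrix.ProjGenLinGroup.map_mk f g

theorem isScal_map {g : GL (Fin 2) F} :
    IsScal (GeneralLinearGroup.map f g : M2 K) ↔ IsScal (g : M2 F) := by
  simp only [IsScal, GeneralLinearGroup.map_apply, map_eq_zero, f.injective.eq_iff]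

theorem mapP_injective : Function.Injective (mapP f) := by
  rw [injective_iff_map_eq_one]
  intro g hg
  obtain ⟨g, rfl⟩ := mkP_surj g
  rwa [mapP_mk, mkP_eq_one, isScal_map, ← mkP_eq_one] at hg

theorem c0_map (x : OnePoint F) : c0 (OnePoint.map f x) = f (c0 x) := by
  induction x using OnePoint.rec <;> simp
theorem c1_map (x : OnePoint F) : c1 (OnePoint.map f x) = f (c1 x) := by
  induction x using OnePoint.rec <;> simp

theorem map_pt_injective : Function.Injective (OnePoint.map f : OnePoint F → OnePoint K) := by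
  intro x y h
  rw [pt_eq_iff] at h ⊢
  apply f.injective
  simpa [c0_map, c1_map] using h

theorem mapP_smul (g : PGL2 F) (x : OnePoint F) : mapP f g • OnePoint.map f x = OnePoint.map f (g • x) := by
  obtain ⟨g, rfl⟩ := mkP_surj g
  have := (smul_eq_iff g x _).1 rfl
  rw [mapP_mk, smul_eq_iff]
  simp only [GeneralLinearGroup.map_apply, c0_map, c1_map, ← map_mul, ← map_add]
  rw [this]

end Map

variable {p : ℕ}

theorem IsReg.not_scal_pow [hp : Fact p.Prime] [CharP F p] {m : M2 F} (h : IsReg m) : ¬ IsScal (m ^ p) := by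
  intro hs
  have hc : Commute m m.adjugate := by
    rw [Commute, SemiconjBy, mul_adjugate, adjugate_mul]
  have h1 : (m - m.adjugate) ^ p = 0 := by
    rw [sub_pow_char_of_commute p hc, ← adjugate_pow, hs.eq]
    ext i j; fin_cases i <;> fin_cases j <;> simp [adjugate_fin_two]
  have h2 : (m - m.adjugate).det = 0 := by
    have := congrArg det h1
    rw [det_pow, det_zero] at this
    exact pow_eq_zero_iff hp.out.ne_zero |>.1 this
  apply h
  rw [adjugate_fin_two, det_fin_two] at h2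
  rw [trace_fin_two, det_fin_two]
  simp at h2
  linear_combination -h2

theorem isScal_pow_of_upper [hp : Fact p.Prime] [CharP F p] {m : M2 F} (h1 : m 1 0 = 0) (h2 : m 0 0 = m 1 1) :
    IsScal (m ^ p) := by
  have e : m = m 0 0 • (1 : M2 F) + !![0, m 0 1; 0, 0] := m2_ext (by simp) (by simp) (by simp [h1]) (by simp [h2])
  have hn : (!![0, m 0 1; 0, 0] : M2 F) ^ p = 0 := by
    obtain ⟨k, hk⟩ := Nat.exists_eq_add_of_le hp.out.two_le
    rw [hk, pow_add, pow_two]
    have : (!![0, m 0 1; 0, 0] : M2 F) * !![0, m 0 1; 0, 0] = 0 := m2_ext (by simp) (by simp) (by simp) (by simp)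
    rw [this, zero_mul]
  rw [e, add_pow_char_of_commute p (((Commute.one_left _).smul_left _)), hn, add_zero, smul_pow, one_pow]
  exact isScal_iff.2 ⟨_, rfl⟩

theorem eq_of_upper_of_pow [hp : Fact p.Prime] [CharP F p] {m : M2 F} (h1 : m 1 0 = 0)
    (h2 : IsScal (m ^ p)) : m 0 0 = m 1 1 := by
  by_contra hne
  refine IsReg.not_scal_pow (p := p) (m := m) (fun h => hne ?_) h2
  rw [trace_fin_two, det_fin_two, h1] at h
  have : (m 0 0 - m 1 1) ^ 2 = 0 := by linear_combination h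
  exact sub_eq_zero.1 (pow_eq_zero_iff two_ne_zero |>.1 this)

theorem mkP_pow_eq_one {g : GL (Fin 2) F} {n : ℕ} : mkP g ^ n = 1 ↔ IsScal ((g : M2 F) ^ n) := by
  rw [← map_pow, mkP_eq_one, Units.val_pow_eq_pow_val]

/-- the multiplier at infinity -/
noncomputable def rho (h : PGL2 F) : F := ((mkP_surj h).choose : M2 F) 0 0 / ((mkP_surj h).choose : M2 F) 1 1

theorem rho_mk (g : GL (Fin 2) F) : rho (mkP g) = (g : M2 F) 0 0 / (g : M2 F) 1 1 := by
  obtain ⟨c, hc⟩ := mkP_eq_iff.1 (mkP_surj (mkP g)).choose_spec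
  have h0 : c ≠ 0 := by
    rintro rfl
    apply det_ne g; rw [hc, zero_smul, det_zero]
  rw [rho]
  conv_rhs => rw [hc]
  simp only [Matrix.smul_apply, smul_eq_mul]
  rw [mul_div_mul_left _ _ h0]

theorem rho_one : rho (1 : PGL2 F) = 1 := by
  rw [← map_one mkP, rho_mk]; simp

theorem rho_mul {g h : PGL2 F} (hg : g • (∞ : OnePoint F) = ∞) (hh : h • (∞ : OnePoint F) = ∞) :
    rho (g * h) = rho g * rho h := by
  obtain ⟨g, rfl⟩ := mkP_surj g
  obtain ⟨h, rfl⟩ := mkP_surj h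
  rw [smul_inf] at hg hh
  rw [← map_mul, rho_mk, rho_mk, rho_mk, Units.val_mul, mul_apply2, mul_apply2, hg, hh, div_mul_div_comm]
  simp

theorem rho_eq_one_iff [hp : Fact p.Prime] [CharP F p] {g : PGL2 F} (hg : g • (∞ : OnePoint F) = ∞) :
    rho g = 1 ↔ g ^ p = 1 := by
  obtain ⟨g, rfl⟩ := mkP_surj g
  rw [smul_inf] at hg
  rw [rho_mk, div_eq_one_iff_eq (upper_ne hg).2, mkP_pow_eq_one]
  exact ⟨isScal_pow_of_upper hg, eq_of_upper_of_pow hg⟩

theorem conj_pow_eq_one {G : Type*} [Group G] {c g : G} {n : ℕ} : (c⁻¹ * g * c) ^ n = 1 ↔ g ^ n = 1 := by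
  have := conj_pow (a := c⁻¹) (b := g) (i := n)
  rw [inv_inv] at this
  rw [this, mul_assoc, inv_mul_eq_one, eq_comm (a := c), mul_eq_right]

theorem comm_of_fix [hp : Fact p.Prime] [CharP F p] (x : OnePoint F) (g h : PGL2 F) (hg : g • x = x)
    (hh : h • x = x) (h1 : g ^ p = 1) (h2 : h ^ p = 1) : g * h = h * g := by
  obtain ⟨c, rfl⟩ := exists_smul_inf x
  rw [← inv_smul_eq_iff, smul_smul, smul_smul] at hg hh
  rw [← conj_pow_eq_one (c := c)] at h1 h2
  suffices c⁻¹ * g * c * (c⁻¹ * h * c) = c⁻¹ * h * c * (c⁻¹ * g * c) by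
    have e : g * (h * c) = h * (g * c) := by simpa [mul_assoc] using this
    rw [← mul_assoc, ← mul_assoc] at e
    exact mul_right_cancel e
  generalize c⁻¹ * g * c = g at *
  generalize c⁻¹ * h * c = h at *
  obtain ⟨g, rfl⟩ := mkP_surj g
  obtain ⟨h, rfl⟩ := mkP_surj h
  rw [smul_inf] at hg hh
  rw [mkP_pow_eq_one] at h1 h2
  have a := eq_of_upper_of_pow hg h1
  have b := eq_of_upper_of_pow hh h2
  rw [← map_mul, ← map_mul]
  congr 1
  apply Units.ext
  refine m2_ext ?_ ?_ ?_ ?_ <;> simp only [Units.val_mul, mul_apply2, hg, hh, a, b] <;> ring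

theorem cyc_of_fix [hp : Fact p.Prime] [CharP F p] (x : OnePoint F) (H : Subgroup (PGL2 F)) [Finite H]
    (h1 : ∀ g ∈ H, g • x = x) (h2 : ∀ g ∈ H, g ^ p = 1 → g = 1) : IsCyclic H := by
  obtain ⟨c, rfl⟩ := exists_smul_inf x
  have h3 : ∀ g : H, (c⁻¹ * g * c) • (∞ : OnePoint F) = ∞ := fun g => by
    rw [mul_smul, mul_smul, h1 g g.2, inv_smul_smul]
  let χ : H →* F :=
    { toFun := fun g => rho (c⁻¹ * g * c)
      map_one' := by simp [rho_one]
      map_mul' := fun g h => by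
        rw [← rho_mul (h3 g) (h3 h)]; simp [mul_assoc] }
  apply isCyclic_of_injective_ringHom χ
  rw [injective_iff_map_eq_one]
  intro g hg
  exact Subtype.ext (h2 g g.2 (conj_pow_eq_one.1 ((rho_eq_one_iff (h3 g)).1 hg)))

theorem IsJord.fix {g : GL (Fin 2) F} (h : IsJord (g : M2 F)) (z : OnePoint F) : mkP g • z = z ↔ z = ∞ := by
  rw [smul_eq_iff, h.1, h.2.1]
  induction z using OnePoint.rec with
  | infty => simp
  | coe a =>
    simp only [c0_coe, c1_coe, coe_ne_infty, iff_false]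
    intro h2; apply h.2.2; linear_combination h2

theorem IsDiag.fix {g : GL (Fin 2) F} (h : IsDiag (g : M2 F)) (z : OnePoint F) :
    mkP g • z = z ↔ z = ∞ ∨ z = ((0 : F) : OnePoint F) := by
  rw [smul_eq_iff, h.1, h.2.1]
  induction z using OnePoint.rec with
  | infty => simp
  | coe a =>
    simp only [c0_coe, c1_coe, coe_ne_infty, false_or, coe_eq_coe]
    constructor
    · intro h2
      have : ((g : M2 F) 0 0 - (g : M2 F) 1 1) * a = 0 := by linear_combination h2
      exact (mul_eq_zero.1 this).resolve_left (sub_ne_zero.2 h.2.2)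
    · rintro rfl; simp

theorem fix_conj {g h c : GL (Fin 2) F} (hc : c * g * c⁻¹ = h) (z : OnePoint F) :
    mkP g • z = z ↔ mkP h • mkP c • z = mkP c • z := by
  rw [← hc, map_mul, map_mul, map_inv, mul_smul, mul_smul, inv_smul_smul, smul_left_cancel_iff]

theorem pow_conj {g h : GL (Fin 2) F} (hc : IsConj g h) {n : ℕ} : mkP g ^ n = 1 ↔ mkP h ^ n = 1 := by
  obtain ⟨c, rfl⟩ := isConj_iff.1 hc
  rw [map_mul, map_mul, map_inv, conj_pow, mul_inv_eq_one, mul_eq_left]

theorem fix1_of_not_ell [hp : Fact p.Prime] [CharP F p] {g : GL (Fin 2) F} (he : ¬ IsEll (g : M2 F))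
    (h1 : mkP g ≠ 1) (h2 : mkP g ^ p = 1) : ∃ x : OnePoint F, ∀ z, mkP g • z = z ↔ z = x := by
  rcases classify g with h | h | ⟨h, hc, hh⟩ | ⟨h, hc, hh⟩
  · exact absurd (mkP_eq_one.2 h) h1
  · exact absurd h he
  · obtain ⟨c, hc⟩ := isConj_iff.1 hc
    exact ⟨(mkP c)⁻¹ • ∞, fun z => by rw [fix_conj hc, hh.fix, eq_inv_smul_iff]⟩
  · exact absurd (mkP_pow_eq_one.1 ((pow_conj hc).1 h2)) hh.isReg.not_scal_pow

theorem fix1_of_finite [Finite F] [hp : Fact p.Prime] [CharP F p] {g : PGL2 F}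
    (h1 : g ≠ 1) (h2 : g ^ p = 1) : ∃ x : OnePoint F, ∀ z, g • z = z ↔ z = x := by
  obtain ⟨g, rfl⟩ := mkP_surj g
  exact fix1_of_not_ell (fun h => h.isReg.not_scal_pow (mkP_pow_eq_one.1 h2)) h1 h2

theorem not_ell [IsAlgClosed F] (m : M2 F) : ¬ IsEll m := by
  rw [isEll_iff]
  intro h
  obtain ⟨c, hc⟩ := IsAlgClosed.exists_root
    (Polynomial.C 1 * Polynomial.X ^ 2 + Polynomial.C (-m.trace) * Polynomial.X + Polynomial.C m.det)
    (by rw [Polynomial.degree_quadratic one_ne_zero]; norm_num)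
  apply h c
  simp only [Polynomial.IsRoot.def, Polynomial.eval_add, Polynomial.eval_mul, Polynomial.eval_C,
    Polynomial.eval_pow, Polynomial.eval_X] at hc
  linear_combination hc

theorem klein [IsAlgClosed F] [hp : Fact p.Prime] [CharP F p] : Klein p (PGL2 F) (OnePoint F) := by
  refine ⟨fun g h1 h2 => ?_, fun g h1 => ?_, comm_of_fix, fun x H _ => cyc_of_fix x H⟩
  · obtain ⟨g, rfl⟩ := mkP_surj g
    exact fix1_of_not_ell (not_ell _) h1 h2
  · obtain ⟨g, rfl⟩ := mkP_surj g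
    rcases classify g with h | h | ⟨h, hc, hh⟩ | ⟨h, hc, hh⟩
    · exact absurd (by rw [mkP_eq_one.2 h, one_pow]) h1
    · exact absurd h (not_ell _)
    · exact absurd ((pow_conj hc).2 (mkP_pow_eq_one.2 (isScal_pow_of_upper hh.1 hh.2.1))) h1
    · obtain ⟨c, hc⟩ := isConj_iff.1 hc
      exact ⟨(mkP c)⁻¹ • ∞, (mkP c)⁻¹ • ((0 : F) : OnePoint F), fun h => inf_ne_zero (smul_left_cancel _ h),
        fun z => by rw [fix_conj hc, hh.fix, eq_inv_smul_iff, eq_inv_smul_iff]⟩

end Cfsg.Agent.Perm.GL2
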