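import Mathlib
import Cfsg.Agent.Lib.Perm.Dick1
import Cfsg.Agent.Lib.Transfer.Cyc2

/-! Dickson's list of the subgroups of `PGL₂(q)`. -/

namespace Cfsg.Agent.Perm.GL2
open Matrix OnePoint MulAction Cfsg.Agent.Perm
open Matrix.SpecialLinearGroup (toGL toGL_injective)

variable {F : Type*} [Field F]

/-- the image of `SL₂` -/
abbrev PS (F : Type*) [Field F] : Subgroup (PGL2 F) :=
  (Matrix.ProjGenLinGroup.mk.comp (toGL : SL2 F →* GL (Fin 2) F)).range

/-- the embedding of `PSL₂` -/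
abbrev io : PSL2 F →* PGL2 F := Matrix.ProjectiveSpecialLinearGroup.toPGL

theorem io_injective : Function.Injective (io : PSL2 F →* PGL2 F) :=
  Matrix.ProjectiveSpecialLinearGroup.toPGL_injective

theorem io_toP (g : SL2 F) : io (toP g) = mkP (toGL g) := rfl

theorem io_mem (g : PSL2 F) : io g ∈ PS F := by
  obtain ⟨g, rfl⟩ := toP_surjective g
  exact ⟨g, rfl⟩

theorem range_io : (io : PSL2 F →* PGL2 F).range = PS F := by
  apply le_antisymm
  · rintro _ ⟨g, rfl⟩; exact io_mem g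
  · rintro _ ⟨g, rfl⟩; exact ⟨toP g, rfl⟩

theorem exists_io {g : PGL2 F} (h : g ∈ PS F) : ∃ x, io x = g := by
  rw [← range_io] at h; exact h

/-- `PSL₂` and its image -/
noncomputable def psEquiv : PSL2 F ≃* PS F :=
  (MonoidHom.ofInjective io_injective).trans (MulEquiv.subgroupCongr range_io)

theorem coe_psEquiv (g : PSL2 F) : (psEquiv g : PGL2 F) = io g := rfl

theorem mem_PS {g : GL (Fin 2) F} : mkP g ∈ PS F ↔ IsSquare (g : M2 F).det := by
  constructor
  · rintro ⟨x, hx⟩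
    obtain ⟨c, hc⟩ := mkP_eq_iff.1 (show mkP (toGL x) = mkP g from hx)
    exact ⟨c, by rw [hc, det_smul, coe_toGL, x.det_coe]; simp [pow_two]⟩
  · rintro ⟨c, hc⟩
    have h0 : c ≠ 0 := by rintro rfl; exact det_ne g (by rw [hc, mul_zero])
    refine ⟨⟨c⁻¹ • (g : M2 F), by rw [det_smul, hc]; simp; field_simp⟩, ?_⟩
    refine mkP_eq_iff.2 ⟨c, ?_⟩
    change (g : M2 F) = c • c⁻¹ • (g : M2 F)
    rw [smul_smul, mul_inv_cancel₀ h0, one_smul]

instance normal_PS : (PS F).Normal := ⟨fun g hg c => by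
  obtain ⟨g, rfl⟩ := mkP_surj g
  obtain ⟨c, rfl⟩ := mkP_surj c
  rw [← map_inv, ← map_mul, ← map_mul, mem_PS, Units.val_mul, Units.val_mul, det_conj'']
  exact mem_PS.1 hg⟩

theorem sq_mem_PS (g : PGL2 F) : g ^ 2 ∈ PS F := by
  obtain ⟨g, rfl⟩ := mkP_surj g
  rw [← map_pow, mem_PS, Units.val_pow_eq_pow_val, det_pow]
  exact ⟨_, pow_two _⟩

theorem mem_PS_of_odd {g : PGL2 F} {n : ℕ} (hn : Odd n) (h : g ^ n = 1) : g ∈ PS F := by
  obtain ⟨k, rfl⟩ := hn
  have : g = ((g ^ 2) ^ k)⁻¹ := by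
    rw [eq_inv_iff_mul_eq_one, ← pow_mul, ← pow_succ', h]
  rw [this]; exact inv_mem (pow_mem (sq_mem_PS g) k)

instance finitePGL2 [Finite F] : Finite (PGL2 F) := Finite.of_surjective _ Matrix.ProjGenLinGroup.mk_surjective

theorem card_center_GL2 [Fintype F] : Nat.card (Subgroup.center (GL (Fin 2) F)) = Fintype.card F - 1 := by
  rw [← Nat.card_eq_fintype_card, ← Nat.card_units]
  symm
  refine Nat.card_congr (Equiv.ofBijective (fun a => ⟨sc a, isScal_iff_center.1 (isScal_sc a)⟩) ⟨?_, ?_⟩)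
  · intro a b h; exact sc_injective (congrArg Subtype.val h)
  · rintro ⟨z, hz⟩
    obtain ⟨a, rfl⟩ := isScal_iff_sc.1 (isScal_iff_center.2 hz)
    exact ⟨a, rfl⟩

theorem card_map_mkP [Fintype F] {C : Subgroup (GL (Fin 2) F)} (h : Subgroup.center _ ≤ C) :
    Nat.card (C.map mkP) * (Fintype.card F - 1) = Nat.card C := by
  rw [← card_center_GL2, ← Matrix.ProjGenLinGroup.ker_mk, ← Subgroup.relIndex_ker,
    mul_comm, ← Nat.card_congr (Subgroup.subgroupOfEquivOfLe
      (show (mkP (F := F)).ker ≤ C by rw [Matrix.ProjGenLinGroup.ker_mk]; exact h)).toEquiv]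
  exact Subgroup.card_mul_index _

theorem card_PGL2 [Fintype F] :
    Nat.card (PGL2 F) = Fintype.card F * (Fintype.card F + 1) * (Fintype.card F - 1) := by
  have := card_map_mkP (F := F) (C := ⊤) le_top
  rw [Subgroup.map_top_of_surjective _ Matrix.ProjGenLinGroup.mk_surjective, Subgroup.card_top,
    Subgroup.card_top, card_GL2, pow_two, ← mul_assoc] at this
  exact Nat.eq_of_mul_eq_mul_right card_sub_one_pos this

theorem card_PS : Nat.card (PS F) = Nat.card (PSL2 F) := (Nat.card_congr psEquiv.toEquiv).symm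

theorem card_PS_mul [Fintype F] : Nat.card (PS F) * Nat.gcd 2 (Fintype.card F - 1) =
    Fintype.card F * (Fintype.card F + 1) * (Fintype.card F - 1) := by rw [card_PS, card_PSL2_mul]

theorem gcd_two_cases (q : ℕ) : Nat.gcd 2 q = 1 ∨ Nat.gcd 2 q = 2 :=
  (Nat.dvd_prime Nat.prime_two).1 (Nat.gcd_dvd_left _ _)

theorem gcd_odd {q : ℕ} (h : Odd q) : Nat.gcd 2 (q - 1) = 2 := by
  obtain ⟨k, rfl⟩ := h; simp

theorem gcd_even {q : ℕ} (h : Even q) (h0 : 0 < q) : Nat.gcd 2 (q - 1) = 1 := by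
  rcases gcd_two_cases (q - 1) with h1 | h1
  · exact h1
  · have := Nat.gcd_dvd_right 2 (q - 1)
    rw [h1] at this
    obtain ⟨k, rfl⟩ := h
    omega

theorem PS_eq_top [Finite F] (h : (2 : F) = 0) : PS F = ⊤ := by
  rw [eq_top_iff]
  intro g _
  obtain ⟨g, rfl⟩ := mkP_surj g
  exact mem_PS.2 (FiniteField.isSquare_of_char_two (ringChar_eq_two h) _)

/-- translations -/
def tr (a : F) : PGL2 F := mkP (up 1 1 a)

theorem tr_inf (a : F) : tr a • (∞ : OnePoint F) = ∞ := smul_inf.2 (by simp)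

theorem tr_coe (a z : F) : tr a • (z : OnePoint F) = ((z + a : F) : OnePoint F) := by
  rw [tr, smul_eq_iff]; simp

theorem tr_mem (a : F) : tr a ∈ PS F := mem_PS.2 (by simp [det_fin_two])

theorem tr_eq (a : F) : tr a = mkP (toGL (upS 1 a)) := by
  rw [tr]; congr 1; apply Units.ext; simp

variable {p : ℕ}

theorem tr_pow [hp : Fact p.Prime] [CharP F p] (a : F) : tr a ^ p = 1 :=
  mkP_pow_eq_one.2 (isScal_pow_of_upper (by simp) (by simp))

theorem tr_eq_one {a : F} : tr a = 1 ↔ a = 0 := by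
  rw [tr, mkP_eq_one]; simp [IsScal]

theorem aff {g : PGL2 F} (hg : g • (∞ : OnePoint F) = ∞) :
    rho g ≠ 0 ∧ ∃ b : F, ∀ z : F, g • (z : OnePoint F) = ((rho g * z + b : F) : OnePoint F) := by
  obtain ⟨g, rfl⟩ := mkP_surj g
  rw [smul_inf] at hg
  obtain ⟨h1, h2⟩ := upper_ne hg
  rw [rho_mk]
  refine ⟨div_ne_zero h1 h2, (g : M2 F) 0 1 / (g : M2 F) 1 1, fun z => ?_⟩
  rw [smul_eq_iff, hg]; simp; field_simp

theorem eq_tr [hp : Fact p.Prime] [CharP F p] {g : PGL2 F} (hg : g • (∞ : OnePoint F) = ∞) (h : g ^ p = 1) :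
    ∃ a, g = tr a := by
  obtain ⟨-, b, hb⟩ := aff hg
  rw [(rho_eq_one_iff hg).2 h] at hb
  exact ⟨b, eq_of_three (by rw [hg, tr_inf]) (by rw [hb, tr_coe, one_mul]) (by rw [hb, tr_coe, one_mul])⟩

theorem SL2_eq_top (S : Subgroup (SL2 F)) (h1 : ∀ a, upS 1 a ∈ S)
    (h2 : ∀ a, mkS 1 0 a 1 (by simp) ∈ S) : S = ⊤ := by
  have key : ∀ g : SL2 F, (g : M2 F) 1 0 ≠ 0 → g ∈ S := fun g hg => by
    have hd := det_SL g
    have : g = upS 1 (((g : M2 F) 0 0 - 1) / (g : M2 F) 1 0) * mkS 1 0 ((g : M2 F) 1 0) 1 (by simp) *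
        upS 1 (((g : M2 F) 1 1 - 1) / (g : M2 F) 1 0) := by
      apply Subtype.ext
      apply m2_ext <;> simp [mul_apply2] <;> field_simp <;> first | ring1 | linear_combination -hd
    rw [this]; exact mul_mem (mul_mem (h1 _) (h2 _)) (h1 _)
  rw [eq_top_iff]
  intro g _
  by_cases hg : (g : M2 F) 1 0 = 0
  · have := key (mkS 1 0 1 1 (by simp) * g) (by simp [mul_apply2, hg, upper_ne_SL hg])
    exact (S.mul_mem_cancel_left (h2 1)).1 this
  · exact key g hg

theorem PS_le_of_normal (N : Subgroup (PGL2 F)) [hN : N.Normal] (h : ∀ a, tr a ∈ N) : PS F ≤ N := by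
  have := SL2_eq_top (N.comap (mkP.comp toGL)) (fun a => by
    rw [Subgroup.mem_comap]; exact tr_eq a ▸ h a) (fun a => by
    have := hN.conj_mem _ (h (-a)) (mkP (toGL (mkS 0 1 (-1) 0 (by simp))))
    rw [tr_eq, ← map_inv, ← map_inv, ← map_mul, ← map_mul, ← map_mul, ← map_mul] at this
    rw [Subgroup.mem_comap]
    convert this using 1
    change mkP (toGL _) = _
    congr 2
    apply Subtype.ext
    apply m2_ext <;> simp [mul_apply2, adjugate_fin_two])
  rintro _ ⟨g, rfl⟩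
  exact (show g ∈ N.comap (mkP.comp toGL) by rw [this]; trivial)

theorem mapP_tr {K : Type*} [Field K] (f : F →+* K) (a : F) : mapP f (tr a) = tr (f a) := by
  rw [tr, mapP_mk, tr]; congr 1; apply Units.ext
  apply m2_ext <;> simp [GeneralLinearGroup.map_apply]

theorem exists_map_pt (L : Subfield F) {x : OnePoint F} (h : ∀ a : F, x = a → a ∈ L) :
    ∃ y : OnePoint L, OnePoint.map L.subtype y = x := by
  induction x using OnePoint.rec with
  | infty => exact ⟨∞, rfl⟩
  | coe a => exact ⟨((⟨a, h a rfl⟩ : L) : OnePoint L), rfl⟩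

theorem mem_range_mapP (L : Subfield F) {g : PGL2 F} (h1 : ∀ a : F, g • (∞ : OnePoint F) = a → a ∈ L)
    (h2 : ∀ a : F, g • ((0 : F) : OnePoint F) = a → a ∈ L)
    (h3 : ∀ a : F, g • ((1 : F) : OnePoint F) = a → a ∈ L) : g ∈ (mapP L.subtype).range := by
  obtain ⟨x, hx⟩ := exists_map_pt L h1
  obtain ⟨y, hy⟩ := exists_map_pt L h2
  obtain ⟨z, hz⟩ := exists_map_pt L h3
  obtain ⟨c, a1, a2, a3⟩ := exists_three (x := x) (y := y) (z := z)
    (by rintro rfl; exact inf_ne_zero (smul_left_cancel g (hx.symm.trans hy)))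
    (by rintro rfl; exact inf_ne_one (smul_left_cancel g (hx.symm.trans hz)))
    (by rintro rfl; exact zero_ne_one' (smul_left_cancel g (hy.symm.trans hz)))
  refine ⟨c, eq_of_three ?_ ?_ ?_⟩
  · rw [← hx, ← a1, ← mapP_smul]; rfl
  · rw [← hy, ← a2, ← mapP_smul]; rfl
  · rw [← hz, ← a3, ← mapP_smul]; rfl

theorem lcase [Fintype F] [hp : Fact p.Prime] [CharP F p] (H : Subgroup (PGL2 F)) (U : Subgroup H)
    (hU : ∀ g : H, g ∈ U ↔ g • (∞ : OnePoint F) = ∞ ∧ g ^ p = 1) (hq : 2 < Nat.card U)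
    (h0 : ((0 : F) : OnePoint F) ∈ orbit H (∞ : OnePoint F))
    (h1 : ((1 : F) : OnePoint F) ∈ orbit H (∞ : OnePoint F))
    (hO : Nat.card (orbit H (∞ : OnePoint F)) = Nat.card U + 1)
    (hB : Nat.card (stabilizer H (∞ : OnePoint F)) = Nat.card U * (Nat.card U - 1) ∨
      2 * Nat.card (stabilizer H (∞ : OnePoint F)) = Nat.card U * (Nat.card U - 1)) :
    ∃ L : Subfield F, Nat.card L = Nat.card U ∧
      (H = (mapP L.subtype).range ∨ H = (PS L).map (mapP L.subtype)) := by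
  classical
  set q0 := Nat.card U with hq0
  let A : Set F := {a | (a : OnePoint F) ∈ orbit H (∞ : OnePoint F)}
  have hA : A.ncard = q0 := by
    have e : orbit H (∞ : OnePoint F) = insert ∞ ((fun a : F => (a : OnePoint F)) '' A) := by
      ext x
      induction x using OnePoint.rec with
      | infty => simp [mem_orbit_self]
      | coe a => simp [A]
    have := hO
    rw [Nat.card_coe_set_eq, e, Set.ncard_insert_of_notMem (by simp),
      Set.ncard_image_of_injective _ coe_injective] at this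
    omega
  have hsm : ∀ (g : H) (x : OnePoint F), x ∈ orbit H (∞ : OnePoint F) → (g : PGL2 F) • x ∈ orbit H (∞ : OnePoint F) :=
    fun g x ⟨k, hk⟩ => ⟨g * k, by rw [← hk]; exact mul_smul g k _⟩
  let A' : Set F := {a | tr a ∈ H}
  have hA'A : A' ⊆ A := fun a ha => by
    have := hsm ⟨_, ha⟩ _ h0
    rwa [tr_coe, zero_add] at this
  have hA' : A'.ncard = q0 := by
    rw [← Nat.card_coe_set_eq]
    refine Nat.card_congr (Equiv.ofBijective (fun a => ⟨⟨tr a, a.2⟩, (hU _).2 ⟨tr_inf _,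
      Subtype.ext (tr_pow _)⟩⟩) ⟨fun a b h => ?_, fun u => ?_⟩)
    · have : tr (a : F) = tr (b : F) := congrArg (fun x : U => ((x : H) : PGL2 F)) h
      have h2 := tr_coe (a : F) 0
      rw [this, tr_coe] at h2
      exact Subtype.ext (by simpa using h2.symm)
    · obtain ⟨h1, h2⟩ := (hU _).1 u.2
      obtain ⟨a, ha⟩ := eq_tr (p := p) (g := ((u : H) : PGL2 F)) h1 (congrArg Subtype.val h2)
      exact ⟨⟨a, by change tr a ∈ H; rw [← ha]; exact (u : H).2⟩, Subtype.ext (Subtype.ext ha.symm)⟩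
  have hAA : A' = A := Set.eq_of_subset_of_ncard_le hA'A (by rw [hA, hA'])
  have htr : ∀ a ∈ A, tr a ∈ H := fun a ha => by rw [← hAA] at ha; exact ha
  have hadd : ∀ a ∈ A, ∀ b ∈ A, a + b ∈ A := fun a ha b hb => by
    have := hsm ⟨_, htr b hb⟩ _ ha
    rwa [tr_coe] at this
  have hneg : ∀ a ∈ A, -a ∈ A := fun a ha => by
    have := hsm ⟨_, inv_mem (htr a ha)⟩ _ h0
    have e : (tr a)⁻¹ • ((0 : F) : OnePoint F) = ((-a : F) : OnePoint F) := by
      rw [inv_smul_eq_iff, tr_coe, neg_add_cancel]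
    rwa [e] at this
  have hrho : ∀ g : H, (g : PGL2 F) • (∞ : OnePoint F) = ∞ → ∀ a ∈ A, rho (g : PGL2 F) * a ∈ A := by
    intro g hg a ha
    obtain ⟨-, b, hb⟩ := aff hg
    have e1 : rho (g : PGL2 F) * a + b ∈ A := by have := hsm g _ ha; rwa [hb] at this
    have e2 : rho (g : PGL2 F) * 0 + b ∈ A := by have := hsm g _ h0; rwa [hb] at this
    have := hadd _ e1 _ (hneg _ e2)
    simpa using this
  let AA : AddSubgroup F := { carrier := A, add_mem' := fun {a b} ha hb => hadd a ha b hb, zero_mem' := h0,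
                              neg_mem' := fun {a} ha => hneg a ha }
  let L : Subfield F :=
    { carrier := {c | ∀ a ∈ A, c * a ∈ A}
      mul_mem' := fun {a b} ha hb c hc => by rw [mul_assoc]; exact ha _ (hb c hc)
      one_mem' := fun c hc => by rwa [one_mul]
      add_mem' := fun {a b} ha hb c hc => by rw [add_mul]; exact hadd _ (ha c hc) _ (hb c hc)
      zero_mem' := fun c hc => by rw [zero_mul]; exact h0
      neg_mem' := fun {a} ha c hc => by rw [neg_mul]; exact hneg _ (ha c hc)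
      inv_mem' := fun a ha c hc => by
        by_cases h : a = 0
        · rw [h, _root_.inv_zero, zero_mul]; exact h0
        have : Set.SurjOn (fun x => a * x) A A :=
          ((Set.toFinite A).injOn_iff_bijOn_of_mapsTo (f := fun x => a * x) ha).1
            (fun x _ y _ hxy => mul_left_cancel₀ h hxy) |>.surjOn
        obtain ⟨d, hd, rfl⟩ := this hc
        simpa [h] using hd }
  have hLA : L.toSubring.toAddSubgroup ≤ AA := fun c hc => by
    have := hc 1 h1
    rwa [mul_one] at this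
  have hdvd : Nat.card L ∣ q0 := by
    have := AddSubgroup.card_dvd_of_le hLA
    rwa [show Nat.card AA = q0 from hA] at this
  let χ : stabilizer H (∞ : OnePoint F) →* Lˣ := MonoidHom.toHomUnits
    { toFun := fun g => ⟨rho ((g : H) : PGL2 F), hrho g g.2⟩
      map_one' := Subtype.ext rho_one
      map_mul' := fun g h => Subtype.ext (rho_mul g.2 h.2) }
  have hUB : U ≤ stabilizer H (∞ : OnePoint F) := fun g hg => ((hU g).1 hg).1
  have hker : χ.ker = U.subgroupOf _ := by
    ext g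
    rw [MonoidHom.mem_ker, Subgroup.mem_subgroupOf, hU, Units.ext_iff, Subtype.ext_iff]
    change rho _ = 1 ↔ _
    rw [rho_eq_one_iff (p := p) g.2, Subtype.ext_iff]
    exact ⟨fun h => ⟨g.2, h⟩, fun h => h.2⟩
  have hle : Nat.card (stabilizer H (∞ : OnePoint F)) ≤ q0 * (Nat.card L - 1) := by
    rw [← χ.ker.card_mul_index, Subgroup.index_ker, hker,
      Nat.card_congr (Subgroup.subgroupOfEquivOfLe hUB).toEquiv, ← Nat.card_units]
    exact Nat.mul_le_mul_left _ (Subgroup.card_le_card_group _)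
  have hL : Nat.card L = q0 := by
    obtain ⟨k, hk⟩ := hdvd
    have hLpos : 0 < Nat.card L := Nat.card_pos
    have : q0 * (q0 - 1) ≤ q0 * (2 * (Nat.card L - 1)) := by
      rcases hB with h | h <;> nlinarith
    have h3 := Nat.le_of_mul_le_mul_left this (by omega)
    rcases k with _ | _ | k
    · omega
    · omega
    · have : Nat.card L * (k + 1 + 1) ≥ Nat.card L * 2 := Nat.mul_le_mul_left _ (by omega)
      omega
  have hLA2 : ∀ a ∈ A, a ∈ L := by
    have : (L : Set F) = A := Set.eq_of_subset_of_ncard_le hLA (by rw [hA, ← hL]; rfl)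
    intro a ha; rw [← this] at ha; exact ha
  have hH : H ≤ (mapP L.subtype).range := fun g hg => by
    refine mem_range_mapP L (fun a ha => hLA2 a ?_) (fun a ha => hLA2 a ?_) (fun a ha => hLA2 a ?_)
    · have := hsm ⟨g, hg⟩ _ (mem_orbit_self _); rwa [ha] at this
    · have := hsm ⟨g, hg⟩ _ h0; rwa [ha] at this
    · have := hsm ⟨g, hg⟩ _ h1; rwa [ha] at this
  refine ⟨L, hL, ?_⟩
  haveI : Fintype L := Fintype.ofFinite L
  have hcL : Fintype.card L = q0 := by rw [← hL, Nat.card_eq_fintype_card]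
  have hcH : Nat.card H = (q0 + 1) * Nat.card (stabilizer H (∞ : OnePoint F)) := by
    rw [← hO, ← Nat.card_prod, Nat.card_congr (orbitProdStabilizerEquivGroup H _)]
  have hcR : Nat.card (mapP L.subtype).range = q0 * (q0 + 1) * (q0 - 1) := by
    rw [← Nat.card_congr (MonoidHom.ofInjective (mapP_injective L.subtype)).toEquiv, card_PGL2, hcL]
  rcases hB with h | h
  · left
    exact Subgroup.eq_of_le_of_card_ge hH (by rw [hcH, hcR, h]; apply le_of_eq; ring)
  · right
    have hmap : (H.comap (mapP L.subtype)).map (mapP L.subtype) = H := Subgroup.map_comap_eq_self hH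
    have hc' : Nat.card (H.comap (mapP L.subtype)) = Nat.card H := by
      conv_rhs => rw [← hmap]
      exact (Subgroup.card_map_of_injective (mapP_injective _)).symm
    have hidx : (H.comap (mapP L.subtype)).index = 2 := by
      have := (H.comap (mapP L.subtype)).card_mul_index
      rw [card_PGL2, hcL, hc'] at this
      apply Nat.eq_of_mul_eq_mul_left (Nat.card_pos (α := H))
      rw [this, hcH]
      calc q0 * (q0 + 1) * (q0 - 1) = (q0 + 1) * (q0 * (q0 - 1)) := by ring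
        _ = _ := by rw [← h]; ring
    haveI := Subgroup.normal_of_index_eq_two hidx
    have hPS : PS L ≤ H.comap (mapP L.subtype) := PS_le_of_normal _ fun a => by
      rw [Subgroup.mem_comap, mapP_tr]; exact htr _ (hLA a.2)
    have : PS L = H.comap (mapP L.subtype) := Subgroup.eq_of_le_of_card_ge hPS (by
      have e1 := card_PS_mul (F := L)
      have e2 := (H.comap (mapP L.subtype)).card_mul_index
      rw [card_PGL2, hidx, ← e1] at e2
      rcases gcd_two_cases (Fintype.card L - 1) with h | h <;> rw [h] at e2 <;> omega)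
    rw [this, hmap]

/-- conjugate subgroup -/
abbrev cjs {G : Type*} [Group G] (c : G) (H : Subgroup G) : Subgroup G := H.map (MulAut.conj c).toMonoidHom

theorem mem_cjs {G : Type*} [Group G] {c g : G} {H : Subgroup G} : g ∈ cjs c H ↔ c⁻¹ * g * c ∈ H := by
  rw [Subgroup.mem_map_equiv]; simp

theorem cjs_cjs_inv {G : Type*} [Group G] (c : G) (H : Subgroup G) : cjs c (cjs c⁻¹ H) = H := by
  ext g; simp [mem_cjs, mul_assoc]

theorem cjs_inv_cjs {G : Type*} [Group G] (c : G) (H : Subgroup G) : cjs c⁻¹ (cjs c H) = H := by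
  ext g; simp [mem_cjs, mul_assoc]

/-- a subgroup and its conjugate -/
noncomputable def cjsEquiv {G : Type*} [Group G] (c : G) (H : Subgroup G) : H ≃* cjs c H :=
  H.equivMapOfInjective _ (MulAut.conj c).injective

theorem card_cjs {G : Type*} [Group G] (c : G) (H : Subgroup G) : Nat.card (cjs c H) = Nat.card H :=
  (Nat.card_congr (cjsEquiv c H).toEquiv).symm

theorem cjs_mono {G : Type*} [Group G] (c : G) {H K : Subgroup G} (h : H ≤ K) : cjs c H ≤ cjs c K :=
  Subgroup.map_mono h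

theorem cjs_normal {G : Type*} [Group G] (c : G) (N : Subgroup G) [hN : N.Normal] : cjs c N = N := by
  ext g; rw [mem_cjs]
  exact ⟨fun h => by simpa [mul_assoc] using hN.conj_mem _ h c, fun h => hN.conj_mem' _ h c⟩

theorem dickson [Fintype F] (p : ℕ) [hp : Fact p.Prime] [CharP F p] (H : Subgroup (PGL2 F)) :
    (IsCyclic H ∧ ¬ p ∣ Nat.card H) ∨ Klein.IsDih p H ∨
    (p ∣ Nat.card H ∧ ∃ x : OnePoint F, ∀ g ∈ H, g • x = x) ∨
    (¬ p ∣ Nat.card H ∧ (Nonempty (H ≃* alternatingGroup (Fin 4)) ∨ Nonempty (H ≃* Equiv.Perm (Fin 4)))) ∨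
    ((¬ p ∣ Nat.card H ∨ p = 3) ∧ Nonempty (H ≃* alternatingGroup (Fin 5))) ∨
    ∃ (L : Subfield F) (c : PGL2 F), 2 < Nat.card L ∧
      (H = cjs c (mapP L.subtype).range ∨ H = cjs c ((PS L).map (mapP L.subtype))) := by
  let K := AlgebraicClosure F
  let f : F →+* K := algebraMap F K
  letI : MulAction H (OnePoint K) := MulAction.compHom _ ((mapP f).comp H.subtype)
  have hK : Klein p H (OnePoint K) :=
    (klein (F := K) (p := p)).comap _ ((mapP_injective f).comp H.subtype_injective)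
  have hsm : ∀ (g : H) (x : OnePoint F), g • OnePoint.map f x = OnePoint.map f ((g : PGL2 F) • x) :=
    fun g x => mapP_smul f g x
  by_cases hU : ∀ x, hK.U x = ⊥
  · rcases hK.classify_coprime hU with h | h | ⟨h, h1 | h1 | h1⟩
    · exact Or.inl h
    · exact Or.inr (Or.inl h)
    · exact Or.inr (Or.inr (Or.inr (Or.inl ⟨h, Or.inl h1⟩)))
    · exact Or.inr (Or.inr (Or.inr (Or.inl ⟨h, Or.inr h1⟩)))
    · exact Or.inr (Or.inr (Or.inr (Or.inr (Or.inl ⟨Or.inl h, h1⟩))))
  push Not at hU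
  obtain ⟨x, hx⟩ := hU
  obtain ⟨⟨u, hu⟩, hu1⟩ := (Subgroup.ne_bot_iff_exists_ne_one).1 hx
  have hu1' : u ≠ 1 := fun h => hu1 (Subtype.ext h)
  obtain ⟨x0, hx0⟩ := fix1_of_finite (p := p) (g := (u : PGL2 F)) (fun h => hu1' (Subtype.ext h))
    (congrArg Subtype.val hu.2)
  obtain rfl : OnePoint.map f x0 = x := hK.eq_of_mem_U hu hu1' (by rw [hsm, (hx0 _).2 rfl])
  have hfix : ∀ g : H, g • OnePoint.map f x0 = OnePoint.map f x0 ↔ (g : PGL2 F) • x0 = x0 := fun g => by
    rw [hsm, (map_pt_injective f).eq_iff]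
  rcases hK.classify_parabolic hx with h | h | ⟨h, h1⟩ | ⟨hq, hO, hB⟩
  · exact Or.inr (Or.inl h)
  · refine Or.inr (Or.inr (Or.inl ⟨?_, x0, fun g hg => (hfix ⟨g, hg⟩).1 (h _)⟩))
    rw [← orderOf_eq_prime hu.2 hu1']
    exact orderOf_dvd_natCard u
  · exact Or.inr (Or.inr (Or.inr (Or.inr (Or.inl ⟨Or.inr h, h1⟩))))
  refine Or.inr (Or.inr (Or.inr (Or.inr (Or.inr ?_))))
  have hO' : Nat.card (orbit H x0) = Nat.card (hK.U (OnePoint.map f x0)) + 1 := by
    rw [← hO]
    refine Nat.card_congr (Equiv.ofBijective (fun y => ⟨OnePoint.map f y, ?_⟩) ⟨?_, ?_⟩)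
    · obtain ⟨_, g, rfl⟩ := y
      exact ⟨g, hsm g x0⟩
    · intro a b h; exact Subtype.ext (map_pt_injective f (congrArg Subtype.val h))
    · rintro ⟨_, g, rfl⟩
      exact ⟨⟨_, g, rfl⟩, Subtype.ext (hsm g x0).symm⟩
  have hst : stabilizer H (OnePoint.map f x0) = stabilizer H x0 := Subgroup.ext hfix
  rw [hst] at hB
  obtain ⟨y, z, hy, hz, hyz⟩ := (Set.one_lt_ncard_iff (s := orbit H x0 \ {x0})).1 (by
    rw [Set.ncard_diff_singleton_of_mem (mem_orbit_self _), ← Nat.card_coe_set_eq, hO']; omega)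
  obtain ⟨c, a1, a2, a3⟩ := exists_three (x := x0) (y := y) (z := z) (fun h => hy.2 h.symm)
    (fun h => hz.2 h.symm) hyz
  let e := cjsEquiv c⁻¹ H
  have he : ∀ g : H, (e g : PGL2 F) = c⁻¹ * g * c := fun g => by
    change c⁻¹ * g * c⁻¹⁻¹ = _; rw [inv_inv]
  have hes : ∀ (g : H) (w : OnePoint F), e g • w = c⁻¹ • (g : PGL2 F) • c • w := fun g w => by
    change (e g : PGL2 F) • w = _; rw [he, mul_smul, mul_smul]
  have horb : ∀ w, w ∈ orbit (cjs c⁻¹ H) (∞ : OnePoint F) ↔ c • w ∈ orbit H x0 := fun w => by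
    constructor
    · rintro ⟨g, rfl⟩
      obtain ⟨g, rfl⟩ := e.surjective g
      exact ⟨g, by simp only [hes, smul_inv_smul, a1]; rfl⟩
    · rintro ⟨g, hg⟩
      refine ⟨e g, ?_⟩
      simp only [hes, a1]
      rw [inv_smul_eq_iff]; exact hg
  have hfe : ∀ g : H, e g • (∞ : OnePoint F) = ∞ ↔ (g : PGL2 F) • x0 = x0 := fun g => by
    rw [hes, inv_smul_eq_iff, a1]
  have hcU : Nat.card ((hK.U (OnePoint.map f x0)).map e.toMonoidHom) = Nat.card (hK.U (OnePoint.map f x0)) :=
    Subgroup.card_map_of_injective e.injective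
  have hcS : Nat.card (stabilizer (cjs c⁻¹ H) (∞ : OnePoint F)) = Nat.card (stabilizer H x0) := by
    rw [← Subgroup.card_map_of_injective (K := stabilizer H x0) (f := e.toMonoidHom) e.injective]
    congr 3
    ext g
    obtain ⟨g, rfl⟩ := e.surjective g
    rw [Subgroup.mem_map_equiv, e.symm_apply_apply]
    exact hfe g
  obtain ⟨L, hL, hH⟩ := lcase (p := p) (cjs c⁻¹ H) ((hK.U (OnePoint.map f x0)).map e.toMonoidHom)
    (fun g => by
      obtain ⟨g, rfl⟩ := e.surjective g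
      rw [Subgroup.mem_map_equiv, e.symm_apply_apply, hK.mem_U, hfix, hfe, ← map_pow, e.map_eq_one_iff])
    (by rwa [hcU]) (by rw [horb, a2]; exact hy.1) (by rw [horb, a3]; exact hz.1)
    (by
      rw [hcU, ← hO']
      exact Nat.card_congr ((MulAction.toPerm c).subtypeEquiv horb))
    (by rwa [hcU, hcS])
  refine ⟨L, c, by rwa [hL, hcU], ?_⟩
  rcases hH with h | h
  · left; rw [← h, cjs_cjs_inv]
  · right; rw [← h, cjs_cjs_inv]

end Cfsg.Agent.Perm.GL2
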