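import Mathlib
import Cfsg.Agent.Lib.Perm.Dick2
import Cfsg.Agent.Lib.Perm.Tri

/-! Tori, subfield subgroups and triangle subgroups of `PGL₂(q)`. -/

namespace Cfsg.Agent.Perm.GL2
open Matrix OnePoint MulAction Cfsg.Agent.Perm Subgroup
open Matrix.SpecialLinearGroup (toGL toGL_injective)

variable {F : Type*} [Field F] {p : ℕ}

theorem IsReg.ne_bar {g : GL (Fin 2) F} (h : IsReg (g : M2 F)) : bar g ≠ g := by
  intro e
  have := congrArg (fun x : GL (Fin 2) F => (x : M2 F)) e
  simp only [coe_bar, adjugate_fin_two] at this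
  obtain ⟨h1, h2, h3, -⟩ := m2_ext_iff.1 this
  simp at h1 h2 h3
  apply h
  rw [trace_fin_two, det_fin_two]
  linear_combination ((g : M2 F) 1 1 - (g : M2 F) 0 0) * h1 - 2 * (g : M2 F) 1 0 * h2

theorem IsReg.of_isConj' {g h : GL (Fin 2) F} (hg : IsReg (g : M2 F)) (hc : IsConj g h) : IsReg (h : M2 F) :=
  hg.of_trace_det (trace_eq_of_isConj hc).symm (det_eq_of_isConj hc).symm

theorem isReg_of_pow [Finite F] [hp : Fact p.Prime] [CharP F p] {g : GL (Fin 2) F} (h : mkP g ^ p ≠ 1) :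
    IsEll (g : M2 F) ∨ ∃ k, IsConj g k ∧ IsDiag (k : M2 F) := by
  rcases classify g with h1 | h1 | ⟨k, hc, hk⟩ | h1
  · exact absurd (by rw [mkP_eq_one.2 h1, one_pow]) h
  · exact Or.inl h1
  · exact absurd ((pow_conj hc).2 (mkP_pow_eq_one.2 (isScal_pow_of_upper hk.1 hk.2.1))) h
  · exact Or.inr h1

theorem center_le_cent (g : GL (Fin 2) F) : center _ ≤ cent g := fun _ hz =>
  scal_mem_cent (isScal_iff_center.2 hz) g

theorem mkP_bar (g : GL (Fin 2) F) : mkP (bar g) = (mkP g)⁻¹ := by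
  rw [eq_inv_iff_mul_eq_one, ← map_mul, mkP_eq_one]
  have : bar g * g = g⁻¹ * (g * bar g) * g := by group
  rw [this, mul_bar, mul_assoc, sc_comm, inv_mul_cancel_left]
  exact isScal_sc _

theorem torus_data [Fintype F] [hp : Fact p.Prime] [CharP F p] {g : GL (Fin 2) F} (h : mkP g ^ p ≠ 1) :
    IsReg (g : M2 F) ∧ IsCyclic ((cent g).map mkP) ∧ (∀ n : Fˣ, ∃ c ∈ cent g, GeneralLinearGroup.det c = n) ∧
    (Nat.card ((cent g).map mkP) = Fintype.card F + 1 ∨
      (Nat.card ((cent g).map mkP) = Fintype.card F - 1 ∧ ∃ x : OnePoint F, mkP g • x = x)) := by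
  have hc := card_map_mkP (center_le_cent g)
  rcases isReg_of_pow h with h1 | ⟨k, hk, h1⟩
  · refine ⟨h1.isReg, ?_, h1.exists_det, Or.inl ?_⟩
    · haveI := h1.isCyclic
      exact isCyclic_of_surjective _ (mkP.subgroupMap_surjective _)
    · rw [h1.card_cent, sq_sub_one_eq] at hc
      exact Nat.eq_of_mul_eq_mul_right card_sub_one_pos hc
  · have hr := h1.isReg.of_isConj' hk.symm
    obtain ⟨c, hc2⟩ := isConj_iff.1 hk
    have hx : ∀ d ∈ cent g, mkP d • (mkP c)⁻¹ • (∞ : OnePoint F) = (mkP c)⁻¹ • ∞ := fun d hd => by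
      rw [fix_conj (c := c) rfl, smul_inv_smul, smul_inf]
      refine (h1.mem_cent.1 (mem_cent.2 ?_)).2
      rw [← hc2]; simp only [mul_assoc, inv_mul_cancel_left]
      rw [← mul_assoc d, mem_cent.1 hd, mul_assoc]
    refine ⟨hr, ?_, fun n => ?_, Or.inr ⟨?_, _, hx g (mem_cent.2 rfl)⟩⟩
    · refine cyc_of_fix (p := p) ((mkP c)⁻¹ • ∞) _ ?_ ?_
      · rintro _ ⟨d, hd, rfl⟩; exact hx d hd
      · rintro _ ⟨d, hd, rfl⟩ h2
        by_contra h3
        exact (hr.of_comm (mem_cent'.1 hd) (fun h => h3 (mkP_eq_one.2 h))).not_scal_pow (mkP_pow_eq_one.1 h2)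
    · obtain ⟨d, hd, hd2⟩ := h1.exists_det n
      refine ⟨c⁻¹ * d * c, mem_cent.2 ?_, by simp [hd2]⟩
      have := mem_cent.1 hd
      rw [← hc2] at this
      calc c⁻¹ * d * c * g = c⁻¹ * (d * (c * g * c⁻¹)) * c := by group
        _ = _ := by rw [this]; group
    · rw [card_cent_of_isConj hk, h1.card_cent, pow_two] at hc
      exact Nat.eq_of_mul_eq_mul_right card_sub_one_pos hc

theorem conj_eq_or {a g : GL (Fin 2) F} (h : mkP g * mkP a * (mkP g)⁻¹ = mkP a ∨ mkP g * mkP a * (mkP g)⁻¹ = (mkP a)⁻¹) :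
    g * a * g⁻¹ = a ∨ g * a * g⁻¹ = bar a := by
  have key : ∀ b : GL (Fin 2) F, (b : M2 F).trace = (a : M2 F).trace → (b : M2 F).det = (a : M2 F).det →
      mkP (g * a * g⁻¹) = mkP b → g * a * g⁻¹ = b ∨ g * a * g⁻¹ = bar b := fun b h1 h2 h3 => by
    obtain ⟨c, hc⟩ := mkP_eq_iff.1 h3.symm
    have e1 := congrArg trace hc
    have e2 := congrArg det hc
    rw [Units.val_mul, Units.val_mul] at e1 e2
    rw [trace_conj', trace_smul, h1, smul_eq_mul] at e1
    rw [det_conj'', det_smul, h2, Fintype.card_fin] at e2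
    have e3 : (c - 1) * (c + 1) = 0 := by
      apply mul_right_cancel₀ (det_ne a); linear_combination -e2
    rcases mul_eq_zero.1 e3 with e | e
    · left; apply Units.ext; rw [hc, sub_eq_zero.1 e, one_smul]
    · by_cases e4 : c = 1
      · left; apply Units.ext; rw [hc, e4, one_smul]
      right; apply Units.ext
      have e5 : (a : M2 F).trace = 0 := by
        apply mul_left_cancel₀ (sub_ne_zero.2 e4); linear_combination -e1
      rw [hc, coe_bar, adj_eq, h1, e5, eq_neg_of_add_eq_zero_left e]; simp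
  rw [← map_inv, ← map_mul, ← map_mul, ← mkP_bar] at h
  rcases h with h | h
  · exact key a rfl rfl h
  · have := key _ (trace_bar a) (det_bar a) h
    rw [bar_bar] at this; exact this.symm

theorem torus [Fintype F] [hp : Fact p.Prime] [CharP F p] {a : PGL2 F} (h : a ^ p ≠ 1) :
    ∃ t s : PGL2 F, (orderOf t = Fintype.card F + 1 ∨
        (orderOf t = Fintype.card F - 1 ∧ ∃ x : OnePoint F, a • x = x)) ∧ a ∈ zpowers t ∧
      s ∈ PS F ∧ s * t * s⁻¹ = t⁻¹ ∧ s ^ 2 = 1 ∧ s ∉ zpowers t ∧ ((2 : F) ≠ 0 → t ∉ PS F) ∧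
      ∀ g, (g * a * g⁻¹ = a ∨ g * a * g⁻¹ = a⁻¹) → g ∈ zpowers t ∨ g * s ∈ zpowers t := by
  obtain ⟨a, rfl⟩ := mkP_surj a
  obtain ⟨hr, hcyc, hdet, hcard⟩ := torus_data h
  obtain ⟨t, ht⟩ := (Subgroup.isCyclic_iff_exists_zpowers_eq_top _).1 hcyc
  obtain ⟨w0, hw0⟩ := exists_conj_bar hr.not_scal
  obtain ⟨c, hc, hc2⟩ := hdet (GeneralLinearGroup.det w0)⁻¹
  have hw : ∀ d ∈ cent a, w0 * c * d * (w0 * c)⁻¹ = bar d := fun d hd => by
    rw [← hw0 d hd, mul_assoc w0, cent_comm hr.not_scal hc hd]; group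
  have hwd : GeneralLinearGroup.det (w0 * c) = 1 := by rw [map_mul, hc2, mul_inv_cancel]
  generalize w0 * c = w at hw hwd
  have ha : a ∈ cent a := mem_cent.2 rfl
  have hmem : ∀ g, mkP g ∈ zpowers t ↔ g ∈ cent a := fun g => by
    rw [ht, ← mem_comap, comap_map_eq_self (by rw [Matrix.ProjGenLinGroup.ker_mk]; exact center_le_cent a)]
  have hw2 : w * w ∈ cent a := mem_cent.2 (by
    have := hw _ (bar_mem_cent ha)
    rw [bar_bar, ← hw a ha] at this
    calc w * w * a = w * (w * a * w⁻¹) * w⁻¹ * (w * w) := by group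
      _ = _ := by rw [this])
  have hs2 : mkP w ^ 2 = 1 := by
    rw [← map_pow, mkP_eq_one, pow_two]
    by_contra hne
    refine (hr.of_comm (mem_cent'.1 hw2) hne).ne_bar ?_
    rw [← hw _ hw2]; group
  refine ⟨t, mkP w, by rwa [← Nat.card_zpowers, ht], (hmem a).2 ha, ?_, ?_, hs2, fun h => ?_, fun h2 h => ?_,
    fun g hg => ?_⟩
  · obtain ⟨x, hx⟩ := exists_toGL' hwd
    exact ⟨x, by rw [← hx]; rfl⟩
  · obtain ⟨d, hd, rfl⟩ : t ∈ (cent a).map mkP := ht ▸ mem_zpowers t
    rw [← map_inv, ← map_mul, ← map_mul, hw d hd, mkP_bar]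
  · apply hr.ne_bar
    rw [← hw a ha, mem_cent.1 ((hmem w).1 h), mul_inv_cancel_right]
  · obtain ⟨n, hn⟩ := FiniteField.exists_nonsquare (ringChar_ne_two h2)
    obtain ⟨d, hd, hd2⟩ := hdet (Units.mk0 n (by rintro rfl; exact hn IsSquare.zero))
    apply hn
    have := mem_PS.1 ((zpowers_le.2 h) ((hmem d).2 hd))
    rwa [← GeneralLinearGroup.val_det_apply, hd2] at this
  · obtain ⟨g, rfl⟩ := mkP_surj g
    rcases conj_eq_or hg with h1 | h1
    · exact Or.inl ((hmem g).2 (mem_cent.2 (mul_inv_eq_iff_eq_mul.1 h1)))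
    · right
      rw [← map_mul, hmem, mem_cent]
      have e := hw a ha
      have e2 : g * bar a * g⁻¹ = a := by
        have e3 := congrArg bar (mul_inv_eq_iff_eq_mul.1 h1)
        rw [bar_mul, bar_mul, bar_bar] at e3
        have e4 : bar g = g⁻¹ * sc (GeneralLinearGroup.det g) := by rw [← mul_bar, inv_mul_cancel_left]
        rw [e4, ← mul_assoc, mul_assoc g⁻¹, sc_comm, ← mul_assoc] at e3
        rw [mul_assoc, mul_right_cancel e3, mul_inv_cancel_left]
      calc g * w * a = g * (w * a * w⁻¹) * g⁻¹ * (g * w) := by group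
        _ = _ := by rw [e, e2]

theorem index_PS [Fintype F] : (PS F).index = Nat.gcd 2 (Fintype.card F - 1) := by
  have h1 := (PS F).card_mul_index
  rw [card_PGL2, ← card_PS_mul] at h1
  exact Nat.eq_of_mul_eq_mul_left Nat.card_pos h1

theorem torusS [Fintype F] [hp : Fact p.Prime] [CharP F p] {a : PGL2 F} (h : a ^ p ≠ 1) (ha : a ∈ PS F) :
    ∃ t s : PGL2 F, (orderOf t * Nat.gcd 2 (Fintype.card F - 1) = Fintype.card F + 1 ∨
        (orderOf t * Nat.gcd 2 (Fintype.card F - 1) = Fintype.card F - 1 ∧ ∃ x : OnePoint F, a • x = x)) ∧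
      a ∈ zpowers t ∧ t ∈ PS F ∧ s ∈ PS F ∧ s * t * s⁻¹ = t⁻¹ ∧ s ^ 2 = 1 ∧ s ∉ zpowers t ∧
      ∀ g ∈ PS F, (g * a * g⁻¹ = a ∨ g * a * g⁻¹ = a⁻¹) → g ∈ zpowers t ∨ g * s ∈ zpowers t := by
  obtain ⟨t, s, h1, h2, h3, h4, h5, h6, h7, h8⟩ := torus h
  by_cases h0 : (2 : F) = 0
  · have : Nat.gcd 2 (Fintype.card F - 1) = 1 := by rw [← index_PS, PS_eq_top h0, index_top]
    refine ⟨t, s, by rwa [this, mul_one], h2, by rw [PS_eq_top h0]; trivial, h3, h4, h5, h6, fun g _ => h8 g⟩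
  have hodd := odd_of_two_ne_zero h0
  have hz : ∀ g ∈ PS F, g ∈ zpowers t → g ∈ zpowers (t ^ 2) := by
    rintro _ hg ⟨k, rfl⟩
    obtain ⟨k, rfl | rfl⟩ := Int.even_or_odd' k
    · exact ⟨k, by simp only; rw [_root_.zpow_mul]; norm_cast⟩
    · exfalso; apply h7 h0
      simp only at hg
      rw [_root_.zpow_add_one, _root_.zpow_mul] at hg
      exact ((PS F).mul_mem_cancel_left (zpow_mem (by exact_mod_cast sq_mem_PS t) k)).1 hg
  have ho : orderOf (t ^ 2) * 2 = orderOf t := by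
    have : 2 ∣ orderOf t := by
      obtain ⟨k, hk⟩ := hodd
      rcases h1 with h1 | ⟨h1, -⟩ <;> omega
    rw [orderOf_pow_of_dvd two_ne_zero this, Nat.div_mul_cancel this]
  refine ⟨t ^ 2, s, by rwa [gcd_odd hodd, ho], hz a ha h2, sq_mem_PS t, h3, by rw [← conj_pow, h4, inv_pow], h5,
    fun h => h6 (zpowers_le.2 (pow_mem (mem_zpowers t) 2) h), fun g hg h => ?_⟩
  exact (h8 g h).imp (hz g hg) (hz _ (mul_mem hg h3))

theorem spec_PGL2 [Fintype F] (p : ℕ) [hp : Fact p.Prime] [CharP F p] (g : PGL2 F) :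
    orderOf g ∣ p ∨ orderOf g ∣ Fintype.card F - 1 ∨ orderOf g ∣ Fintype.card F + 1 := by
  by_cases h : g ^ p = 1
  · exact Or.inl (orderOf_dvd_of_pow_eq_one h)
  obtain ⟨t, s, h1, h2, -⟩ := torus h
  have := orderOf_dvd_of_mem_zpowers h2
  rcases h1 with h1 | ⟨h1, -⟩ <;> rw [h1] at this <;> tauto

theorem spec_PS [Fintype F] (p : ℕ) [hp : Fact p.Prime] [CharP F p] {g : PGL2 F} (hg : g ∈ PS F) :
    orderOf g ∣ p ∨ orderOf g * Nat.gcd 2 (Fintype.card F - 1) ∣ Fintype.card F - 1 ∨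
      orderOf g * Nat.gcd 2 (Fintype.card F - 1) ∣ Fintype.card F + 1 := by
  by_cases h : g ^ p = 1
  · exact Or.inl (orderOf_dvd_of_pow_eq_one h)
  obtain ⟨t, s, h1, h2, -⟩ := torusS h hg
  have := Nat.mul_dvd_mul_right (orderOf_dvd_of_mem_zpowers h2) (Nat.gcd 2 (Fintype.card F - 1))
  rcases h1 with h1 | ⟨h1, -⟩ <;> rw [h1] at this <;> tauto

section Dih
variable {G : Type*} [Group G]

theorem mem_dih {t s g : G} (h1 : s * t * s⁻¹ = t⁻¹) (h2 : s ^ 2 = 1) :
    g ∈ closure ({t, s} : Set G) ↔ g ∈ zpowers t ∨ g * s ∈ zpowers t := by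
  have hs : s⁻¹ = s := inv_eq_of_mul_eq_one_right (by rw [← pow_two, h2])
  constructor
  · intro hg
    have hn : ∀ x ∈ zpowers t, s * x * s ∈ zpowers t := fun x hx => by
      have := Transfer.inverts_of_mem_zpowers h1 hx
      rw [hs] at this; rw [this]; exact inv_mem hx
    induction hg using closure_induction with
    | mem x hx =>
      rcases hx with rfl | rfl
      · exact Or.inl (mem_zpowers _)
      · right; rw [← pow_two, h2]; exact one_mem _
    | one => exact Or.inl (one_mem _)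
    | mul x y _ _ hx hy =>
      have e : s * s = 1 := by rw [← pow_two, h2]
      rcases hx with hx | hx <;> rcases hy with hy | hy
      · exact Or.inl (mul_mem hx hy)
      · right; rw [mul_assoc]; exact mul_mem hx hy
      · right
        have := mul_mem hx (hn y hy)
        rwa [show x * s * (s * y * s) = x * (s * s) * y * s by group, e, mul_one] at this
      · left
        have := mul_mem hx (hn _ hy)
        rwa [show x * s * (s * (y * s) * s) = x * (s * s) * y * (s * s) by group, e, mul_one, mul_one] at this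
    | inv x _ hx =>
      rcases hx with hx | hx
      · exact Or.inl (inv_mem hx)
      · right
        have := hn _ (inv_mem hx)
        rwa [_root_.mul_inv_rev, ← mul_assoc, mul_inv_cancel, one_mul] at this
  · have a1 : t ∈ closure ({t, s} : Set G) := subset_closure (by simp)
    have a2 : s ∈ closure ({t, s} : Set G) := subset_closure (by simp)
    rintro (h | h)
    · exact zpowers_le.2 a1 h
    · exact (mul_mem_cancel_right a2).1 (zpowers_le.2 a1 h)

theorem card_dih {t s : G} (h1 : s * t * s⁻¹ = t⁻¹) (h2 : s ^ 2 = 1) (h3 : s ∉ zpowers t) :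
    Nat.card (closure ({t, s} : Set G)) = 2 * orderOf t :=
  Transfer.card_closure_pair (Transfer.mem_normalizer_zpowers_of_inv h1) (by rw [h2]; exact one_mem _) h3

theorem IsDih_iso [Finite G] (h : Klein.IsDih p G) : ∃ a : G, ¬ p ∣ orderOf a ∧ Nonempty (G ≃* DihedralGroup (orderOf a)) := by
  obtain ⟨a, s, h1, h2, h3, h4, -, h6⟩ := h
  obtain ⟨e⟩ := Transfer.nonempty_dihedral_closure h2 h3 h4
  have : closure ({a, s} : Set G) = ⊤ := eq_top_iff.2 fun g _ => (mem_dih h2 h3).2 (h6 g)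
  rw [this] at e
  exact ⟨a, h1, ⟨topEquiv.symm.trans e⟩⟩

/-- `H` normalises a cyclic `p'`-group acting by `±1` -/
def Tor (p : ℕ) (H : Subgroup G) : Prop :=
  ∃ a ∈ H, a ^ p ≠ 1 ∧ ∀ g ∈ H, g * a * g⁻¹ = a ∨ g * a * g⁻¹ = a⁻¹

theorem pow_ne_one_of_not_dvd [hp : Fact p.Prime] {a : G} (h1 : a ≠ 1) (h : ¬ p ∣ orderOf a) : a ^ p ≠ 1 :=
  fun h2 => h (dvd_of_eq (orderOf_eq_prime h2 h1).symm)

theorem tor_of_dih [hp : Fact p.Prime] {H : Subgroup G} (h : Klein.IsDih p H) : Tor p H := by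
  obtain ⟨a, s, h1, h2, h3, -, h5, h6⟩ := h
  refine ⟨a, a.2, fun h => pow_ne_one_of_not_dvd h5 h1 (Subtype.ext h), fun g hg => ?_⟩
  have hs : s⁻¹ = s := inv_eq_of_mul_eq_one_right (by rw [← pow_two, h3])
  have hc : ∀ x ∈ zpowers a, x * a * x⁻¹ = a := by
    rintro _ ⟨k, rfl⟩; simp only; group
  rcases h6 ⟨g, hg⟩ with h | h
  · exact Or.inl (congrArg Subtype.val (hc _ h))
  · right
    have e := hc _ h
    have : (⟨g, hg⟩ : H) * a⁻¹ * (⟨g, hg⟩ : H)⁻¹ = a := by rw [← h2]; simpa [mul_assoc] using e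
    have e2 := congrArg (fun x : H => (x : G)⁻¹) this
    simpa [mul_assoc] using e2

theorem tor_of_cyc [Finite G] [hp : Fact p.Prime] {H : Subgroup G} (h : IsCyclic H) (h2 : ¬ p ∣ Nat.card H)
    (h3 : H ≠ ⊥) : Tor p H := by
  obtain ⟨⟨a, ha⟩, h1⟩ := (ne_bot_iff_exists_ne_one).1 h3
  refine ⟨a, ha, pow_ne_one_of_not_dvd (fun h => h1 (Subtype.ext h))
    (fun h => h2 (h.trans (Subgroup.orderOf_dvd_natCard H ha))), fun g hg => Or.inl ?_⟩
  have := congrArg Subtype.val (h.isMulCommutative.is_comm.comm (⟨g, hg⟩ : H) ⟨a, ha⟩)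
  exact mul_inv_eq_iff_eq_mul.2 this

theorem card_le_of_dih [Finite G] {t s : G} {M : Subgroup G}
    (h : ∀ g ∈ M, g ∈ zpowers t ∨ g * s ∈ zpowers t) : ∃ b ∈ M, b ∈ zpowers t ∧ Nat.card M ∣ 2 * orderOf b := by
  have hc : IsCyclic (M ⊓ zpowers t : Subgroup G) := isCyclic_of_le (H' := zpowers t) inf_le_right
  obtain ⟨b, hb⟩ := (Subgroup.isCyclic_iff_exists_zpowers_eq_top _).1 hc
  have hb' : b ∈ M ⊓ zpowers t := hb ▸ mem_zpowers b
  refine ⟨b, hb'.1, hb'.2, ?_⟩
  rw [← Nat.card_zpowers, hb, ← ((zpowers t).subgroupOf M).index_mul_card, ← inf_subgroupOf_left,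
    Nat.card_congr (subgroupOfEquivOfLe inf_le_left).toEquiv, inf_subgroupOf_left]
  refine Nat.mul_dvd_mul_right ?_ _
  by_cases h1 : M ≤ zpowers t
  · rw [subgroupOf_eq_top.2 h1, index_top]; exact one_dvd _
  · obtain ⟨w, hw, hw'⟩ := SetLike.not_le_iff_exists.1 h1
    refine dvd_of_eq (index_eq_two_iff.2 ⟨(⟨w, hw⟩ : M)⁻¹, fun b => ?_⟩)
    simp only [mem_subgroupOf, coe_mul, coe_inv]
    by_cases hb : (b : G) ∈ zpowers t
    · exact Or.inr ⟨hb, fun h => hw' (inv_mem_iff.1 ((mul_mem_cancel_left hb).1 h))⟩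
    · refine Or.inl ⟨?_, hb⟩
      have := mul_mem ((h b b.2).resolve_left hb) (inv_mem ((h w hw).resolve_left hw'))
      simpa [mul_assoc] using this

end Dih

theorem comm_pow_of_fix [hp : Fact p.Prime] [CharP F p] {x : OnePoint F} {g h : PGL2 F} (hg : g • x = x)
    (hh : h • x = x) : (g * h * g⁻¹ * h⁻¹) ^ p = 1 := by
  obtain ⟨c, rfl⟩ := exists_smul_inf x
  rw [← inv_smul_eq_iff, smul_smul, smul_smul] at hg hh
  rw [← conj_pow_eq_one (c := c), show c⁻¹ * (g * h * g⁻¹ * h⁻¹) * c =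
    (c⁻¹ * g * c) * (c⁻¹ * h * c) * (c⁻¹ * g * c)⁻¹ * (c⁻¹ * h * c)⁻¹ by group]
  generalize c⁻¹ * g * c = g at *
  generalize c⁻¹ * h * c = h at *
  have hg' : g⁻¹ • (∞ : OnePoint F) = ∞ := by rw [inv_smul_eq_iff, hg]
  have hh' : h⁻¹ • (∞ : OnePoint F) = ∞ := by rw [inv_smul_eq_iff, hh]
  have e1 := rho_mul hg hg'
  have e2 := rho_mul hh hh'
  rw [mul_inv_cancel, rho_one] at e1 e2
  have a1 : (g * h) • (∞ : OnePoint F) = ∞ := by rw [mul_smul, hh, hg]
  have a2 : (g * h * g⁻¹) • (∞ : OnePoint F) = ∞ := by rw [mul_smul, hg', a1]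
  rw [← rho_eq_one_iff (by rw [mul_smul, hh', a2]), rho_mul a2 hh', rho_mul a1 hg', rho_mul hg hh]
  linear_combination (rho h * rho h⁻¹) * e1.symm + e2.symm

instance pretransPGL2 : IsPretransitive (PGL2 F) (OnePoint F) := ⟨fun x y => by
  obtain ⟨a, rfl⟩ := exists_smul_inf x
  obtain ⟨b, rfl⟩ := exists_smul_inf y
  exact ⟨b * a⁻¹, by rw [mul_smul, inv_smul_smul]⟩⟩

theorem exists_PS_smul_inf (x : OnePoint F) : ∃ g ∈ PS F, g • (∞ : OnePoint F) = x := by
  induction x using OnePoint.rec with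
  | infty => exact ⟨1, one_mem _, one_smul _ _⟩
  | coe a => exact ⟨mkP (toGL (mkS a (-1) 1 0 (by simp))), ⟨_, rfl⟩, by rw [smul_eq_iff]; simp⟩

instance pretransPS : IsPretransitive (PS F) (OnePoint F) := ⟨fun x y => by
  obtain ⟨a, ha, rfl⟩ := exists_PS_smul_inf x
  obtain ⟨b, hb, rfl⟩ := exists_PS_smul_inf y
  exact ⟨⟨b * a⁻¹, mul_mem hb (inv_mem ha)⟩, by
    change (b * a⁻¹) • (a • ∞ : OnePoint F) = _; rw [mul_smul, inv_smul_smul]⟩⟩

theorem card_stab [Fintype F] (x : OnePoint F) :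
    Nat.card (stabilizer (PGL2 F) x) = Fintype.card F * (Fintype.card F - 1) := by
  have := (stabilizer (PGL2 F) x).card_mul_index
  rw [index_stabilizer_of_transitive, card_onePoint, card_PGL2] at this
  apply Nat.eq_of_mul_eq_mul_right (Nat.succ_pos (Fintype.card F))
  rw [Nat.succ_eq_add_one, this]; ring

theorem card_stabS [Fintype F] (x : OnePoint F) :
    Nat.card (stabilizer (PGL2 F) x ⊓ PS F : Subgroup _) * Nat.gcd 2 (Fintype.card F - 1) =
      Fintype.card F * (Fintype.card F - 1) := by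
  have := (stabilizer (PS F) x).card_mul_index
  rw [index_stabilizer_of_transitive, card_onePoint] at this
  have e : Nat.card (stabilizer (PS F) x) = Nat.card (stabilizer (PGL2 F) x ⊓ PS F : Subgroup _) := by
    rw [← Nat.card_congr (subgroupOfEquivOfLe (inf_le_right (a := stabilizer (PGL2 F) x))).toEquiv,
      inf_subgroupOf_right]
    rfl
  apply Nat.eq_of_mul_eq_mul_right (Nat.succ_pos (Fintype.card F))
  have h2 := card_PS_mul (F := F)
  rw [← this, e] at h2
  rw [Nat.succ_eq_add_one]; linear_combination h2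

section Sub
variable {K K' : Type*} [Field K] [Field K']

/-- the subfield subgroup `PGL₂(K)` -/
abbrev RG (f : K →+* F) : Subgroup (PGL2 F) := (mapP f).range
/-- the subfield subgroup `PSL₂(K)` -/
abbrev RS (f : K →+* F) : Subgroup (PGL2 F) := (PS K).map (mapP f)

/-- `PGL₂(K)` and its image -/
noncomputable def rgEquiv (f : K →+* F) : PGL2 K ≃* RG f := MonoidHom.ofInjective (mapP_injective f)
/-- `PSL₂(K)` and its image -/
noncomputable def rsEquiv (f : K →+* F) : PSL2 K ≃* RS f :=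
  psEquiv.trans ((PS K).equivMapOfInjective _ (mapP_injective f))

theorem card_RG [Fintype K] (f : K →+* F) :
    Nat.card (RG f) = Fintype.card K * (Fintype.card K + 1) * (Fintype.card K - 1) := by
  rw [← Nat.card_congr (rgEquiv f).toEquiv, card_PGL2]

theorem card_RS [Fintype K] (f : K →+* F) : Nat.card (RS f) * Nat.gcd 2 (Fintype.card K - 1) =
    Fintype.card K * (Fintype.card K + 1) * (Fintype.card K - 1) := by
  rw [← Nat.card_congr (rsEquiv f).toEquiv, card_PSL2_mul]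

theorem RS_le_RG (f : K →+* F) : RS f ≤ RG f := map_le_range _ _

theorem det_map (f : K →+* F) (g : GL (Fin 2) K) : (GeneralLinearGroup.map f g : M2 F).det = f (g : M2 K).det := by
  simp [det_fin_two, GeneralLinearGroup.map_apply]

theorem trace_map (f : K →+* F) (g : GL (Fin 2) K) :
    (GeneralLinearGroup.map f g : M2 F).trace = f (g : M2 K).trace := by
  simp [trace_fin_two, GeneralLinearGroup.map_apply]

theorem RS_le_PS (f : K →+* F) : RS f ≤ PS F := by
  rintro _ ⟨g, hg, rfl⟩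
  obtain ⟨g, rfl⟩ := mkP_surj g
  rw [mapP_mk, mem_PS, det_map]
  exact (mem_PS.1 hg).map f

theorem RG_le_PS (f : K →+* F) (h : ∀ a, IsSquare (f a)) : RG f ≤ PS F := by
  rintro _ ⟨g, rfl⟩
  obtain ⟨g, rfl⟩ := mkP_surj g
  rw [mapP_mk, mem_PS, det_map]; exact h _

theorem mapP_comp (j : K →+* K') (f : K' →+* F) : mapP (f.comp j) = (mapP f).comp (mapP j) :=
  Matrix.ProjGenLinGroup.map_comp j f

theorem RG_comp (j : K →+* K') (f : K' →+* F) : RG (f.comp j) = (RG j).map (mapP f) := by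
  rw [RG, mapP_comp, MonoidHom.range_comp]

theorem RS_comp (j : K →+* K') (f : K' →+* F) : RS (f.comp j) = (RS j).map (mapP f) := by
  rw [RS, mapP_comp, Subgroup.map_map]

theorem RG_mono {L L' : Subfield F} (h : L ≤ L') : RG L.subtype ≤ RG L'.subtype := by
  rw [show L.subtype = L'.subtype.comp (Subfield.inclusion h) from rfl, RG_comp]; exact map_le_range _ _

theorem RS_mono {L L' : Subfield F} (h : L ≤ L') : RS L.subtype ≤ RS L'.subtype := by
  rw [show L.subtype = L'.subtype.comp (Subfield.inclusion h) from rfl, RS_comp]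
  exact map_mono (RS_le_PS _)

theorem RG_le_RS {L L' : Subfield F} (h : L ≤ L') (h2 : ∀ a, IsSquare (Subfield.inclusion h a)) :
    RG L.subtype ≤ RS L'.subtype := by
  rw [show L.subtype = L'.subtype.comp (Subfield.inclusion h) from rfl, RG_comp]
  exact map_mono (RG_le_PS _ h2)

theorem tr_mem_RS (f : K →+* F) (a : K) : tr (f a) ∈ RS f := ⟨tr a, tr_mem a, mapP_tr f a⟩

theorem exists_card_pow [Fintype K] [Fintype F] (f : K →+* F) :
    ∃ m, 0 < m ∧ Fintype.card F = Fintype.card K ^ m := by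
  letI := f.toAlgebra
  haveI : Module.Finite K F := Module.Finite.of_finite
  exact ⟨Module.finrank K F, Module.finrank_pos, Module.card_eq_pow_finrank⟩

theorem exists_ringHom [Fintype K] [Fintype F] {m : ℕ} (h : Fintype.card F = Fintype.card K ^ m) :
    Nonempty (K →+* F) := by
  obtain ⟨p, hp⟩ := CharP.exists K
  obtain ⟨n, hpp, hn⟩ := FiniteField.card K p
  haveI : Fact p.Prime := ⟨hpp⟩
  haveI : CharP F p := charP_of_card_eq_prime_pow (f := n * m) (by rw [h, hn, pow_mul])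
  letI := ZMod.algebra K p
  letI := ZMod.algebra F p
  obtain ⟨φ⟩ := FiniteField.nonempty_algHom_of_finrank_dvd (F := ZMod p) (K := K) (L := F) (by
    have h1 := FiniteField.pow_finrank_eq_card p K
    have h2 := FiniteField.pow_finrank_eq_card p F
    rw [h, ← h1, ← pow_mul] at h2
    exact Dvd.intro _ (Nat.pow_right_injective hpp.two_le h2).symm)
  exact ⟨φ.toRingHom⟩

theorem exists_subfield [Fintype F] [hp : Fact p.Prime] {k m : ℕ} (h : Fintype.card F = (p ^ k) ^ m) :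
    ∃ L : Subfield F, Nat.card L = p ^ k := by
  have hk : k ≠ 0 := by
    rintro rfl
    have := Fintype.one_lt_card (α := F)
    rw [h] at this; simp at this
  letI := Fintype.ofFinite (GaloisField p k)
  have hc : Fintype.card (GaloisField p k) = p ^ k := by
    rw [← Nat.card_eq_fintype_card, GaloisField.card p k hk]
  obtain ⟨f⟩ := exists_ringHom (K := GaloisField p k) (F := F) (by rw [hc, h])
  refine ⟨f.fieldRange, ?_⟩
  rw [← hc, ← Nat.card_eq_fintype_card]
  exact (Nat.card_congr (Equiv.ofInjective f f.injective)).symm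

theorem mem_of_pow_card [Finite F] (L : Subfield F) {x : F} (h : x ^ Nat.card L = x) : x ∈ L := by
  classical
  letI := Fintype.ofFinite L
  have h1 : 1 < Nat.card L := Finite.one_lt_card
  have hne := FiniteField.X_pow_card_sub_X_ne_zero F h1
  by_contra hx
  have := Polynomial.card_le_degree_of_subset_roots (p := (Polynomial.X ^ Nat.card L - Polynomial.X : Polynomial F))
    (Z := insert x (Finset.univ.map ⟨L.subtype, L.subtype.injective⟩)) (by
      intro y hy
      rw [Polynomial.mem_roots hne]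
      simp only [Finset.insert_val, Multiset.mem_ndinsert, Finset.map_val, Multiset.mem_map] at hy
      rcases hy with rfl | ⟨a, -, rfl⟩
      · simpa [sub_eq_zero] using h
      · have := congrArg L.subtype (FiniteField.pow_card a)
        rw [map_pow, ← Nat.card_eq_fintype_card] at this
        simpa [sub_eq_zero] using this)
  rw [FiniteField.X_pow_card_sub_X_natDegree_eq F h1, Finset.card_insert_of_notMem (by simpa using hx),
    Finset.card_map, Finset.card_univ, ← Nat.card_eq_fintype_card] at this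
  omega

theorem subfield_le [Finite F] {L L' : Subfield F} {a : ℕ} (h : Nat.card L' = Nat.card L ^ a) : L ≤ L' := by
  intro x hx
  letI := Fintype.ofFinite L
  apply mem_of_pow_card
  have := congrArg L.subtype (FiniteField.pow_card_pow a (⟨x, hx⟩ : L))
  rw [map_pow, ← Nat.card_eq_fintype_card, ← h] at this
  exact this

theorem isSquare_of_even [Fintype K] [Fintype F] (f : K →+* F) {m : ℕ} (h : Fintype.card F = Fintype.card K ^ m)
    (hm : Even m) (a : K) : IsSquare (f a) := by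
  by_cases h2 : ringChar F = 2
  · exact FiniteField.isSquare_of_char_two h2 _
  by_cases ha : a = 0
  · rw [ha, map_zero]; exact IsSquare.zero
  rw [FiniteField.isSquare_iff h2 ((map_ne_zero f).2 ha), ← map_pow]
  obtain ⟨m, rfl⟩ := hm
  have hodd := FiniteField.odd_card_of_char_ne_two h2
  have hK : Odd (Fintype.card K ^ m) := by
    rw [h, pow_add] at hodd
    exact (Nat.odd_mul.1 (Nat.odd_iff.2 hodd)).1
  obtain ⟨k, hk⟩ := Nat.sub_one_dvd_pow_sub_one (Fintype.card K) m
  obtain ⟨j, hj⟩ := hK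
  have : Fintype.card F / 2 = (Fintype.card K - 1) * (k * (j + 1)) := by
    rw [← mul_assoc, ← hk, h, pow_add, hj]
    have : (2 * j + 1) * (2 * j + 1) = 2 * (2 * j * (j + 1)) + 1 := by ring
    rw [this]; simp [Nat.add_div]
  rw [this, pow_mul, FiniteField.pow_card_sub_one_eq_one a ha, one_pow, map_one]

end Sub

end Cfsg.Agent.Perm.GL2
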