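import Mathlib
import Cfsg.Agent.Lib.Perm.Dick3

/-! Triangle subgroups of `PGL₂(q)`: existence and rigidity. -/

namespace Cfsg.Agent.Perm.GL2
open Matrix OnePoint MulAction Cfsg.Agent.Perm Subgroup Cfsg.Agent.Perm.Tri
open Matrix.SpecialLinearGroup (toGL toGL_injective)

variable {F : Type*} [Field F] {p : ℕ}

theorem isScal_comb {m : M2 F} (h : ¬ IsScal m) (a b : F) : IsScal (a • (1 : M2 F) + b • m) ↔ b = 0 := by
  constructor
  · intro hs
    obtain ⟨c, hc⟩ := isScal_iff.1 hs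
    exact (comb_inj h (hc.trans (show c • (1 : M2 F) = c • (1 : M2 F) + (0 : F) • m by simp))).2
  · rintro rfl; exact isScal_iff.2 ⟨a, by simp⟩

theorem pow_step {m : M2 F} {n : ℕ} {a b : F} (h : m ^ n = a • (1 : M2 F) + b • m) :
    m ^ (n + 1) = (-(b * m.det)) • (1 : M2 F) + (a + b * m.trace) • m := by
  rw [pow_succ, h, add_mul, smul_mul_assoc, smul_mul_assoc, one_mul, cayley]
  module

theorem pow1 (m : M2 F) : m ^ 1 = (0 : F) • (1 : M2 F) + (1 : F) • m := by simp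

theorem scal2 {m : M2 F} (h : m.trace = 0) : IsScal (m ^ 2) := by
  by_cases hs : IsScal m
  · obtain ⟨c, rfl⟩ := isScal_iff.1 hs; exact isScal_iff.2 ⟨c ^ 2, by rw [smul_pow, one_pow]⟩
  rw [pow_step (pow1 m), isScal_comb hs]; linear_combination h

theorem scal_pow_iff2 {m : M2 F} (hs : ¬ IsScal m) : IsScal (m ^ 2) ↔ m.trace = 0 := by
  rw [pow_step (pow1 m), isScal_comb hs]; simp

theorem scal_pow_iff3 {m : M2 F} (hs : ¬ IsScal m) : IsScal (m ^ 3) ↔ m.trace ^ 2 = m.det := by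
  rw [pow_step (pow_step (pow1 m)), isScal_comb hs]
  constructor <;> intro h <;> linear_combination h

theorem scal_pow_iff4 {m : M2 F} (hs : ¬ IsScal m) :
    IsScal (m ^ 4) ↔ m.trace * (m.trace ^ 2 - 2 * m.det) = 0 := by
  rw [pow_step (pow_step (pow_step (pow1 m))), isScal_comb hs]
  constructor <;> intro h <;> linear_combination h

theorem scal_pow_iff5 {m : M2 F} (hs : ¬ IsScal m) :
    IsScal (m ^ 5) ↔ m.trace ^ 4 - 3 * m.trace ^ 2 * m.det + m.det ^ 2 = 0 := by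
  rw [pow_step (pow_step (pow_step (pow_step (pow1 m)))), isScal_comb hs]
  constructor <;> intro h <;> linear_combination h

theorem pow_eq_one_of {g : GL (Fin 2) F} {n : ℕ} (h : ¬ IsScal (g : M2 F) → IsScal ((g : M2 F) ^ n)) :
    mkP g ^ n = 1 := by
  by_cases hs : IsScal (g : M2 F)
  · rw [mkP_eq_one.2 hs, one_pow]
  · exact mkP_pow_eq_one.2 (h hs)

/-- normalised generating pairs of triangle groups -/
structure Pair (δ : F) (x y : GL (Fin 2) F) : Prop where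
  tx : (x : M2 F).trace = 0
  dx : (x : M2 F).det = δ
  ty : (y : M2 F).trace = 1
  dy : (y : M2 F).det = 1
  txy : ((x * y : GL (Fin 2) F) : M2 F).trace = 1

namespace Pair
variable {δ : F} {x y : GL (Fin 2) F}

theorem conj (h : Pair δ x y) (c : GL (Fin 2) F) : Pair δ (c * x * c⁻¹) (c * y * c⁻¹) :=
  ⟨by rw [← h.tx]; exact trace_conj' _ _, by rw [← h.dx]; exact det_conj'' _ _, by rw [← h.ty]; exact trace_conj' _ _,
   by rw [← h.dy]; exact det_conj'' _ _, by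
    rw [← h.txy, show c * x * c⁻¹ * (c * y * c⁻¹) = c * (x * y) * c⁻¹ by group]; exact trace_conj' _ _⟩

theorem map {K : Type*} [Field K] (f : F →+* K) (h : Pair δ x y) :
    Pair (f δ) (GeneralLinearGroup.map f x) (GeneralLinearGroup.map f y) :=
  ⟨by rw [trace_map, h.tx, map_zero], by rw [det_map, h.dx], by rw [trace_map, h.ty, map_one],
    by rw [det_map, h.dy, map_one], by rw [← map_mul, trace_map, h.txy, map_one]⟩

theorem ne (h : Pair δ x y) : δ ≠ 0 := h.dx ▸ det_ne x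

theorem dxy (h : Pair δ x y) : ((x * y : GL (Fin 2) F) : M2 F).det = δ := by
  rw [Units.val_mul, det_mul, h.dx, h.dy, mul_one]

theorem not_scal (h : Pair δ x y) (h2 : (2 : F) ≠ 0) : ¬ IsScal (x : M2 F) := fun hs => by
  have h1 := h.tx
  have h3 := det_ne x
  rw [trace_fin_two, ← hs.2.2, ← two_mul] at h1
  rw [det_fin_two, (mul_eq_zero.1 h1).resolve_left h2, hs.1] at h3
  simp at h3

theorem x2 (h : Pair δ x y) : mkP x ^ 2 = 1 := mkP_pow_eq_one.2 (scal2 h.tx)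

theorem y3 (h : Pair δ x y) : mkP y ^ 3 = 1 :=
  pow_eq_one_of fun hs => (scal_pow_iff3 hs).2 (by rw [h.ty, h.dy, one_pow])

theorem y_mem (h : Pair δ x y) : mkP y ∈ PS F := mem_PS.2 (by rw [h.dy]; exact IsSquare.one)

theorem x_mem (h : Pair δ x y) : mkP x ∈ PS F ↔ IsSquare δ := by rw [mem_PS, h.dx]

theorem iso_A4 [Finite F] (h : Pair 1 x y) (hx : ¬ IsScal (x : M2 F)) :
    Nonempty (closure ({mkP x, mkP y} : Set (PGL2 F)) ≃* alternatingGroup (Fin 4)) :=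
  tri_A4 h.x2 h.y3 (by
    rw [← map_mul]; exact pow_eq_one_of fun hs => (scal_pow_iff3 hs).2 (by rw [h.txy, h.dxy, one_pow]))
    (fun e => hx (mkP_eq_one.1 e))

theorem iso_S4 [Finite F] (h : Pair δ x y) (hδ : 2 * δ = 1) :
    Nonempty (closure ({mkP x, mkP y} : Set (PGL2 F)) ≃* Equiv.Perm (Fin 4)) := by
  have hs : ¬ IsScal ((x * y : GL (Fin 2) F) : M2 F) := fun hs => by
    have h1 := h.txy
    have h3 := h.dxy
    rw [trace_fin_two, ← hs.2.2] at h1
    rw [det_fin_two, ← hs.2.2, hs.1] at h3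
    have : (1 : F) = 0 := by
      linear_combination (-2) * hδ + (-4) * h3 + (2 * ((x * y : GL (Fin 2) F) : M2 F) 0 0 + 1) * h1
    exact one_ne_zero this
  refine tri_S4 h.x2 h.y3 (by
    rw [← map_mul]
    exact pow_eq_one_of fun hs => (scal_pow_iff4 hs).2 (by rw [h.txy, h.dxy]; linear_combination -hδ)) ?_
  rw [← map_mul, Ne, mkP_pow_eq_one, scal_pow_iff2 hs, h.txy]
  exact one_ne_zero

theorem iso_A5 [Finite F] (h : Pair δ x y) (hδ : δ ^ 2 - 3 * δ + 1 = 0) (hx : ¬ IsScal (x : M2 F)) :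
    Nonempty (closure ({mkP x, mkP y} : Set (PGL2 F)) ≃* alternatingGroup (Fin 5)) :=
  tri_A5 h.x2 h.y3 (by
    rw [← map_mul]
    exact pow_eq_one_of fun hs => (scal_pow_iff5 hs).2 (by rw [h.txy, h.dxy]; linear_combination hδ))
    (fun e => hx (mkP_eq_one.1 e))

theorem normal_form (h : Pair δ x y) (h2 : (2 : F) ≠ 0) : ∃ (c : GL (Fin 2) F) (A C : F),
    ((c * x * c⁻¹ : GL (Fin 2) F) : M2 F) = !![0, -δ; 1, 0] ∧
    ((c * y * c⁻¹ : GL (Fin 2) F) : M2 F) = !![1 / 2 + A, 1 / 2 + δ * C; C - 1 / (2 * δ), 1 / 2 - A] ∧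
    4 * δ * (A ^ 2 + δ * C ^ 2) = 1 - 3 * δ := by
  have hδ := h.ne
  obtain ⟨c, hc⟩ := exists_conj_of_trace_det (m' := !![0, -δ; 1, 0]) (h.not_scal h2)
    (fun hs => by simpa using hs.2.1) (by rw [h.tx]; simp [trace_fin_two]) (by rw [h.dx]; simp [det_fin_two])
  have h' := h.conj c
  have hc' : ((c * x * c⁻¹ : GL (Fin 2) F) : M2 F) = !![0, -δ; 1, 0] := hc
  obtain ⟨y', hy'⟩ : ∃ y', c * y * c⁻¹ = y' := ⟨_, rfl⟩
  rw [hy'] at h'
  have e1 := h'.ty
  have e2 := h'.dy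
  have e3 := h'.txy
  rw [Units.val_mul, hc'] at e3
  simp only [trace_fin_two, det_fin_two, mul_apply2] at e1 e2 e3
  simp at e3
  refine ⟨c, (y' : M2 F) 0 0 - 1 / 2, (y' : M2 F) 1 0 + 1 / (2 * δ), hc', ?_, ?_⟩
  · rw [hy']
    apply m2_ext <;> simp
    · field_simp; linear_combination 2 * e3
    · field_simp; linear_combination 2 * e1
  · have a1 : (y' : M2 F) 1 1 = 1 - (y' : M2 F) 0 0 := by linear_combination e1
    have a2 : (y' : M2 F) 0 1 = 1 + δ * (y' : M2 F) 1 0 := by linear_combination e3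
    rw [a1, a2] at e2
    field_simp
    linear_combination (-16 * δ) * e2

theorem rigid {x' y' : GL (Fin 2) F} (h : Pair δ x y) (h' : Pair δ x' y') (h2 : (2 : F) ≠ 0) (h3 : 3 * δ ≠ 1) :
    ∃ c : GL (Fin 2) F, c * x * c⁻¹ = x' ∧ c * y * c⁻¹ = y' := by
  have hδ := h.ne
  obtain ⟨c, A, C, a1, a2, a3⟩ := h.normal_form h2
  obtain ⟨c', A', C', b1, b2, b3⟩ := h'.normal_form h2
  have h4 : (4 : F) ≠ 0 := by rw [show (4 : F) = 2 * 2 by norm_num]; exact mul_ne_zero h2 h2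
  have hM : A ^ 2 + δ * C ^ 2 = A' ^ 2 + δ * C' ^ 2 := mul_left_cancel₀ (mul_ne_zero h4 hδ) (a3.trans b3.symm)
  have hM0 : A ^ 2 + δ * C ^ 2 ≠ 0 := fun e => h3 (by rw [e] at a3; linear_combination a3)
  obtain ⟨α, β, hd, e1, e2⟩ : ∃ α β : F, α ^ 2 + δ * β ^ 2 ≠ 0 ∧ α * (A - A') = δ * β * (C + C') ∧
      α * (C - C') = -β * (A + A') := by
    by_cases hα : A ^ 2 + δ * C ^ 2 + A * A' + δ * C * C' = 0
    · have hβ : δ * (C' * A - A' * C) ^ 2 = 0 := by
        linear_combination (A ^ 2 + δ * C ^ 2 - A * A' - δ * C * C') * hα - (A ^ 2 + δ * C ^ 2) * hM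
      have hβ' : C' * A - A' * C = 0 := pow_eq_zero_iff two_ne_zero |>.1 ((mul_eq_zero.1 hβ).resolve_left hδ)
      refine ⟨0, 1, by simpa using hδ, ?_, ?_⟩
      · apply mul_left_cancel₀ hM0
        linear_combination (-δ * C) * hα - δ * A * hβ'
      · apply mul_left_cancel₀ hM0
        linear_combination A * hα - δ * C * hβ'
    · refine ⟨A ^ 2 + δ * C ^ 2 + A * A' + δ * C * C', C' * A - A' * C, fun e => mul_ne_zero (mul_ne_zero h2 hM0) hα ?_,
        by linear_combination A * hM, by linear_combination C * hM⟩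
      linear_combination e + (A ^ 2 + δ * C ^ 2) * hM
  let g : GL (Fin 2) F := GeneralLinearGroup.mkOfDetNeZero !![α, -δ * β; β, α] (by
    rw [det_fin_two_of]; intro e; exact hd (by linear_combination e))
  have hg : (g : M2 F) = !![α, -δ * β; β, α] := rfl
  have k1 : g * (c * x * c⁻¹) = (c' * x' * c'⁻¹) * g := by
    apply Units.ext
    rw [Units.val_mul, Units.val_mul _ g, a1, b1, hg]
    apply m2_ext <;> simp [mul_apply2] <;> ring
  have k2 : g * (c * y * c⁻¹) = (c' * y' * c'⁻¹) * g := by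
    apply Units.ext
    rw [Units.val_mul, Units.val_mul _ g, a2, b2, hg]
    apply m2_ext <;> simp [mul_apply2] <;> field_simp
    · linear_combination 2 * e1
    · linear_combination (2 * δ) * e2
    · linear_combination (2 * δ) * e2
    · linear_combination (-2) * e1
  refine ⟨c'⁻¹ * g * c, ?_, ?_⟩
  · calc _ = c'⁻¹ * (g * (c * x * c⁻¹)) * g⁻¹ * c' := by group
      _ = _ := by rw [k1]; group
  · calc _ = c'⁻¹ * (g * (c * y * c⁻¹)) * g⁻¹ * c' := by group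
      _ = _ := by rw [k2]; group

end Pair

theorem exists_sq_add [Finite F] (h2 : (2 : F) ≠ 0) {δ : F} (hδ : δ ≠ 0) (M : F) : ∃ A C : F, A ^ 2 + δ * C ^ 2 = M := by
  letI := Fintype.ofFinite F
  obtain ⟨a, b, h⟩ := FiniteField.exists_root_sum_quadratic (f := Polynomial.X ^ 2)
    (g := Polynomial.C δ * Polynomial.X ^ 2 + Polynomial.C 0 * Polynomial.X + Polynomial.C (-M))
    (by simp) (Polynomial.degree_quadratic hδ) (Nat.odd_iff.1 (odd_of_two_ne_zero h2))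
  exact ⟨a, b, by simp at h; linear_combination h⟩

theorem exists_pair [Finite F] (h2 : (2 : F) ≠ 0) {δ : F} (hδ : δ ≠ 0) : ∃ x y, Pair δ x y := by
  obtain ⟨A, C, h⟩ := exists_sq_add h2 hδ ((1 - 3 * δ) / (4 * δ))
  have h4 : (4 : F) ≠ 0 := by rw [show (4 : F) = 2 * 2 by norm_num]; exact mul_ne_zero h2 h2
  have hd : (!![1 / 2 + A, 1 / 2 + δ * C; C - 1 / (2 * δ), 1 / 2 - A] : M2 F).det = 1 := by
    rw [det_fin_two_of]; field_simp at h ⊢; linear_combination -h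
  refine ⟨GeneralLinearGroup.mkOfDetNeZero !![0, -δ; 1, 0] (by simpa [det_fin_two] using hδ),
    GeneralLinearGroup.mkOfDetNeZero _ (by rw [hd]; exact one_ne_zero), by simp [trace_fin_two],
    by simp [det_fin_two], ?_, hd, ?_⟩
  · simp [trace_fin_two]; field_simp; norm_num
  · simp [trace_fin_two, mul_apply2]; field_simp; ring

theorem closure_conj {G : Type*} [Group G] (c x y : G) :
    cjs c (closure {x, y}) = closure {c * x * c⁻¹, c * y * c⁻¹} := by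
  rw [cjs, MonoidHom.map_closure, Set.image_insert_eq, Set.image_singleton]; rfl

theorem Pair.conj_closure {δ : F} {x y x' y' : GL (Fin 2) F} (h : Pair δ x y) (h' : Pair δ x' y')
    (h2 : (2 : F) ≠ 0) (h3 : 3 * δ ≠ 1) :
    ∃ c, closure ({mkP x', mkP y'} : Set (PGL2 F)) = cjs c (closure {mkP x, mkP y}) := by
  obtain ⟨c, rfl, rfl⟩ := h.rigid h' h2 h3
  exact ⟨mkP c, by rw [closure_conj]; simp only [map_mul, map_inv]⟩

theorem pair_of_order {X Y : PGL2 F} (hX : orderOf X = 2) (hY : orderOf Y = 3) (hXY : (X * Y) ^ 2 ≠ 1) :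
    ∃ δ x y, Pair δ x y ∧ mkP x = X ∧ mkP y = Y := by
  obtain ⟨x, rfl⟩ := mkP_surj X
  obtain ⟨y, rfl⟩ := mkP_surj Y
  have hx : ¬ IsScal (x : M2 F) := fun h => by rw [mkP_eq_one.2 h, orderOf_one] at hX; omega
  have hy : ¬ IsScal (y : M2 F) := fun h => by rw [mkP_eq_one.2 h, orderOf_one] at hY; omega
  have hx2 := (scal_pow_iff2 hx).1 (mkP_pow_eq_one.1 (orderOf_dvd_iff_pow_eq_one.1 hX.dvd))
  have hy3 := (scal_pow_iff3 hy).1 (mkP_pow_eq_one.1 (orderOf_dvd_iff_pow_eq_one.1 hY.dvd))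
  have ht : ((x * y : GL (Fin 2) F) : M2 F).trace ≠ 0 := fun h => hXY (by
    rw [← map_mul]; exact mkP_pow_eq_one.2 (scal2 h))
  have hty : (y : M2 F).trace ≠ 0 := fun h => det_ne y (by rw [← hy3, h]; simp)
  have hm : ∀ (a : Fˣ) (g : GL (Fin 2) F), mkP (sc a * g) = mkP g := fun a g => by
    rw [map_mul, mkP_eq_one.2 (isScal_sc a), one_mul]
  have hc : ∀ (a : Fˣ) (g : GL (Fin 2) F), ((sc a * g : GL (Fin 2) F) : M2 F) = (a : F) • (g : M2 F) := fun a g => by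
    rw [Units.val_mul, coe_sc, smul_mul_assoc, one_mul]
  refine ⟨_, sc (Units.mk0 _ hty * (Units.mk0 _ ht)⁻¹) * x, sc (Units.mk0 _ hty)⁻¹ * y, ⟨?_, rfl, ?_, ?_, ?_⟩,
    hm _ _, hm _ _⟩
  · rw [hc, trace_smul, hx2, smul_zero]
  · rw [hc, trace_smul]; simp [hty]
  · rw [hc, det_smul, ← hy3]; simp [hty]
  · rw [Units.val_mul, hc, hc, smul_mul_smul_comm, trace_smul, ← Units.val_mul]
    simp only [Units.val_mul, Units.val_inv_eq_inv_val, Units.val_mk0, smul_eq_mul] at ht ⊢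
    field_simp

theorem Pair.nscal_xy {δ : F} {x y : GL (Fin 2) F} {n : ℕ} (h : orderOf (mkP x * mkP y) = n) (hn : n ≠ 1) :
    ¬ IsScal ((x * y : GL (Fin 2) F) : M2 F) ∧ IsScal (((x * y : GL (Fin 2) F) : M2 F) ^ n) := by
  rw [← map_mul] at h
  exact ⟨fun hs => hn (by rw [← h, mkP_eq_one.2 hs, orderOf_one]), mkP_pow_eq_one.1 (h ▸ pow_orderOf_eq_one _)⟩

theorem pair_A4 {H : Subgroup (PGL2 F)} (e : H ≃* alternatingGroup (Fin 4)) :
    ∃ x y, Pair (1 : F) x y ∧ H = closure {mkP x, mkP y} := by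
  obtain ⟨X, Y, h, h1, h2, h3⟩ := gens_of_iso closure_A4 e
  rw [order_ab4] at h3
  obtain ⟨δ, x, y, hp, rfl, rfl⟩ := pair_of_order (h1.trans order_a4) (h2.trans order_b4)
    (by rw [Ne, ← orderOf_dvd_iff_pow_eq_one, h3]; norm_num)
  obtain ⟨a, b⟩ := Pair.nscal_xy (δ := δ) h3 (by norm_num)
  have := (scal_pow_iff3 a).1 b
  rw [hp.txy, hp.dxy, one_pow] at this
  subst this
  exact ⟨x, y, hp, h⟩

theorem pair_S4 {H : Subgroup (PGL2 F)} (e : H ≃* Equiv.Perm (Fin 4)) :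
    ∃ δ x y, 2 * δ = 1 ∧ Pair δ x y ∧ H = closure {mkP x, mkP y} := by
  obtain ⟨X, Y, h, h1, h2, h3⟩ := gens_of_iso closure_S4 e
  rw [order_st4] at h3
  obtain ⟨δ, x, y, hp, rfl, rfl⟩ := pair_of_order (h1.trans order_s4) (h2.trans order_t4)
    (by rw [Ne, ← orderOf_dvd_iff_pow_eq_one, h3]; norm_num)
  obtain ⟨a, b⟩ := Pair.nscal_xy (δ := δ) h3 (by norm_num)
  have := (scal_pow_iff4 a).1 b
  rw [hp.txy, hp.dxy] at this
  exact ⟨δ, x, y, by linear_combination -this, hp, h⟩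

theorem pair_A5 {H : Subgroup (PGL2 F)} (e : H ≃* alternatingGroup (Fin 5)) :
    ∃ δ x y, δ ^ 2 - 3 * δ + 1 = 0 ∧ Pair δ x y ∧ H = closure {mkP x, mkP y} := by
  obtain ⟨X, Y, h, h1, h2, h3⟩ := gens_of_iso closure_A5 e
  rw [order_ab5] at h3
  obtain ⟨δ, x, y, hp, rfl, rfl⟩ := pair_of_order (h1.trans order_a5) (h2.trans order_b5)
    (by rw [Ne, ← orderOf_dvd_iff_pow_eq_one, h3]; norm_num)
  obtain ⟨a, b⟩ := Pair.nscal_xy (δ := δ) h3 (by norm_num)
  have := (scal_pow_iff5 a).1 b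
  rw [hp.txy, hp.dxy] at this
  exact ⟨δ, x, y, by linear_combination this, hp, h⟩

theorem le_PS_of_pair {δ : F} {x y : GL (Fin 2) F} (h : Pair δ x y) (hδ : IsSquare δ) :
    closure ({mkP x, mkP y} : Set (PGL2 F)) ≤ PS F := by
  rw [closure_le]
  rintro _ (rfl | rfl)
  exacts [h.x_mem.2 hδ, h.y_mem]

theorem isSquare_gold {δ : F} (h : δ ^ 2 - 3 * δ + 1 = 0) : IsSquare δ := ⟨δ - 1, by linear_combination -h⟩

theorem three_mul_ne_one {δ : F} (h : δ ^ 2 - 3 * δ + 1 = 0) : 3 * δ ≠ 1 := fun e =>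
  one_ne_zero (α := F) (by linear_combination 9 * h - (3 * δ - 8) * e)

theorem three_ne_one (h2 : (2 : F) ≠ 0) : (3 : F) * 1 ≠ 1 := fun e => h2 (by linear_combination e)

theorem three_mul_ne_one' {δ : F} (h : 2 * δ = 1) : 3 * δ ≠ 1 := fun e =>
  one_ne_zero (α := F) (by linear_combination 2 * e - 3 * h)

theorem A4_le_PS {H : Subgroup (PGL2 F)} (e : H ≃* alternatingGroup (Fin 4)) : H ≤ PS F := by
  obtain ⟨x, y, h, rfl⟩ := pair_A4 e
  exact le_PS_of_pair h IsSquare.one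

theorem A5_le_PS {H : Subgroup (PGL2 F)} (e : H ≃* alternatingGroup (Fin 5)) : H ≤ PS F := by
  obtain ⟨δ, x, y, hδ, h, rfl⟩ := pair_A5 e
  exact le_PS_of_pair h (isSquare_gold hδ)

theorem rigid_A4 (h2 : (2 : F) ≠ 0) {H H' : Subgroup (PGL2 F)} (e : H ≃* alternatingGroup (Fin 4))
    (e' : H' ≃* alternatingGroup (Fin 4)) : ∃ c, H' = cjs c H := by
  obtain ⟨x, y, h, rfl⟩ := pair_A4 e
  obtain ⟨x', y', h', rfl⟩ := pair_A4 e'
  exact h.conj_closure h' h2 (three_ne_one h2)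

theorem rigid_S4 {H H' : Subgroup (PGL2 F)} (e : H ≃* Equiv.Perm (Fin 4))
    (e' : H' ≃* Equiv.Perm (Fin 4)) : ∃ c, H' = cjs c H := by
  obtain ⟨δ, x, y, hδ, h, rfl⟩ := pair_S4 e
  obtain ⟨δ', x', y', hδ', h', rfl⟩ := pair_S4 e'
  have h2 : (2 : F) ≠ 0 := fun e => by rw [e, zero_mul] at hδ; exact zero_ne_one hδ
  obtain rfl : δ = δ' := mul_left_cancel₀ h2 (hδ.trans hδ'.symm)
  exact h.conj_closure h' h2 (three_mul_ne_one' hδ)

theorem exists_A4 [Finite F] (h2 : (2 : F) ≠ 0) :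
    ∃ H : Subgroup (PGL2 F), Nonempty (H ≃* alternatingGroup (Fin 4)) := by
  obtain ⟨x, y, h⟩ := exists_pair h2 (one_ne_zero)
  exact ⟨_, h.iso_A4 (h.not_scal h2)⟩

theorem exists_S4 [Finite F] (h2 : (2 : F) ≠ 0) :
    ∃ H : Subgroup (PGL2 F), Nonempty (H ≃* Equiv.Perm (Fin 4)) := by
  obtain ⟨x, y, h⟩ := exists_pair h2 (inv_ne_zero h2)
  exact ⟨_, h.iso_S4 (mul_inv_cancel₀ h2)⟩

theorem S4_le_PS_iff [Fintype F] {H : Subgroup (PGL2 F)} (e : H ≃* Equiv.Perm (Fin 4)) :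
    H ≤ PS F ↔ Fintype.card F % 8 = 1 ∨ Fintype.card F % 8 = 7 := by
  obtain ⟨δ, x, y, hδ, h, rfl⟩ := pair_S4 e
  have h2 : (2 : F) ≠ 0 := fun e => by rw [e, zero_mul] at hδ; exact zero_ne_one hδ
  have hodd := Nat.odd_iff.1 (odd_of_two_ne_zero h2)
  have : IsSquare δ ↔ IsSquare (2 : F) := by
    rw [eq_inv_of_mul_eq_one_right hδ, isSquare_inv]
  have e2 := FiniteField.isSquare_two_iff (F := F)
  constructor
  · intro hle
    have := e2.1 (this.1 (h.x_mem.1 (hle (subset_closure (by simp)))))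
    omega
  · intro h8
    exact le_PS_of_pair h (this.2 (e2.2 (by omega)))

theorem exists_gold [Fintype F] (h : 5 ∣ Fintype.card F * (Fintype.card F ^ 2 - 1)) :
    ∃ δ : F, δ ^ 2 - 3 * δ + 1 = 0 := by
  haveI : Fact (Nat.Prime 5) := ⟨by norm_num⟩
  obtain ⟨g, hg⟩ := exists_prime_orderOf_dvd_card' (G := PGL2 F) 5 (by rwa [card_PGL2, mul_assoc, ← sq_sub_one_eq])
  obtain ⟨g, rfl⟩ := mkP_surj g
  have hs : ¬ IsScal (g : M2 F) := fun h => by rw [mkP_eq_one.2 h, orderOf_one] at hg; omega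
  have := (scal_pow_iff5 hs).1 (mkP_pow_eq_one.1 (hg ▸ pow_orderOf_eq_one _))
  have hd := det_ne g
  exact ⟨(g : M2 F).trace ^ 2 / (g : M2 F).det, by field_simp; linear_combination this⟩

theorem exists_A5 [Finite F] {δ : F} (hδ : δ ^ 2 - 3 * δ + 1 = 0) :
    ∃ x y, Pair δ x y ∧ Nonempty (closure ({mkP x, mkP y} : Set (PGL2 F)) ≃* alternatingGroup (Fin 5)) := by
  have h0 : δ ≠ 0 := by rintro rfl; simp at hδ
  by_cases h2 : (2 : F) = 0
  · have h1 : 1 + δ ^ 2 ≠ 0 := fun e => h0 (by linear_combination -hδ + e - δ * h2)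
    have hp : Pair δ (GeneralLinearGroup.mkOfDetNeZero !![δ ^ 2, 1 + δ ^ 2; 0, δ ^ 2] (by simpa [det_fin_two] using h0))
        (GeneralLinearGroup.mkOfDetNeZero !![0, -1; 1, 1] (by simp [det_fin_two])) := by
      refine ⟨?_, ?_, by simp [trace_fin_two], by simp [det_fin_two], ?_⟩
      · simp [trace_fin_two]; linear_combination δ ^ 2 * h2
      · simp [det_fin_two]; linear_combination (δ ^ 2 + 3 * δ) * hδ + (4 * δ ^ 2 - 2 * δ) * h2
      · simp [trace_fin_two, mul_apply2]; linear_combination δ ^ 2 * h2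
    exact ⟨_, _, hp, hp.iso_A5 hδ (fun hs => h1 (by simpa using hs.1))⟩
  · obtain ⟨x, y, h⟩ := exists_pair h2 h0
    exact ⟨x, y, h, h.iso_A5 hδ (h.not_scal h2)⟩

theorem Pair.le_sub [Finite F] {K : Type*} [Field K] [Finite K] (f : K →+* F) {δ : K} {x y : GL (Fin 2) F}
    (h : Pair (f δ) x y) (h2 : (2 : F) ≠ 0) (h3 : 3 * f δ ≠ 1) :
    ∃ c, closure ({mkP x, mkP y} : Set (PGL2 F)) ≤ cjs c (RG f) ∧
      (IsSquare δ → closure ({mkP x, mkP y} : Set (PGL2 F)) ≤ cjs c (RS f)) := by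
  have h2' : (2 : K) ≠ 0 := fun e => h2 (by rw [← map_ofNat f, e, map_zero])
  obtain ⟨x', y', h'⟩ := exists_pair h2' (δ := δ) (fun e => h.ne (by rw [e, map_zero]))
  obtain ⟨c, hc⟩ := (h'.map f).conj_closure h h2 h3
  have e : closure ({mkP (GeneralLinearGroup.map f x'), mkP (GeneralLinearGroup.map f y')} : Set (PGL2 F)) =
      (closure {mkP x', mkP y'}).map (mapP f) := by
    rw [MonoidHom.map_closure, Set.image_insert_eq, Set.image_singleton, mapP_mk, mapP_mk]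
  rw [hc, e]
  exact ⟨c, cjs_mono c (map_le_range _ _), fun hs => cjs_mono c (map_mono (le_PS_of_pair h' hs))⟩

end Cfsg.Agent.Perm.GL2
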