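import Mathlib
import Cfsg.Agent.Lib.Perm.Dick4
import Cfsg.Agent.Lib.Solv.PGrp

/-! Sylow subgroups of `GL₂` and `SL₂`. -/

namespace Cfsg.Agent.Perm.GL2
open Matrix OnePoint MulAction Cfsg.Agent.Perm Subgroup Cfsg.Agent.Perm.Tri
open Matrix.SpecialLinearGroup (toGL toGL_injective)
open scoped Pointwise

variable {F : Type*} [Field F] {p : ℕ}

/-- the upper unitriangular group -/
def UG (F : Type*) [Field F] : Subgroup (GL (Fin 2) F) where
  carrier := {g | (g : M2 F) 1 0 = 0 ∧ (g : M2 F) 0 0 = 1 ∧ (g : M2 F) 1 1 = 1}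
  one_mem' := by simp
  mul_mem' := fun {a b} ha hb => by
    simp only [Set.mem_setOf_eq, Units.val_mul, mul_apply2, ha.1, ha.2.1, ha.2.2, hb.1, hb.2.1, hb.2.2]; simp
  inv_mem' := fun {a} ha => by
    have hd : (a : M2 F).det = 1 := by rw [det_fin_two, ha.1, ha.2.1, ha.2.2]; simp
    simp only [Set.mem_setOf_eq, ← bar_eq_inv hd, coe_bar, adjugate_fin_two]
    simp [ha.1, ha.2.1, ha.2.2]

theorem mem_UG {g : GL (Fin 2) F} :
    g ∈ UG F ↔ (g : M2 F) 1 0 = 0 ∧ (g : M2 F) 0 0 = 1 ∧ (g : M2 F) 1 1 = 1 := Iff.rfl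

theorem up_mem_UG (b : F) : up 1 1 b ∈ UG F := by simp [mem_UG]

theorem card_UG [Fintype F] : Nat.card (UG F) = Fintype.card F := by
  rw [← Nat.card_eq_fintype_card]
  refine Nat.card_congr (Equiv.ofBijective (fun g => ((g : GL (Fin 2) F) : M2 F) 0 1) ⟨?_, ?_⟩)
  · rintro ⟨a, ha⟩ ⟨b, hb⟩ h
    exact Subtype.ext (Units.ext (m2_ext (ha.2.1.trans hb.2.1.symm) h (ha.1.trans hb.1.symm)
      (ha.2.2.trans hb.2.2.symm)))
  · intro b; exact ⟨⟨up 1 1 b, up_mem_UG b⟩, by simp⟩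

theorem isJord_of_mem_UG {g : GL (Fin 2) F} (h : g ∈ UG F) (h1 : g ≠ 1) : IsJord (g : M2 F) :=
  ⟨h.1, h.2.1.trans h.2.2.symm, fun e => h1 (Units.ext (m2_ext (by simp [h.2.1]) (by simp [e])
    (by simp [h.1]) (by simp [h.2.2])))⟩

theorem normalizer_UG : normalizer (UG F : Set (GL (Fin 2) F)) = upperTriangularGL 2 F := by
  have key : ∀ g : GL (Fin 2) F, (g : M2 F) 1 0 = 0 → ∀ u ∈ UG F, g * u * g⁻¹ ∈ UG F := by
    intro g hg u hu
    obtain ⟨a, b⟩ := upper_ne hg
    have e : ((g * u * g⁻¹ : GL (Fin 2) F) : M2 F) * g = g * u := by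
      rw [← Units.val_mul, inv_mul_cancel_right, Units.val_mul]
    obtain ⟨e1, e2, e3, e4⟩ := m2_ext_iff.1 e
    simp only [mul_apply2 _ (g : M2 F), mul_apply2 (g : M2 F), hg, hu.1, hu.2.1, hu.2.2] at e1 e2 e3 e4
    have f3 : ((g * u * g⁻¹ : GL (Fin 2) F) : M2 F) 1 0 = 0 := mul_right_cancel₀ a (by linear_combination e3)
    rw [f3] at e4
    exact ⟨f3, mul_right_cancel₀ a (by linear_combination e1), mul_right_cancel₀ b (by linear_combination e4)⟩
  ext g
  rw [mem_B, mem_normalizer_iff]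
  constructor
  · intro h
    have hu := (h _).1 (up_mem_UG 1)
    have e : ((g * up 1 1 (1 : F) * g⁻¹ : GL (Fin 2) F) : M2 F) * (g : M2 F) = (g : M2 F) * (up 1 1 (1 : F) : M2 F) := by
      rw [← Units.val_mul, inv_mul_cancel_right, Units.val_mul]
    obtain ⟨-, -, -, e4⟩ := m2_ext_iff.1 e
    simp only [mul_apply2 _ (g : M2 F), mul_apply2 (g : M2 F), hu.1, hu.2.2] at e4
    simpa using e4
  · intro hg u
    refine ⟨key g hg u, fun h => ?_⟩
    have := key g⁻¹ (mem_B.1 (inv_mem (mem_B.2 hg))) _ h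
    simpa [mul_assoc] using this

theorem not_dvd_qq [Fintype F] [hp : Fact p.Prime] [CharP F p] :
    p ∣ Fintype.card F ∧ ¬ p ∣ Fintype.card F + 1 ∧ ¬ p ∣ Fintype.card F - 1 := by
  have h : p ∣ Fintype.card F := (prime_dvd_char_iff_dvd_card p).1 (dvd_of_eq (ringChar.eq F p).symm)
  have := Fintype.card_pos (α := F)
  refine ⟨h, fun h' => hp.out.one_lt.ne' (Nat.dvd_one.1 ((Nat.dvd_add_right h).1 h')), fun h' => ?_⟩
  have := Nat.dvd_sub h h'
  rw [Nat.sub_sub_self (by omega)] at this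
  exact hp.out.one_lt.ne' (Nat.dvd_one.1 this)

theorem isPGroup_of_card_eq [Fintype F] (p : ℕ) [hp : Fact p.Prime] [CharP F p] {G : Type*} [Group G]
    (h : Nat.card G = Fintype.card F) : IsPGroup p G := by
  obtain ⟨n, -, hn⟩ := FiniteField.card F p
  exact IsPGroup.of_card (h.trans hn)

/-- the standard Sylow subgroup -/
noncomputable def sylG (F : Type*) [Field F] [Fintype F] (p : ℕ) [hp : Fact p.Prime] [CharP F p] :
    Sylow p (GL (Fin 2) F) :=
  (isPGroup_of_card_eq p card_UG).toSylow (by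
    have := (UG F).card_mul_index
    rw [card_UG, card_GL2, mul_assoc] at this
    rw [Nat.eq_of_mul_eq_mul_left Fintype.card_pos this, hp.out.dvd_mul, hp.out.prime.dvd_pow_iff_dvd two_ne_zero]
    exact not_or.2 not_dvd_qq.2)

theorem coe_sylG [Fintype F] [hp : Fact p.Prime] [CharP F p] : (sylG F p : Subgroup _) = UG F := rfl

theorem exists_sylG [Fintype F] [hp : Fact p.Prime] [CharP F p] (P : Sylow p (GL (Fin 2) F)) :
    ∃ c, ∀ g, g ∈ P ↔ c⁻¹ * g * c ∈ UG F := by
  obtain ⟨c, rfl⟩ := exists_smul_eq (GL (Fin 2) F) (sylG F p) P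
  exact ⟨c, fun g => by rw [← SetLike.mem_coe, Sylow.coe_smul, Set.mem_smul_set_iff_inv_smul_mem]; simp; rfl⟩

theorem sylG_jord [Fintype F] [hp : Fact p.Prime] [CharP F p] (P : Sylow p (GL (Fin 2) F)) {a : GL (Fin 2) F}
    (ha : a ∈ P) (h1 : a ≠ 1) : (∃ b : GL (Fin 2) F, IsConj a b ∧ IsJord (b : M2 F)) ∧ (P : Subgroup _) ≤ cent a := by
  obtain ⟨c, hc⟩ := exists_sylG P
  have hj := isJord_of_mem_UG ((hc a).1 ha) (fun e => h1 (by
    rw [mul_assoc, inv_mul_eq_one] at e; exact mul_eq_right.1 e.symm))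
  refine ⟨⟨_, isConj_iff.2 ⟨c⁻¹, by rw [inv_inv]⟩, hj⟩, fun g hg => ?_⟩
  have h2 := (hc g).1 hg
  have := mem_cent.1 (hj.mem_cent.2 ⟨h2.1, h2.2.1.trans h2.2.2.symm⟩)
  rw [mem_cent]
  have e : g * (a * c) = a * (g * c) := by simpa [mul_assoc] using this
  rw [← mul_assoc, ← mul_assoc] at e
  exact mul_right_cancel e

/-- the upper unitriangular group of `SL₂` -/
def US (F : Type*) [Field F] : Subgroup (SL2 F) := (UG F).comap toGL

theorem mem_US {g : SL2 F} : g ∈ US F ↔ (g : M2 F) 1 0 = 0 ∧ (g : M2 F) 0 0 = 1 ∧ (g : M2 F) 1 1 = 1 := Iff.rfl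

theorem upS_mem_US (b : F) : upS 1 b ∈ US F := by simp [mem_US]

theorem card_US [Fintype F] : Nat.card (US F) = Fintype.card F := by
  rw [← card_UG, ← card_map_of_injective (K := US F) toGL_injective, US, map_comap_eq_self]
  intro g hg
  exact exists_toGL (by rw [det_fin_two, hg.1, hg.2.1, hg.2.2]; simp)

/-- the standard Sylow subgroup -/
noncomputable def sylS (F : Type*) [Field F] [Fintype F] (p : ℕ) [hp : Fact p.Prime] [CharP F p] :
    Sylow p (SL2 F) :=
  (isPGroup_of_card_eq p card_US).toSylow (by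
    have := (US F).card_mul_index
    rw [card_US, card_SL2, mul_assoc] at this
    rw [Nat.eq_of_mul_eq_mul_left Fintype.card_pos this, hp.out.dvd_mul]
    exact not_or.2 not_dvd_qq.2)

theorem exists_sylS [Fintype F] [hp : Fact p.Prime] [CharP F p] (P : Sylow p (SL2 F)) :
    ∃ c, ∀ g, g ∈ P ↔ c⁻¹ * g * c ∈ US F := by
  obtain ⟨c, rfl⟩ := exists_smul_eq (SL2 F) (sylS F p) P
  exact ⟨c, fun g => by rw [← SetLike.mem_coe, Sylow.coe_smul, Set.mem_smul_set_iff_inv_smul_mem]; simp; rfl⟩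

theorem conj_mem_US {e : SL2 F} (he : (e : M2 F) 1 0 = 0) {u : SL2 F} : e⁻¹ * u * e ∈ US F ↔ u ∈ US F := by
  have : toGL e ∈ normalizer (UG F : Set (GL (Fin 2) F)) := by rw [normalizer_UG, mem_B]; exact he
  rw [US, mem_comap, mem_comap, map_mul, map_mul, map_inv]
  exact ((mem_normalizer_iff''.1 this) _).symm

theorem eq_top_of_conj (S : Subgroup (SL2 F)) (h1 : ∀ b, upS 1 b ∈ S) {e : SL2 F} (he : (e : M2 F) 1 0 ≠ 0)
    (h2 : ∀ b, e * upS 1 b * e⁻¹ ∈ S) : S = ⊤ := by
  refine SL2_eq_top S h1 fun a => ?_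
  have := mul_mem (mul_mem (h1 (-((e : M2 F) 0 0 / (e : M2 F) 1 0))) (h2 (-a / (e : M2 F) 1 0 ^ 2)))
    (h1 ((e : M2 F) 0 0 / (e : M2 F) 1 0))
  convert this using 1
  have hd := det_SL e
  apply Subtype.ext
  apply m2_ext <;> simp only [mul_apply_SL, inv00, inv01, inv10, inv11, coe_upS, coe_mkS] <;> simp <;> field_simp
  · linear_combination (-(e : M2 F) 1 0) * hd
  · linear_combination 0 * hd
  · linear_combination 0 * hd
  · linear_combination (-(e : M2 F) 1 0) * hd

theorem exists_quat (h2 : (2 : F) ≠ 0) [Finite F] :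
    ∃ i j : SL2 F, (i : M2 F).trace = 0 ∧ (j : M2 F).trace = 0 ∧ j * i * j⁻¹ = i⁻¹ := by
  obtain ⟨i, hi⟩ := exists_trace_zero (F := F)
  obtain ⟨j, hj⟩ := (isReg_of_trace h2 hi).exists_inverts
  exact ⟨i, j, hi, (isReg_of_trace h2 hi).trace_of_inverts hj, hj⟩

theorem quat_closure (h2 : (2 : F) ≠ 0) [Finite F] {i j : SL2 F} (hi : (i : M2 F).trace = 0)
    (hij : j * i * j⁻¹ = i⁻¹) : Nonempty (closure ({i, j} : Set (SL2 F)) ≃* QuaternionGroup 2) := by
  have hr := isReg_of_trace h2 hi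
  refine Transfer.nonempty_quaternion_closure (orderOf_eq_four h2 hi) hij ?_ fun h => hr.not_mem_of_inverts hij ?_
  · rw [pow_two, pow_two, mul_self_of_trace hi, mul_self_of_trace (hr.trace_of_inverts hij)]
  · exact zpowers_le.2 (mem_cent.2 rfl) h

theorem not_isCyclic_quat : ¬ IsCyclic (QuaternionGroup 2) := fun h =>
  absurd (h.isMulCommutative.is_comm.comm (QuaternionGroup.a 1) (QuaternionGroup.xa 0)) (by decide)

theorem sylow_quat (h2 : (2 : F) ≠ 0) [Finite F] {G : Type*} [Group G] [Finite G] (f : G →* SL2 F)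
    (hf : Function.Injective f) {i j : G} (hi : (f i : M2 F).trace = 0) (hij : j * i * j⁻¹ = i⁻¹)
    (S : Sylow 2 G) : ∃ k : ℕ, 1 ≤ k ∧ Nonempty ((S : Subgroup G) ≃* QuaternionGroup (2 ^ k)) := by
  obtain ⟨e⟩ := quat_closure h2 hi (j := f j) (by rw [← map_inv, ← map_inv, ← map_mul, ← map_mul, hij])
  have e2 : closure ({i, j} : Set G) ≃* QuaternionGroup 2 :=
    (((closure ({i, j} : Set G)).equivMapOfInjective f hf).trans (MulEquiv.subgroupCongr (by
      rw [MonoidHom.map_closure, Set.image_insert_eq, Set.image_singleton]))).trans e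
  have hP : IsPGroup 2 (closure ({i, j} : Set G)) := IsPGroup.of_card (n := 3) (by
    rw [Nat.card_congr e2.toEquiv, Nat.card_eq_fintype_card, QuaternionGroup.card]; rfl)
  obtain ⟨T, hT⟩ := hP.exists_le_sylow
  have hel : ∀ E ≤ (S : Subgroup G), Nat.card E = 2 ^ 2 → IsMulCommutative E → (∀ x ∈ E, x ^ 2 = 1) → False := by
    intro E _ hc _ hE
    have : Nat.card E ≤ Nat.card (center (SL2 F)) :=
      Nat.card_le_card_of_injective (fun x => ⟨f x, isScal_iff_center_SL.1 (isScal_of_mul_self_eq_one h2 (by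
        rw [← map_mul, ← pow_two, hE x x.2, map_one]))⟩) fun x y h => Subtype.ext (hf (congrArg Subtype.val h))
    rw [hc, card_center_SL_odd h2] at this
    omega
  rcases Solv.isCyclic_or_quaternion S.isPGroup' hel with h | ⟨-, a, b, m, hm, h1, h3, h4, -, h5, h6⟩
  · exfalso
    haveI : IsCyclic (T : Subgroup G) := isCyclic_of_surjective _ (S.equiv T).surjective
    haveI := isCyclic_of_le hT
    exact not_isCyclic_quat (isCyclic_of_surjective _ e2.surjective)
  · exact ⟨m, hm, Solv.nonempty_quaternion_of_gens h1 h3 h4 h5 h6⟩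

theorem coatom_iff {M : Subgroup (PSL2 F)} : IsCoatom M ↔ M.map io ⋖ PS F := by
  rw [← range_io, MonoidHom.range_eq_map, ← covBy_top_iff]
  constructor
  · intro h
    refine ⟨(map_lt_map_iff_of_injective io_injective).2 h.1, fun H h1 h2 => ?_⟩
    have e : (H.comap io).map io = H := map_comap_eq_self (by rw [MonoidHom.range_eq_map]; exact h2.le)
    rw [← e, map_lt_map_iff_of_injective io_injective] at h1 h2
    exact h.2 h1 h2
  · intro h
    exact ⟨(map_lt_map_iff_of_injective io_injective).1 h.1, fun H h1 h2 =>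
      h.2 ((map_lt_map_iff_of_injective io_injective).2 h1) ((map_lt_map_iff_of_injective io_injective).2 h2)⟩

/-- a subgroup of `PSL₂` and its image in `PGL₂` -/
noncomputable def ioEquiv (H : Subgroup (PSL2 F)) : H ≃* H.map io := H.equivMapOfInjective _ io_injective

theorem map_io_le (H : Subgroup (PSL2 F)) : H.map io ≤ PS F := by
  rw [← range_io]; exact map_le_range _ _

theorem map_comap_io {H : Subgroup (PGL2 F)} (h : H ≤ PS F) : (H.comap io).map io = H :=
  map_comap_eq_self (by rwa [range_io])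

theorem exists_PSL_of_le {H : Subgroup (PGL2 F)} (h : H ≤ PS F) {A : Type*} [Group A] (e : Nonempty (H ≃* A)) :
    ∃ H' : Subgroup (PSL2 F), Nonempty (H' ≃* A) :=
  ⟨H.comap io, ⟨((ioEquiv _).trans (MulEquiv.subgroupCongr (map_comap_io h))).trans e.some⟩⟩

theorem exists_coatom_of_covBy {H : Subgroup (PGL2 F)} (h : H ⋖ PS F) {A : Type*} [Group A] (e : Nonempty (H ≃* A)) :
    ∃ H' : Subgroup (PSL2 F), IsCoatom H' ∧ Nonempty (H' ≃* A) :=
  ⟨H.comap io, coatom_iff.2 (by rwa [map_comap_io h.le]),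
    ⟨((ioEquiv _).trans (MulEquiv.subgroupCongr (map_comap_io h.le))).trans e.some⟩⟩

theorem faithful_PGL2 {g : PGL2 F} (h : ∀ x : OnePoint F, g • x = x) : g = 1 := eq_one_of_three (h _) (h _) (h _)

theorem iso_PGL2_perm [Fintype F] (h : Fintype.card F = 2 ∨ Fintype.card F = 3) :
    Nonempty (PGL2 F ≃* Equiv.Perm (Fin (Fintype.card F + 1))) :=
  Small.iso_perm_of_faithful card_onePoint (fun _ => faithful_PGL2) (by
    rw [card_PGL2]; rcases h with h | h <;> rw [h] <;> rfl)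

theorem iso_PSL2_three [Fintype F] (h : Fintype.card F = 3) : Nonempty (PSL2 F ≃* alternatingGroup (Fin 4)) := by
  obtain ⟨e⟩ := Small.iso_alt_of_faithful (G := PS F) (α := OnePoint F) (n := 4) (by rw [card_onePoint, h])
    (fun g hg => Subtype.ext (faithful_PGL2 hg)) (by
      have := card_PS_mul (F := F)
      rw [h] at this
      simp only [Nat.factorial] at this ⊢
      norm_num at this ⊢; omega)
  exact ⟨psEquiv.trans e⟩

theorem eq_PS_of_card [Finite F] {H : Subgroup (PGL2 F)} (h : H ≤ PS F) (h2 : Nat.card (PS F) ≤ Nat.card H) :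
    H = PS F := eq_of_le_of_card_ge h h2

theorem iso_PSL2_A5 [Fintype F] (h : Fintype.card F = 4 ∨ Fintype.card F = 5) :
    Nonempty (PSL2 F ≃* alternatingGroup (Fin 5)) := by
  obtain ⟨δ, hδ⟩ := exists_gold (F := F) (by rcases h with h | h <;> rw [h] <;> norm_num)
  obtain ⟨x, y, -, ⟨e⟩⟩ := exists_A5 hδ
  have := eq_PS_of_card (A5_le_PS e) (by
    have := card_PS_mul (F := F)
    rw [Nat.card_congr e.toEquiv, card_A5]
    rcases h with h | h <;> rw [h] at this <;> simp only [Nat.reduceSub, Nat.reduceGcd] at this <;> omega)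
  exact ⟨psEquiv.trans ((MulEquiv.subgroupCongr this.symm).trans e)⟩

end Cfsg.Agent.Perm.GL2
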