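import Cfsg.Agent.Lib.Perm.Aut8

/-! Outer automorphism groups: the general frame, unitary and symplectic groups. -/

set_option autoImplicit false

namespace Cfsg.Agent.Perm.Aut

open Module Matrix Cfsg.Agent.Classical Cfsg.Agent.Classical.Form

section Congr
variable {F V W : Type*} [Field F] [AddCommGroup V] [Module F V] [AddCommGroup W] [Module F W]

/-- transport of semilinear maps -/
def cg (e : V ≃ₗ[F] W) : GamL F V ≃* GamL F W where
  toFun s := ⟨(e.symm.toAddEquiv.trans s.g).trans e.toAddEquiv, s.τ, fun c v => by simp [s.smul']⟩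
  invFun s := ⟨(e.toAddEquiv.trans s.g).trans e.symm.toAddEquiv, s.τ, fun c v => by simp [s.smul']⟩
  left_inv s := GamL.ext' (fun v => by simp) fun _ => rfl
  right_inv s := GamL.ext' (fun v => by simp) fun _ => rfl
  map_mul' s t := GamL.ext' (fun v => by simp) fun _ => rfl

theorem cg_g (e : V ≃ₗ[F] W) (s : GamL F V) (w : W) : (cg e s).g w = e (s.g (e.symm w)) := rfl
@[simp] theorem cg_g' (e : V ≃ₗ[F] W) (s : GamL F V) (v : V) : (cg e s).g (e v) = e (s.g v) := by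
  simp [cg_g]
@[simp] theorem cg_τ (e : V ≃ₗ[F] W) (s : GamL F V) : (cg e s).τ = s.τ := rfl

/-- transport of linear maps -/
def cgl (e : V ≃ₗ[F] W) : (V ≃ₗ[F] V) ≃* (W ≃ₗ[F] W) where
  toFun x := (e.symm.trans x).trans e
  invFun x := (e.trans x).trans e.symm
  left_inv x := by ext v; simp
  right_inv x := by ext v; simp
  map_mul' x y := by ext v; simp

theorem cgl_apply (e : V ≃ₗ[F] W) (x : V ≃ₗ[F] V) (w : W) : cgl e x w = e (x (e.symm w)) := rfl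
@[simp] theorem cgl_apply' (e : V ≃ₗ[F] W) (x : V ≃ₗ[F] V) (v : V) : cgl e x (e v) = e (x v) := by
  simp [cgl_apply]

theorem cg_lin (e : V ≃ₗ[F] W) (x : V ≃ₗ[F] V) : cg e (GamL.lin x) = GamL.lin (cgl e x) := rfl

theorem cg_cj (e : V ≃ₗ[F] W) (s : GamL F V) (x : V ≃ₗ[F] V) : (cg e s).cj (cgl e x) = cgl e (s.cj x) :=
  GamL.lin_injective (by rw [GamL.lin_cj_eq, ← cg_lin, ← cg_lin, GamL.lin_cj_eq, map_mul, map_mul, map_inv])

theorem det_cgl (e : V ≃ₗ[F] W) (x : V ≃ₗ[F] V) : LinearEquiv.det (cgl e x) = LinearEquiv.det x :=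
  LinearEquiv.det_conj x e

theorem cgl_scal (e : V ≃ₗ[F] W) (c : Fˣ) : cgl e (scal V c) = scal W c := by
  ext w; simp [cgl_apply]

theorem det_cj [FiniteDimensional F V] (s : GamL F V) (x : V ≃ₗ[F] V) :
    (LinearEquiv.det (s.cj x) : F) = s.τ (LinearEquiv.det x) := by
  let e := (Module.finBasis F V).equivFun
  rw [← det_cgl e, ← cg_cj, ← det_cgl e x]
  obtain ⟨g, hg⟩ := exists_gamOf (cg e s)
  obtain ⟨y, hy⟩ := glEquiv.surjective (cgl e x)
  obtain ⟨z, hz⟩ := glEquiv.surjective ((cg e s).cj (cgl e x))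
  have h1 := (cj_gamOf_iff g (cg e s).τ (x := glEquiv y) (y := glEquiv z) (fun _ => rfl) (fun _ => rfl)).1
    (by rw [hz, hy, ← hg])
  rw [← hz, ← hy, det_glEquiv, det_glEquiv]
  change z.1.det = s.τ y.1.det
  rw [h1, det_units_conj, RingEquiv.map_det]; rfl

variable {K : Kind F} {Φ : Form K V} {Ψ : Form K W}

theorem IsSemi.cg {e : V ≃ₗ[F] W} (hB : ∀ u v, Ψ.B (e u) (e v) = Φ.B u v) (hN : ∀ v, Ψ.N (e v) = Φ.N v)
    {s : GamL F V} {l : F} (h : IsSemi Φ s l) : IsSemi Ψ (cg e s) l := by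
  refine ⟨h.ne, h.σl, fun u v => ?_, fun v => ?_⟩
  · obtain ⟨u, rfl⟩ := e.surjective u
    obtain ⟨v, rfl⟩ := e.surjective v
    simp [hB, h.B]
  · obtain ⟨v, rfl⟩ := e.surjective v
    simp [hN, h.N]

theorem IsSemi.unique [Nontrivial V] (hΦ : Φ.Nondeg) {s : GamL F V} {l m : F} (h : IsSemi Φ s l)
    (h' : IsSemi Φ s m) : l = m := by
  obtain ⟨v, hv⟩ := exists_ne (0 : V)
  obtain ⟨u, hu⟩ := hΦ.exists_ne hv
  exact mul_right_cancel₀ (by simpa using hu) ((h.B u v).symm.trans (h'.B u v))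

theorem IsSemi.cj_sim [Cmp K] {s : GamL F V} {l m : F} (h : IsSemi Φ s l) {x : V ≃ₗ[F] V}
    (hx : IsSemi Φ (GamL.lin x) m) : IsSemi Φ (GamL.lin (s.cj x)) (s.τ m) := by
  rw [GamL.lin_cj_eq]
  convert (h.mul hx).mul h.inv using 1
  have := h.ne
  simp; field_simp

/-- the group of similarities -/
abbrev Sim [Cmp K] (Φ : Form K V) : Subgroup (V ≃ₗ[F] V) := (Semi Φ).comap GamL.lin

theorem Isom_le_Sim [Cmp K] : Φ.Isom ≤ Sim Φ := fun _ => lin_mem_Semi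

theorem ZG_le_Sim [Cmp K] {H : Subgroup (V ≃ₗ[F] V)} (h : H ≤ Sim Φ) : ZG H ≤ Sim Φ := ZG_le h scal_mem_Semi

/-- the multiplier -/
noncomputable def mu [Cmp K] (s : Semi Φ) : Fˣ := Units.mk0 s.2.choose s.2.choose_spec.ne

theorem mu_spec [Cmp K] (s : Semi Φ) : IsSemi Φ s.1 (mu s) := s.2.choose_spec

theorem mu_eq [Cmp K] [Nontrivial V] (hΦ : Φ.Nondeg) {s : Semi Φ} {l : F} (h : IsSemi Φ s.1 l) :
    (mu s : F) = l := (mu_spec s).unique hΦ h

/-- the multiplier of a similarity -/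
noncomputable def muL [Cmp K] [Nontrivial V] (hΦ : Φ.Nondeg) : Sim Φ →* Fˣ :=
  MonoidHom.mk' (fun g => mu ⟨GamL.lin g.1, g.2⟩) fun g k => Units.ext (mu_eq hΦ (by
    have := (mu_spec ⟨GamL.lin g.1, g.2⟩).mul (mu_spec ⟨GamL.lin k.1, k.2⟩)
    exact this))

theorem muL_spec [Cmp K] [Nontrivial V] (hΦ : Φ.Nondeg) (g : Sim Φ) :
    IsSemi Φ (GamL.lin g.1) (muL hΦ g) := mu_spec ⟨GamL.lin g.1, g.2⟩

theorem muL_eq [Cmp K] [Nontrivial V] (hΦ : Φ.Nondeg) {g : Sim Φ} {l : F}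
    (h : IsSemi Φ (GamL.lin g.1) l) : (muL hΦ g : F) = l := (muL_spec hΦ g).unique hΦ h

theorem exists_isom_of_norm [Cmp K] {g : V ≃ₗ[F] V} {l c : F} (h : IsSemi Φ (GamL.lin g) l)
    (hc : c * K.σ c = l) : ∃ d : Fˣ, (d : F) = c ∧ ∃ k ∈ Φ.Isom, g = scal V d * k := by
  have h0 : c ≠ 0 := by rintro rfl; exact h.ne (by simpa using hc.symm)
  refine ⟨Units.mk0 c h0, rfl, scal V (Units.mk0 c h0)⁻¹ * g, isSemi_lin_one ?_, by simp⟩
  rw [map_mul]
  convert (isSemi_scal _).mul h using 1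
  have : K.σ c ≠ 0 := by simpa using h0
  simp [← hc]; field_simp

theorem isSemi_scal_mul [Cmp K] (c : Fˣ) {k : V ≃ₗ[F] V} (hk : k ∈ Φ.Isom) :
    IsSemi Φ (GamL.lin (scal V c * k)) (c * K.σ c) := by
  rw [map_mul]
  simpa using (isSemi_scal c).mul (isSemi_lin hk)

end Congr

section ORep
variable {F V : Type*} [Field F] [AddCommGroup V] [Module F V]

/-- a model of the quotient of a semilinear group by scalars and a linear group -/
structure ORep (Γ : Subgroup (GamL F V)) (G : Subgroup (V ≃ₗ[F] V)) (O : Type*) [Group O] where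
  ρ : Γ →* O
  surj : Function.Surjective ρ
  ker : ∀ s, ρ s = 1 ↔ ∃ x ∈ ZG G, s.1 = GamL.lin x

/-- linear elements -/
def linI (Γ : Subgroup (GamL F V)) : Γ.comap GamL.lin →* Γ := GamL.lin.subgroupComap Γ

@[simp] theorem linI_coe {Γ : Subgroup (GamL F V)} (g : Γ.comap GamL.lin) : (linI Γ g).1 = GamL.lin g.1 := rfl

namespace ORep
variable {Γ : Subgroup (GamL F V)} {G : Subgroup (V ≃ₗ[F] V)} {O : Type*} [Group O] (R : ORep Γ G O)

theorem exists_tau : ∃ φ : O →* (F ≃+* F), ∀ s, φ (R.ρ s) = s.1.τ :=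
  exists_lift R.ρ R.surj (GamL.tau.comp Γ.subtype) fun s hs => by
    obtain ⟨x, -, h⟩ := (R.ker s).1 hs
    change s.1.τ = 1
    rw [h]; rfl

/-- the field automorphism -/
noncomputable def tau : O →* (F ≃+* F) := R.exists_tau.choose

@[simp] theorem tau_ρ (s : Γ) : R.tau (R.ρ s) = s.1.τ := R.exists_tau.choose_spec s

/-- the linear part -/
def ρl : Γ.comap GamL.lin →* O := R.ρ.comp (linI Γ)

theorem ρl_eq_one {g : Γ.comap GamL.lin} : R.ρl g = 1 ↔ g.1 ∈ ZG G :=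
  (R.ker _).trans ⟨fun ⟨x, hx, h⟩ => by rwa [GamL.lin_injective h], fun hg => ⟨_, hg, rfl⟩⟩

theorem ρl_eq_iff {g k : Γ.comap GamL.lin} : R.ρl g = R.ρl k ↔ g.1 * k.1⁻¹ ∈ ZG G := by
  rw [← mul_inv_eq_one, ← map_inv, ← map_mul, ρl_eq_one]; rfl

theorem ρl_mem (g : Γ.comap GamL.lin) : R.ρl g ∈ R.tau.ker := R.tau_ρ _

theorem exists_ρl {x : O} (hx : x ∈ R.tau.ker) : ∃ g, R.ρl g = x := by
  obtain ⟨s, rfl⟩ := R.surj x
  rw [MonoidHom.mem_ker, tau_ρ] at hx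
  obtain ⟨g, hg⟩ := GamL.mem_range_lin.2 hx
  exact ⟨⟨g, by rw [Subgroup.mem_comap, hg]; exact s.2⟩, congrArg R.ρ (Subtype.ext hg)⟩

theorem range_ρl : R.ρl.range = R.tau.ker :=
  le_antisymm (by rintro _ ⟨g, rfl⟩; exact R.ρl_mem g) fun _ hx => R.exists_ρl hx

theorem ρ_conj (s : Γ) (g : Γ.comap GamL.lin) (h : s.1.cj g.1 ∈ Γ.comap GamL.lin) :
    R.ρ s * R.ρl g * (R.ρ s)⁻¹ = R.ρl ⟨_, h⟩ := by
  rw [ρl, MonoidHom.comp_apply, MonoidHom.comp_apply, ← map_inv, ← map_mul, ← map_mul]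
  exact congrArg R.ρ (Subtype.ext (GamL.lin_cj_eq _ _).symm)

theorem cj_mem (s : Γ) (g : Γ.comap GamL.lin) : s.1.cj g.1 ∈ Γ.comap GamL.lin := by
  rw [Subgroup.mem_comap, GamL.lin_cj_eq]
  exact mul_mem (mul_mem s.2 g.2) (inv_mem s.2)

theorem range_sub {H : Subgroup (V ≃ₗ[F] V)} (hH : H ≤ Γ.comap GamL.lin) (hZ : Γ.comap GamL.lin ≤ ZG H) :
    (R.ρl.comp (Subgroup.inclusion hH)).range = R.tau.ker := by
  rw [← range_ρl]
  refine le_antisymm (by rintro _ ⟨g, rfl⟩; exact ⟨_, rfl⟩) ?_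
  rintro _ ⟨g, rfl⟩
  obtain ⟨c, k, hk, e⟩ := hZ g.2
  refine ⟨⟨k, hk⟩, (R.ρl_eq_iff.2 ?_).symm⟩
  change g.1 * k⁻¹ ∈ _
  rw [e, mul_inv_cancel_right]; exact scal_mem_ZG _ _

theorem nonempty_ker {A : Type*} [Group A] {H : Subgroup (V ≃ₗ[F] V)} (hH : H ≤ Γ.comap GamL.lin)
    (hZ : Γ.comap GamL.lin ≤ ZG H) (χ : H →* A) (hχ : Function.Surjective χ)
    (h : ∀ g, χ g = 1 ↔ g.1 ∈ ZG G) : Nonempty (R.tau.ker ≃* A) :=
  exists_equiv_sub _ (R.range_sub hH hZ) χ hχ fun g => by rw [h]; exact R.ρl_eq_one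

theorem tau_surj (h : ∀ σ : F ≃+* F, ∃ s ∈ Γ, s.τ = σ) : Function.Surjective R.tau := fun σ => by
  obtain ⟨s, hs, e⟩ := h σ
  exact ⟨R.ρ ⟨s, hs⟩, by rw [tau_ρ, e]⟩

theorem exists_zmod [Fintype F] {p f : ℕ} [Fact p.Prime] (hF : Fintype.card F = p ^ f)
    (h : Function.Surjective R.tau) {d : ℕ} [NeZero d] (e : R.tau.ker ≃* Multiplicative (ZMod d)) :
    ∃ φ : O →* Multiplicative (ZMod f), Function.Surjective φ ∧ IsCyclic φ.ker ∧ Nat.card φ.ker = d := by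
  obtain ⟨a⟩ := nonempty_autF F p hF
  have : (a.toMonoidHom.comp R.tau).ker = R.tau.ker := by ext x; simp [MonoidHom.mem_ker]
  refine ⟨a.toMonoidHom.comp R.tau, a.surjective.comp h, ?_, ?_⟩
  · rw [this]; exact isCyclic_of_surjective e.symm e.symm.surjective
  · rw [this, Nat.card_congr e.toEquiv]; simp

theorem card_eq [Fintype F] {p f : ℕ} [Fact p.Prime] (hF : Fintype.card F = p ^ f)
    (h : Function.Surjective R.tau) : Nat.card O = Nat.card R.tau.ker * f := by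
  rw [card_eq_of_surj _ h, card_autF F p hF]

end ORep

namespace Cov
variable {G : Subgroup (V ≃ₗ[F] V)} {P : Type*} [Group P] {C : Cov G P}

/-- the image in the outer automorphism group -/
noncomputable def Fth.orepR (hC : C.Fth) {Γ : Subgroup (GamL F V)} (hΓ : Γ ≤ Nrm G) :
    ORep Γ G (C.out.comp (Subgroup.inclusion hΓ)).range where
  ρ := (C.out.comp (Subgroup.inclusion hΓ)).rangeRestrict
  surj := MonoidHom.rangeRestrict_surjective _
  ker s := Subtype.ext_iff.trans (hC.out_eq_one_iff (s := Subgroup.inclusion hΓ s))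

/-- the outer automorphism group -/
noncomputable def Fth.orep (hC : C.Fth) {Γ : Subgroup (GamL F V)} (hΓ : Γ ≤ Nrm G)
    (h : (C.aut.comp (Subgroup.inclusion hΓ)).range = ⊤) : ORep Γ G (Cfsg.Out P) where
  ρ := C.out.comp (Subgroup.inclusion hΓ)
  surj := (QuotientGroup.mk'_surjective _).comp (MonoidHom.range_eq_top.1 h)
  ker s := hC.out_eq_one_iff (s := Subgroup.inclusion hΓ s)

end Cov

end ORep

section Unitary
variable {F V : Type*} [Field F] [Fintype F] {q : ℕ} [AddCommGroup V] [Module F V] [FiniteDimensional F V]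
  {hF : Fintype.card F = q ^ 2} {Φ : Form (unitKind hF) V}

omit [FiniteDimensional F V] in
theorem unit_Sim_le : Sim Φ ≤ ZG Φ.Isom := by
  rintro g ⟨l, hl⟩
  obtain ⟨c, hc⟩ := norm_surj_fixed _ (frobq_ne_id hF) (frobq_frobq hF) l hl.σl
  obtain ⟨d, -, k, hk, e⟩ := exists_isom_of_norm hl hc
  exact ⟨d, k, hk, e⟩

/-- the determinant of a unitary map -/
noncomputable def detU (hΦ : Φ.Nondeg) : Φ.Isom →* (powMonoidHom (q + 1) : Fˣ →* Fˣ).ker :=
  (LinearEquiv.det.comp Φ.Isom.subtype).codRestrict _ fun g =>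
    (mem_ker_norm_iff hF).2 (hΦ.det_mul_conj g.2)

theorem detU_surj (hΦ : Φ.Nondeg) (h : finrank F V ≠ 0) : Function.Surjective (detU hΦ) := fun c => by
  obtain ⟨g, hg⟩ := (unit_range_det hF hΦ h).ge c.2
  exact ⟨g, Subtype.ext hg⟩

theorem unit_mem_ZG (hΦ : Φ.Nondeg) (h : finrank F V ≠ 0) (g : Φ.Isom) :
    detU hΦ g ∈ (powMonoidHom (finrank F V)).range ↔ g.1 ∈ ZG Φ.E := by
  haveI := Module.nontrivial_of_finrank_pos (R := F) (M := V) (by omega)
  rw [unit_E_eq hF hΦ]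
  constructor
  · rintro ⟨c, hc⟩
    have h1 : c.1 ^ finrank F V = LinearEquiv.det g.1 := congrArg Subtype.val hc
    refine ⟨c.1, (scal V c.1)⁻¹ * g.1, Form.mem_SIsom.2
      ⟨mul_mem (inv_mem (scal_mem ((mem_ker_norm_iff hF).1 c.2))) g.2, ?_⟩, by simp⟩
    rw [map_mul, map_inv, det_scal, h1, inv_mul_cancel]
  · rintro ⟨c, k, hk, e⟩
    have h1 : scal V c ∈ Φ.Isom := by
      have := mul_mem g.2 (inv_mem hk.1)
      rwa [e, mul_inv_cancel_right] at this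
    refine ⟨⟨c, (mem_ker_norm_iff hF).2 (hΦ.norm_of_scal_mem h1)⟩, Subtype.ext ?_⟩
    change c ^ _ = LinearEquiv.det g.1
    rw [e, map_mul, det_scal, (Form.mem_SIsom.1 hk).2, mul_one]

theorem unit_ker (hΦ : Φ.Nondeg) (h : finrank F V ≠ 0) {O : Type*} [Group O] (R : ORep (Semi Φ) Φ.E O) :
    Nonempty (R.tau.ker ≃* Multiplicative (ZMod (Nat.gcd (finrank F V) (q + 1)))) := by
  obtain ⟨ψ, h1, h2⟩ := exists_hom_zmod_gcd (C := (powMonoidHom (q + 1) : Fˣ →* Fˣ).ker) (finrank F V)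
  rw [← card_ker_norm hF]
  refine R.nonempty_ker Isom_le_Sim unit_Sim_le (ψ.comp (detU hΦ)) (h1.comp (detU_surj hΦ h)) fun g => ?_
  rw [← unit_mem_ZG hΦ h, ← h2]; rfl

end Unitary

section Symp
variable {F V : Type*} [Field F] [AddCommGroup V] [Module F V]

theorem sq_mem_ZG {K : Kind F} [Cmp K] (hK : ∀ a, K.σ a = a) {Φ : Form K V} [Nontrivial V] (hΦ : Φ.Nondeg)
    (g : Sim Φ) : muL hΦ g ∈ (powMonoidHom 2).range ↔ g.1 ∈ ZG Φ.Isom := by
  constructor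
  · rintro ⟨c, hc⟩
    obtain ⟨d, -, k, hk, e⟩ := exists_isom_of_norm (muL_spec hΦ g) (c := (c : F)) (by
      rw [← hc, hK]; simp [sq])
    exact ⟨d, k, hk, e⟩
  · rintro ⟨c, k, hk, e⟩
    refine ⟨c, Units.ext ?_⟩
    rw [muL_eq hΦ (e ▸ isSemi_scal_mul c hk), hK]; simp [sq]

theorem exists_sim_symp (m : ℕ) (l : Fˣ) : ∃ g, IsSemi (spForm m F) (GamL.lin g) l := by
  refine ⟨LinearEquiv.piCongrRight fun i => Sum.rec (fun _ => LinearEquiv.smulOfUnit l)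
    (fun _ => LinearEquiv.refl F F) i, isSemi_symp l.ne_zero fun u v => ?_⟩
  simp only [spForm_B, sympForm_eq, Finset.mul_sum, GamL.lin_τ, RingEquiv.refl_apply]
  exact Finset.sum_congr rfl fun i _ => by simp [LinearEquiv.smulOfUnit, Units.smul_def]; ring

theorem symp_ker [Fintype F] (m : ℕ) (hm : 1 ≤ m) {O : Type*} [Group O]
    (R : ORep (Semi (spForm m F)) (spForm m F).E O) :
    Nonempty (R.tau.ker ≃* Multiplicative (ZMod (Nat.gcd 2 (Fintype.card F - 1)))) := by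
  haveI := Module.nontrivial_of_finrank_pos (R := F) (M := Fin m ⊕ Fin m → F) (by rw [finrank_sum]; omega)
  obtain ⟨ψ, h1, h2⟩ := exists_hom_zmod_gcd (C := Fˣ) 2
  rw [← Nat.card_eq_fintype_card, ← Nat.card_units]
  refine R.nonempty_ker le_rfl (le_ZG _) (ψ.comp (muL (spForm_nondeg m))) (h1.comp fun l => ?_) fun g => ?_
  · obtain ⟨g, hg⟩ := exists_sim_symp m l
    exact ⟨⟨g, l, hg⟩, Units.ext (muL_eq _ hg)⟩
  · rw [symp_E_eq (spForm_nondeg m), ← sq_mem_ZG (fun _ => rfl) (spForm_nondeg m), ← h2]; rfl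

end Symp

section Models
variable {F : Type*} [Field F] [Fintype F]

theorem fth_Sp (m : ℕ) (hm : 2 ≤ m) {P : Type*} [Group P] (C : Cov (spForm m F).E P) : C.Fth := by
  obtain ⟨p, hp⟩ := CharP.exists F
  haveI := Fact.mk (CharP.char_is_prime F p)
  obtain ⟨e, f, h⟩ := symp_exists_hyp (spForm_nondeg (F := F) m) (by rw [finrank_sum]; omega)
  exact fth_form p (spForm_nondeg m) (symp_rich _).rich0 h (by rw [finrank_sum]; omega) C

theorem fth_unit {q : ℕ} {hF : Fintype.card F = q ^ 2} {V : Type*} [AddCommGroup V] [Module F V]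
    [FiniteDimensional F V] {Φ : Form (unitKind hF) V} (hΦ : Φ.Nondeg) (hn : 3 ≤ finrank F V)
    {P : Type*} [Group P] (C : Cov Φ.E P) : C.Fth := by
  obtain ⟨p, hp⟩ := CharP.exists F
  haveI := Fact.mk (CharP.char_is_prime F p)
  obtain ⟨e, f, h⟩ := unit_exists_hyp (frobq_ne_id hF) hΦ (by omega)
  exact fth_form p hΦ (unit_rich (frobq_ne_id hF) _).rich0 h hn C

theorem fth_orth {V : Type*} [AddCommGroup V] [Module F V]
    [FiniteDimensional F V] {Φ : Form (Kind.orth F) V} (hΦ : Φ.Nondeg) (hn : 3 ≤ finrank F V)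
    {P : Type*} [Group P] (C : Cov Φ.E P) : C.Fth := by
  obtain ⟨p, hp⟩ := CharP.exists F
  haveI := Fact.mk (CharP.char_is_prime F p)
  obtain ⟨e, f, h⟩ := orth_exists_hyp hΦ hn
  exact fth_form p hΦ (orth_rich0 hΦ hn) h hn C

/-- the outer automorphism group of a unitary group -/
noncomputable def orepSU {q : ℕ} (hF : Fintype.card F = q ^ 2) (n : ℕ) (hn : 3 ≤ n) (h : ¬ (n = 3 ∧ q = 2)) :
    ORep (Semi (uForm hF n)) (uForm hF n).E (Cfsg.Out (Cfsg.PSU n F q)) :=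
  (fth_unit (uForm_nondeg hF n) (by simpa using hn) (repSU hF n (by omega)).cov).orep Semi_le_Nrm_E
    (range_SU hF n hn h)

theorem tau_surj_of_fld {ι : Type} [Fintype ι] [DecidableEq ι] {Γ : Subgroup (GamL F (ι → F))} {G}
    {O : Type*} [Group O] (R : ORep Γ G O) (h : ∀ σ, fld ι σ ∈ Γ) : Function.Surjective R.tau :=
  R.tau_surj fun σ => ⟨_, h σ, rfl⟩

theorem out_SU {p f q : ℕ} [Fact p.Prime] (hq : q = p ^ f) (hF : Fintype.card F = q ^ 2) (n : ℕ) (hn : 3 ≤ n)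
    (h : ¬ (n = 3 ∧ q = 2)) : ∃ φ : Cfsg.Out (Cfsg.PSU n F q) →* Multiplicative (ZMod (2 * f)),
      Function.Surjective φ ∧ IsCyclic φ.ker ∧ Nat.card φ.ker = Nat.gcd n (q + 1) := by
  obtain ⟨e⟩ := unit_ker (uForm_nondeg hF n) (by simp; omega) (orepSU hF n hn h)
  rw [Module.finrank_fin_fun] at e
  haveI : NeZero (Nat.gcd n (q + 1)) := ⟨by simp⟩
  exact (orepSU hF n hn h).exists_zmod (p := p) (by rw [hF, hq, ← pow_mul, mul_comm])
    (tau_surj_of_fld _ fun σ => ⟨_, u_fld hF n σ⟩) e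

end Models

end Cfsg.Agent.Perm.Aut
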