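import Cfsg.Agent.Lib.Perm.GL2f

/-! The classification of the irreducible characters of `SL₂` over a finite field. -/

namespace Cfsg.Agent.Perm.GL2

open Matrix Cfsg.Agent.Char
open Matrix.SpecialLinearGroup (toGL toGL_injective)
open scoped ComplexConjugate

variable {F : Type*} [Field F]

/-- the two halves of a reducible restriction from `GL₂` -/
structure HalfPair (Φ χ₁ χ₂ : SL2 F → ℂ) : Prop where
  irr1 : IsIrrCharacter _ χ₁
  irr2 : IsIrrCharacter _ χ₂
  ne : χ₁ ≠ χ₂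
  eq : Φ = χ₁ + χ₂
  inv : ∀ x g, Φ (cjG x g) = Φ g
  swap : ∃ ε : Fˣ, ¬ IsSquare (ε : F) ∧ ∀ g, χ₂ (cjG (up ε 1 0) g) = χ₁ g

theorem HalfPair.symm {Φ χ₁ χ₂ : SL2 F → ℂ} (H : HalfPair Φ χ₁ χ₂) : HalfPair Φ χ₂ χ₁ := by
  obtain ⟨ε, h1, h2⟩ := H.swap
  refine ⟨H.irr2, H.irr1, H.ne.symm, by rw [H.eq, add_comm], H.inv, ε, h1, fun g => ?_⟩
  have := H.inv (up ε 1 0) g
  rw [H.eq, Pi.add_apply, Pi.add_apply, h2] at this
  linear_combination this

theorem isJord_u {b : F} (hb : b ≠ 0) : IsJord ((upS 1 b : SL2 F) : M2 F) := by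
  simp [IsJord, hb]

theorem IsJord.neg {g : SL2 F} (h : IsJord (g : M2 F)) : IsJord ((-g : SL2 F) : M2 F) := by
  obtain ⟨h1, h2, h3⟩ := h
  simp [IsJord, h1, h2, h3]

theorem cjG_u (a : Fˣ) (b : F) : cjG (up a 1 0) (upS 1 b) = upS 1 (a * b) :=
  Subtype.ext (by
    have := coe_cjG_up a (upS 1 b)
    simp only [coe_upS] at this
    exact this.trans (by simp))

variable [Fintype F]

theorem HalfPair.two_ne {Φ χ₁ χ₂ : SL2 F → ℂ} (H : HalfPair Φ χ₁ χ₂) : (2 : F) ≠ 0 := by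
  obtain ⟨ε, h1, -⟩ := H.swap
  exact fun h => h1 (FiniteField.isSquare_of_char_two (ringChar_eq_two h) _)

theorem HalfPair.apply_eq {Φ χ₁ χ₂ : SL2 F → ℂ} (H : HalfPair Φ χ₁ χ₂) {g : SL2 F}
    (hg : ¬ ∃ h : SL2 F, IsConj g h ∧ IsJord (h : M2 F)) : χ₁ g = χ₂ g := by
  obtain ⟨ε, -, h2⟩ := H.swap
  rw [← h2, ← H.irr2.isClassFunction.eq_of_isConj (isConj_cjG _ hg)]

theorem HalfPair.half {Φ χ₁ χ₂ : SL2 F → ℂ} (H : HalfPair Φ χ₁ χ₂) {g : SL2 F}
    (hg : ¬ ∃ h : SL2 F, IsConj g h ∧ IsJord (h : M2 F)) : χ₁ g = Φ g / 2 := by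
  rw [H.eq, Pi.add_apply, ← H.apply_eq hg]; ring

omit [Fintype F] in
theorem IsScal.not_jord {g : SL2 F} (hg : IsScal (g : M2 F)) :
    ¬ ∃ h : SL2 F, IsConj g h ∧ IsJord (h : M2 F) :=
  fun ⟨_, h1, h2⟩ => h2.not_scal (isScal_of_isConj_SL h1 hg)

omit [Fintype F] in
theorem IsEll.not_jord {g : SL2 F} (hg : IsEll (g : M2 F)) :
    ¬ ∃ h : SL2 F, IsConj g h ∧ IsJord (h : M2 F) :=
  fun ⟨_, h1, h2⟩ => h2.not_ell (isEll_of_isConj_SL h1 hg)

omit [Fintype F] in
theorem IsDiag.not_jord {g : SL2 F} (hg : IsDiag (g : M2 F)) :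
    ¬ ∃ h : SL2 F, IsConj g h ∧ IsJord (h : M2 F) := by
  rintro ⟨h, h1, h2⟩
  have ht := trace_eq_of_isConj_SL h1
  rw [trace_fin_two, trace_fin_two, ← h2.2.1] at ht
  have h3 := upper_mul_SL hg.2.1
  have h4 := upper_mul_SL h2.1
  rw [← h2.2.1] at h4
  refine hg.2.2 (sub_eq_zero.1 (pow_eq_zero_iff two_ne_zero |>.1 ?_))
  have : ((g : M2 F) 0 0 - (g : M2 F) 1 1) ^ 2 =
      ((g : M2 F) 0 0 + (g : M2 F) 1 1) ^ 2 - 4 * ((g : M2 F) 0 0 * (g : M2 F) 1 1) := by ring
  rw [this, ht, h3]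
  linear_combination 4 * h4

theorem HalfPair.deg {Φ χ₁ χ₂ : SL2 F → ℂ} (H : HalfPair Φ χ₁ χ₂) : χ₁ 1 = Φ 1 / 2 :=
  H.half (isScal_SL_iff.2 (Or.inl rfl)).not_jord

theorem isSquare_mul_of_not {a b : F} (ha : ¬ IsSquare a) (hb : ¬ IsSquare b) :
    IsSquare (a * b) := by
  classical
  have ha0 : a ≠ 0 := by rintro rfl; exact ha IsSquare.zero
  have hb0 : b ≠ 0 := by rintro rfl; exact hb IsSquare.zero
  rw [← quadraticChar_one_iff_isSquare (mul_ne_zero ha0 hb0), map_mul,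
    quadraticChar_neg_one_iff_not_isSquare.2 ha, quadraticChar_neg_one_iff_not_isSquare.2 hb]
  norm_num

theorem not_isSquare_mul {a b : F} (ha : ¬ IsSquare a) (hb : IsSquare b) (hb0 : b ≠ 0) :
    ¬ IsSquare (a * b) := by
  classical
  rw [← quadraticChar_neg_one_iff_not_isSquare, map_mul,
    quadraticChar_neg_one_iff_not_isSquare.2 ha, (quadraticChar_one_iff_isSquare hb0).2 hb]
  norm_num

variable [DecidableEq F]

theorem HalfPair.mem {Φ χ₁ χ₂ χ : SL2 F → ℂ} (H : HalfPair Φ χ₁ χ₂) (hχ : IsIrrCharacter _ χ)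
    (h : classInner χ Φ ≠ 0) : χ = χ₁ ∨ χ = χ₂ :=
  eq_or_eq_of_inner_add hχ H.irr1 H.irr2 (a := 1) (b := 1) (by simpa [H.eq] using h)

theorem HalfPair.inner_left {Φ χ₁ χ₂ : SL2 F → ℂ} (H : HalfPair Φ χ₁ χ₂) :
    classInner χ₁ Φ = 1 := by
  rw [H.eq, classInner_add_right, H.irr1.classInner_self, H.irr1.classInner_of_ne H.irr2 H.ne,
    add_zero]

theorem HalfPair.unique {Φ χ₁ χ₂ χ χ' : SL2 F → ℂ} (H : HalfPair Φ χ₁ χ₂) (H' : HalfPair Φ χ χ') :
    χ = χ₁ ∨ χ = χ₂ := H.mem H'.irr1 (by rw [H'.inner_left]; exact one_ne_zero)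

theorem exists_halfPair {Φ : GL (Fin 2) F → ℂ} (hΦ : IsIrrCharacter _ Φ)
    (h2 : classInner (fun g : SL2 F => Φ (toGL g)) (fun g => Φ (toGL g)) = 2) :
    ∃ χ₁ χ₂, HalfPair (fun g : SL2 F => Φ (toGL g)) χ₁ χ₂ := by
  obtain ⟨χ₁, χ₂, h3, h4, h5, h6⟩ := exists_pair_of_norm_two (hΦ.isCharacter.comp toGL) h2
  have hinv : ∀ x (g : SL2 F), Φ (toGL (cjG x g)) = Φ (toGL g) := fun x g => by
    rw [toGL_cjG, hΦ.isClassFunction]
  have hin : classInner χ₂ (fun g : SL2 F => Φ (toGL g)) = 1 := by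
    rw [h6, classInner_add_right, h4.classInner_self, h4.classInner_of_ne h3 h5.symm, zero_add]
  have key : ∃ x, ∀ g, χ₂ (cjG x g) = χ₁ g := by
    by_contra hc
    have hx : ∀ x g, χ₂ (cjG x g) = χ₂ g := by
      intro x
      have h7 := classInner_comp_equiv (cjG x) χ₂ (fun g : SL2 F => Φ (toGL g))
      simp only [hinv] at h7
      rcases eq_or_eq_of_inner_add (h4.comp_equiv (cjG x)) h3 h4 (a := 1) (b := 1)
        (by rw [one_smul, one_smul, ← h6, h7, hin]; exact one_ne_zero) with h | h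
      · exact (hc ⟨x, congrFun h⟩).elim
      · exact congrFun h
    let N := (toGL : SL2 F →* GL (Fin 2) F).range
    haveI : N.Normal := by simp only [N, range_toGL]; infer_instance
    haveI : Fintype N := Fintype.ofFinite N
    let e : SL2 F ≃* N := MonoidHom.ofInjective toGL_injective
    have h8 : classInner (fun n : N => Φ n) (fun n => χ₂ (e.symm n)) = 1 := by
      rw [← classInner_comp_equiv e]
      simp only [MulEquiv.symm_apply_apply]
      exact ((hΦ.isCharacter.comp toGL).classInner_comm h4.isCharacter).trans hin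
    have h9 := hΦ.res_eq_smul_of_invariant (h4.comp_equiv e.symm) (fun x => funext fun n => by
      obtain ⟨g, rfl⟩ := e.surjective n
      rw [cj_apply, MulEquiv.symm_apply_apply, ← hx x g]
      congr 1
      rw [MulEquiv.symm_apply_eq]
      exact Subtype.ext (toGL_cjG x g).symm) (by rw [h8]; exact one_ne_zero)
    rw [h8, one_smul] at h9
    refine h3.ne_zero (funext fun g => ?_)
    have h10 := congrFun h9 (e g)
    have h11 := congrFun h6 g
    simp only [MulEquiv.symm_apply_apply] at h10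
    change Φ (toGL g) = _ at h10
    simp only [Pi.add_apply] at h11
    show χ₁ g = 0
    linear_combination h10 - h11
  obtain ⟨x, hx⟩ := key
  refine ⟨χ₁, χ₂, h3, h4, h5, h6, hinv, GeneralLinearGroup.det x, fun hs => ?_, fun g => ?_⟩
  · obtain ⟨s, hs⟩ := isConj_cjG_of_isSquare (x := x) hs
    exact h5 (funext fun g => by rw [← hx, hs, h4.isClassFunction])
  · obtain ⟨s, hs⟩ := exists_toGL' (g := x * (up (GeneralLinearGroup.det x) 1 0)⁻¹) (by
      rw [map_mul, map_inv, mul_inv_eq_one]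
      exact Units.ext (by simp [det_fin_two]))
    rw [← hx, ← h4.isClassFunction _ s, ← cjG_toGL, ← cjG_mul, hs, inv_mul_cancel_right]

theorem HalfPair.exists_central {Φ χ₁ χ₂ : SL2 F → ℂ} (H : HalfPair Φ χ₁ χ₂) :
    ∃ ω : ℂ, ‖ω‖ = 1 ∧ (∀ g, χ₁ (-g) = ω * χ₁ g) ∧ ∀ g, χ₂ (-g) = ω * χ₂ g := by
  have hz : (-1 : SL2 F) ∈ Subgroup.center (SL2 F) :=
    isScal_iff_center_SL.1 (isScal_SL_iff.2 (Or.inr rfl))
  obtain ⟨ω, h1, h2⟩ := mem_charCenter.1 (H.irr1.center_le_charCenter hz)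
  obtain ⟨ω', -, h2'⟩ := mem_charCenter.1 (H.irr2.center_le_charCenter hz)
  have h3 := h2 1
  have h4 := h2' 1
  rw [mul_one, H.apply_eq (isScal_SL_iff.2 (Or.inr rfl)).not_jord,
    H.apply_eq (isScal_SL_iff.2 (Or.inl rfl)).not_jord] at h3
  rw [mul_one, h3] at h4
  obtain rfl := mul_right_cancel₀ H.irr2.apply_one_ne_zero h4
  exact ⟨ω, h1, fun g => by simpa using h2 g, fun g => by simpa using h2' g⟩

open Classical in
theorem HalfPair.sub_jord {Φ χ₁ χ₂ : SL2 F → ℂ} (H : HalfPair Φ χ₁ χ₂) {g : SL2 F}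
    (hg : IsJord (g : M2 F)) (h1 : (g : M2 F) 0 0 = 1) :
    χ₁ g - χ₂ g = (if IsSquare ((g : M2 F) 0 1) then 1 else -1) *
      (χ₁ (upS 1 1) - χ₂ (upS 1 1)) := by
  split_ifs with h
  · have : IsConj g (upS 1 1) := (hg.isConj_iff (isJord_u one_ne_zero)).2 (by simpa [h1] using h)
    rw [H.irr1.isClassFunction.eq_of_isConj this, H.irr2.isClassFunction.eq_of_isConj this, one_mul]
  · obtain ⟨ε, h2, h3⟩ := H.swap
    have : IsConj g (upS 1 ε) := (hg.isConj_iff (isJord_u ε.ne_zero)).2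
      (by simpa [h1] using isSquare_mul_of_not h h2)
    have h4 := h3 (upS 1 1)
    have h5 := H.inv (up ε 1 0) (upS 1 1)
    rw [cjG_u, mul_one] at h4 h5
    rw [H.eq, Pi.add_apply, Pi.add_apply] at h5
    rw [H.irr1.isClassFunction.eq_of_isConj this, H.irr2.isClassFunction.eq_of_isConj this]
    linear_combination h5 - 2 * h4

theorem HalfPair.mul_conj {Φ χ₁ χ₂ : SL2 F → ℂ} (H : HalfPair Φ χ₁ χ₂) :
    (χ₁ (upS 1 1) - χ₂ (upS 1 1)) * conj (χ₁ (upS 1 1) - χ₂ (upS 1 1)) = Fintype.card F := by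
  classical
  obtain ⟨ω, h1, h2, h3⟩ := H.exists_central
  obtain ⟨ε, hε, -⟩ := H.swap
  have h2' := H.two_ne
  have hne : (1 : F) ≠ -1 := fun h => h2' (by linear_combination h)
  set d := χ₁ (upS 1 1) - χ₂ (upS 1 1) with hd
  have hcl := H.irr1.isClassFunction.sub H.irr2.isClassFunction
  have j1 : IsJord ((upS 1 (1 : F) : SL2 F) : M2 F) := isJord_u one_ne_zero
  have j2 : IsJord ((upS 1 (ε : F) : SL2 F) : M2 F) := isJord_u ε.ne_zero
  have hneg : ∀ g, (χ₁ - χ₂) (-g) = ω * (χ₁ - χ₂) g := fun g => by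
    simp only [Pi.sub_apply, h2, h3]; ring
  have v1 : (χ₁ - χ₂) (upS 1 1) = d := rfl
  have v2 : (χ₁ - χ₂) (upS 1 ε) = -d := by
    have := H.sub_jord j2 (by simp)
    rw [if_neg (by simpa using hε)] at this
    rw [Pi.sub_apply, this]; ring
  have hδ : χ₁ - χ₂ = d • classInd (upS 1 1) + (-d) • classInd (upS 1 (ε : F)) +
      (ω * d) • classInd (-upS 1 1) + (ω * -d) • classInd (-upS 1 (ε : F)) := by
    have hc := ((((isClassFunction_classInd (upS 1 (1 : F))).smul d).add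
      ((isClassFunction_classInd (upS 1 (ε : F))).smul (-d))).add
      ((isClassFunction_classInd (-upS 1 (1 : F))).smul (ω * d))).add
      ((isClassFunction_classInd (-upS 1 (ε : F))).smul (ω * -d))
    funext g
    by_cases hg : ∃ h : SL2 F, IsConj g h ∧ IsJord (h : M2 F)
    · obtain ⟨h, h4, h5⟩ := hg
      rw [hcl.eq_of_isConj h4, hc.eq_of_isConj h4]
      have hsq : ∀ b : F, b ≠ 0 → (IsSquare (ε * b) ↔ ¬ IsSquare b) := fun b hb =>
        ⟨fun h h' => not_isSquare_mul hε h' hb h, isSquare_mul_of_not hε⟩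
      simp only [Pi.add_apply, Pi.smul_apply, classInd, j1.isConj_iff h5, j2.isConj_iff h5,
        j1.neg.isConj_iff h5, j2.neg.isConj_iff h5, smul_eq_mul]
      rcases sq_eq_one_of_eq h5.1 h5.2.1 with h6 | h6
      · rw [Pi.sub_apply, H.sub_jord h5 h6]
        by_cases h7 : IsSquare ((h : M2 F) 0 1) <;>
          simp [h6, h7, hne, hne.symm, hsq _ h5.2.2, hd]
      · have h8 := hneg (-h)
        rw [neg_neg] at h8
        rw [h8, Pi.sub_apply, H.sub_jord h5.neg (by simp [h6])]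
        have h9 := hsq (-(h : M2 F) 0 1) (neg_ne_zero.2 h5.2.2)
        rw [mul_neg] at h9
        by_cases h7 : IsSquare (-(h : M2 F) 0 1) <;>
          simp [h6, h7, hne, hne.symm, h9, hd]
    · have : ∀ r : SL2 F, IsJord (r : M2 F) → classInd r g = 0 := fun r hr =>
        if_neg fun h => hg ⟨r, h.symm, hr⟩
      simp only [Pi.add_apply, Pi.smul_apply, this _ j1, this _ j2, this _ j1.neg, this _ j2.neg,
        Pi.sub_apply, H.apply_eq hg]
      simp
  have hn : classInner (χ₁ - χ₂) (χ₁ - χ₂) = 2 := by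
    rw [classInner_sub_left, classInner_sub_right, classInner_sub_right, H.irr1.classInner_self,
      H.irr2.classInner_self, H.irr1.classInner_of_ne H.irr2 H.ne,
      H.irr2.classInner_of_ne H.irr1 H.ne.symm]
    norm_num
  nth_rewrite 1 [hδ] at hn
  simp only [classInner_add_left, classInner_smul_left, classInner_classInd _ hcl, hneg, v1, v2,
    j1.card_cent_SL, j2.card_cent_SL, j1.neg.card_cent_SL, j2.neg.card_cent_SL,
    card_center_SL_odd h2', map_mul, map_neg] at hn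
  have hω : ω * conj ω = 1 := by rw [Complex.mul_conj, Complex.normSq_eq_norm_sq, h1]; simp
  have hq := cast_q_ne (F := F)
  push_cast at hn
  field_simp at hn
  linear_combination hn / 4 - d * conj d / 2 * hω

theorem HalfPair.sq_jord {Φ χ₁ χ₂ : SL2 F → ℂ} (H : HalfPair Φ χ₁ χ₂) {g : SL2 F}
    (hg : IsJord (g : M2 F)) (h1 : (g : M2 F) 0 0 = 1) :
    (χ₁ g - χ₂ g) ^ 2 = (-1) ^ ((Fintype.card F - 1) / 2) * Fintype.card F := by
  classical
  have h2 := H.mul_conj
  have h3 := H.sub_jord (isJord_u (neg_ne_zero.2 one_ne_zero)) (by simp)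
  rw [map_sub, ← H.irr1.isCharacter.apply_inv, ← H.irr2.isCharacter.apply_inv, upS_inv, inv_one,
    h3] at h2
  have h4 : (χ₁ g - χ₂ g) ^ 2 = (χ₁ (upS 1 1) - χ₂ (upS 1 1)) ^ 2 := by
    rw [H.sub_jord hg h1]; split_ifs <;> ring
  have h5 := odd_of_two_ne_zero H.two_ne
  rw [h4]
  simp only [coe_upS, of_apply, cons_val', cons_val_one, cons_val_fin_one, cons_val_zero,
    FiniteField.isSquare_neg_one_iff] at h2
  rw [Nat.odd_iff] at h5
  split_ifs at h2 with h
  · rw [Even.neg_one_pow (by rw [Nat.even_iff]; omega)]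
    linear_combination h2
  · rw [Odd.neg_one_pow (by rw [Nat.odd_iff]; omega)]
    linear_combination -h2

theorem exists_halfPair_W {α : MulChar F ℂ} (h : α ^ 2 = 1) (h1 : α ≠ 1) :
    ∃ χ₁ χ₂, HalfPair (WS α) χ₁ χ₂ := by
  refine exists_halfPair (isIrr_WC h1) ?_
  change classInner (WS α) (WS α) = 2
  rw [sq, mul_eq_one_iff_eq_inv] at h
  rw [inner_WS, if_pos rfl, if_pos h]; norm_num

theorem exists_halfPair_X {e : GL (Fin 2) F} (he : IsEll (e : M2 F)) {θ : C1 e →* ℂˣ}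
    (h : θ ^ 2 = 1) (h1 : θ ≠ 1) : ∃ χ₁ χ₂, HalfPair (XS he θ) χ₁ χ₂ := by
  refine exists_halfPair (isIrr_XC he (extC_ne_bar he h1)) ?_
  change classInner (XS he θ) (XS he θ) = 2
  rw [sq, mul_eq_one_iff_eq_inv] at h
  rw [inner_XS, if_pos rfl, if_pos h]; norm_num

/-- the irreducible principal series characters of `SL₂` -/
def famWS (F : Type*) [Field F] [Fintype F] [DecidableEq F] : Set (SL2 F → ℂ) :=
  WS '' {α : MulChar F ℂ | α ^ 2 ≠ 1}

/-- the irreducible discrete series characters of `SL₂` -/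
def famXS {e : GL (Fin 2) F} (he : IsEll (e : M2 F)) : Set (SL2 F → ℂ) :=
  XS he '' {θ | θ ^ 2 ≠ 1}

/-- the half principal series -/
def halfW (F : Type*) [Field F] [Fintype F] [DecidableEq F] : Set (SL2 F → ℂ) :=
  {χ | ∃ (α : MulChar F ℂ) (χ' : SL2 F → ℂ), α ^ 2 = 1 ∧ α ≠ 1 ∧ HalfPair (WS α) χ χ'}

/-- the half discrete series -/
def halfX {e : GL (Fin 2) F} (he : IsEll (e : M2 F)) : Set (SL2 F → ℂ) :=
  {χ | ∃ (θ : C1 e →* ℂˣ) (χ' : SL2 F → ℂ), θ ^ 2 = 1 ∧ θ ≠ 1 ∧ HalfPair (XS he θ) χ χ'}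

theorem irr_SL2 {e : GL (Fin 2) F} (he : IsEll (e : M2 F)) {χ : SL2 F → ℂ}
    (hχ : IsIrrCharacter _ χ) : χ = (fun _ => 1) ∨ χ = StS F ∨ χ ∈ famWS F ∨ χ ∈ famXS he ∨
      χ ∈ halfW F ∨ χ ∈ halfX he := by
  rcases exists_constituent he toGL toGL_injective hχ with ⟨α, β, h⟩ | ⟨θ, h⟩
  · rw [WC_res] at h
    generalize α * β⁻¹ = γ at h
    by_cases h1 : γ = 1
    · subst h1
      rcases eq_or_eq_of_inner_add hχ isIrrCharacter_one isIrr_StS (a := 1) (b := 1)
        (by rwa [one_smul, one_smul, ← WS_one_eq]) with h | h <;> simp [h]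
    by_cases h2 : γ ^ 2 = 1
    · obtain ⟨χ₁, χ₂, H⟩ := exists_halfPair_W h2 h1
      refine Or.inr (Or.inr (Or.inr (Or.inr (Or.inl ?_))))
      rcases H.mem hχ h with rfl | rfl
      · exact ⟨γ, _, h2, h1, H⟩
      · exact ⟨γ, _, h2, h1, H.symm⟩
    · exact Or.inr (Or.inr (Or.inl ⟨γ, h2,
        (hχ.eq_of_classInner_ne_zero (isIrr_WS_iff.2 h2) h).symm⟩))
  · rw [XC_res he] at h
    generalize θ.comp (incC e) = γ at h
    by_cases h1 : γ = 1
    · subst h1
      rcases eq_or_eq_of_inner_add hχ isIrrCharacter_one isIrr_StS (a := -1) (b := 1)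
        (by rwa [neg_smul, one_smul, one_smul, neg_add_eq_sub, ← XS_one_eq he]) with h | h <;>
        simp [h]
    by_cases h2 : γ ^ 2 = 1
    · obtain ⟨χ₁, χ₂, H⟩ := exists_halfPair_X he h2 h1
      refine Or.inr (Or.inr (Or.inr (Or.inr (Or.inr ?_))))
      rcases H.mem hχ h with rfl | rfl
      · exact ⟨γ, _, h2, h1, H⟩
      · exact ⟨γ, _, h2, h1, H.symm⟩
    · exact Or.inr (Or.inr (Or.inr (Or.inl ⟨γ, h2,
        (hχ.eq_of_classInner_ne_zero (isIrr_XS he h2) h).symm⟩)))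

theorem famWS_irr {χ : SL2 F → ℂ} (h : χ ∈ famWS F) :
    IsIrrCharacter _ χ ∧ χ 1 = Fintype.card F + 1 := by
  obtain ⟨α, h, rfl⟩ := h
  exact ⟨isIrr_WS_iff.2 h, WS_one α⟩

theorem famXS_irr {e : GL (Fin 2) F} {he : IsEll (e : M2 F)} {χ : SL2 F → ℂ} (h : χ ∈ famXS he) :
    IsIrrCharacter _ χ ∧ χ 1 = Fintype.card F - 1 := by
  obtain ⟨α, h, rfl⟩ := h
  exact ⟨isIrr_XS he h, XS_one he α⟩

theorem halfW_irr {χ : SL2 F → ℂ} (h : χ ∈ halfW F) :
    IsIrrCharacter _ χ ∧ χ 1 = (Fintype.card F + 1) / 2 ∧ (2 : F) ≠ 0 := by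
  obtain ⟨α, χ', -, -, H⟩ := h
  exact ⟨H.irr1, by rw [H.deg, WS_one], H.two_ne⟩

theorem halfX_irr {e : GL (Fin 2) F} {he : IsEll (e : M2 F)} {χ : SL2 F → ℂ} (h : χ ∈ halfX he) :
    IsIrrCharacter _ χ ∧ χ 1 = (Fintype.card F - 1) / 2 ∧ (2 : F) ≠ 0 := by
  obtain ⟨α, χ', -, -, H⟩ := h
  exact ⟨H.irr1, by rw [H.deg, XS_one], H.two_ne⟩

omit [DecidableEq F] in
theorem ncard_mulChar_sq : {α : MulChar F ℂ | α ^ 2 ≠ 1}.ncard = {θ : Fˣ →* ℂˣ | θ ^ 2 ≠ 1}.ncard :=
  Set.ncard_congr (fun α _ => MulChar.mulEquivToUnitHom α)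
    (fun α h h' => h (MulChar.mulEquivToUnitHom.injective (by rw [map_pow, map_one]; exact h')))
    (fun _ _ _ _ h => MulChar.mulEquivToUnitHom.injective h)
    (fun θ h => ⟨MulChar.mulEquivToUnitHom.symm θ, fun h' => h (by
      have := congrArg MulChar.mulEquivToUnitHom h'
      rwa [map_pow, map_one, MulEquiv.apply_symm_apply] at this), by simp⟩)

theorem two_mul_ncard_famWS : 2 * (famWS F).ncard = {α : MulChar F ℂ | α ^ 2 ≠ 1}.ncard := by
  refine two_mul_ncard_image _ _ (fun α => α⁻¹) (fun a h => ?_) (fun a h h' => h ?_)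
    (fun a _ a' _ => WS_eq_iff)
  · simpa using h
  · rw [sq, mul_eq_one_iff_eq_inv, h']

theorem two_mul_ncard_famXS {e : GL (Fin 2) F} (he : IsEll (e : M2 F)) :
    2 * (famXS he).ncard = {θ : C1 e →* ℂˣ | θ ^ 2 ≠ 1}.ncard := by
  haveI := finite_hom_units (C1_comm he)
  refine two_mul_ncard_image _ _ (fun α => α⁻¹) (fun a h h' => h ?_) (fun a h h' => h ?_)
    (fun a _ a' _ => XS_eq_iff he)
  · rw [sq, mul_eq_one_iff_eq_inv] at h' ⊢
    exact (h'.trans (inv_inv a)).symm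
  · rw [sq, mul_eq_one_iff_eq_inv, h']

omit [DecidableEq F] in
theorem card_units_eq : Nat.card Fˣ = Fintype.card F - 1 := by
  classical rw [Nat.card_eq_fintype_card, Fintype.card_units]

theorem ncard_famWS_odd (h : Odd (Fintype.card F)) :
    (famWS F).ncard = (Fintype.card F - 3) / 2 := by
  have h1 := two_mul_ncard_famWS (F := F)
  rw [ncard_mulChar_sq, ncard_sq_ne_even inferInstance
    (by rw [card_units_eq]; exact Nat.Odd.sub_odd h odd_one), card_units_eq] at h1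
  omega

theorem ncard_famWS_even (h : Even (Fintype.card F)) :
    (famWS F).ncard = (Fintype.card F - 2) / 2 := by
  have h1 := two_mul_ncard_famWS (F := F)
  rw [ncard_mulChar_sq, ncard_sq_ne_odd mul_comm
    (by rw [card_units_eq]; exact Nat.Even.sub_odd Fintype.card_pos h odd_one), card_units_eq] at h1
  omega

theorem ncard_famXS_odd {e : GL (Fin 2) F} (he : IsEll (e : M2 F)) (h : Odd (Fintype.card F)) :
    (famXS he).ncard = (Fintype.card F - 1) / 2 := by
  have h1 := two_mul_ncard_famXS he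
  rw [ncard_sq_ne_even he.isCyclic_comap (by rw [he.card_comap]; exact h.add_one),
    he.card_comap] at h1
  omega

theorem ncard_famXS_even {e : GL (Fin 2) F} (he : IsEll (e : M2 F)) (h : Even (Fintype.card F)) :
    (famXS he).ncard = Fintype.card F / 2 := by
  have h1 := two_mul_ncard_famXS he
  rw [ncard_sq_ne_odd (C1_comm he) (by rw [he.card_comap]; exact h.add_one),
    he.card_comap] at h1
  omega

omit [DecidableEq F] in
theorem mulChar_sq_unique {α β : MulChar F ℂ} (h1 : α ^ 2 = 1) (h2 : α ≠ 1) (h3 : β ^ 2 = 1)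
    (h4 : β ≠ 1) : α = β := by
  refine MulChar.mulEquivToUnitHom.injective (hom_sq_unique inferInstance ?_ ?_ ?_ ?_)
  · rw [← map_pow, h1, map_one]
  · exact (map_ne_one_iff _ MulChar.mulEquivToUnitHom.injective).2 h2
  · rw [← map_pow, h3, map_one]
  · exact (map_ne_one_iff _ MulChar.mulEquivToUnitHom.injective).2 h4

omit [DecidableEq F] in
theorem exists_mulChar_sq (h : Odd (Fintype.card F)) : ∃ α : MulChar F ℂ, α ^ 2 = 1 ∧ α ≠ 1 := by
  obtain ⟨θ, h1, h2⟩ := exists_hom_sq (G := Fˣ) inferInstance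
    (by rw [card_units_eq]; exact Nat.Odd.sub_odd h odd_one)
  refine ⟨MulChar.mulEquivToUnitHom.symm θ, ?_,
    (map_ne_one_iff _ MulChar.mulEquivToUnitHom.symm.injective).2 h2⟩
  rw [← map_pow]
  exact (congrArg _ h1).trans (map_one _)

omit [DecidableEq F] in
theorem mulChar_sq_apply {α : MulChar F ℂ} (h1 : α ^ 2 = 1) (h2 : α ≠ 1) {a : F} (ha : a ≠ 0) :
    (IsSquare a → α a = 1) ∧ (¬ IsSquare a → α a = -1) := by
  classical
  have hF : ringChar F ≠ 2 := by
    intro h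
    refine h2 (MulChar.mulEquivToUnitHom.injective ?_)
    rw [map_one]
    refine hom_eq_one_of_odd ?_ (by rw [← map_pow, h1, map_one])
    rw [card_units_eq]
    exact Nat.Even.sub_odd Fintype.card_pos
      (Nat.even_iff.2 (FiniteField.even_card_iff_char_two.1 h)) odd_one
  have h3 := mulChar_sq_unique h1 h2 (β := (quadraticChar F).ringHomComp (Int.castRingHom ℂ))
    ((quadraticChar_isQuadratic F).comp _).sq_eq_one
    ((MulChar.ringHomComp_ne_one_iff (RingHom.injective_int _)).2 (quadraticChar_ne_one hF))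
  rw [h3, MulChar.ringHomComp_apply]
  exact ⟨fun h => by rw [(quadraticChar_one_iff_isSquare ha).2 h]; simp,
    fun h => by rw [quadraticChar_neg_one_iff_not_isSquare.2 h]; simp⟩

theorem halfW_eq {α : MulChar F ℂ} (h1 : α ^ 2 = 1) (h2 : α ≠ 1) {χ₁ χ₂ : SL2 F → ℂ}
    (H : HalfPair (WS α) χ₁ χ₂) : halfW F = {χ₁, χ₂} := by
  ext χ
  constructor
  · rintro ⟨β, χ', h3, h4, H'⟩
    obtain rfl := mulChar_sq_unique h1 h2 h3 h4
    exact H.unique H'
  · rintro (rfl | rfl)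
    · exact ⟨α, _, h1, h2, H⟩
    · exact ⟨α, _, h1, h2, H.symm⟩

theorem halfX_eq {e : GL (Fin 2) F} (he : IsEll (e : M2 F)) {θ : C1 e →* ℂˣ} (h1 : θ ^ 2 = 1)
    (h2 : θ ≠ 1) {χ₁ χ₂ : SL2 F → ℂ} (H : HalfPair (XS he θ) χ₁ χ₂) : halfX he = {χ₁, χ₂} := by
  ext χ
  constructor
  · rintro ⟨β, χ', h3, h4, H'⟩
    obtain rfl := hom_sq_unique he.isCyclic_comap h1 h2 h3 h4
    exact H.unique H'
  · rintro (rfl | rfl)
    · exact ⟨θ, _, h1, h2, H⟩
    · exact ⟨θ, _, h1, h2, H.symm⟩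

theorem ncard_halfW (h : Odd (Fintype.card F)) : (halfW F).ncard = 2 := by
  obtain ⟨α, h1, h2⟩ := exists_mulChar_sq h
  obtain ⟨χ₁, χ₂, H⟩ := exists_halfPair_W h1 h2
  rw [halfW_eq h1 h2 H, Set.ncard_pair H.ne]

theorem ncard_halfX {e : GL (Fin 2) F} (he : IsEll (e : M2 F)) (h : Odd (Fintype.card F)) :
    (halfX he).ncard = 2 := by
  obtain ⟨α, h1, h2⟩ := exists_hom_sq he.isCyclic_comap (by rw [he.card_comap]; exact h.add_one)
  obtain ⟨χ₁, χ₂, H⟩ := exists_halfPair_X he h1 h2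
  rw [halfX_eq he h1 h2 H, Set.ncard_pair H.ne]

omit [DecidableEq F] in
theorem cast_half_add (h : Odd (Fintype.card F)) :
    (((Fintype.card F + 1) / 2 : ℕ) : ℂ) = (Fintype.card F + 1) / 2 := by
  obtain ⟨k, hk⟩ := h
  rw [hk, show (2 * k + 1 + 1) / 2 = k + 1 by omega]; push_cast; ring

omit [DecidableEq F] in
theorem cast_half_sub (h : Odd (Fintype.card F)) :
    (((Fintype.card F - 1) / 2 : ℕ) : ℂ) = (Fintype.card F - 1) / 2 := by
  obtain ⟨k, hk⟩ := h
  rw [hk, show (2 * k + 1 - 1) / 2 = k by omega]; push_cast; ring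

theorem irr_deg {e : GL (Fin 2) F} (he : IsEll (e : M2 F)) {χ : SL2 F → ℂ}
    (hχ : IsIrrCharacter _ χ) :
    (χ 1 = 1 → 4 ≤ Fintype.card F → χ = fun _ => 1) ∧ (χ 1 = Fintype.card F → χ = StS F) ∧
    (χ 1 = Fintype.card F + 1 → χ ∈ famWS F) ∧
    (χ 1 = Fintype.card F - 1 → 4 ≤ Fintype.card F → χ ∈ famXS he) ∧
    (χ 1 = (Fintype.card F + 1) / 2 → χ ∈ halfW F ∨ (Fintype.card F = 3 ∧ χ ∈ famXS he)) ∧
    (χ 1 = (Fintype.card F - 1) / 2 → 4 ≤ Fintype.card F → χ ∈ halfX he) := by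
  have hq : (2 : ℝ) ≤ Fintype.card F := by exact_mod_cast Fintype.one_lt_card (α := F)
  have h4 : 4 ≤ Fintype.card F → (4 : ℝ) ≤ Fintype.card F := fun h => by exact_mod_cast h
  rcases irr_SL2 he hχ with h | h | h | h | h | h
  · refine ⟨fun _ _ => h, fun h1 => ?_, fun h1 => ?_, fun h1 h2 => ?_, fun h1 => ?_,
      fun h1 h2 => ?_⟩ <;> exfalso <;> rw [h] at h1 <;> have := congrArg Complex.re h1 <;>
      simp at this <;> first | linarith | linarith [h4 h2]
  · refine ⟨fun h1 h2 => ?_, fun _ => h, fun h1 => ?_, fun h1 h2 => ?_, fun h1 => ?_,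
      fun h1 h2 => ?_⟩ <;> exfalso <;> rw [h, StS_one] at h1 <;>
      have := congrArg Complex.re h1 <;> simp only [Complex.natCast_re, Complex.add_re,
        Complex.one_re, Complex.sub_re, Complex.div_ofNat_re] at this <;> linarith
  · refine ⟨fun h1 h2 => ?_, fun h1 => ?_, fun _ => h, fun h1 h2 => ?_, fun h1 => ?_,
      fun h1 h2 => ?_⟩ <;> exfalso <;> rw [(famWS_irr h).2] at h1 <;>
      have := congrArg Complex.re h1 <;> simp only [Complex.natCast_re, Complex.add_re,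
        Complex.one_re, Complex.sub_re, Complex.div_ofNat_re] at this <;> linarith
  · refine ⟨fun h1 h2 => ?_, fun h1 => ?_, fun h1 => ?_, fun _ _ => h,
      fun h1 => Or.inr ⟨?_, h⟩, fun h1 h2 => ?_⟩ <;> rw [(famXS_irr h).2] at h1 <;>
      have := congrArg Complex.re h1 <;> simp only [Complex.natCast_re, Complex.add_re,
        Complex.one_re, Complex.sub_re, Complex.div_ofNat_re] at this
    · exfalso; linarith [h4 h2]
    · exfalso; linarith
    · exfalso; linarith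
    · have : (Fintype.card F : ℝ) = 3 := by linarith
      exact_mod_cast this
    · exfalso; linarith
  · refine ⟨fun h1 h2 => ?_, fun h1 => ?_, fun h1 => ?_, fun h1 h2 => ?_, fun _ => Or.inl h,
      fun h1 h2 => ?_⟩ <;> exfalso <;> rw [(halfW_irr h).2.1] at h1 <;>
      have := congrArg Complex.re h1 <;> simp only [Complex.natCast_re, Complex.add_re,
        Complex.one_re, Complex.sub_re, Complex.div_ofNat_re] at this <;>
        first | linarith | linarith [h4 h2]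
  · refine ⟨fun h1 h2 => ?_, fun h1 => ?_, fun h1 => ?_, fun h1 h2 => ?_, fun h1 => ?_,
      fun _ _ => h⟩ <;> exfalso <;> rw [(halfX_irr h).2.1] at h1 <;>
      have := congrArg Complex.re h1 <;> simp only [Complex.natCast_re, Complex.add_re,
        Complex.one_re, Complex.sub_re, Complex.div_ofNat_re] at this <;>
        first | linarith | linarith [h4 h2]

theorem irr_sets {e : GL (Fin 2) F} (he : IsEll (e : M2 F)) (hq : 4 ≤ Fintype.card F) :
    {χ : SL2 F → ℂ | IsIrrCharacter _ χ ∧ χ 1 = 1} = {fun _ => 1} ∧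
    {χ : SL2 F → ℂ | IsIrrCharacter _ χ ∧ χ 1 = Fintype.card F} = {StS F} ∧
    {χ : SL2 F → ℂ | IsIrrCharacter _ χ ∧ χ 1 = Fintype.card F + 1} = famWS F ∧
    {χ : SL2 F → ℂ | IsIrrCharacter _ χ ∧ χ 1 = Fintype.card F - 1} = famXS he ∧
    {χ : SL2 F → ℂ | IsIrrCharacter _ χ ∧ χ 1 = (Fintype.card F + 1) / 2} = halfW F ∧
    {χ : SL2 F → ℂ | IsIrrCharacter _ χ ∧ χ 1 = (Fintype.card F - 1) / 2} = halfX he := by
  refine ⟨?_, ?_, ?_, ?_, ?_, ?_⟩ <;> ext χ
  · exact ⟨fun h => (irr_deg he h.1).1 h.2 hq, by rintro rfl; exact ⟨isIrrCharacter_one, rfl⟩⟩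
  · exact ⟨fun h => (irr_deg he h.1).2.1 h.2, by rintro rfl; exact ⟨isIrr_StS, StS_one⟩⟩
  · exact ⟨fun h => (irr_deg he h.1).2.2.1 h.2, famWS_irr⟩
  · exact ⟨fun h => (irr_deg he h.1).2.2.2.1 h.2 hq, famXS_irr⟩
  · exact ⟨fun h => ((irr_deg he h.1).2.2.2.2.1 h.2).resolve_right (by omega),
      fun h => ⟨(halfW_irr h).1, (halfW_irr h).2.1⟩⟩
  · exact ⟨fun h => (irr_deg he h.1).2.2.2.2.2 h.2 hq,
      fun h => ⟨(halfX_irr h).1, (halfX_irr h).2.1⟩⟩

theorem typeX_inner {e : GL (Fin 2) F} {he : IsEll (e : M2 F)} {χ : SL2 F → ℂ}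
    (h : χ ∈ famXS he ∪ halfX he) (α : MulChar F ℂ) : classInner χ (WS α) = 0 := by
  rcases h with ⟨θ, -, rfl⟩ | ⟨θ, χ', -, -, H⟩
  · exact classInner_eq_zero_comm.1 (inner_WS_XS he α θ)
  · exact inner_eq_zero_of_add H.irr1.isCharacter H.irr2.isCharacter (isCharacter_WS α)
      (by rw [← H.eq]; exact classInner_eq_zero_comm.1 (inner_WS_XS he α θ))

theorem typeW_inner {χ : SL2 F → ℂ}
    (h : χ ∈ {fun _ => 1} ∪ {StS F} ∪ famWS F ∪ halfW F) : ∃ α, classInner χ (WS α) ≠ 0 := by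
  rcases h with ((rfl | rfl) | ⟨α, h, rfl⟩) | ⟨α, χ', -, -, H⟩
  · exact ⟨1, by rw [Ne, classInner_eq_zero_comm, inner_WS_one]; simp⟩
  · refine ⟨1, ?_⟩
    rw [WS_one_eq, add_comm, Ne, classInner_eq_zero_comm]
    exact isIrr_StS.isCharacter.classInner_add_ne_zero isCharacter_one isIrr_StS.isCharacter
      (by rw [isIrr_StS.classInner_self]; exact one_ne_zero)
  · exact ⟨α, by rw [(isIrr_WS_iff.2 h).classInner_self]; exact one_ne_zero⟩
  · exact ⟨α, by rw [H.inner_left]; exact one_ne_zero⟩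

theorem card_conjClasses_SL2 {e : GL (Fin 2) F} (he : IsEll (e : M2 F)) :
    Nat.card (ConjClasses (SL2 F)) =
      2 + (famWS F).ncard + (halfW F).ncard + ((famXS he).ncard + (halfX he).ncard) := by
  have hq : (2 : ℝ) ≤ Fintype.card F := by exact_mod_cast Fintype.one_lt_card (α := F)
  have hfin : {χ | IsIrrCharacter (SL2 F) χ}.Finite :=
    @Set.toFinite (SL2 F → ℂ) _ instFiniteIrrCharacter
  have h0 : {χ | IsIrrCharacter (SL2 F) χ} =
      ({fun _ => 1} ∪ {StS F} ∪ famWS F ∪ halfW F) ∪ (famXS he ∪ halfX he) := by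
    ext χ
    constructor
    · intro h
      rcases irr_SL2 he h with h | h | h | h | h | h <;> simp [h]
    · rintro ((((rfl | rfl) | h) | h) | h | h)
      exacts [isIrrCharacter_one, isIrr_StS, (famWS_irr h).1, (halfW_irr h).1, (famXS_irr h).1,
        (halfX_irr h).1]
  rw [h0] at hfin
  simp only [Set.finite_union] at hfin
  obtain ⟨⟨⟨⟨f1, f2⟩, f3⟩, f4⟩, f5, f6⟩ := hfin
  rw [card_conjClasses_eq, h0, Set.ncard_union_eq _ (((f1.union f2).union f3).union f4)
    (f5.union f6), Set.ncard_union_eq _ ((f1.union f2).union f3) f4,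
    Set.ncard_union_eq _ (f1.union f2) f3, Set.ncard_union_eq _ f1 f2,
    Set.ncard_union_eq _ f5 f6, Set.ncard_singleton, Set.ncard_singleton]
  all_goals rw [Set.disjoint_left]
  · intro χ h1 h2
    have := congrArg Complex.re ((famXS_irr h1).2.symm.trans (halfX_irr h2).2.1)
    simp only [Complex.natCast_re, Complex.one_re, Complex.sub_re, Complex.div_ofNat_re] at this
    linarith
  · rintro χ rfl h2
    have := congrArg Complex.re ((congrFun h2 1).trans StS_one)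
    simp only [Complex.natCast_re, Complex.one_re] at this
    linarith
  · rintro χ (rfl | rfl) h2 <;> have := congrArg Complex.re (famWS_irr h2).2 <;>
      simp only [StS_one, Complex.natCast_re, Complex.one_re, Complex.add_re] at this <;> linarith
  · intro χ h1 h2
    have := congrArg Complex.re (halfW_irr h2).2.1
    rcases h1 with (rfl | rfl) | h1
    · simp only [Complex.natCast_re, Complex.one_re, Complex.add_re, Complex.div_ofNat_re] at this
      linarith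
    · simp only [StS_one, Complex.natCast_re, Complex.one_re, Complex.add_re,
        Complex.div_ofNat_re] at this
      linarith
    · simp only [(famWS_irr h1).2, Complex.natCast_re, Complex.one_re, Complex.add_re,
        Complex.div_ofNat_re] at this
      linarith
  · intro χ h1 h2
    obtain ⟨α, h⟩ := typeW_inner h1
    exact h (typeX_inner h2 α)

omit [DecidableEq F] in
theorem order_cases (g : SL2 F) : orderOf g ∣ 2 * ringChar F ∨
    (IsEll (g : M2 F) ∧ orderOf g ∣ Fintype.card F + 1) ∨ orderOf g ∣ Fintype.card F - 1 := by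
  have hs : ∀ g : SL2 F, IsScal (g : M2 F) → g ^ 2 = 1 := fun g hg => by
    rcases isScal_SL_iff.1 hg with rfl | rfl <;> simp
  rcases classify_SL g with h | h | ⟨h, h1, h2⟩ | ⟨h, h1, h2⟩
  · exact Or.inl ((orderOf_dvd_of_pow_eq_one (hs g h)).trans (dvd_mul_right _ _))
  · exact Or.inr (Or.inl ⟨h, h.card_cent_SL ▸ Subgroup.orderOf_dvd_natCard _ (mem_cent.2 rfl)⟩)
  · refine Or.inl ?_
    rw [orderOf_eq_of_isConj h1, orderOf_dvd_iff_pow_eq_one, mul_comm, pow_mul]
    exact hs _ ((h2.isScal_pow_iff _).2 (ringChar.Nat.cast_ringChar))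
  · refine Or.inr (Or.inr ?_)
    rw [orderOf_eq_of_isConj h1]
    exact h2.card_cent_SL ▸ Subgroup.orderOf_dvd_natCard _ (mem_cent.2 rfl)

omit [DecidableEq F] in
theorem isEll_of_orderOf {g : SL2 F} (h2 : 2 < orderOf g) (h : orderOf g ∣ Fintype.card F + 1) :
    IsEll (g : M2 F) := by
  have hq := Fintype.one_lt_card (α := F)
  rcases order_cases g with h1 | h1 | h1
  · exfalso
    obtain ⟨n, hp, hn⟩ := FiniteField.card F (ringChar F)
    have : (orderOf g).Coprime (ringChar F) := by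
      refine Nat.Coprime.coprime_dvd_left h ?_
      rw [hn]
      exact (Nat.coprime_add_self_left.2 (Nat.coprime_one_left _)).coprime_dvd_right
        (dvd_pow_self _ n.2.ne') |> fun h => by rwa [add_comm] at h
    have := Nat.le_of_dvd two_pos (this.dvd_of_dvd_mul_right h1)
    omega
  · exact h1.1
  · exfalso
    have := Nat.dvd_sub h h1
    rw [show Fintype.card F + 1 - (Fintype.card F - 1) = 2 by omega] at this
    have := Nat.le_of_dvd two_pos this
    omega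

omit [DecidableEq F] in
theorem exists_eq_C1 {C : Subgroup (SL2 F)} (hC : IsCyclic C)
    (hcard : Nat.card C = Fintype.card F + 1) : ∃ e : GL (Fin 2) F, IsEll (e : M2 F) ∧ C = C1 e := by
  obtain ⟨g, rfl⟩ := (Subgroup.isCyclic_iff_exists_zpowers_eq_top C).1 hC
  have hq := Fintype.one_lt_card (α := F)
  rw [Nat.card_zpowers] at hcard
  have he : IsEll ((toGL g : GL (Fin 2) F) : M2 F) := isEll_of_orderOf (g := g) (by omega) hcard.dvd
  have h3 : Subgroup.zpowers g ≤ C1 (toGL g) := by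
    rw [Subgroup.zpowers_le]
    exact mem_cent.2 rfl
  have h4 : Nat.card (C1 (toGL g)) = Fintype.card F + 1 := he.card_comap
  exact ⟨toGL g, he, Subgroup.eq_of_le_of_card_ge h3 (by rw [h4, Nat.card_zpowers, hcard])⟩

theorem XS_central {e : GL (Fin 2) F} (he : IsEll (e : M2 F)) {θ : C1 e →* ℂˣ} (h : θ ^ 2 ≠ 1)
    (c : C1 e) (hc : (c : SL2 F) ∈ Subgroup.center (SL2 F)) (g : SL2 F) :
    XS he θ (c * g) = θ c * XS he θ g := by
  obtain ⟨ω, -, h2⟩ := mem_charCenter.1 ((isIrr_XS he h).center_le_charCenter hc)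
  have h3 := h2 1
  rw [mul_one, XS_scal he _ _ (isScal_iff_center_SL.2 hc), XS_one, mul_comm] at h3
  rw [h2, mul_right_cancel₀ cast_q_sub_one_ne h3]

theorem halfW_even (h : (2 : F) = 0) : halfW F = ∅ :=
  Set.eq_empty_of_forall_notMem fun _ h' => (halfW_irr h').2.2 h

theorem halfX_even {e : GL (Fin 2) F} (he : IsEll (e : M2 F)) (h : (2 : F) = 0) : halfX he = ∅ :=
  Set.eq_empty_of_forall_notMem fun _ h' => (halfX_irr h').2.2 h

end Cfsg.Agent.Perm.GL2
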