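import Mathlib

set_option autoImplicit false

namespace Cfsg.Agent.Perm.Cj
open Module Polynomial

universe u v

section Sim
variable {F V W U : Type*} [Field F] [AddCommGroup V] [Module F V] [AddCommGroup W] [Module F W]
  [AddCommGroup U] [Module F U] {f : End F V} {g : End F W} {h : End F U}

/-- similarity of endomorphisms -/
def Sim (f : End F V) (g : End F W) : Prop := ∃ e : V ≃ₗ[F] W, ∀ v, e (f v) = g (e v)

theorem Sim.refl (f : End F V) : Sim f f := ⟨LinearEquiv.refl F V, fun _ => rfl⟩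

theorem Sim.symm (H : Sim f g) : Sim g f :=
  let ⟨e, he⟩ := H; ⟨e.symm, fun w => e.injective (by simp [he])⟩

theorem Sim.trans (H : Sim f g) (H' : Sim g h) : Sim f h :=
  let ⟨e, he⟩ := H; let ⟨e', he'⟩ := H'; ⟨e.trans e', fun v => by simp [he, he']⟩

theorem map_aeval (e : V →ₗ[F] W) (he : ∀ v, e (f v) = g (e v)) (P : F[X]) (v : V) :
    e (aeval f P v) = aeval g P (e v) := by
  induction P using Polynomial.induction_on generalizing v with
  | C a => simp
  | add p q hp hq => simp [hp, hq]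
  | monomial n a ih => rw [pow_succ, ← mul_assoc]; simp only [map_mul _ _ X, aeval_X, End.mul_apply, ih, he]

theorem Sim.aeval (H : Sim f g) (P : F[X]) : Sim (aeval f P) (aeval g P) :=
  let ⟨e, he⟩ := H; ⟨e, map_aeval e.toLinearMap he P⟩

theorem Sim.finrank_eq (H : Sim f g) : finrank F V = finrank F W := H.choose.finrank_eq

theorem Sim.ker (H : Sim f g) : finrank F (LinearMap.ker f) = finrank F (LinearMap.ker g) := by
  obtain ⟨e, he⟩ := H
  refine (e.ofSubmodules _ _ (le_antisymm ?_ fun w hw => ⟨e.symm w, e.injective ?_, by simp⟩)).finrank_eq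
  · rintro _ ⟨v, hv, rfl⟩; simp [← he, LinearMap.mem_ker.1 hv]
  · simp [he, LinearMap.mem_ker.1 hw]

theorem Sim.eq_conj (e : V ≃ₗ[F] W) (he : ∀ v, e (f v) = g (e v)) : g = e.conj f :=
  LinearMap.ext fun w => by simp [LinearEquiv.conj_apply, he]

theorem Sim.eq_zero (H : Sim f g) : f = 0 ↔ g = 0 := by
  obtain ⟨e, he⟩ := H; simp [Sim.eq_conj e he]

theorem Sim.aeval_zero (H : Sim f g) (P : F[X]) : Polynomial.aeval f P = 0 ↔ Polynomial.aeval g P = 0 :=
  (H.aeval P).eq_zero

theorem Sim.charpoly [FiniteDimensional F V] [FiniteDimensional F W] (H : Sim f g) : f.charpoly = g.charpoly := by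
  obtain ⟨e, he⟩ := H; rw [Sim.eq_conj e he, LinearEquiv.charpoly_conj]

theorem Sim.det (H : Sim f g) : LinearMap.det f = LinearMap.det g := by
  obtain ⟨e, he⟩ := H; rw [Sim.eq_conj e he, LinearEquiv.conj_apply, LinearMap.comp_assoc, LinearMap.det_conj]

/-- dimension of the kernel of `P(f)` -/
noncomputable def kd (f : End F V) (P : F[X]) : ℕ := finrank F (LinearMap.ker (aeval f P))

theorem Sim.kd (H : Sim f g) (P : F[X]) : kd f P = kd g P := (H.aeval P).ker

end Sim

section Mdl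
variable {F : Type*} [Field F] {ι κ : Type*}

/-- the element `X` of a product of quotients of the polynomial ring -/
noncomputable def rt (m : ι → F[X]) : Π i, AdjoinRoot (m i) := fun i => AdjoinRoot.root (m i)

/-- the model endomorphism -/
noncomputable def mdl (m : ι → F[X]) : End F (Π i, AdjoinRoot (m i)) := Algebra.lmul F _ (rt m)

theorem aeval_rt (m : ι → F[X]) (P : F[X]) (i) : aeval (rt m) P i = AdjoinRoot.mk (m i) P := by
  rw [← AdjoinRoot.aeval_eq]; exact (aeval_algHom_apply (Pi.evalAlgHom F _ i) (rt m) P).symm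

theorem aeval_mdl (m : ι → F[X]) (P : F[X]) (v) (i) : aeval (mdl m) P v i = AdjoinRoot.mk (m i) P * v i := by
  rw [mdl, aeval_algHom_apply, ← aeval_rt]; rfl

theorem aeval_mdl_zero (m : ι → F[X]) (P : F[X]) : aeval (mdl m) P = 0 ↔ ∀ i, m i ∣ P :=
  ⟨fun h i => AdjoinRoot.mk_eq_zero.1 (by simpa [h] using (aeval_mdl m P 1 i).symm), fun h =>
    LinearMap.ext fun v => funext fun i => by simp [aeval_mdl, AdjoinRoot.mk_eq_zero.2 (h i)]⟩

theorem sim_reindex (m : κ → F[X]) (σ : ι ≃ κ) : Sim (mdl (m ∘ σ)) (mdl m) :=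
  Sim.symm ⟨LinearEquiv.piCongrLeft' F _ σ.symm, fun _ => rfl⟩

theorem sim_congr {m m' : ι → F[X]} (h : m = m') : Sim (mdl m) (mdl m') := h ▸ Sim.refl _

theorem fin_mdl [Finite ι] {m : ι → F[X]} (hm : ∀ i, (m i).Monic) : FiniteDimensional F (Π i, AdjoinRoot (m i)) :=
  have := fun i => (hm i).finite_adjoinRoot
  inferInstance

theorem finrank_adj {m : F[X]} (hm : m.Monic) : finrank F (AdjoinRoot m) = m.natDegree :=
  (AdjoinRoot.powerBasis' hm).finrank

theorem finrank_mdl [Fintype ι] {m : ι → F[X]} (hm : ∀ i, (m i).Monic) :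
    finrank F (Π i, AdjoinRoot (m i)) = ∑ i, (m i).natDegree := by
  have := fun i => (hm i).finite_adjoinRoot
  simp only [finrank_pi_fintype, finrank_adj (hm _)]

theorem sim_of_fiber [Finite ι] [Finite κ] {α : Type*} (M : α → F[X]) {a : ι → α} {b : κ → α}
    (h : ∀ x, Nat.card {i // a i = x} = Nat.card {j // b j = x}) : Sim (mdl fun i => M (a i)) (mdl fun j => M (b j)) := by
  have σ := fun x => (Finite.card_eq.1 (h x)).some
  rw [show a = b ∘ Equiv.ofFiberEquiv σ from funext fun i => (Equiv.ofFiberEquiv_map σ i).symm]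
  exact sim_reindex (fun j => M (b j)) _

theorem kd_adj {a b P : F[X]} (ha : a.Monic) (hb : b.Monic) (h : ∀ y, a * b ∣ P * y ↔ a ∣ y) :
    finrank F (LinearMap.ker (Algebra.lmul F _ (AdjoinRoot.mk (a * b) P))) = b.natDegree := by
  have := (ha.mul hb).finite_adjoinRoot
  let π : AdjoinRoot (a * b) →ₐ[F] AdjoinRoot a := AdjoinRoot.liftAlgHom _ (Algebra.ofId _ _) (AdjoinRoot.root a)
    ((eval₂_mul _ _).trans (mul_eq_zero_of_left (AdjoinRoot.eval₂_root a) _))
  have hπ : ∀ y, π (AdjoinRoot.mk _ y) = AdjoinRoot.mk _ y := fun y => by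
    rw [← AdjoinRoot.aeval_eq, ← aeval_algHom_apply, AdjoinRoot.liftAlgHom_root, AdjoinRoot.aeval_eq]
  have h1 := π.toLinearMap.finrank_range_add_finrank_ker
  rw [LinearMap.range_eq_top.2 fun y => by
    obtain ⟨y, rfl⟩ := AdjoinRoot.mk_surjective y
    exact ⟨AdjoinRoot.mk _ y, hπ y⟩, finrank_top, finrank_adj ha, finrank_adj (ha.mul hb), ha.natDegree_mul hb, add_right_inj] at h1
  rw [← h1]
  refine congrArg (fun U : Submodule F _ => finrank F U) (Submodule.ext fun y => ?_)
  obtain ⟨y, rfl⟩ := AdjoinRoot.mk_surjective y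
  simp [hπ, ← map_mul, AdjoinRoot.mk_eq_zero, h]

theorem kd_mdl [Fintype ι] {m : ι → F[X]} (hm : ∀ i, (m i).Monic) (P : F[X]) :
    kd (mdl m) P = ∑ i, finrank F (LinearMap.ker (Algebra.lmul F _ (AdjoinRoot.mk (m i) P))) := by
  have := fun i => (hm i).finite_adjoinRoot
  rw [← finrank_pi_fintype]
  exact LinearEquiv.finrank_eq
    { toFun v i := ⟨v.1 i, (aeval_mdl m P v.1 i).symm.trans (congrFun v.2 i)⟩
      invFun v := ⟨fun i => v i, funext fun i => (aeval_mdl m P _ i).trans (v i).2⟩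
      map_add' _ _ := rfl, map_smul' _ _ := rfl, left_inv _ := rfl, right_inv _ := rfl }

open Classical in
theorem kd_pow [Fintype ι] {p : ι → F[X]} (hp : ∀ i, (p i).Monic ∧ Irreducible (p i)) (e : ι → ℕ) {q : F[X]}
    (hq : q.Monic ∧ Irreducible q) (k : ℕ) :
    kd (mdl fun i => p i ^ e i) (q ^ k) = (∑ i, if p i = q then min k (e i) else 0) * q.natDegree := by
  rw [kd_mdl fun i => (hp i).1.pow _, Finset.sum_mul]
  refine Finset.sum_congr rfl fun i _ => ?_
  split_ifs with h
  · subst h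
    obtain ⟨c, hc⟩ := Nat.exists_eq_add_of_le' (min_le_right k (e i))
    rw [← (hp i).1.natDegree_pow, ← kd_adj (P := p i ^ k) ((hp i).1.pow c) ((hp i).1.pow _) fun y => ?_, ← pow_add, ← hc]
    rcases le_total k (e i) with h | h
    · rw [min_eq_left h, mul_comm, mul_dvd_mul_iff_left (pow_ne_zero _ (hp i).1.ne_zero)]
    · rw [min_eq_right h] at hc ⊢
      rw [show c = 0 by omega]
      simpa using (pow_dvd_pow _ h).mul_right y
  · rw [zero_mul, ← natDegree_one (R := F), ← kd_adj (P := q ^ k) ((hp i).1.pow (e i)) monic_one fun y => ?_, mul_one]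
    rw [mul_one]
    exact ⟨(((hp i).2.coprime_iff_not_dvd.2 fun h' => h (eq_of_monic_of_associated (hp i).1 hq.1
      ((hp i).2.associated_of_dvd hq.2 h'))).pow).dvd_of_dvd_mul_left, fun h => h.mul_left _⟩

theorem card_eq_of_min [Fintype ι] [Fintype κ] {a : ι → ℕ} {b : κ → ℕ}
    (h : ∀ k, ∑ i, min k (a i) = ∑ j, min k (b j)) (n : ℕ) :
    Nat.card {i // a i = n + 1} = Nat.card {j // b j = n + 1} := by
  have key : ∀ {ι : Type _} [Fintype ι] (a : ι → ℕ), ∑ i, min (n + 2) (a i) + ∑ i, min n (a i) +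
      Nat.card {i // a i = n + 1} = 2 * ∑ i, min (n + 1) (a i) := fun a => by
    rw [Nat.card_eq_fintype_card, Fintype.card_subtype, Finset.card_filter, Finset.mul_sum, ← Finset.sum_add_distrib,
      ← Finset.sum_add_distrib]
    exact Finset.sum_congr rfl fun i _ => by split_ifs <;> omega
  have key' : ∀ {ι : Type _} [Fintype ι] (a : ι → ℕ), ∑ i, min (n + 2) (a i) + ∑ i, min n (a i) +
      Nat.card {i // a i = n + 1} = 2 * ∑ i, min (n + 1) (a i) := fun a => by
    rw [Nat.card_eq_fintype_card, Fintype.card_subtype, Finset.card_filter, Finset.mul_sum, ← Finset.sum_add_distrib,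
      ← Finset.sum_add_distrib]
    exact Finset.sum_congr rfl fun i _ => by split_ifs <;> omega
  have := key a
  have := key' b
  rw [h, h, h] at *
  omega

theorem charpoly_adj {m : F[X]} (hm : m.Monic) :
    haveI := hm.finite_adjoinRoot
    LinearMap.charpoly (Algebra.lmul F _ (AdjoinRoot.root m)) = m := by
  have := hm.finite_adjoinRoot
  rw [← LinearMap.charpoly_toMatrix _ (AdjoinRoot.powerBasis hm.ne_zero).basis]
  exact (charpoly_leftMulMatrix (AdjoinRoot.powerBasis hm.ne_zero)).trans (AdjoinRoot.minpoly_powerBasis_gen_of_monic hm)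

theorem charpoly_pi {ι : Type u} [Fintype ι] : ∀ (M : ι → Type v) [∀ i, AddCommGroup (M i)] [∀ i, Module F (M i)]
    [∀ i, FiniteDimensional F (M i)] (f : ∀ i, End F (M i)), (LinearMap.piMap f).charpoly = ∏ i, (f i).charpoly := by
  refine Fintype.induction_empty_option (P := fun ι _ => ∀ (M : ι → Type v) [∀ i, AddCommGroup (M i)]
    [∀ i, Module F (M i)] [∀ i, FiniteDimensional F (M i)] (f : ∀ i, End F (M i)),
    (LinearMap.piMap f).charpoly = ∏ i, (f i).charpoly) (fun α β _ σ ih M _ _ _ f => ?_) (fun M _ _ _ f => ?_)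
    (fun α _ ih M _ _ _ f => ?_) ι
  · letI := Fintype.ofEquiv β σ.symm
    rw [← σ.prod_comp, ← ih]
    exact Sim.charpoly ⟨LinearEquiv.piCongrLeft' F _ σ.symm, fun _ => rfl⟩
  · rw [Finset.prod_of_isEmpty]
    exact (LinearMap.charpoly_monic _).natDegree_eq_zero.1
      (by rw [LinearMap.charpoly_natDegree, finrank_zero_of_subsingleton])
  · rw [Fintype.prod_option, ← ih, ← LinearMap.charpoly_prodMap]
    exact Sim.charpoly ⟨LinearEquiv.piOptionEquivProd F, fun _ => rfl⟩

theorem det_pi' {ι : Type u} [Fintype ι] : ∀ (M : ι → Type v) [∀ i, AddCommGroup (M i)] [∀ i, Module F (M i)]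
    [∀ i, FiniteDimensional F (M i)] (f : ∀ i, End F (M i)), (LinearMap.piMap f).det = ∏ i, (f i).det := by
  refine Fintype.induction_empty_option (P := fun ι _ => ∀ (M : ι → Type v) [∀ i, AddCommGroup (M i)]
    [∀ i, Module F (M i)] [∀ i, FiniteDimensional F (M i)] (f : ∀ i, End F (M i)),
    (LinearMap.piMap f).det = ∏ i, (f i).det) (fun α β _ σ ih M _ _ _ f => ?_) (fun M _ _ _ f => ?_)
    (fun α _ ih M _ _ _ f => ?_) ι
  · letI := Fintype.ofEquiv β σ.symm
    rw [← σ.prod_comp, ← ih]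
    exact Sim.det ⟨LinearEquiv.piCongrLeft' F _ σ.symm, fun _ => rfl⟩
  · rw [Finset.prod_of_isEmpty, LinearMap.det_eq_one_of_subsingleton]
  · rw [Fintype.prod_option, ← ih, ← LinearMap.det_prodMap]
    exact Sim.det ⟨LinearEquiv.piOptionEquivProd F, fun _ => rfl⟩

theorem charpoly_mdl [Fintype ι] {m : ι → F[X]} (hm : ∀ i, (m i).Monic) :
    haveI := fin_mdl hm
    (mdl m).charpoly = ∏ i, m i := by
  have := fun i => (hm i).finite_adjoinRoot
  exact (charpoly_pi _ fun i => Algebra.lmul F _ (AdjoinRoot.root (m i))).trans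
    (Finset.prod_congr rfl fun i _ => charpoly_adj (hm i))

end Mdl

section Main
variable {F : Type u} {V W : Type*} [Field F] [AddCommGroup V] [Module F V] [FiniteDimensional F V]
  [AddCommGroup W] [Module F W] [FiniteDimensional F W]

theorem exists_mdl (f : End F V) : ∃ (ι : Type) (_ : Fintype ι) (p : ι → F[X]) (e : ι → ℕ),
    (∀ i, (p i).Monic ∧ Irreducible (p i)) ∧ Sim f (mdl fun i => p i ^ (e i + 1)) := by
  classical
  obtain ⟨ι, _, p, hp, e, ⟨φ⟩⟩ := equiv_directSum_of_isTorsion (AEval.isTorsion_of_finiteDimensional F V f)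
  let σ := (Fintype.equivFin {i // e i ≠ 0}).symm
  refine ⟨_, inferInstance, fun i => normalize (p (σ i)), fun i => e (σ i) - 1, fun i =>
    ⟨monic_normalize (hp _).ne_zero, (normalize_associated _).symm.irreducible (hp _)⟩, .trans ?_
    (sim_reindex (fun i : {i // e i ≠ 0} => normalize (p i) ^ (e i - 1 + 1)) σ).symm⟩
  let ψ : ∀ i : {i // e i ≠ 0}, (F[X] ⧸ F[X] ∙ p i ^ e i) ≃ₗ[F[X]] (F[X] ⧸ F[X] ∙ normalize (p i) ^ (e i - 1 + 1)) :=
    fun i => Submodule.quotEquivOfEq _ _ (Ideal.span_singleton_eq_span_singleton.2 (by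
      rw [Nat.sub_add_cancel (Nat.pos_of_ne_zero i.2)]; exact (normalize_associated _).symm.pow_pow))
  let χ : (Π i, F[X] ⧸ F[X] ∙ p i ^ e i) ≃ₗ[F[X]] Π i : {i // e i ≠ 0}, F[X] ⧸ F[X] ∙ p i ^ e i :=
    .ofBijective (LinearMap.pi fun i => LinearMap.proj i.1) ⟨fun a b h => funext fun i => by
      by_cases hi : e i = 0
      · exact (Submodule.Quotient.subsingleton_iff.2 (by simp [hi])).elim _ _
      · exact congrFun h ⟨i, hi⟩, fun a => ⟨fun i => if h : e i = 0 then 0 else a ⟨i, h⟩, funext fun i => by simp [i.2]⟩⟩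
  let Θ := ((φ.trans (DirectSum.linearEquivFunOnFintype _ _ _)).trans χ).trans (LinearEquiv.piCongrRight ψ)
  refine ⟨(AEval'.of f).trans (Θ.restrictScalars F), fun v => ?_⟩
  exact ((congrArg Θ (AEval'.X_smul_of f v)).symm.trans (map_smul Θ _ _) :)

theorem sim_of_kd {f : End F V} {g : End F W} (h : ∀ q : F[X], q.Monic ∧ Irreducible q → ∀ k, kd f (q ^ k) = kd g (q ^ k)) :
    Sim f g := by
  classical
  obtain ⟨ι, _, p, e, hp, h1⟩ := exists_mdl f
  obtain ⟨κ, _, p', e', hp', h2⟩ := exists_mdl g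
  refine h1.trans (.trans ?_ h2.symm)
  refine sim_of_fiber (fun x : F[X] × ℕ => x.1 ^ (x.2 + 1)) (a := fun i => (p i, e i)) (b := fun i => (p' i, e' i))
    fun ⟨q, n⟩ => ?_
  by_cases hq : q.Monic ∧ Irreducible q
  · have := card_eq_of_min (a := fun i => if p i = q then e i + 1 else 0) (b := fun i => if p' i = q then e' i + 1 else 0)
      (fun k => by
        have := h q hq k
        rw [h1.kd, h2.kd, kd_pow hp _ hq, kd_pow hp' _ hq] at this
        simpa only [apply_ite (min k), Nat.min_zero] using Nat.eq_of_mul_eq_mul_right hq.2.natDegree_pos this) n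
    convert this using 4 <;> simp [ite_eq_iff]
  · rw [Nat.card_eq_zero.2 (.inl ⟨fun ⟨i, hi⟩ => hq (by cases hi; exact hp i)⟩),
      Nat.card_eq_zero.2 (.inl ⟨fun ⟨i, hi⟩ => hq (by cases hi; exact hp' i)⟩)]

theorem exists_mdl_sqf {f : End F V} {S : F[X]} (hS : Squarefree S) (h : aeval f S = 0) :
    ∃ (ι : Type) (_ : Fintype ι) (p : ι → F[X]), (∀ i, (p i).Monic ∧ Irreducible (p i) ∧ p i ∣ S) ∧ Sim f (mdl p) := by
  obtain ⟨ι, _, p, e, hp, h1⟩ := exists_mdl f
  have h2 := (aeval_mdl_zero _ _).1 ((h1.aeval_zero S).1 h)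
  have h3 : ∀ i, e i = 0 := fun i => by
    by_contra hc
    exact (hp i).2.not_isUnit (hS _ ((show p i * p i ∣ _ from by
      rw [← sq]; exact pow_dvd_pow _ (by omega)).trans (h2 i)))
  refine ⟨ι, inferInstance, p, fun i => ⟨(hp i).1, (hp i).2, by simpa [h3] using h2 i⟩, ?_⟩
  exact h1.trans (sim_congr (by simp [h3]))

theorem factors_prod {ι : Type*} [Fintype ι] [DecidableEq F] {p : ι → F[X]} (hp : ∀ i, (p i).Monic ∧ Irreducible (p i)) :
    UniqueFactorizationMonoid.normalizedFactors (∏ i, p i) = Finset.univ.val.map p := by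
  rw [Finset.prod_eq_multiset_prod, UniqueFactorizationMonoid.normalizedFactors_prod_eq _ (by simpa using fun i => (hp i).2),
    Multiset.map_map]
  exact Multiset.map_congr rfl fun i _ => (hp i).1.normalize_eq_self

theorem sim_of_charpoly {f : End F V} {g : End F W} {S T : F[X]} (hS : Squarefree S) (h : aeval f S = 0)
    (hT : Squarefree T) (h' : aeval g T = 0) (hc : f.charpoly = g.charpoly) : Sim f g := by
  classical
  obtain ⟨ι, _, p, hp, h1⟩ := exists_mdl_sqf hS h
  obtain ⟨κ, _, p', hp', h2⟩ := exists_mdl_sqf hT h'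
  have := fin_mdl fun i => (hp i).1
  have := fin_mdl fun i => (hp' i).1
  rw [h1.charpoly, h2.charpoly, charpoly_mdl fun i => (hp i).1, charpoly_mdl fun i => (hp' i).1] at hc
  have h3 := congrArg UniqueFactorizationMonoid.normalizedFactors hc
  rw [factors_prod fun i => ⟨(hp i).1, (hp i).2.1⟩, factors_prod fun i => ⟨(hp' i).1, (hp' i).2.1⟩] at h3
  refine h1.trans (.trans (sim_of_fiber id fun q => ?_) h2.symm)
  have := congrArg (Multiset.count q) h3
  simpa [Multiset.count_map, Fintype.card_subtype, Finset.card, Finset.filter, eq_comm] using this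

end Main

end Cfsg.Agent.Perm.Cj
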