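import Mathlib
import Cfsg.Agent.Lib.Classical.OrthStm
import Cfsg.Agent.Lib.Classical.Family
import Cfsg.Agent.Lib.Classical.Symm

set_option autoImplicit false

namespace Cfsg.Agent.Perm.Ort
open Module Matrix Cfsg.Agent.Classical Cfsg.Agent.Classical.Form

section Mat
variable {F : Type*} [Field F] {ι : Type} [Fintype ι] [DecidableEq ι] (Φ : Form (Kind.orth F) (ι → F))

theorem mem_Omega_iff (g : Cfsg.isometryGroup F Φ.N) :
    g ∈ Cfsg.Omega F Φ.N ↔ orthEquiv Φ g ∈ commutator Φ.Isom := by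
  rw [Cfsg.Omega, commutator_eq_comap (orthEquiv Φ)]; rfl

theorem exists_Omega_iff (x : Φ.Isom) {M : Matrix ι ι F} (h : ∀ v, M *ᵥ v = x.1 v) :
    (∃ g : Cfsg.isometryGroup F Φ.N, g ∈ Cfsg.Omega F Φ.N ∧ (g.1 : Matrix ι ι F) = M) ↔
      x ∈ commutator Φ.Isom := by
  constructor
  · rintro ⟨g, h1, h2⟩
    rwa [mem_Omega_iff, Subtype.ext ((coe_eq_iff_orthEquiv Φ g h).1 h2)] at h1
  · intro h1
    obtain ⟨g, rfl⟩ := (orthEquiv Φ).surjective x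
    exact ⟨g, (mem_Omega_iff Φ g).2 h1, (coe_eq_iff_orthEquiv Φ g h).2 rfl⟩

theorem mulVecLin_eq (g : Cfsg.isometryGroup F Φ.N) :
    Matrix.mulVecLin (g.1 : Matrix ι ι F) = ((orthEquiv Φ g).1 : (ι → F) →ₗ[F] (ι → F)) := by
  refine LinearMap.ext fun v => ?_
  exact (orthEquiv_apply Φ g v).symm

theorem exists_Omega_map {U W : Submodule F (ι → F)}
    (h : ∃ x ∈ commutator Φ.Isom, U.map (x.1 : (ι → F) →ₗ[F] (ι → F)) = W) :
    ∃ g : Cfsg.isometryGroup F Φ.N, g ∈ Cfsg.Omega F Φ.N ∧ U.map (Matrix.mulVecLin (g.1 : Matrix ι ι F)) = W := by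
  obtain ⟨x, h1, h2⟩ := h
  obtain ⟨g, rfl⟩ := (orthEquiv Φ).surjective x
  exact ⟨g, (mem_Omega_iff Φ g).2 h1, by rw [mulVecLin_eq, h2]⟩

end Mat

section Gram
variable {F : Type*} [Field F] {V : Type*} [AddCommGroup V] [Module F V]

/-- Gram determinant -/
def gd (B : V →ₗ[F] V →ₗ[F] F) {ι : Type*} [Fintype ι] [DecidableEq ι] (b : ι → V) : F :=
  (Matrix.of fun i j => B (b i) (b j)).det

theorem gd_equiv (B : V →ₗ[F] V →ₗ[F] F) {ι κ : Type*} [Fintype ι] [DecidableEq ι] [Fintype κ] [DecidableEq κ]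
    (b : ι → V) (e : κ ≃ ι) : gd B (b ∘ e) = gd B b :=
  Matrix.det_submatrix_equiv_self e (Matrix.of fun i j => B (b i) (b j))

theorem gd_map (B : V →ₗ[F] V →ₗ[F] F) {ι : Type*} [Fintype ι] [DecidableEq ι] (b : Basis ι F V) (c : ι → V) :
    gd B c = (b.toMatrix c).det ^ 2 * gd B b := by
  have : (Matrix.of fun i j => B (c i) (c j)) =
      (b.toMatrix c)ᵀ * (Matrix.of fun i j => B (b i) (b j)) * b.toMatrix c := by
    ext i j
    conv_lhs => rw [of_apply, ← b.sum_toMatrix_smul_self c i, ← b.sum_toMatrix_smul_self c j]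
    simp only [map_sum, map_smul, LinearMap.sum_apply, LinearMap.smul_apply, smul_eq_mul, mul_apply,
      transpose_apply, of_apply]
    exact Finset.sum_congr rfl fun _ _ => mul_comm _ _
  rw [gd, this, det_mul, det_mul, det_transpose, gd]; ring

theorem gd_basis (B : V →ₗ[F] V →ₗ[F] F) {ι κ : Type*} [Fintype ι] [DecidableEq ι] [Fintype κ] [DecidableEq κ]
    (b : Basis ι F V) (c : Basis κ F V) : ∃ t : F, t ≠ 0 ∧ gd B c = t ^ 2 * gd B b := by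
  let e := b.indexEquiv c
  refine ⟨(b.toMatrix (c.reindex e.symm)).det, ?_, ?_⟩
  · haveI := b.invertibleToMatrix (c.reindex e.symm)
    exact (Matrix.isUnit_det_of_invertible _).ne_zero
  · rw [← gd_map, ← gd_equiv B c e]; congr 1; ext i; simp

theorem gd_ne_zero {B : V →ₗ[F] V →ₗ[F] F} (hB : ∀ v, (∀ u, B u v = 0) → v = 0) {ι : Type*} [Fintype ι]
    [DecidableEq ι] (b : Basis ι F V) : gd B b ≠ 0 := by
  intro h
  obtain ⟨x, hx, h1⟩ := Matrix.exists_mulVec_eq_zero_iff.2 h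
  apply hx
  have : b.equivFun.symm x = 0 := hB _ fun u => by
    have : B.flip (b.equivFun.symm x) = 0 := b.ext fun i => by
      have := congrFun h1 i
      simpa [mulVec, dotProduct, mul_comm] using this
    exact LinearMap.congr_fun this u
  exact b.equivFun.symm.map_eq_zero_iff.1 this

theorem gd_orth (B : V →ₗ[F] V →ₗ[F] F) {ι : Type*} [Fintype ι] [DecidableEq ι] (b : ι → V)
    (h : ∀ i j, i ≠ j → B (b i) (b j) = 0) : gd B b = ∏ i, B (b i) (b i) := by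
  rw [gd, ← det_diagonal]; congr 1; ext i j
  by_cases e : i = j
  · subst e; simp
  · simp [e, h i j e]

theorem isSquare_sq_mul {t a : F} (ht : t ≠ 0) : IsSquare (t ^ 2 * a) ↔ IsSquare a :=
  ⟨fun ⟨s, h⟩ => ⟨s / t, by field_simp; linear_combination h⟩, fun ⟨s, h⟩ => ⟨t * s, by rw [h]; ring⟩⟩

/-- the polar form as a bilinear map -/
def bl (Φ : Form (Kind.orth F) V) : V →ₗ[F] V →ₗ[F] F := Φ.B

theorem bl_apply (Φ : Form (Kind.orth F) V) (u v : V) : bl Φ u v = Φ.B u v := rfl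

variable [Finite F] [FiniteDimensional F V] {Φ : Form (Kind.orth F) V}

omit [Finite F] in
/-- the Gram determinant in terms of an orthogonal basis -/
theorem exists_gd (hΦ : Φ.Nondeg) (h2 : (2 : F) ≠ 0) {ι : Type*} [Fintype ι] [DecidableEq ι] (c : Basis ι F V) :
    ∃ (b : Basis (Fin (finrank F V)) F V) (_ : ∀ i j, i ≠ j → Φ.B (b i) (b j) = 0) (h3 : ∀ i, Φ.N (b i) ≠ 0)
      (t : F), t ≠ 0 ∧ gd (bl Φ) c = t ^ 2 * (2 ^ finrank F V * (∏ i, Units.mk0 _ (h3 i) : Fˣ)) := by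
  obtain ⟨b, h1, h3⟩ := exists_orth_basis h2 Φ hΦ
  obtain ⟨t, ht, e⟩ := gd_basis (bl Φ) b c
  refine ⟨b, h1, h3, t, ht, ?_⟩
  rw [e, gd_orth (bl Φ) _ h1]
  simp [bl_apply, orth_B_self, Finset.prod_mul_distrib]

theorem isSquare_gd_iff (hΦ : Φ.Nondeg) (h2 : (2 : F) ≠ 0) {m : ℕ} {η : ℤˣ} (h : Φ.IsType m η)
    {ι : Type*} [Fintype ι] [DecidableEq ι] (c : Basis ι F V) :
    IsSquare (gd (bl Φ) c) ↔ η = sqSign F (-1) ^ m := by
  obtain ⟨b, h1, h3, t, ht, e⟩ := exists_gd hΦ h2 c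
  rw [e, isSquare_sq_mul ht, show 2 ^ finrank F V = ((2 : F) ^ m) ^ 2 by rw [h.1, pow_mul'],
    isSquare_sq_mul (pow_ne_zero _ h2), ← sqSign_eq_one_iff,
    h.eq_disc hΦ h2 b h1 h3, mul_eq_left]

theorem spin_neg_iff (hΦ : Φ.Nondeg) (h2 : (2 : F) ≠ 0) (he : Even (finrank F V))
    {ι : Type*} [Fintype ι] [DecidableEq ι] (c : Basis ι F V) :
    (⟨LinearEquiv.neg F, neg_mem_Isom Φ⟩ : Φ.Isom) ∈ commutator Φ.Isom ↔ IsSquare (gd (bl Φ) c) := by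
  have hG := good_of_two hΦ h2
  obtain ⟨b, h1, h3, t, ht, e⟩ := exists_gd hΦ h2 c
  obtain ⟨m, hm⟩ := he
  rw [hG.mem_commutator_iff hΦ, spin_neg_of_basis hΦ hG b h1 h3, e, isSquare_sq_mul ht,
    show 2 ^ finrank F V = ((2 : F) ^ m) ^ 2 by rw [hm, pow_add, _root_.sq],
    isSquare_sq_mul (pow_ne_zero _ h2), ← sqSign_eq_one_iff, and_iff_right]
  rw [hG.dick_eq_one_iff hΦ h2]
  ext
  rw [LinearEquiv.coe_det, show ((LinearEquiv.neg F : V ≃ₗ[F] V) : V →ₗ[F] V) = (-1 : F) • LinearMap.id by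
    ext; simp, LinearMap.det_smul, hm, ← two_mul, pow_mul]
  simp

theorem sqSign_neg_pow {F : Type*} [Field F] [Fintype F] {m : ℕ} :
    sqSign F (-1) ^ m = 1 ↔ ¬ (Fintype.card F % 4 = 3 ∧ Odd m) := by
  rw [← sqSign_neg_one]
  rcases Int.units_eq_one_or (sqSign F (-1)) with h | h
  · rw [h]; simp
  · rw [h, neg_one_pow_eq_one_iff_even (by decide)]; simp

end Gram

section Omega
variable {F : Type*} [Field F] {V : Type*} [AddCommGroup V] [Module F V] [FiniteDimensional F V]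
  {Φ : Form (Kind.orth F) V}

theorem even_iff_dick (hG : Φ.Good) (hΦ : Φ.Nondeg) {U : Submodule F V} (hU : Φ.MTS U) (g : Φ.Isom) :
    Even (finrank F U + finrank F (U ⊓ U.map (g.1 : V →ₗ[F] V) : Submodule F V)) ↔ hG.dick hΦ g = 1 := by
  obtain ⟨g, hg⟩ := g
  revert hg
  suffices ∀ g ∈ Φ.Isom, ∀ hg : g ∈ Φ.Isom, Even (finrank F U + finrank F (U ⊓ U.map (g : V →ₗ[F] V) : Submodule F V))
    ↔ hG.dick hΦ ⟨g, hg⟩ = 1 from fun hg => this g hg hg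
  refine hG.induction hΦ (fun _ => ?_) fun v h g hg ih hg' => ?_
  · have : U.map ((1 : V ≃ₗ[F] V) : V →ₗ[F] V) = U := Submodule.map_id U
    rw [this, inf_idem]
    exact iff_of_true ⟨_, rfl⟩ (map_one _)
  · have h1 := hU.odd_refl hΦ (hU.map hg) h
    have e : (⟨Φ.refl v h * g, hg'⟩ : Φ.Isom) = Φ.reflI v h * ⟨g, hg⟩ := rfl
    have e' : U.map ((Φ.refl v h * g : V ≃ₗ[F] V) : V →ₗ[F] V) =
      (U.map (g : V →ₗ[F] V)).map (Φ.refl v h : V →ₗ[F] V) := by rw [← Submodule.map_comp]; rfl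
    rw [e, map_mul, Good.dick_reflI, e']
    have := ih hg
    rcases Int.units_eq_one_or (hG.dick hΦ ⟨g, hg⟩) with h | h
    · rw [h] at this ⊢
      have := this.2 rfl
      refine iff_of_false ?_ (by decide)
      rw [Nat.even_iff] at this ⊢; rw [Nat.odd_iff] at h1; omega
    · rw [h] at this ⊢
      have := mt this.1 (by decide)
      refine iff_of_true ?_ (by decide)
      rw [Nat.even_iff] at this ⊢; rw [Nat.odd_iff] at h1; omega

theorem even_sub_iff {U W : Submodule F V} :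
    Even (finrank F U - finrank F (U ⊓ W : Submodule F V)) ↔
      Even (finrank F U + finrank F (U ⊓ W : Submodule F V)) := by
  have := Submodule.finrank_mono (inf_le_left : U ⊓ W ≤ U)
  rw [Nat.even_iff, Nat.even_iff]; omega

variable [Finite F]

theorem two_ne_of_spin (hG : Φ.Good) (hΦ : Φ.Nondeg) {g} (h : hG.spin hΦ g = -1) : (2 : F) ≠ 0 := fun h2 => by
  rw [hG.spin_of_two hΦ h2] at h; exact absurd h (by simp)

/-- adjusting an isometry into `Ω` by an element of a subgroup -/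
theorem adjust (hG : Φ.Good) (hΦ : Φ.Nondeg) (H : Subgroup Φ.Isom) (g : Φ.Isom)
    (h1 : hG.dick hΦ g = 1 ∨ ∃ r ∈ H, hG.dick hΦ r = -1)
    (h2 : (2 : F) ≠ 0 → ∃ d ∈ H, hG.dick hΦ d = 1 ∧ hG.spin hΦ d = -1) :
    ∃ h ∈ H, g * h ∈ commutator Φ.Isom := by
  obtain ⟨r, hr, h3⟩ : ∃ r ∈ H, hG.dick hΦ (g * r) = 1 := by
    rcases Int.units_eq_one_or (hG.dick hΦ g) with h | h
    · exact ⟨1, H.one_mem, by rwa [mul_one]⟩
    · obtain ⟨r, hr, e⟩ := h1.resolve_left (by rw [h]; decide)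
      exact ⟨r, hr, by rw [map_mul, h, e]; decide⟩
  rcases Int.units_eq_one_or (hG.spin hΦ (g * r)) with h | h
  · exact ⟨r, hr, (hG.mem_commutator_iff hΦ).2 ⟨h3, h⟩⟩
  · obtain ⟨d, hd, e1, e2⟩ := h2 (two_ne_of_spin hG hΦ h)
    refine ⟨r * d, H.mul_mem hr hd, (hG.mem_commutator_iff hΦ).2 ?_⟩
    rw [← mul_assoc, map_mul _ _ d, map_mul _ _ d, h3, h, e1, e2]; decide

theorem adjust_map (hG : Φ.Good) (hΦ : Φ.Nondeg) {U W : Submodule F V} {g : Φ.Isom}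
    (hg : U.map (g.1 : V →ₗ[F] V) = W)
    (h1 : hG.dick hΦ g = 1 ∨ ∃ r : Φ.Isom, (∀ u ∈ U, r.1 u ∈ U) ∧ hG.dick hΦ r = -1)
    (h2 : (2 : F) ≠ 0 → ∃ d : Φ.Isom, (∀ u ∈ U, d.1 u ∈ U) ∧ hG.dick hΦ d = 1 ∧ hG.spin hΦ d = -1) :
    ∃ x ∈ commutator Φ.Isom, U.map (x.1 : V →ₗ[F] V) = W := by
  obtain ⟨h, hh, e⟩ := adjust hG hΦ ((stab U).subgroupOf _) g
    (h1.imp id fun ⟨r, a, b⟩ => ⟨r, stab_of_le a, b⟩) (fun h => (h2 h).imp fun _ ⟨a, b⟩ => ⟨stab_of_le a, b⟩)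
  refine ⟨_, e, ?_⟩
  rw [← hg]
  conv_rhs => rw [← mem_stab_iff_map.1 hh, ← Submodule.map_comp]
  rfl

theorem exists_sqSign (h2 : (2 : F) ≠ 0) : ∃ l : Fˣ, sqSign F l = -1 := by
  obtain ⟨a, ha⟩ := exists_not_isSquare h2
  exact ⟨Units.mk0 a (by rintro rfl; exact ha ⟨0, by simp⟩), sqSign_eq_neg_one_iff.2 ha⟩

theorem exists_dil (hG : Φ.Good) (hΦ : Φ.Nondeg) {U : Submodule F V} (hU : Φ.TS U) (h0 : U ≠ ⊥)
    (h2 : (2 : F) ≠ 0) : ∃ d : Φ.Isom, (∀ u ∈ U, d.1 u ∈ U) ∧ hG.dick hΦ d = 1 ∧ hG.spin hΦ d = -1 := by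
  obtain ⟨e, he, he0⟩ := U.exists_mem_ne_zero_of_ne_bot h0
  obtain ⟨f, hf⟩ := hΦ.exists_hyp he0 (hU.1 e he)
  obtain ⟨l, hl⟩ := exists_sqSign h2
  refine ⟨⟨_, Φ.dil_mem e f hf l⟩, fun u hu => ?_, hG.dick_dil hΦ hf l, (hG.spin_dil hΦ hf l).trans hl⟩
  change Φ.dil e f hf l u ∈ U
  rw [dil_apply, hU.2 u hu e he, mul_zero, zero_smul, add_zero]
  exact U.add_mem hu (U.smul_mem _ he)

theorem trans_MTS (hG : Φ.Good) (hΦ : Φ.Nondeg) {U W : Submodule F V} (hU : Φ.MTS U) (hW : Φ.MTS W)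
    (h0 : U ≠ ⊥) (h : Even (finrank F U + finrank F (U ⊓ W : Submodule F V))) :
    ∃ x ∈ commutator Φ.Isom, U.map (x.1 : V →ₗ[F] V) = W := by
  obtain ⟨g, hg, e⟩ := hU.ts.exists_map_eq hΦ hW.ts (by have := hU.dim; have := hW.dim; omega)
  exact adjust_map hG hΦ (g := ⟨g, hg⟩) e (Or.inl ((even_iff_dick hG hΦ hU _).1 (by rwa [e])))
    (exists_dil hG hΦ hU.ts h0)

omit [FiniteDimensional F V] [Finite F] in
theorem refl_stab_perp {U : Submodule F V} {v : V} (hv : v ∈ Φ.perp U) (h) : ∀ u ∈ U, (Φ.reflI v h).1 u ∈ U :=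
  fun u hu => by rwa [reflI_coe, refl_of_perp _ _ _ ((Φ.mem_perp'.1 hv) u hu)]

omit [FiniteDimensional F V] [Finite F] in
theorem refl_stab {U : Submodule F V} {v : V} (hv : v ∈ U) (h) : ∀ u ∈ U, (Φ.reflI v h).1 u ∈ U :=
  fun u hu => by rw [reflI_coe, refl_apply]; exact U.sub_mem hu (U.smul_mem _ hv)

theorem trans_TS (hG : Φ.Good) (hΦ : Φ.Nondeg) {U W : Submodule F V} (hU : Φ.TS U) (hW : Φ.TS W)
    (h : finrank F U = finrank F W) (hk : 2 * finrank F U < finrank F V) :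
    ∃ x ∈ commutator Φ.Isom, U.map (x.1 : V →ₗ[F] V) = W := by
  by_cases h0 : U = ⊥
  · subst h0
    refine ⟨1, one_mem _, ?_⟩
    rw [Submodule.map_bot, eq_comm, ← Submodule.finrank_eq_zero, ← h, finrank_bot]
  obtain ⟨g, hg, e⟩ := hU.exists_map_eq hΦ hW h
  obtain ⟨v, hv, hv'⟩ : ∃ v ∈ Φ.perp U, Φ.N v ≠ 0 := by
    by_contra hc
    push Not at hc
    have := (TS_orth hc).two_finrank_le hΦ
    have := hΦ.finrank_perp U
    omega
  exact adjust_map hG hΦ (g := ⟨g, hg⟩) e (Or.inr ⟨_, refl_stab_perp hv hv', hG.dick_reflI hΦ _ _⟩)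
    (exists_dil hG hΦ hU h0)

theorem trans_nd (hG : Φ.Good) (hΦ : Φ.Nondeg) (hn : 3 ≤ finrank F V) {U W : Submodule F V}
    (hU : (Φ.restrict U).Nondeg) {g : Φ.Isom} (hg : U.map (g.1 : V →ₗ[F] V) = W) :
    ∃ x ∈ commutator Φ.Isom, U.map (x.1 : V →ₗ[F] V) = W := by
  have key : ∀ c : Fˣ, ∃ v h, (∀ u ∈ U, (Φ.reflI v h).1 u ∈ U) ∧ hG.spin hΦ (Φ.reflI v h) = sqSign F c := by
    intro c
    have := hΦ.finrank_perp U
    by_cases h : 2 ≤ finrank F U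
    · obtain ⟨v, hv⟩ := orth_represents hU h c
      have hv : Φ.N v = c := hv
      exact ⟨v, hv ▸ c.ne_zero, refl_stab v.2 _, by rw [hG.spin_reflI]; congr 1; exact Units.ext hv⟩
    · obtain ⟨v, hv⟩ := orth_represents (hΦ.restrict_perp hU) (by omega) c
      have hv : Φ.N v = c := hv
      exact ⟨v, hv ▸ c.ne_zero, refl_stab_perp v.2 _, by rw [hG.spin_reflI]; congr 1; exact Units.ext hv⟩
  obtain ⟨v, hv, h1, h1'⟩ := key 1
  refine adjust_map hG hΦ hg (Or.inr ⟨_, h1, hG.dick_reflI hΦ _ _⟩) fun h2 => ?_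
  obtain ⟨l, hl⟩ := exists_sqSign h2
  obtain ⟨w, hw, h3, h3'⟩ := key l
  refine ⟨Φ.reflI v hv * Φ.reflI w hw, fun u hu => h1 _ (h3 u hu), ?_, ?_⟩
  · rw [map_mul, hG.dick_reflI, hG.dick_reflI]; decide
  · rw [map_mul, h1', h3', map_one, hl, one_mul]

omit [Finite F] in
theorem mem_refl2_iff (hG : Φ.Good) (hΦ : Φ.Nondeg) (g : Φ.Isom) :
    g.1 ∈ Subgroup.closure Φ.refl2Set ↔ hG.dick hΦ g = 1 := by
  have key : ∀ g : Φ.Isom, g.1 ∈ Subgroup.closure Φ.refl2Set → hG.dick hΦ g = 1 := fun g h => by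
    rw [← mem_closure_subtype Φ.refl2Set_subset] at h
    refine (Subgroup.closure_le (hG.dick hΦ).ker).2 ?_ h
    rintro ⟨g, hg⟩ ⟨v, hv, w, hw, rfl⟩
    change hG.dick hΦ (Φ.reflI v hv * Φ.reflI w hw) = 1
    rw [map_mul, hG.dick_reflI, hG.dick_reflI]; decide
  refine ⟨key g, fun h => (hG.mem_refl2_or hΦ g.1 g.2).resolve_right ?_⟩
  rintro ⟨v, hv, h'⟩
  have := key (Φ.reflI v hv * g) h'
  rw [map_mul, hG.dick_reflI, h] at this
  exact absurd this (by decide)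

end Omega

end Cfsg.Agent.Perm.Ort
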