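import Mathlib
import Cfsg.Agent.Lib.Perm.Or1
import Cfsg.Agent.S2622

set_option autoImplicit false

namespace Cfsg.Agent.Perm.Inv
open Module Cfsg.Agent.Classical Cfsg.Agent.Classical.Form

section Wall
variable {F V : Type*} [Field F] [AddCommGroup V] [Module F V]

/-- `t - 1` -/
def dl (t : V ≃ₗ[F] V) : V →ₗ[F] V := (t : V →ₗ[F] V) - LinearMap.id

theorem dl_apply (t : V ≃ₗ[F] V) (v : V) : dl t v = t v - v := rfl

/-- the image of `t - 1` -/
abbrev im (t : V ≃ₗ[F] V) : Submodule F V := LinearMap.range (dl t)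

/-- the rank of `t - 1` -/
noncomputable def rk (t : V ≃ₗ[F] V) : ℕ := finrank F (im t)

theorem dl_conj (g t : V ≃ₗ[F] V) (v : V) : dl (g * t * g⁻¹) (g v) = g (dl t v) := by simp [dl_apply]

theorem im_conj (g t : V ≃ₗ[F] V) : im (g * t * g⁻¹) = (im t).map (g : V →ₗ[F] V) := by
  ext v
  constructor
  · rintro ⟨v, rfl⟩
    obtain ⟨v, rfl⟩ := g.surjective v
    exact ⟨_, ⟨v, rfl⟩, (dl_conj g t v).symm⟩
  · rintro ⟨_, ⟨v, rfl⟩, rfl⟩; exact ⟨_, dl_conj g t v⟩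

theorem rk_conj (g t : V ≃ₗ[F] V) : rk (g * t * g⁻¹) = rk t := by
  rw [rk, im_conj]; exact LinearEquiv.finrank_map_eq g _

theorem rk_eq_zero [FiniteDimensional F V] {t : V ≃ₗ[F] V} : rk t = 0 ↔ t = 1 := by
  rw [rk, Submodule.finrank_eq_zero, LinearMap.range_eq_bot]
  exact ⟨fun h => LinearEquiv.ext fun v => sub_eq_zero.1 (LinearMap.congr_fun h v), fun h => by
    subst h; ext v; simp [dl_apply]⟩

/-- a section of `t - 1` -/
noncomputable def sec (t : V ≃ₗ[F] V) : im t →ₗ[F] V :=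
  ((dl t).rangeRestrict.exists_rightInverse_of_surjective (dl t).range_rangeRestrict).choose

@[simp] theorem dl_sec (t : V ≃ₗ[F] V) (w : im t) : dl t (sec t w) = w :=
  congrArg Subtype.val (LinearMap.congr_fun
    ((dl t).rangeRestrict.exists_rightInverse_of_surjective (dl t).range_rangeRestrict).choose_spec w)

variable {K : Kind F} {Φ : Form K V} {t s : V ≃ₗ[F] V}

theorem B_of_fix (ht : t ∈ Φ.Isom) {y w : V} (h : dl t y = 0) (hw : w ∈ im t) : Φ.B y w = 0 := by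
  obtain ⟨v, rfl⟩ := hw
  rw [dl_apply, map_sub, sub_eq_zero]
  conv_lhs => rw [← show t y = y from sub_eq_zero.1 h, ht.1]

theorem dl_eq_zero (hΦ : Φ.Nondeg) (ht : t ∈ Φ.Isom) {y : V} (h : ∀ v, Φ.B y (dl t v) = 0) : dl t y = 0 :=
  hΦ.left fun w => by
    obtain ⟨v, rfl⟩ := t.surjective w
    have := h v
    rw [dl_apply, map_sub] at this
    rw [dl_apply, map_sub, LinearMap.sub_apply, ht.1]; linear_combination -this

theorem perp_im (hΦ : Φ.Nondeg) (ht : t ∈ Φ.Isom) {y : V} : y ∈ Φ.perp (im t) ↔ t y = y :=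
  ⟨fun h => sub_eq_zero.1 (dl_eq_zero hΦ ht fun v => h _ ⟨v, rfl⟩), fun h _ hw => B_of_fix ht (sub_eq_zero.2 h) hw⟩

theorem B_dl_dl (ht : t ∈ Φ.Isom) (u v : V) :
    Φ.B (dl t u) (dl t v) = -(K.ε * K.σ (Φ.B v (dl t u))) - Φ.B u (dl t v) := by
  rw [← Φ.symm]; simp only [dl_apply, map_sub, LinearMap.sub_apply, ht.1]; ring

theorem N_dl (ht : t ∈ Φ.Isom) (u : V) : Φ.N (dl t u) = -K.T (Φ.B u (dl t u)) := by
  obtain ⟨c, hc⟩ := Φ.N_range u
  rw [dl_apply, N_sub, ht.2, Φ.symm, K.T_conj, map_sub, map_sub, Φ.B_self, ← hc, K.κT, map_add, K.T_conj]; ring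

theorem B_sec (ht : t ∈ Φ.Isom) {x : im t} {u w : V} (h : dl t u = x) (hw : w ∈ im t) :
    Φ.B (sec t x) w = Φ.B u w := by
  rw [← sub_eq_zero, ← LinearMap.sub_apply, ← map_sub]
  exact B_of_fix ht (by rw [map_sub, dl_sec, h, sub_self]) hw

/-- the Wall form -/
noncomputable def wB (Φ : Form K V) (t : V ≃ₗ[F] V) : im t →ₗ[F] im t →ₛₗ[K.σ] F :=
  (Φ.B ∘ₗ sec t).compl₂ (im t).subtype

theorem wB_apply (x y : im t) : wB Φ t x y = Φ.B (sec t x) y := rfl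

theorem wB_nondeg (hΦ : Φ.Nondeg) (ht : t ∈ Φ.Isom) (y : im t) (h : ∀ x, wB Φ t x y = 0) : y = 0 :=
  Subtype.ext (hΦ _ fun u => (B_sec ht (x := ⟨_, u, rfl⟩) rfl y.2).symm.trans (h _))

theorem conj_eq_of (hΦ : Φ.Nondeg) (ht : t ∈ Φ.Isom) (hs : s ∈ Φ.Isom) (e : im t ≃ₗ[F] im s)
    (h : ∀ x y, wB Φ s (e x) (e y) = wB Φ t x y) {g} (hg : g ∈ Φ.Isom) (h1 : ∀ x : im t, g x = e x) :
    g * t * g⁻¹ = s := by
  refine LinearEquiv.ext fun v => ?_
  obtain ⟨v, rfl⟩ := g.surjective v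
  rw [← sub_left_inj (a := g v), ← dl_apply, ← dl_apply, dl_conj, h1 ⟨_, v, rfl⟩, ← dl_sec, ← sub_eq_zero, ← map_sub]
  refine dl_eq_zero hΦ hs fun w => ?_
  obtain ⟨y, hy⟩ := e.surjective ⟨_, w, rfl⟩
  rw [← show (e y).1 = dl s w from congrArg Subtype.val hy, map_sub, LinearMap.sub_apply, ← wB_apply, h, ← h1, hg.1,
    wB_apply, B_sec ht rfl y.2, sub_self]

/-- Wall's theorem -/
theorem wall [FiniteDimensional F V] (hΦ : Φ.Nondeg) (ht : t ∈ Φ.Isom) (hs : s ∈ Φ.Isom) (e : im t ≃ₗ[F] im s)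
    (h : ∀ x y, wB Φ s (e x) (e y) = wB Φ t x y) :
    ∃ g ∈ Φ.Isom, (∀ x : im t, g x = e x) ∧ g * t * g⁻¹ = s := by
  obtain ⟨g, hg, h1⟩ := hΦ.witt _ _ e (fun x y => by
    rw [← dl_sec s (e x), ← dl_sec s (e y), B_dl_dl hs, ← dl_sec t x, ← dl_sec t y, B_dl_dl ht]
    simp only [dl_sec, ← wB_apply, h]) fun x => by
    rw [← dl_sec s (e x), N_dl hs, ← dl_sec t x, N_dl ht]
    simp only [dl_sec, ← wB_apply, h]
  exact ⟨g, hg, h1, conj_eq_of hΦ ht hs e h hg h1⟩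

theorem B_dl_of_inv (ht : t ∈ Φ.Isom) (h : t * t = 1) (u v : V) : Φ.B (dl t u) v = Φ.B u (dl t v) := by
  rw [dl_apply, dl_apply, map_sub, map_sub, LinearMap.sub_apply, ← ht.1 u (t v),
    show t (t v) = v from LinearEquiv.congr_fun h v]

theorem wB_symm (ht : t ∈ Φ.Isom) (h : t * t = 1) (x y : im t) : wB Φ t y x = K.ε * K.σ (wB Φ t x y) := by
  rw [wB_apply, wB_apply, ← Φ.symm, ← dl_sec t y, B_dl_of_inv ht h, dl_sec]

theorem fix_im (h2 : (2 : F) = 0) (h : t * t = 1) {w : V} (hw : w ∈ im t) : t w = w := by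
  obtain ⟨v, rfl⟩ := hw
  rw [dl_apply, map_sub, show t (t v) = v from LinearEquiv.congr_fun h v, ← sub_eq_zero,
    show v - t v - (t v - v) = (2 : F) • (v - t v) by module, h2, zero_smul]

theorem im_le_perp (h2 : (2 : F) = 0) (ht : t ∈ Φ.Isom) (h : t * t = 1) : im t ≤ Φ.perp (im t) :=
  fun _ hu _ hw => B_of_fix ht (sub_eq_zero.2 (fix_im h2 h hu)) hw

theorem two_rk_le [FiniteDimensional F V] (hΦ : Φ.Nondeg) (h2 : (2 : F) = 0) (ht : t ∈ Φ.Isom) (h : t * t = 1) :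
    2 * rk t ≤ finrank F V := by
  have := Submodule.finrank_mono (im_le_perp h2 ht h)
  have := hΦ.finrank_perp (im t)
  unfold rk; omega

end Wall

section Bil
variable {F V W : Type*} [Field F] [AddCommGroup V] [Module F V] [AddCommGroup W] [Module F W]
  [FiniteDimensional F V] [FiniteDimensional F W]

theorem nondeg_of {B : LinearMap.BilinForm F V} (hs : ∀ u v, B u v = B v u) (h : ∀ v, (∀ u, B u v = 0) → v = 0) :
    B.Nondegenerate := ⟨fun v hv => h v fun u => (hs u v).trans (hv u), h⟩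

theorem even_of_alt {B : LinearMap.BilinForm F V} (h : ∀ v, (∀ u, B u v = 0) → v = 0) (ha : ∀ v, B v v = 0) :
    Even (finrank F V) := symp_even _ (ofAlt B ha) h rfl

theorem sym_iso [Finite F] (h2 : (2 : F) = 0) {B : LinearMap.BilinForm F V} {C : LinearMap.BilinForm F W}
    (hs : ∀ u v, B u v = B v u) (h : ∀ v, (∀ u, B u v = 0) → v = 0) (hs' : ∀ u v, C u v = C v u)
    (h' : ∀ v, (∀ u, C u v = 0) → v = 0) (hr : finrank F V = finrank F W)
    (ha : (∀ v, B v v = 0) ↔ ∀ v, C v v = 0) : ∃ e : V ≃ₗ[F] W, ∀ x y, C (e x) (e y) = B x y := by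
  by_cases h1 : ∀ v, B v v = 0
  · exact (symp_iso _ (ofAlt B h1) (ofAlt C (ha.1 h1)) h h' hr rfl).imp fun _ h => h.1
  haveI : CharP F 2 := CharTwo.of_one_ne_zero_of_two_eq_zero one_ne_zero h2
  obtain ⟨b, hb⟩ := S2622.result hr B ⟨hs⟩ (nondeg_of hs h) (by simpa using h1)
  obtain ⟨c, hc⟩ := S2622.result rfl C ⟨hs'⟩ (nondeg_of hs' h') (by simpa [ha] using h1)
  refine ⟨b.equiv c (.refl _), fun x y => ?_⟩
  have : C.compl₁₂ (b.equiv c (.refl _)).toLinearMap (b.equiv c (.refl _)).toLinearMap = B :=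
    LinearMap.ext_basis b b fun i j => by simp [hb, hc]
  exact LinearMap.congr_fun₂ this x y

omit [FiniteDimensional F V] in
theorem exists_sqrt_lin [Finite F] (h2 : (2 : F) = 0) (f : V → F) (h1 : ∀ u v, f (u + v) = f u + f v)
    (h3 : ∀ (c : F) v, f (c • v) = c ^ 2 * f v) : ∃ φ : V →ₗ[F] F, ∀ v, φ v ^ 2 = f v := by
  haveI : CharP F 2 := CharTwo.of_one_ne_zero_of_two_eq_zero one_ne_zero h2
  choose φ hφ using fun v => exists_sq_of_two h2 (f v)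
  exact ⟨⟨⟨φ, fun u v => CharTwo.sq_injective (by simp only [CharTwo.add_sq, hφ, h1])⟩, fun c v =>
    CharTwo.sq_injective (by simp [mul_pow, hφ, h3])⟩, hφ⟩

end Bil

section SO
variable {F V : Type*} [Field F] [AddCommGroup V] [Module F V] {K : Kind F} {Φ : Form K V} {t s : V ≃ₗ[F] V}

/-- symplectic or orthogonal in characteristic two -/
structure SO2 (K : Kind F) : Prop where
  σ : ∀ a, K.σ a = a
  two : (2 : F) = 0
  κ : K.κ = 0

theorem so2_symp (h : (2 : F) = 0) : SO2 (Kind.symp F) := ⟨fun _ => rfl, h, rfl⟩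
theorem so2_orth (h : (2 : F) = 0) : SO2 (Kind.orth F) := ⟨fun _ => rfl, h, h⟩

theorem eps_two (K : Kind F) (h : (2 : F) = 0) : K.ε = 1 := by
  have : (K.ε - 1) ^ 2 = 0 := by linear_combination K.εε + (1 - K.ε) * h
  exact sub_eq_zero.1 (pow_eq_zero_iff two_ne_zero |>.1 this)

theorem SO2.symm (H : SO2 K) (u v : V) : Φ.B u v = Φ.B v u := by rw [Φ.symm, eps_two K H.two, H.σ, one_mul]

theorem SO2.self (H : SO2 K) (v : V) : Φ.B v v = 0 := by rw [Φ.B_self, H.κ, zero_mul]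

theorem SO2.smul (H : SO2 K) (c : F) (u v : V) : Φ.B u (c • v) = c * Φ.B u v := by rw [B_smul_right, H.σ]

/-- a form as a bilinear form -/
def SO2.bil (H : SO2 K) {U : Type*} [AddCommGroup U] [Module F U] (B : U →ₗ[F] U →ₛₗ[K.σ] F) :
    LinearMap.BilinForm F U :=
  LinearMap.mk₂ F (fun x y => B x y) (by simp) (by simp) (by simp) (by simp [H.σ])

@[simp] theorem SO2.bil_apply (H : SO2 K) {U : Type*} [AddCommGroup U] [Module F U] (B : U →ₗ[F] U →ₛₗ[K.σ] F)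
    (x y) : H.bil B x y = B x y := rfl

/-- type `a` -/
def Alt (Φ : Form K V) (t : V ≃ₗ[F] V) : Prop := ∀ v, Φ.B v (t v) = 0

theorem alt_conj {g} (hg : g ∈ Φ.Isom) : Alt Φ (g * t * g⁻¹) ↔ Alt Φ t :=
  ⟨fun h v => by simpa [hg.1] using h (g v), fun h v => by
    obtain ⟨v, rfl⟩ := g.surjective v
    simpa [hg.1] using h v⟩

theorem SO2.B_dl (H : SO2 K) (v : V) : Φ.B v (dl t v) = Φ.B v (t v) := by rw [dl_apply, map_sub, H.self, sub_zero]

theorem SO2.alt_iff (H : SO2 K) (ht : t ∈ Φ.Isom) : Alt Φ t ↔ ∀ x, wB Φ t x x = 0 :=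
  ⟨fun h x => by rw [wB_apply, ← dl_sec t x, dl_sec, ← dl_sec t x, H.B_dl, h], fun h v => by
    rw [← H.B_dl, ← B_sec ht (x := ⟨_, v, rfl⟩) rfl ⟨v, rfl⟩]; exact h ⟨_, v, rfl⟩⟩

theorem SO2.wsymm (H : SO2 K) (ht : t ∈ Φ.Isom) (h : t * t = 1) (x y : im t) : wB Φ t x y = wB Φ t y x := by
  rw [wB_symm ht h, eps_two K H.two, H.σ, one_mul]

theorem orth_alt_iff {Φ : Form (Kind.orth F) V} (h2 : (2 : F) = 0) (ht : t ∈ Φ.Isom) :
    Alt Φ t ↔ Φ.TS (im t) := by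
  refine ⟨fun h => TS_orth ?_, fun h v => ?_⟩
  · rintro _ ⟨v, rfl⟩; rw [N_dl ht, (so2_orth h2).B_dl, h]; simp
  · have := h.1 _ ⟨v, rfl⟩
    rw [N_dl ht, (so2_orth h2).B_dl] at this
    simpa using this

variable [FiniteDimensional F V]

theorem SO2.even (H : SO2 K) (hΦ : Φ.Nondeg) (ht : t ∈ Φ.Isom) (h : Alt Φ t) : Even (rk t) :=
  even_of_alt (B := H.bil (wB Φ t)) (wB_nondeg hΦ ht) ((H.alt_iff ht).1 h)

theorem SO2.conj_iff [Finite F] (H : SO2 K) (hΦ : Φ.Nondeg) (ht : t ∈ Φ.Isom) (hs : s ∈ Φ.Isom) (h : t * t = 1)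
    (h' : s * s = 1) : (∃ g ∈ Φ.Isom, g * t * g⁻¹ = s) ↔ rk t = rk s ∧ (Alt Φ t ↔ Alt Φ s) := by
  constructor
  · rintro ⟨g, hg, rfl⟩; exact ⟨(rk_conj _ _).symm, (alt_conj hg).symm⟩
  · rintro ⟨h1, h3⟩
    obtain ⟨e, he⟩ := sym_iso H.two (B := H.bil (wB Φ t)) (C := H.bil (wB Φ s)) (H.wsymm ht h) (wB_nondeg hΦ ht)
      (H.wsymm hs h') (wB_nondeg hΦ hs) h1 (by rwa [H.alt_iff ht, H.alt_iff hs] at h3)
    exact (wall hΦ ht hs e he).imp fun _ h => ⟨h.1, h.2.2⟩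

/-- the converse of Wall's theorem for involutions -/
theorem SO2.exists_inv (H : SO2 K) (hΦ : Φ.Nondeg) {U : Type*} [AddCommGroup U] [Module F U] (j : U →ₗ[F] V)
    (hj : Function.Injective j) (h0 : ∀ x y, Φ.B (j x) (j y) = 0) (β : LinearMap.BilinForm F U)
    (hs : ∀ u v, β u v = β v u) (hβ : ∀ v, (∀ u, β u v = 0) → v = 0) (hN : ∀ x, Φ.N (j x) = K.T (β x x)) :
    ∃ t ∈ Φ.Isom, t * t = 1 ∧ im t = LinearMap.range j ∧ (Alt Φ t ↔ ∀ x, β x x = 0) := by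
  haveI := FiniteDimensional.of_injective j hj
  let a : V →ₗ[F] U := (β.toDual (nondeg_of hs hβ)).symm.toLinearMap ∘ₗ (H.bil Φ.B).compl₂ j
  have ha : ∀ x u, β (a x) u = Φ.B x (j u) := fun x u => β.apply_toDual_symm_apply (hB := nondeg_of hs hβ) _ _
  have h1 : ∀ u, a (j u) = 0 := fun u => hβ _ fun w => by rw [hs, ha, h0]
  have h2 : ∀ x : F, x + x = 0 := fun x => by rw [← two_mul, H.two, zero_mul]
  obtain ⟨t, ht, h3⟩ := hΦ.exists_isom_of_linear (LinearMap.id + j ∘ₗ a) (fun u v => by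
      simp only [LinearMap.add_apply, LinearMap.id_apply, LinearMap.comp_apply, map_add, h0]
      rw [H.symm (j _), ← ha, ← ha, hs]; linear_combination h2 (β (a u) (a v))) fun v => by
      simp only [LinearMap.add_apply, LinearMap.id_apply, LinearMap.comp_apply]
      rw [Φ.N_add, hN, ← ha, add_assoc, h2, add_zero]
  replace h3 : ∀ v, t v = v + j (a v) := h3
  have h4 : Function.Surjective a := fun u => by
    obtain ⟨φ, hφ⟩ := LinearMap.dualMap_surjective_of_injective hj (β u)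
    obtain ⟨v, hv⟩ := hΦ.exists_repr φ
    refine ⟨v, sub_eq_zero.1 (hβ _ fun w => ?_)⟩
    rw [hs, map_sub, LinearMap.sub_apply, ha, H.symm, hv, ← hφ]; simp
  refine ⟨t, ht, LinearEquiv.ext fun v => ?_, ?_, ?_⟩
  · change t (t v) = v
    rw [h3, h3, map_add, h1, add_zero, add_assoc, ← two_smul F, H.two, zero_smul, add_zero]
  · ext v
    constructor
    · rintro ⟨v, rfl⟩; exact ⟨a v, by simp [dl_apply, h3]⟩
    · rintro ⟨u, rfl⟩
      obtain ⟨v, rfl⟩ := h4 u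
      exact ⟨v, by simp [dl_apply, h3]⟩
  · rw [h4.forall]
    exact forall_congr' fun v => by rw [h3, map_add, H.self, zero_add, ha]

end SO

end Cfsg.Agent.Perm.Inv
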