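import Mathlib
import Cfsg.Agent.Lib.Perm.Inv1

set_option autoImplicit false

namespace Cfsg.Agent.Perm.Inv
open Module Cfsg.Agent.Classical Cfsg.Agent.Classical.Form
open scoped commutatorElement

section Grp
variable {G I : Type*} [Group G]

theorem comm_le_self (H : Subgroup G) : ⁅H, H⁆ ≤ H := Subgroup.commutator_le.2 fun _ ha _ hb =>
  mul_mem (mul_mem (mul_mem ha hb) (inv_mem ha)) (inv_mem hb)

theorem card_classes (P : G → Prop) (f : G → I) (S : Finset I)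
    (h1 : ∀ a b, P a → P b → (IsConj a b ↔ f a = f b)) (h2 : ∀ i, i ∈ S ↔ ∃ a, P a ∧ f a = i) :
    Nat.card {C : ConjClasses G // ∃ g, ConjClasses.mk g = C ∧ P g} = S.card := by
  rw [← Nat.card_eq_finsetCard]
  refine Nat.card_congr (Equiv.ofBijective (fun C => ⟨f C.2.choose, (h2 _).2 ⟨_, C.2.choose_spec.2, rfl⟩⟩)
    ⟨fun C D h => Subtype.ext ?_, fun ⟨i, hi⟩ => ?_⟩)
  · rw [← C.2.choose_spec.1, ← D.2.choose_spec.1, ConjClasses.mk_eq_mk_iff_isConj,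
      h1 _ _ C.2.choose_spec.2 D.2.choose_spec.2]
    exact congrArg Subtype.val h
  · obtain ⟨a, ha, rfl⟩ := (h2 i).1 hi
    have h : ∃ g, ConjClasses.mk g = ConjClasses.mk a ∧ P g := ⟨a, rfl, ha⟩
    exact ⟨⟨_, h⟩, Subtype.ext ((h1 _ _ h.choose_spec.2 ha).1 (ConjClasses.mk_eq_mk_iff_isConj.1 h.choose_spec.1))⟩

variable {L : Type*} [Group L] {S : Subgroup L} (e : G ≃* S)

theorem isConj_equiv {a b : G} : IsConj a b ↔ ∃ g ∈ S, g * (e a).1 * g⁻¹ = (e b).1 := by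
  rw [isConj_iff]
  constructor
  · rintro ⟨c, rfl⟩; exact ⟨_, (e c).2, by simp⟩
  · rintro ⟨g, hg, h⟩
    obtain ⟨c, hc⟩ := e.surjective ⟨g, hg⟩
    exact ⟨c, e.injective (Subtype.ext (by simpa [hc] using h))⟩

theorem sq_equiv {a : G} : a ^ 2 = 1 ↔ (e a).1 * (e a).1 = 1 := by
  rw [← Subgroup.coe_mul, ← map_mul, OneMemClass.coe_eq_one, map_eq_one_iff _ e.injective, sq]

theorem ord_equiv {a : G} : orderOf a = 2 ↔ (e a).1 * (e a).1 = 1 ∧ (e a).1 ≠ 1 := by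
  rw [orderOf_eq_prime_iff, sq_equiv e, Ne, Ne, OneMemClass.coe_eq_one, map_eq_one_iff _ e.injective]

include e in
theorem card_inv_classes (f : L → I) (T : Finset I)
    (h1 : ∀ t ∈ S, ∀ s ∈ S, t * t = 1 → s * s = 1 → ((∃ g ∈ S, g * t * g⁻¹ = s) ↔ f t = f s))
    (h2 : ∀ i, i ∈ T ↔ ∃ t ∈ S, t * t = 1 ∧ t ≠ 1 ∧ f t = i) :
    Nat.card {C : ConjClasses G // ∃ g, ConjClasses.mk g = C ∧ orderOf g = 2} = T.card :=
  card_classes _ (fun a => f (e a)) T (fun a b ha hb => by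
    rw [isConj_equiv e, h1 _ (e a).2 _ (e b).2 ((ord_equiv e).1 ha).1 ((ord_equiv e).1 hb).1]) fun i => by
    rw [h2]
    exact ⟨fun ⟨t, ht, a, b, c⟩ => ⟨e.symm ⟨t, ht⟩, (ord_equiv e).2 (by simpa using ⟨a, b⟩), by simpa using c⟩,
      fun ⟨a, ha, h⟩ => ⟨_, (e a).2, ((ord_equiv e).1 ha).1, ((ord_equiv e).1 ha).2, h⟩⟩

theorem card_cent_equiv (a : G) :
    Nat.card (Subgroup.centralizer {a}) = Nat.card ↥(S ⊓ Subgroup.centralizer {(e a).1}) :=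
  Nat.card_congr (Equiv.ofBijective (fun x => ⟨(e x.1).1, (e x.1).2, Subgroup.mem_centralizer_singleton_iff.2 (by
      rw [← Subgroup.coe_mul, ← map_mul, Subgroup.mem_centralizer_singleton_iff.1 x.2]; simp)⟩)
    ⟨fun x y h => Subtype.ext (e.injective (Subtype.ext (congrArg (·.1) h))), fun ⟨x, h1, h2⟩ =>
      ⟨⟨e.symm ⟨x, h1⟩, Subgroup.mem_centralizer_singleton_iff.2 (e.injective (Subtype.ext (by
        simpa using Subgroup.mem_centralizer_singleton_iff.1 h2)))⟩, by simp⟩⟩)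

end Grp

section Mat
variable {F : Type*} [Field F] {ι : Type*} [Fintype ι] [DecidableEq ι]

theorem mulVecLin_sub {M : Matrix ι ι F} {t : (ι → F) ≃ₗ[F] (ι → F)} (h : ∀ v, t v = M.mulVec v) :
    (M - 1).mulVecLin = dl t := LinearMap.ext fun v => by simp [dl_apply, h, Matrix.sub_mulVec]

theorem rank_eq {M : Matrix ι ι F} {t : (ι → F) ≃ₗ[F] (ι → F)} (h : ∀ v, t v = M.mulVec v) :
    (M - 1).rank = rk t := by rw [Matrix.rank, mulVecLin_sub h]; rfl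

/-- `Ω` as a group of linear maps -/
noncomputable def omEquiv {ι : Type} [Fintype ι] [DecidableEq ι] (Φ : Form (Kind.orth F) (ι → F)) :
    Cfsg.Omega F Φ.N ≃* (⁅Φ.Isom, Φ.Isom⁆ : Subgroup _) :=
  (commutatorCongr (orthEquiv Φ)).trans
    { toFun g := ⟨g.1.1, mem_commutator_subtype.1 g.2⟩
      invFun g := ⟨⟨g.1, comm_le_self _ g.2⟩, mem_commutator_subtype.2 g.2⟩
      left_inv _ := rfl
      right_inv _ := rfl
      map_mul' _ _ := rfl }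

end Mat

section Ex
variable {F V : Type*} [Field F] [AddCommGroup V] [Module F V] {K : Kind F} {Φ : Form K V} [FiniteDimensional F V]

theorem exists_inj {U : Type*} [AddCommGroup U] [Module F U] [FiniteDimensional F U] (W : Submodule F V)
    (h : finrank F U ≤ finrank F W) : ∃ j : U →ₗ[F] V, Function.Injective j ∧ ∀ x, j x ∈ W := by
  obtain ⟨j, hj⟩ := finrank_le_iff_exists_linearMap.1 h
  exact ⟨W.subtype ∘ₗ j, W.injective_subtype.comp hj, fun x => (j x).2⟩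

theorem SO2.exists_alt (H : SO2 K) (hΦ : Φ.Nondeg) {W : Submodule F V} (hW : Φ.TS W) {k : ℕ}
    (h : 2 * k ≤ finrank F W) : ∃ t ∈ Φ.Isom, t * t = 1 ∧ rk t = 2 * k ∧ Alt Φ t ∧ im t ≤ W := by
  obtain ⟨j, hj, h1⟩ := exists_inj (U := Fin k ⊕ Fin k → F) W (by simpa [two_mul] using h)
  have H' := so2_symp H.two
  obtain ⟨t, ht, a, b, c⟩ := H.exists_inv hΦ j hj (fun x y => hW.2 _ (h1 x) _ (h1 y)) (H'.bil (spForm k F).B)
    H'.symm (spForm_nondeg k) fun x => by rw [hW.1 _ (h1 x), SO2.bil_apply, H'.self, map_zero]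
  refine ⟨t, ht, a, by rw [rk, b, LinearMap.finrank_range_of_inj hj]; simp [two_mul], c.2 H'.self, ?_⟩
  rw [b]; rintro _ ⟨x, rfl⟩; exact h1 x

theorem SO2.exists_nonalt (H : SO2 K) (hΦ : Φ.Nondeg) {l : ℕ} (j : (Fin (l + 1) → F) →ₗ[F] V)
    (hj : Function.Injective j) (h0 : ∀ x y, Φ.B (j x) (j y) = 0) (hN : ∀ x, Φ.N (j x) = K.T (x ⬝ᵥ x)) :
    ∃ t ∈ Φ.Isom, t * t = 1 ∧ rk t = l + 1 ∧ ¬ Alt Φ t := by
  obtain ⟨t, ht, a, b, c⟩ := H.exists_inv hΦ j hj h0 (dotProductBilin F F) dotProduct_comm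
    (fun v hv => dotProduct_eq_zero_iff.1 fun u => (dotProduct_comm _ _).trans (hv u)) hN
  exact ⟨t, ht, a, by rw [rk, b, LinearMap.finrank_range_of_inj hj]; simp, fun h => by
    simpa using c.1 h (Pi.single 0 1)⟩

theorem exists_perp_N {Φ : Form (Kind.orth F) V} (hΦ : Φ.Nondeg) {U : Submodule F V}
    (hk : 2 * finrank F U < finrank F V) : ∃ v ∈ Φ.perp U, Φ.N v ≠ 0 := by
  by_contra hc
  push Not at hc
  have := (TS_orth hc).two_finrank_le hΦ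
  have := hΦ.finrank_perp U
  omega

theorem orth_exists_nonalt [Finite F] {Φ : Form (Kind.orth F) V} (h2 : (2 : F) = 0) (hΦ : Φ.Nondeg)
    {W : Submodule F V} (hW : Φ.TS W) {l : ℕ} (h : l ≤ finrank F W) (h' : 2 * l < finrank F V) :
    ∃ t ∈ Φ.Isom, t * t = 1 ∧ rk t = l + 1 ∧ ¬ Alt Φ t := by
  haveI : CharP F 2 := CharTwo.of_one_ne_zero_of_two_eq_zero one_ne_zero h2
  obtain ⟨j, hj, h1⟩ := exists_inj (U := Fin l → F) W (by simpa using h)
  obtain ⟨v, hv, hv'⟩ := exists_perp_N hΦ (U := LinearMap.range j) (by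
    rw [LinearMap.finrank_range_of_inj hj]; simpa using h')
  obtain ⟨c, hc⟩ := exists_sq_of_two h2 (Φ.N v)⁻¹
  have H := so2_orth h2
  have a1 : ∀ x, Φ.B v (j x) = 0 := fun x => hv _ ⟨x, rfl⟩
  let J : (Fin (l + 1) → F) →ₗ[F] V := j ∘ₗ LinearMap.funLeft F F Fin.succ +
    (∑ i, LinearMap.proj i : (Fin (l + 1) → F) →ₗ[F] F).smulRight (c • v)
  have hJ : ∀ x, J x = j (x ∘ Fin.succ) + (∑ i, x i) • c • v := fun x => by simp [J]; rfl
  have hN : ∀ x, Φ.N (J x) = (∑ i, x i) ^ 2 := fun x => by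
    rw [hJ, orth_N_add, hW.1 _ (h1 _), orth_N_smul, orth_N_smul, hc, inv_mul_cancel₀ hv', H.smul, H.smul, H.symm, a1]
    simp
  refine H.exists_nonalt hΦ J ((injective_iff_map_eq_zero _).2 fun x hx => ?_) (fun x y => ?_) fun x => ?_
  · have e1 := hN x
    rw [hx, N_zero, eq_comm, pow_eq_zero_iff two_ne_zero] at e1
    rw [hJ, e1, zero_smul, add_zero, map_eq_zero_iff _ hj] at hx
    have e2 : ∀ i : Fin l, x i.succ = 0 := congrFun hx
    ext i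
    exact Fin.cases (by simpa [Fin.sum_univ_succ, e2] using e1) e2 i
  · simp [hJ, hW.2 _ (h1 _) _ (h1 _), a1, H.symm _ v, H.self]
  · rw [hN, CharTwo.sum_sq]; simp [dotProduct, sq]

open _root_.Classical in
/-- the class invariant -/
noncomputable def ty (Φ : Form K V) (t : V ≃ₗ[F] V) : ℕ ⊕ ℕ := if Alt Φ t then .inr (rk t / 2) else .inl (rk t)

theorem SO2.ty_eq (H : SO2 K) (hΦ : Φ.Nondeg) {t s} (ht : t ∈ Φ.Isom) (hs : s ∈ Φ.Isom) :
    ty Φ t = ty Φ s ↔ rk t = rk s ∧ (Alt Φ t ↔ Alt Φ s) := by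
  unfold ty
  split_ifs with h1 h2 h2
  · have := H.even hΦ ht h1
    have := H.even hΦ hs h2
    simp only [Nat.even_iff] at *
    simp [h1, h2]; omega
  all_goals simp [h1, h2]

theorem SO2.card_cl [Finite F] (H : SO2 K) (hΦ : Φ.Nondeg) {G : Type*} [Group G] (e : G ≃* Φ.Isom) {m w : ℕ}
    (hm : finrank F V = 2 * m) {W : Submodule F V} (hW : Φ.TS W) (hw : finrank F W = w)
    (h1 : ∀ t ∈ Φ.Isom, t * t = 1 → Alt Φ t → rk t ≤ w)
    (h2 : ∀ l < m, ∃ t ∈ Φ.Isom, t * t = 1 ∧ rk t = l + 1 ∧ ¬ Alt Φ t) :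
    Nat.card {C : ConjClasses G // ∃ g, ConjClasses.mk g = C ∧ orderOf g = 2} = m + w / 2 := by
  rw [card_inv_classes e (ty Φ) ((Finset.Icc 1 m).disjSum (Finset.Icc 1 (w / 2)))
    (fun t ht s hs a b => by rw [H.conj_iff hΦ ht hs a b, H.ty_eq hΦ ht hs])]
  · simp
  intro i
  constructor
  · rcases i with i | i <;> simp only [Finset.inl_mem_disjSum, Finset.inr_mem_disjSum, Finset.mem_Icc] <;> intro h
    · obtain ⟨t, ht, a, b, c⟩ := h2 (i - 1) (by omega)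
      exact ⟨t, ht, a, by rw [Ne, ← rk_eq_zero]; omega, by rw [ty, if_neg c]; congr; omega⟩
    · obtain ⟨t, ht, a, b, c, -⟩ := H.exists_alt hΦ hW (k := i) (by omega)
      exact ⟨t, ht, a, by rw [Ne, ← rk_eq_zero]; omega, by rw [ty, if_pos c]; congr; omega⟩
  · rintro ⟨t, ht, a, b, rfl⟩
    rw [Ne, ← rk_eq_zero] at b
    unfold ty
    split_ifs with h
    · have := H.even hΦ ht h
      have := h1 t ht a h
      simp only [Finset.inr_mem_disjSum, Finset.mem_Icc, Nat.even_iff] at *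
      omega
    · have := two_rk_le hΦ H.two ht a
      simp only [Finset.inl_mem_disjSum, Finset.mem_Icc]
      omega

end Ex

section Om
variable {F V : Type*} [Field F] [AddCommGroup V] [Module F V] {Φ : Form (Kind.orth F) V} [FiniteDimensional F V]

/-- the double of a quadratic space -/
def dbl (Φ : Form (Kind.orth F) V) : Form (Kind.orth F) (V × V) :=
  Form.ofQuadFun (fun v => Φ.N v.1 - Φ.N v.2)
    ((Ort.bl Φ).compl₁₂ (LinearMap.fst F V V) (LinearMap.fst F V V) -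
      (Ort.bl Φ).compl₁₂ (LinearMap.snd F V V) (LinearMap.snd F V V))
    (fun u v => by
      change Φ.N (u.1 + v.1) - Φ.N (u.2 + v.2) = _ + _ + (Φ.B u.1 v.1 - Φ.B u.2 v.2)
      rw [orth_N_add, orth_N_add]; ring)
    (fun c v => by
      change Φ.N (c • v.1) - Φ.N (c • v.2) = _
      rw [orth_N_smul, orth_N_smul]; ring)

omit [FiniteDimensional F V] in
theorem dbl_N (v) : (dbl Φ).N v = Φ.N v.1 - Φ.N v.2 := rfl
omit [FiniteDimensional F V] in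
theorem dbl_B (u v) : (dbl Φ).B u v = Φ.B u.1 v.1 - Φ.B u.2 v.2 := rfl

/-- the graph of a map -/
def gph (g : V ≃ₗ[F] V) : Submodule F (V × V) := LinearMap.range (LinearMap.id.prod (g : V →ₗ[F] V))

theorem gph_mts {g} (hg : g ∈ Φ.Isom) : (dbl Φ).MTS (gph g) :=
  ⟨TS_orth (by rintro _ ⟨v, rfl⟩; simp [dbl_N, hg.2]), by
    rw [gph, LinearMap.finrank_range_of_inj fun _ _ h => congrArg Prod.fst h]; simp [two_mul]⟩

theorem finrank_gph (g : V ≃ₗ[F] V) : finrank F (gph 1 ⊓ gph g : Submodule F (V × V)) + rk g = finrank F V := by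
  have : gph 1 ⊓ gph g = (LinearMap.ker (dl g)).map (LinearMap.id.prod LinearMap.id) := by
    ext x
    constructor
    · rintro ⟨⟨u, rfl⟩, v, h⟩
      obtain ⟨rfl, h⟩ := Prod.ext_iff.1 h
      exact ⟨v, sub_eq_zero.2 h, rfl⟩
    · rintro ⟨v, hv, rfl⟩
      exact ⟨⟨v, rfl⟩, v, Prod.ext rfl (sub_eq_zero.1 hv)⟩
  rw [this, ← (Submodule.equivMapOfInjective _ (fun _ _ h => congrArg Prod.fst h) _).finrank_eq, add_comm]
  exact (dl g).finrank_range_add_finrank_ker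

theorem dick_iff (hG : Φ.Good) (hΦ : Φ.Nondeg) (g : Φ.Isom) : hG.dick hΦ g = 1 ↔ Even (rk g.1) := by
  have hΨ : (dbl Φ).Nondeg := fun v hv => Prod.ext (hΦ _ fun u => by simpa [dbl_B] using hv (u, 0))
    (hΦ _ fun u => by simpa [dbl_B] using hv (0, u))
  obtain ⟨g, hg⟩ := g
  revert hg
  suffices ∀ g ∈ Φ.Isom, ∀ hg : g ∈ Φ.Isom, hG.dick hΦ ⟨g, hg⟩ = 1 ↔ Even (rk g) from fun hg => this g hg hg
  refine hG.induction hΦ (fun _ => ?_) fun v h g hg ih hg' => ?_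
  · exact iff_of_true (map_one _) (by rw [rk_eq_zero.2 rfl]; decide)
  · have h' : (dbl Φ).N (0, v) ≠ 0 := by simpa [dbl_N] using h
    have h1 := (gph_mts (one_mem _)).odd_refl hΨ (gph_mts hg) h'
    have e : (⟨Φ.refl v h * g, hg'⟩ : Φ.Isom) = Φ.reflI v h * ⟨g, hg⟩ := rfl
    have e' : (gph g).map ((dbl Φ).refl _ h' : V × V →ₗ[F] V × V) = gph (Φ.refl v h * g) := by
      rw [gph, ← LinearMap.range_comp]; congr 1; ext x <;> simp [refl_apply, dbl_N, dbl_B]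
    have h2 := finrank_gph g
    have h3 := finrank_gph (Φ.refl v h * g)
    rw [e'] at h1
    rw [e, map_mul, Good.dick_reflI, neg_one_mul, neg_eq_iff_eq_neg, ← Int.units_ne_iff_eq_neg, Ne, ih hg]
    simp only [Nat.even_iff, Nat.odd_iff] at *
    omega

variable [Finite F]

theorem mem_om (h2 : (2 : F) = 0) (hG : Φ.Good) (hΦ : Φ.Nondeg) {g} (hg : g ∈ Φ.Isom) :
    g ∈ ⁅Φ.Isom, Φ.Isom⁆ ↔ hG.dick hΦ ⟨g, hg⟩ = 1 := by
  rw [← MonoidHom.mem_ker, ← hG.commutator_eq_of_two hΦ h2, mem_commutator_subtype]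

theorem om_le : ⁅Φ.Isom, Φ.Isom⁆ ≤ Φ.Isom := comm_le_self _

theorem mem_om_iff (h2 : (2 : F) = 0) (hG : Φ.Good) (hΦ : Φ.Nondeg) {g} :
    g ∈ ⁅Φ.Isom, Φ.Isom⁆ ↔ g ∈ Φ.Isom ∧ Even (rk g) :=
  ⟨fun h => ⟨om_le h, (dick_iff hG hΦ ⟨g, om_le h⟩).1 ((mem_om h2 hG hΦ _).1 h)⟩,
    fun ⟨a, b⟩ => (mem_om h2 hG hΦ a).2 ((dick_iff hG hΦ _).2 b)⟩

omit [Finite F] in
theorem exists_refl_comm (h2 : (2 : F) = 0) (hΦ : Φ.Nondeg) {t} (ht : t ∈ Φ.Isom) (h : t * t = 1)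
    (h1 : ¬ Φ.MTS (im t)) : ∃ v hv, Φ.refl v hv * t * (Φ.refl v hv)⁻¹ = t := by
  obtain ⟨v, hv, hv'⟩ : ∃ v ∈ Φ.perp (im t), Φ.N v ≠ 0 := by
    by_contra hc
    push Not at hc
    have h3 := (TS_orth hc).mono (im_le_perp h2 ht h)
    have := h3.two_finrank_le hΦ
    have := (TS_orth hc).two_finrank_le hΦ
    have := hΦ.finrank_perp (im t)
    exact h1 ⟨h3, by omega⟩
  refine ⟨v, hv', ?_⟩
  have := Φ.refl_conj ht v hv'
  rw [refl_congr _ _ ((perp_im hΦ ht).1 hv), mul_inv_eq_iff_eq_mul] at this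
  rw [← this, mul_inv_cancel_right]

theorem om_conj_iff (h2 : (2 : F) = 0) (hG : Φ.Good) (hΦ : Φ.Nondeg) {t s} (ht : t ∈ Φ.Isom) (h : t * t = 1) :
    (∃ g ∈ ⁅Φ.Isom, Φ.Isom⁆, g * t * g⁻¹ = s) ↔ (∃ g ∈ Φ.Isom, g * t * g⁻¹ = s) ∧
      (Φ.MTS (im t) → Even (rk t + finrank F (im t ⊓ im s : Submodule F V))) := by
  constructor
  · rintro ⟨g, hg, rfl⟩
    refine ⟨⟨g, om_le hg, rfl⟩, fun h1 => ?_⟩
    rw [im_conj]
    exact h1.even_of_mem hΦ (g := ⟨g, om_le hg⟩) (mem_commutator_subtype.2 hg)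
  rintro ⟨⟨g, hg, rfl⟩, h1⟩
  by_cases h3 : Φ.MTS (im t)
  · refine ⟨g, (mem_om h2 hG hΦ hg).2 ((Ort.even_iff_dick hG hΦ h3 _).1 ?_), rfl⟩
    rw [← im_conj]; exact h1 h3
  obtain ⟨v, hv, e⟩ := exists_refl_comm h2 hΦ ht h h3
  rcases Int.units_eq_one_or (hG.dick hΦ ⟨g, hg⟩) with h4 | h4
  · exact ⟨g, (mem_om h2 hG hΦ hg).2 h4, rfl⟩
  · refine ⟨g * Φ.refl v hv, (mem_om h2 hG hΦ (mul_mem hg (Φ.refl_mem v hv))).2 ?_, ?_⟩
    · change hG.dick hΦ (⟨g, hg⟩ * Φ.reflI v hv) = 1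
      rw [map_mul, h4, Good.dick_reflI]; decide
    · conv_rhs => rw [← e]
      group

omit [Finite F] in
theorem mts_im_iff (h2 : (2 : F) = 0) {t} (ht : t ∈ Φ.Isom) {m : ℕ} (hm : finrank F V = 2 * m) :
    Φ.MTS (im t) ↔ Alt Φ t ∧ rk t = m :=
  ⟨fun h => ⟨(orth_alt_iff h2 ht).2 h.ts, by have := h.dim; unfold rk; omega⟩,
    fun h => ⟨(orth_alt_iff h2 ht).1 h.1, by have := h.2; unfold rk at this; omega⟩⟩

end Om

end Cfsg.Agent.Perm.Inv
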