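import Mathlib
import Cfsg.Agent.Lib.Perm.Inv2

set_option autoImplicit false

namespace Cfsg.Agent.Perm.Inv
open Module Cfsg.Agent.Classical Cfsg.Agent.Classical.Form
open scoped commutatorElement

section Om
variable {F V : Type*} [Field F] [AddCommGroup V] [Module F V] {Φ : Form (Kind.orth F) V} [FiniteDimensional F V]
  [Finite F]

theorem mem_D (h2 : (2 : F) = 0) (hG : Φ.Good) (hΦ : Φ.Nondeg) {m w : ℕ} (hm : finrank F V = 2 * m)
    {W : Submodule F V} (hW : Φ.TS W) (hw : finrank F W = w) (h1 : ∀ U, Φ.TS U → finrank F U ≤ w) (h3 : m ≤ w + 1)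
    (i) : i ∈ ((Finset.Icc 1 (m / 2)).image (2 * ·)).disjSum (Finset.Icc 1 (w / 2)) ↔
      ∃ t ∈ ⁅Φ.Isom, Φ.Isom⁆, t * t = 1 ∧ t ≠ 1 ∧ ty Φ t = i ∧ (Alt Φ t → im t ≤ W) := by
  have H := so2_orth h2
  constructor
  · rcases i with i | i <;>
      simp only [Finset.inl_mem_disjSum, Finset.inr_mem_disjSum, Finset.mem_Icc, Finset.mem_image]
    · rintro ⟨i, h, rfl⟩
      obtain ⟨t, ht, a, b, c⟩ := orth_exists_nonalt h2 hΦ hW (l := 2 * i - 1) (by omega) (by omega)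
      exact ⟨t, (mem_om_iff h2 hG hΦ).2 ⟨ht, i, by omega⟩, a, by rw [Ne, ← rk_eq_zero]; omega,
        by rw [ty, if_neg c]; congr; omega, fun h => absurd h c⟩
    · intro h
      obtain ⟨t, ht, a, b, c, d⟩ := H.exists_alt hΦ hW (k := i) (by omega)
      exact ⟨t, (mem_om_iff h2 hG hΦ).2 ⟨ht, i, by omega⟩, a, by rw [Ne, ← rk_eq_zero]; omega,
        by rw [ty, if_pos c]; congr; omega, fun _ => d⟩
  · rintro ⟨t, ht, a, b, rfl, -⟩
    rw [Ne, ← rk_eq_zero] at b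
    obtain ⟨ht, k, hk⟩ := (mem_om_iff h2 hG hΦ).1 ht
    unfold ty
    split_ifs with h
    · have := h1 _ ((orth_alt_iff h2 ht).1 h)
      simp only [Finset.inr_mem_disjSum, Finset.mem_Icc, rk] at *
      omega
    · have := two_rk_le hΦ H.two ht a
      simp only [Finset.inl_mem_disjSum, Finset.mem_Icc, Finset.mem_image]
      exact ⟨k, by omega, by omega⟩

theorem mem_D' (h2 : (2 : F) = 0) (hG : Φ.Good) (hΦ : Φ.Nondeg) {m w : ℕ} (hm : finrank F V = 2 * m)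
    {W : Submodule F V} (hW : Φ.TS W) (hw : finrank F W = w) (h1 : ∀ U, Φ.TS U → finrank F U ≤ w) (h3 : m ≤ w + 1)
    {t} (ht : t ∈ ⁅Φ.Isom, Φ.Isom⁆) (a : t * t = 1) (b : t ≠ 1) :
    ty Φ t ∈ ((Finset.Icc 1 (m / 2)).image (2 * ·)).disjSum (Finset.Icc 1 (w / 2)) := by
  by_cases h : Alt Φ t
  · have h4 := (orth_alt_iff h2 (om_le ht)).1 h
    obtain ⟨g, hg, e⟩ := h4.exists_map_le hΦ hW (hw ▸ h1 _ h4)
    have hg' : g * t * g⁻¹ ∈ Φ.Isom := mul_mem (mul_mem hg (om_le ht)) (inv_mem hg)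
    refine (mem_D h2 hG hΦ hm hW hw h1 h3 _).2 ⟨g * t * g⁻¹, (mem_om_iff h2 hG hΦ).2 ⟨hg', ?_⟩, ?_, by simpa using b,
      ((so2_orth h2).ty_eq hΦ hg' (om_le ht)).2 ⟨rk_conj _ _, alt_conj hg⟩, fun _ => by rwa [im_conj]⟩
    · rw [rk_conj]; exact ((mem_om_iff h2 hG hΦ).1 ht).2
    · rw [conj_mul, a]; simp
  · exact (mem_D h2 hG hΦ hm hW hw h1 h3 _).2 ⟨t, ht, a, b, rfl, fun h' => absurd h' h⟩

theorem card_D (m w : ℕ) : (((Finset.Icc 1 (m / 2)).image (2 * ·)).disjSum (Finset.Icc 1 (w / 2))).card =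
    m / 2 + w / 2 := by
  rw [Finset.card_disjSum, Finset.card_image_of_injective _ fun a b h => by simpa using h]; simp

theorem om_card_minus (h2 : (2 : F) = 0) (hG : Φ.Good) (hΦ : Φ.Nondeg) {G : Type*} [Group G]
    (e : G ≃* (⁅Φ.Isom, Φ.Isom⁆ : Subgroup _)) {w : ℕ} (hm : finrank F V = 2 * (w + 1))
    {W : Submodule F V} (hW : Φ.TS W) (hw : finrank F W = w) (h1 : ∀ U, Φ.TS U → finrank F U ≤ w) :
    Nat.card {C : ConjClasses G // ∃ g, ConjClasses.mk g = C ∧ orderOf g = 2} = (w + 1) / 2 + w / 2 := by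
  have H := so2_orth h2
  rw [card_inv_classes e (ty Φ) _ (fun t ht s hs a b => ?_) fun i => ⟨fun h => ?_, ?_⟩, card_D]
  · rw [om_conj_iff h2 hG hΦ (om_le ht) a, H.conj_iff hΦ (om_le ht) (om_le hs) a b, H.ty_eq hΦ (om_le ht) (om_le hs),
      and_iff_left]
    intro h
    have := h1 _ h.ts
    have := h.dim
    omega
  · obtain ⟨t, a, b, c, d, -⟩ := (mem_D h2 hG hΦ hm hW hw h1 le_rfl i).1 h
    exact ⟨t, a, b, c, d⟩
  · rintro ⟨t, a, b, c, rfl⟩
    exact mem_D' h2 hG hΦ hm hW hw h1 le_rfl a b c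

theorem om_card_plus (h2 : (2 : F) = 0) (hG : Φ.Good) (hΦ : Φ.Nondeg) {G : Type*} [Group G]
    (e : G ≃* (⁅Φ.Isom, Φ.Isom⁆ : Subgroup _)) {m : ℕ} (h0 : 1 ≤ m) (hm : finrank F V = 2 * m)
    {W : Submodule F V} (hW : Φ.MTS W) :
    Nat.card {C : ConjClasses G // ∃ g, ConjClasses.mk g = C ∧ orderOf g = 2} =
      2 * (m / 2) + if Even m then 1 else 0 := by
  classical
  have H := so2_orth h2
  have hw : finrank F W = m := by have := hW.dim; omega
  have h1 : ∀ U, Φ.TS U → finrank F U ≤ m := fun U hU => by have := hU.two_finrank_le hΦ; omega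
  let P : (V ≃ₗ[F] V) → Prop := fun t => Φ.MTS (im t) ∧ Odd (m + finrank F (W ⊓ im t : Submodule F V))
  rw [card_inv_classes e (fun t => if P t then .inr () else .inl (ty Φ t))
    ((((Finset.Icc 1 (m / 2)).image (2 * ·)).disjSum (Finset.Icc 1 (m / 2))).disjSum
      (if Even m then {()} else ∅)) (fun t ht s hs a b => ?_) fun i => ⟨fun h => ?_, ?_⟩, Finset.card_disjSum, card_D]
  · split_ifs <;> simp [two_mul]
  · have ht := om_le ht
    have hs := om_le hs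
    rw [om_conj_iff h2 hG hΦ ht a, H.conj_iff hΦ ht hs a b, ← H.ty_eq hΦ ht hs]
    have k1 : ty Φ t = ty Φ s → (Φ.MTS (im t) ↔ Φ.MTS (im s)) := fun h => by
      rw [H.ty_eq hΦ ht hs] at h
      rw [mts_im_iff h2 ht hm, mts_im_iff h2 hs hm, h.1, h.2]
    have k2 : Φ.MTS (im t) → Φ.MTS (im s) → ty Φ t = ty Φ s ∧ (Even (rk t + finrank F (im t ⊓ im s : Submodule F V)) ↔
        (P t ↔ P s)) := fun x y => by
      have := hW.cocycle hΦ y x
      have x' := (mts_im_iff h2 ht hm).1 x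
      have y' := (mts_im_iff h2 hs hm).1 y
      refine ⟨(H.ty_eq hΦ ht hs).2 ⟨x'.2.trans y'.2.symm, iff_of_true x'.1 y'.1⟩, ?_⟩
      simp only [P, x, y, true_and, x'.2, hw, Nat.even_iff, Nat.odd_iff] at this ⊢
      omega
    split_ifs with p q q
    · exact iff_of_true ⟨(k2 p.1 q.1).1, fun _ => (k2 p.1 q.1).2.2 (iff_of_true p q)⟩ rfl
    · exact iff_of_false (fun ⟨x, y⟩ => q (((k2 p.1 ((k1 x).1 p.1)).2.1 (y p.1)).1 p)) (by simp)
    · exact iff_of_false (fun ⟨x, y⟩ => p (((k2 ((k1 x).2 q.1) q.1).2.1 (y ((k1 x).2 q.1))).2 q)) (by simp)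
    · rw [Sum.inl.injEq]
      exact and_iff_left_of_imp fun x y => (k2 y ((k1 x).1 y)).2.2 (iff_of_false p q)
  · rcases i with i | i
    · obtain ⟨t, a, b, c, d, f⟩ := (mem_D h2 hG hΦ hm hW.ts hw h1 (by omega) i).1 (Finset.inl_mem_disjSum.1 h)
      refine ⟨t, a, b, c, ?_⟩
      rw [if_neg, d]
      rintro ⟨x, y⟩
      have x' := (mts_im_iff h2 (om_le a) hm).1 x
      rw [inf_eq_right.2 (f x'.1), show finrank F (im t) = m from x'.2, Nat.odd_iff] at y
      omega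
    · obtain ⟨k, hk⟩ : Even m := by
        by_contra hc
        simp [hc] at h
      haveI : Nontrivial V := Module.nontrivial_of_finrank_pos (R := F) (by omega)
      obtain ⟨v, hv⟩ := hΦ.orth_exists_N_ne
      have hW' := hW.map (Φ.refl_mem v hv)
      obtain ⟨t, ht, a, b, c, d⟩ := H.exists_alt hΦ hW'.ts (k := k) (by have := hW'.dim; omega)
      refine ⟨t, (mem_om_iff h2 hG hΦ).2 ⟨ht, k, by omega⟩, a, by rw [Ne, ← rk_eq_zero]; omega, if_pos
        ⟨(mts_im_iff h2 ht hm).2 ⟨c, by omega⟩, ?_⟩⟩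
      have := hW.odd_refl hΦ hW hv
      rwa [inf_idem, hw, ← Submodule.eq_of_le_of_finrank_eq d (by have := hW'.dim; unfold rk at b; omega)] at this
  · rintro ⟨t, a, b, c, rfl⟩
    by_cases p : P t
    · have x' := (mts_im_iff h2 (om_le a) hm).1 p.1
      rw [if_pos p, if_pos (x'.2 ▸ H.even hΦ (om_le a) x'.1)]; simp
    · rw [if_neg p]; exact Finset.inl_mem_disjSum.2 (mem_D' h2 hG hΦ hm hW.ts hw h1 (by omega) a b c)

theorem minus_witt (hΦ : Φ.Nondeg) {w : ℕ} (h : Φ.IsType (w + 1) (-1)) (U : Submodule F V) (hU : Φ.TS U) :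
    finrank F U ≤ w := by
  have := hU.two_finrank_le hΦ
  by_contra hc
  exact absurd (h.unique (isType_of_TS _ _ U hΦ h.1 (by have := h.1; omega) hU)) (by decide)

end Om

theorem exists_TS_minus {F : Type*} [Field F] (m : ℕ) (a b : F) :
    ∃ W, (minusForm m F a b).TS W ∧ finrank F W = m := by
  let L : (Fin m → F) →ₗ[F] ((Fin m ⊕ Fin m) ⊕ Fin 2 → F) :=
    LinearMap.pi (Sum.elim (Sum.elim LinearMap.proj 0) 0)
  refine ⟨LinearMap.range L, TS_orth ?_, by
    rw [LinearMap.finrank_range_of_inj fun x y e => funext fun i => congrFun e (.inl (.inl i))]; simp⟩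
  rintro _ ⟨x, rfl⟩
  simp [minusForm_N, Cfsg.quadFormMinus, L]

theorem sp_TS {F : Type*} [Field F] (m : ℕ) : (spForm m F).TS (plusTS m F) :=
  ⟨fun _ _ => symp_N _ _, fun u hu v hv => by simp [spForm_B, sympForm_eq, mem_plusTS.1 hu, mem_plusTS.1 hv]⟩

section Sp
variable {F V : Type*} [Field F] [AddCommGroup V] [Module F V] {K : Kind F} {Φ : Form K V} [FiniteDimensional F V]

theorem symp_exists_nonalt {Φ : Form (Kind.symp F) V} (h2 : (2 : F) = 0) (hΦ : Φ.Nondeg) {W : Submodule F V}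
    (hW : Φ.TS W) {l : ℕ} (h : l < finrank F W) : ∃ t ∈ Φ.Isom, t * t = 1 ∧ rk t = l + 1 ∧ ¬ Alt Φ t := by
  obtain ⟨j, hj, h1⟩ := exists_inj (U := Fin (l + 1) → F) W (by simpa using h)
  exact (so2_symp h2).exists_nonalt hΦ j hj (fun x y => hW.2 _ (h1 x) _ (h1 y)) fun x => symp_N _ _

variable [Finite F]

theorem card_ker_mul (φ : V →ₗ[F] F) (h : φ ≠ 0) : Nat.card (LinearMap.ker φ) * Nat.card F = Nat.card V := by
  have h1 := φ.finrank_range_add_finrank_ker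
  rw [(LinearMap.range_eq_top.2 (LinearMap.surjective h)), finrank_top, finrank_self] at h1
  rw [Module.natCard_eq_pow_finrank (K := F), Module.natCard_eq_pow_finrank (K := F) (V := V), ← h1, pow_add,
    pow_one, mul_comm]

theorem SO2.card_zero (H : SO2 K) {t} (ht : t ∈ Φ.Isom) (h : t * t = 1) :
    (Alt Φ t → Nat.card {v // Φ.B v (t v) = 0} = Nat.card V) ∧
      (¬ Alt Φ t → Nat.card {v // Φ.B v (t v) = 0} * Nat.card F = Nat.card V) := by
  refine ⟨fun h => Nat.card_congr (Equiv.subtypeUnivEquiv h), fun h1 => ?_⟩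
  obtain ⟨φ, hφ⟩ := exists_sqrt_lin H.two (fun v => Φ.B v (t v)) (fun u v => by
    have := ht.1 u (t v)
    rw [show t (t v) = v from LinearEquiv.congr_fun h v, H.symm] at this
    simp only [map_add, LinearMap.add_apply, this]
    linear_combination Φ.B u (t v) * H.two) fun c v => by rw [map_smul t, H.smul, B_smul_left]; ring
  rw [← card_ker_mul φ fun h0 => h1 fun v => by rw [← hφ, h0]; simp]
  congr 1
  exact Nat.card_congr (Equiv.subtypeEquivRight fun v => by simp [← hφ])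

end Sp

section Gen
variable {F V : Type*} [Field F] [AddCommGroup V] [Module F V] [FiniteDimensional F V] {t s : V ≃ₗ[F] V}

theorem gl_conj (ht : ∀ w ∈ im t, t w = w) (hs : ∀ w ∈ im s, s w = w) (h : rk t = rk s) :
    ∃ g : V ≃ₗ[F] V, g * t * g⁻¹ = s := by
  have h1 : im t ≤ LinearMap.ker (dl t) := fun w hw => sub_eq_zero.2 (ht w hw)
  have h2 : im s ≤ LinearMap.ker (dl s) := fun w hw => sub_eq_zero.2 (hs w hw)
  obtain ⟨φ⟩ := FiniteDimensional.nonempty_linearEquiv_of_finrank_eq h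
  obtain ⟨ψ⟩ := FiniteDimensional.nonempty_linearEquiv_of_finrank_eq (R := F) (M := LinearMap.ker (dl t))
    (M' := LinearMap.ker (dl s)) (by
    have := (dl t).finrank_range_add_finrank_ker
    have := (dl s).finrank_range_add_finrank_ker
    unfold rk im at h; omega)
  let i := Submodule.inclusion h1
  let j := ψ.symm.toLinearMap ∘ₗ Submodule.inclusion h2 ∘ₗ φ.toLinearMap
  obtain ⟨χ, hχ⟩ := Submodule.exists_linearEquiv_restrict_eq
    ((LinearEquiv.ofInjective i (Submodule.inclusion_injective h1)).symm.trans (LinearEquiv.ofInjective j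
      (ψ.symm.injective.comp ((Submodule.inclusion_injective h2).comp φ.injective))))
  have h3 : ∀ w, (ψ (χ (i w))).1 = φ w := fun w => by
    rw [← show _ = χ (i w) from hχ (LinearEquiv.ofInjective i (Submodule.inclusion_injective h1) w)]
    simp [j]
  let a := (dl t).rangeRestrict
  let r : V →ₗ[F] LinearMap.ker (dl t) := (LinearMap.id - sec t ∘ₗ a).codRestrict _ fun x => by simp [a]
  let G : V →ₗ[F] V := sec s ∘ₗ φ.toLinearMap ∘ₗ a + (LinearMap.ker (dl s)).subtype ∘ₗ ψ.toLinearMap ∘ₗ χ.toLinearMap ∘ₗ r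
  have hG : ∀ x, G x = sec s (φ (a x)) + ψ (χ (r x)) := fun _ => rfl
  have h4 : ∀ x, dl s (G x) = φ (a x) := fun x => by
    rw [hG, map_add, dl_sec, show dl s _ = 0 from (ψ (χ (r x))).2, add_zero]
  have h5 : ∀ x, a x = 0 → (r x).1 = x := fun x hx => by simp [r, hx]
  let g := LinearEquiv.ofInjectiveEndo G ((injective_iff_map_eq_zero _).2 fun x hx => by
    have := h4 x
    rw [hx, map_zero, eq_comm, ZeroMemClass.coe_eq_zero, map_eq_zero_iff _ φ.injective] at this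
    rw [hG, this, map_zero, map_zero, zero_add, ZeroMemClass.coe_eq_zero, map_eq_zero_iff _ ψ.injective,
      map_eq_zero_iff _ χ.injective] at hx
    rw [← h5 x this, hx]; rfl)
  refine ⟨g, LinearEquiv.ext fun v => ?_⟩
  obtain ⟨v, rfl⟩ := g.surjective v
  rw [← sub_left_inj (a := g v), ← dl_apply, ← dl_apply, dl_conj]
  change G _ = dl s (G v)
  have h6 : a (dl t v) = 0 := Subtype.ext (h1 ⟨v, rfl⟩)
  rw [h4, hG, h6, map_zero, map_zero, zero_add, ← h3]
  congr 3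
  exact Subtype.ext (h5 _ h6)

theorem exists_comm_det (ht : ∀ w ∈ im t, t w = w) (h1 : t ≠ 1) (c : Fˣ) :
    ∃ g : V ≃ₗ[F] V, g * t * g⁻¹ = t ∧ LinearEquiv.det g = c ^ 2 := by
  obtain ⟨u, hu⟩ : ∃ u, dl t u ≠ 0 := by
    by_contra hc
    push Not at hc
    exact h1 (LinearEquiv.ext fun v => sub_eq_zero.1 (hc v))
  obtain ⟨l, hl⟩ := Module.Projective.exists_dual_eq_one F hu
  have h2 : ∀ x, dl t (dl t x) = 0 := fun x => sub_eq_zero.2 (ht _ ⟨x, rfl⟩)
  let G := LinearMap.transvection (((c : F) - 1) • l ∘ₗ dl t) u ∘ₗ LinearMap.transvection (((c : F) - 1) • l) (dl t u)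
  have hG : LinearMap.det G = (c ^ 2 : Fˣ) := by
    simp [G, LinearMap.transvection.det, hl, sq]
  refine ⟨LinearMap.equivOfDetNeZero G (hG ▸ Units.ne_zero _), ?_, Units.ext ((LinearEquiv.coe_det _).trans hG)⟩
  rw [mul_inv_eq_iff_eq_mul]
  refine LinearEquiv.ext fun v => ?_
  change G (t v) = t (G v)
  have e : ∀ x, t x = x + dl t x := fun x => by simp [dl_apply]
  rw [e v, e (G v)]
  simp only [G, LinearMap.comp_apply, LinearMap.transvection.apply, map_add, map_smul, h2, LinearMap.smul_apply,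
    map_zero, smul_zero, add_zero, zero_smul]

theorem sl_conj [Finite F] (h2 : (2 : F) = 0) (ht : t * t = 1) (hs : s * s = 1) (h1 : t ≠ 1) (h : rk t = rk s) :
    ∃ g : V ≃ₗ[F] V, LinearEquiv.det g = 1 ∧ g * t * g⁻¹ = s := by
  obtain ⟨g, rfl⟩ := gl_conj (fun _ => fix_im h2 ht) (fun _ => fix_im h2 hs) h
  obtain ⟨c, hc⟩ := exists_sq_of_two h2 ((LinearEquiv.det g)⁻¹ : Fˣ)
  obtain ⟨k, e1, e2⟩ := exists_comm_det (fun _ => fix_im h2 ht) h1 (Units.mk0 c fun h => Units.ne_zero _ (by rw [← hc, h]; simp))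
  refine ⟨g * k, ?_, ?_⟩
  · rw [map_mul, e2, show Units.mk0 c _ ^ 2 = (LinearEquiv.det g)⁻¹ from Units.ext hc, mul_inv_cancel]
  · conv_rhs => rw [← e1]
    group

end Gen

section U
variable {F V : Type*} [Field F] [AddCommGroup V] [Module F V] [FiniteDimensional F V] {t s : V ≃ₗ[F] V}
  [Finite F] {σ : F →+* F} {hσ2 : ∀ a, σ (σ a) = a} {Φ : Form (Kind.unit σ hσ2) V}

theorem su_conj (hσ : σ ≠ RingHom.id F) (hΦ : Φ.Nondeg) (h2 : (2 : F) = 0) (ht' : t ∈ Φ.Isom) (hs' : s ∈ Φ.Isom)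
    (ht : t * t = 1) (hs : s * s = 1) (h1 : t ≠ 1) (h : rk t = rk s) : ∃ g ∈ Φ.SIsom, g * t * g⁻¹ = s := by
  haveI : CharP F 2 := CharTwo.of_one_ne_zero_of_two_eq_zero one_ne_zero h2
  let W := fun t (ht' : t ∈ Φ.Isom) (ht : t * t = 1) => ofHerm σ hσ hσ2 (wB Φ t) fun u v =>
    (wB_symm ht' ht u v).trans (one_mul _)
  obtain ⟨e, he, -⟩ := unit_iso hσ _ (W t ht' ht) (W s hs' hs) (wB_nondeg hΦ ht') (wB_nondeg hΦ hs') h rfl
  obtain ⟨g, hg, -, rfl⟩ := wall hΦ ht' hs' e he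
  obtain ⟨w, hw⟩ := unit_exists_norm hσ (Φ := W t ht' ht) (wB_nondeg hΦ ht') (mt rk_eq_zero.1 h1) (map_one σ)
  have hw : Φ.B (sec t w) w = 1 := hw
  have h0 : Φ.N w = 0 := by rw [unit_N]; exact im_le_perp h2 ht' ht w.2 _ w.2
  obtain ⟨a, ha⟩ := Φ.exists_hyp_of h0 (z := sec t w) (by rw [Φ.symm, hw]; simp)
  obtain ⟨c, hc⟩ := exists_sq_of_two h2 ((LinearEquiv.det g)⁻¹ : Fˣ)
  have h3 : c * σ c = 1 := CharTwo.sq_injective (by
    have := hΦ.det_mul_conj hg
    simp only [mul_pow, ← map_pow, hc, Units.val_inv_eq_inv_val, map_inv₀, one_pow]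
    rw [← mul_inv, show _ * σ _ = 1 from this, inv_one])
  have h4 : (σ c)⁻¹ = c := (eq_inv_of_mul_eq_one_left h3).symm
  let l := Units.mk0 c (left_ne_zero_of_mul_eq_one h3)
  refine ⟨g * Φ.dil _ _ ha l, mem_SIsom.2 ⟨mul_mem hg (Φ.dil_mem _ _ _ _), Units.ext ?_⟩, ?_⟩
  · rw [map_mul, Units.val_mul, det_dil, Kind.unit_σ, Units.val_mk0, h4, ← sq, hc]; exact Units.mul_inv _
  have h5 := fix_im h2 ht w.2
  have h6 : t (sec t w + a • w.1) = sec t w + a • w.1 + w := by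
    rw [map_add, map_smul, h5, ← sub_add_cancel (t (sec t w)) (sec t w), ← dl_apply, dl_sec]; abel
  have h7 : ∀ x y, Φ.B (t x) y = Φ.B x (t y) := fun x y => by
    rw [← ht'.1 x, show t (t y) = y from LinearEquiv.congr_fun ht y]
  have : Φ.dil _ _ ha l * t = t * Φ.dil _ _ ha l := LinearEquiv.ext fun v => by
    simp only [LinearEquiv.mul_apply, dil_apply]
    rw [map_add t, map_add t, map_smul t, map_smul t, h7, h7, h6, h5, map_add (Φ.B v) _ w.1, Kind.unit_σ,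
      Units.val_mk0, h4, Kind.unit_ε]
    module
  rw [mul_assoc g, this]; group

end U

end Cfsg.Agent.Perm.Inv
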