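import Mathlib
import Cfsg.Agent.Lib.Perm.Inv3
import Cfsg.Agent.Lib.Perm.Or1

set_option autoImplicit false

namespace Cfsg.Agent.Perm.Inv
open Module Cfsg.Agent.Classical Cfsg.Agent.Classical.Form
open scoped commutatorElement

section SL
variable {F : Type*} [Field F] {ι : Type*} [Fintype ι] [DecidableEq ι]

/-- `SL` as a group of linear maps -/
noncomputable def slE : Matrix.SpecialLinearGroup ι F ≃*
    (LinearEquiv.det : ((ι → F) ≃ₗ[F] (ι → F)) →* Fˣ).ker where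
  toFun g := ⟨glEquiv (Matrix.SpecialLinearGroup.toGL g), by
    rw [MonoidHom.mem_ker, det_glEquiv]; exact Units.ext g.2⟩
  invFun g := ⟨(glEquiv.symm g.1).1, by
    have := g.2
    rw [MonoidHom.mem_ker, ← glEquiv.apply_symm_apply g.1, det_glEquiv] at this
    exact congrArg Units.val this⟩
  left_inv g := Subtype.ext (by simp)
  right_inv g := Subtype.ext (LinearEquiv.ext fun v => glEquiv_symm_mulVec g.1 v)
  map_mul' _ _ := Subtype.ext (by simp)

theorem slE_apply (g : Matrix.SpecialLinearGroup ι F) (v : ι → F) : (slE g).1 v = g.1.mulVec v := rfl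

theorem sl_rank_of_conj {a b : Matrix.SpecialLinearGroup ι F} (h : IsConj a b) :
    (a.1 - 1).rank = (b.1 - 1).rank := by
  obtain ⟨g, -, h⟩ := (isConj_equiv slE).1 h
  rw [rank_eq (slE_apply a), rank_eq (slE_apply b), ← h, rk_conj]

theorem sl_conj_iff [Finite F] (h2 : (2 : F) = 0) {a b : Matrix.SpecialLinearGroup ι F} (ha : orderOf a = 2)
    (hb : orderOf b = 2) : IsConj a b ↔ (a.1 - 1).rank = (b.1 - 1).rank :=
  ⟨sl_rank_of_conj, fun h => by
    rw [rank_eq (slE_apply a), rank_eq (slE_apply b)] at h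
    obtain ⟨g, h1, h3⟩ := sl_conj h2 ((ord_equiv slE).1 ha).1 ((ord_equiv slE).1 hb).1 ((ord_equiv slE).1 ha).2 h
    exact (isConj_equiv slE).2 ⟨g, h1, h3⟩⟩

theorem exists_sl (h2 : (2 : F) = 0) {N : Matrix ι ι F} (h : N * N = 0) (h0 : N.rank ≠ 0) :
    ∃ a : Matrix.SpecialLinearGroup ι F, a.1 = 1 + N ∧ orderOf a = 2 := by
  haveI : CharP F 2 := CharTwo.of_one_ne_zero_of_two_eq_zero one_ne_zero h2
  have h1 : (1 + N) * (1 + N) = 1 := by
    rw [add_mul, mul_add, mul_add, h, one_mul, one_mul, mul_one, add_zero, add_assoc, ← two_smul F, h2]; simp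
  have h3 : (1 + N).det = 1 := CharTwo.sq_injective (by simp only [sq, ← Matrix.det_mul, h1, Matrix.det_one, one_mul])
  refine ⟨⟨1 + N, h3⟩, rfl, orderOf_eq_prime ((sq _).trans (Subtype.ext h1)) fun e => h0 ?_⟩
  rw [show N = 0 by simpa using congrArg Subtype.val e, Matrix.rank_zero]

/-- selection matrix -/
def sel (F : Type*) [Field F] {κ : Type*} (f : κ → ι) : Matrix ι κ F := (1 : Matrix ι ι F).submatrix id f

theorem sel_mul {κ : Type*} [Fintype κ] (f g : κ → ι) (hg : Function.Injective g) (i j) (p : Prop) [Decidable p]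
    (h : p ↔ ∃ k, i = f k ∧ j = g k) : (sel F f * (sel F g).transpose) i j = if p then 1 else 0 := by
  simp only [sel, Matrix.mul_apply, Matrix.transpose_apply, Matrix.submatrix_apply, id, Matrix.one_apply]
  split_ifs with hp
  · obtain ⟨k, rfl, rfl⟩ := h.1 hp
    rw [Finset.sum_eq_single k (fun l _ hl => by simp [hg.eq_iff, hl.symm]) (by simp)]; simp
  · exact Finset.sum_eq_zero fun k _ => by
      by_cases a : i = f k <;> by_cases b : j = g k <;> simp [a, b]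
      exact hp (h.2 ⟨k, a, b⟩)

theorem mul_sel {κ : Type*} (f g : κ → ι) (k l) :
    ((sel F f).transpose * sel F g) k l = if f k = g l then 1 else 0 := by
  simp [sel, Matrix.mul_apply, Matrix.one_apply, eq_comm]

theorem rank_of_fac {κ : Type*} [Fintype κ] [DecidableEq κ] (A B : Matrix ι κ F) (r c : κ → ι)
    (h : (A * B.transpose).submatrix r c = 1) : (A * B.transpose).rank = Fintype.card κ :=
  le_antisymm ((Matrix.rank_mul_le_left _ _).trans (Matrix.rank_le_card_width _))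
    (by rw [← Matrix.rank_one (R := F), ← h]; exact Matrix.rank_submatrix_le _ _ _)

end SL

section O
variable {F : Type*} [Field F] {ι : Type} [Fintype ι] [DecidableEq ι] (Φ : Form (Kind.orth F) (ι → F))

theorem mem_Om (t : Cfsg.isometryGroup F Φ.N) : t ∈ Cfsg.Omega F Φ.N ↔ (orthEquiv Φ t).1 ∈ ⁅Φ.Isom, Φ.Isom⁆ := by
  rw [Ort.mem_Omega_iff, mem_commutator_subtype]

theorem Om_conj (t s : Cfsg.isometryGroup F Φ.N) : (∃ g ∈ Cfsg.Omega F Φ.N, g * t * g⁻¹ = s) ↔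
    ∃ g ∈ ⁅Φ.Isom, Φ.Isom⁆, g * (orthEquiv Φ t).1 * g⁻¹ = (orthEquiv Φ s).1 :=
  ⟨fun ⟨g, h, e⟩ => ⟨_, (mem_Om Φ g).1 h, by rw [← e]; simp⟩, fun ⟨g, h, e⟩ => by
    obtain ⟨c, hc⟩ := (orthEquiv Φ).surjective ⟨g, comm_le_self _ h⟩
    exact ⟨c, (mem_Om Φ c).2 (hc ▸ h), (orthEquiv Φ).injective (Subtype.ext (by simpa [hc] using e))⟩⟩

variable [Finite F] {Φ}

theorem O_conj_sp (h2 : (2 : F) = 0) (hΦ : Φ.Nondeg) (t s : Cfsg.isometryGroup F Φ.N) (ht : orderOf t = 2)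
    (hs : orderOf s = 2) : IsConj t s ↔ ∃ g ∈ Cfsg.preserving (Units.coeHom (Matrix ι ι F))
      (fun u v => Φ.N (u + v) - Φ.N u - Φ.N v), g * t.1 * g⁻¹ = s.1 := by
  refine ⟨fun h => ?_, fun ⟨g, hg, h⟩ => ?_⟩
  · obtain ⟨c, rfl⟩ := isConj_iff.1 h
    refine ⟨c.1, fun u v => ?_, rfl⟩
    have := mem_isometryGroup.1 c.2
    simp only [Units.coeHom_apply, ← Matrix.mulVec_add, this]
  rw [isConj_equiv (orthEquiv Φ), (so2_orth h2).conj_iff hΦ (orthEquiv Φ t).2 (orthEquiv Φ s).2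
    ((ord_equiv _).1 ht).1 ((ord_equiv _).1 hs).1]
  have e : (orthEquiv Φ s).1 = glEquiv g * (orthEquiv Φ t).1 * (glEquiv g)⁻¹ := by
    change glEquiv s.1 = glEquiv g * glEquiv t.1 * _
    rw [← h]; simp
  have h1 : ∀ u v, Φ.B (glEquiv g u) (glEquiv g v) = Φ.B u v := fun u v => by
    rw [orth_B, orth_B]; exact hg u v
  rw [e, rk_conj]
  refine ⟨rfl, fun h v => ?_, fun h v => ?_⟩
  · obtain ⟨v, rfl⟩ := (glEquiv g).surjective v
    simpa [-glEquiv_apply, -orthEquiv_apply, h1] using h v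
  · simpa [-glEquiv_apply, -orthEquiv_apply, h1] using h (glEquiv g v)

theorem mem_Om_rank (h2 : (2 : F) = 0) (hG : Φ.Good) (hΦ : Φ.Nondeg) (t : Cfsg.isometryGroup F Φ.N) :
    t ∈ Cfsg.Omega F Φ.N ↔ Even (t.1.1 - 1).rank := by
  rw [mem_Om, mem_om_iff h2 hG hΦ, rank_eq (orthEquiv_apply Φ t), and_iff_right (orthEquiv Φ t).2]

theorem Om_conj_rank (h2 : (2 : F) = 0) (hG : Φ.Good) (hΦ : Φ.Nondeg) {m : ℕ} (hm : finrank F (ι → F) = 2 * m)
    {t s : Cfsg.isometryGroup F Φ.N} (ht : orderOf t = 2) (hc : IsConj t s) :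
    (∃ g ∈ Cfsg.Omega F Φ.N, g * t * g⁻¹ = s) ↔ ((t.1.1 - 1).rank = m ∧ (∀ v, Φ.N (v + t.1.1.mulVec v) = 0) →
      Even (m + finrank F (LinearMap.range (t.1.1 - 1).toLin' ⊓ LinearMap.range (s.1.1 - 1).toLin' : Submodule F _))) := by
  have h4 : Φ.TS (im (orthEquiv Φ t).1) ↔ ∀ v, Φ.N (v + t.1.1.mulVec v) = 0 := by
    haveI : CharP F 2 := CharTwo.of_one_ne_zero_of_two_eq_zero one_ne_zero h2
    have : ∀ v, v + t.1.1.mulVec v = dl (orthEquiv Φ t).1 v := fun v => by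
      rw [dl_apply, orthEquiv_apply, add_comm]; ext i; exact (CharTwo.sub_eq_add _ _).symm
    simp only [this]
    exact ⟨fun h v => h.1 _ ⟨v, rfl⟩, fun h => TS_orth fun w ⟨v, e⟩ => e ▸ h v⟩
  rw [Om_conj, om_conj_iff h2 hG hΦ (orthEquiv Φ t).2 ((ord_equiv _).1 ht).1, and_iff_right ((isConj_equiv _).1 hc),
    mts_im_iff h2 (orthEquiv Φ t).2 hm, orth_alt_iff h2 (orthEquiv Φ t).2, Matrix.toLin'_apply', Matrix.toLin'_apply',
    rank_eq (orthEquiv_apply Φ t), mulVecLin_sub (orthEquiv_apply Φ t), mulVecLin_sub (orthEquiv_apply Φ s), ← h4,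
    and_comm]
  exact forall_congr' fun h => by rw [h.1]

theorem Om_conj_minus (h2 : (2 : F) = 0) (hG : Φ.Good) (hΦ : Φ.Nondeg) {w : ℕ} (hm : finrank F (ι → F) = 2 * (w + 1))
    (h : Φ.IsType (w + 1) (-1)) {t s : Cfsg.isometryGroup F Φ.N} (ht : orderOf t = 2) (hc : IsConj t s) :
    ∃ g ∈ Cfsg.Omega F Φ.N, g * t * g⁻¹ = s := by
  refine (Om_conj Φ t s).2 ((om_conj_iff h2 hG hΦ (orthEquiv _ t).2 ((ord_equiv _).1 ht).1).2
    ⟨(isConj_equiv _).1 hc, fun h' => ?_⟩)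
  have h1 := minus_witt hΦ h _ h'.1
  have := ((mts_im_iff h2 (orthEquiv _ t).2 hm).1 h').2
  unfold rk at this
  omega

end O

end Cfsg.Agent.Perm.Inv
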