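import Mathlib
import Cfsg.Agent.Lib.Perm.Inv4

set_option autoImplicit false

namespace Cfsg.Agent.Perm.Inv
open Module Cfsg.Agent.Classical Cfsg.Agent.Classical.Form

section Gen
variable {F V : Type*} [Field F] [AddCommGroup V] [Module F V] [FiniteDimensional F V] {t s : V ≃ₗ[F] V}

theorem exists_comm_det' (h : 2 * rk t < finrank F V) (c : Fˣ) :
    ∃ g : V ≃ₗ[F] V, g * t * g⁻¹ = t ∧ LinearEquiv.det g = c := by
  obtain ⟨w, hw, hw'⟩ : ∃ w ∈ LinearMap.ker (dl t), w ∉ im t := by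
    by_contra hc
    push Not at hc
    have := Submodule.finrank_mono (show _ ≤ im t from hc)
    have : finrank F (im t) + _ = _ := (dl t).finrank_range_add_finrank_ker
    unfold rk at h; omega
  obtain ⟨l, hl, hl'⟩ := Submodule.exists_dual_map_eq_bot_of_notMem hw' inferInstance
  have h0 : ∀ x, l (dl t x) = 0 := fun x => by
    have : l (dl t x) ∈ (im t).map l := ⟨_, ⟨x, rfl⟩, rfl⟩
    rwa [hl'] at this
  let G := LinearMap.transvection ((((c : F) - 1) / l w) • l) w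
  have hG : LinearMap.det G = c := by simp [G, LinearMap.transvection.det, hl]
  refine ⟨LinearMap.equivOfDetNeZero G (hG ▸ Units.ne_zero _), ?_, Units.ext ((LinearEquiv.coe_det _).trans hG)⟩
  rw [mul_inv_eq_iff_eq_mul]
  refine LinearEquiv.ext fun v => ?_
  change G (t v) = t (G v)
  have e : ∀ x, t x = x + dl t x := fun x => by simp [dl_apply]
  rw [e v, e (G v)]
  simp only [G, LinearMap.transvection.apply, map_add, map_smul, h0, LinearMap.smul_apply, LinearMap.mem_ker.1 hw,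
    smul_zero, add_zero, zero_smul]

theorem sl_conj' (ht : ∀ w ∈ im t, t w = w) (hs : ∀ w ∈ im s, s w = w) (h : rk t = rk s)
    (h' : 2 * rk t < finrank F V) : ∃ g : V ≃ₗ[F] V, LinearEquiv.det g = 1 ∧ g * t * g⁻¹ = s := by
  obtain ⟨g, rfl⟩ := gl_conj ht hs h
  obtain ⟨k, e1, e2⟩ := exists_comm_det' h' (LinearEquiv.det g)⁻¹
  refine ⟨g * k, by rw [map_mul, e2, mul_inv_cancel], ?_⟩
  conv_rhs => rw [← e1]
  group

end Gen

theorem transv_iff {F : Type*} [Field F] {ι : Type} [Fintype ι] [DecidableEq ι] {M : Matrix ι ι F}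
    {t : (ι → F) ≃ₗ[F] (ι → F)} (h : ∀ v, t v = M.mulVec v) :
    Cfsg.IsTransvection M ↔ rk t = 1 ∧ ∀ w ∈ im t, t w = w := by
  rw [Cfsg.IsTransvection, rank_eq h, ← Matrix.toLin'.map_eq_zero_iff, Matrix.toLin'_apply', Matrix.mulVecLin_mul,
    mulVecLin_sub h]
  exact and_congr_right' ⟨fun e _ ⟨v, hv⟩ => hv ▸ sub_eq_zero.1 (LinearMap.congr_fun e v),
    fun e => LinearMap.ext fun v => sub_eq_zero.2 (e _ ⟨v, rfl⟩)⟩

section U
variable {F V : Type*} [Field F] [AddCommGroup V] [Module F V] [FiniteDimensional F V] {t s : V ≃ₗ[F] V}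
  [Finite F] {σ : F →+* F} {hσ2 : ∀ a, σ (σ a) = a} {Φ : Form (Kind.unit σ hσ2) V}

theorem su_adjust (hσ : σ ≠ RingHom.id F) (hΦ : Φ.Nondeg) (ht : t ∈ Φ.Isom) (h : 2 * rk t < finrank F V)
    (h' : ∃ g ∈ Φ.Isom, g * t * g⁻¹ = s) : ∃ g ∈ Φ.SIsom, g * t * g⁻¹ = s := by
  obtain ⟨g, hg, rfl⟩ := h'
  obtain ⟨v, hv, hN⟩ : ∃ v ∈ Φ.perp (im t), Φ.N v ≠ 0 := by
    by_contra hc
    push Not at hc
    have h1 : Φ.perp (im t) ≤ Φ.perp (Φ.perp (im t)) := fun u hu w hw => by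
      by_contra h0
      obtain ⟨x, hx⟩ := unit_exists_N_ne hσ (Φ.restrict (Φ.perp (im t))) (u := ⟨u, hu⟩) (v := ⟨w, hw⟩) h0
      exact hx (hc _ x.2)
    rw [hΦ.perp_perp] at h1
    have := Submodule.finrank_mono h1
    have := hΦ.finrank_perp (im t)
    unfold rk at h; omega
  have hd : ((LinearEquiv.det g : Fˣ) : F) * σ (LinearEquiv.det g : Fˣ) = 1 := hΦ.det_mul_conj hg
  have hσN := Φ.unit_σN v
  have hq : (σ (LinearEquiv.det g : Fˣ) - 1) / Φ.N v * (Kind.unit σ hσ2).σ ((σ (LinearEquiv.det g : Fˣ) - 1) / Φ.N v) *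
      Φ.N v + (Kind.unit σ hσ2).T ((Kind.unit σ hσ2).σ ((σ (LinearEquiv.det g : Fˣ) - 1) / Φ.N v)) = 0 := by
    simp only [Kind.unit_σ, Kind.unit_T, map_div₀, map_sub, map_one, hσ2, hσN]
    field_simp
    linear_combination hd
  refine ⟨g * Φ.qrefl v _ hq, mem_SIsom.2 ⟨mul_mem hg (Φ.qrefl_mem _ _ _), Units.ext ?_⟩, ?_⟩
  · rw [map_mul, Units.val_mul, det_qrefl, ← unit_N, div_mul_cancel₀ _ hN, add_sub_cancel, hd]; rfl
  have h1 := (perp_im hΦ ht).1 hv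
  have : Φ.qrefl v _ hq * t = t * Φ.qrefl v _ hq := LinearEquiv.ext fun x => by
    simp only [LinearEquiv.mul_apply, qrefl_apply, map_add, map_smul, h1]
    rw [← ht.1 x v, h1]
  rw [mul_assoc g, this]; group

theorem gu_transv (hσ : σ ≠ RingHom.id F) (hΦ : Φ.Nondeg) (ht' : t ∈ Φ.Isom) (hs' : s ∈ Φ.Isom)
    (ht : rk t = 1 ∧ ∀ w ∈ im t, t w = w) (hs : rk s = 1 ∧ ∀ w ∈ im s, s w = w) : ∃ g ∈ Φ.Isom, g * t * g⁻¹ = s := by
  have key : ∀ {t : V ≃ₗ[F] V}, t ∈ Φ.Isom → (rk t = 1 ∧ ∀ w ∈ im t, t w = w) →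
      ∃ b : Basis Unit F (im t), wB Φ t (b ()) (b ()) ≠ 0 ∧ σ (wB Φ t (b ()) (b ())) = -wB Φ t (b ()) (b ()) :=
    fun {t} ht' ht => by
    let b := basisUnique Unit ht.1
    refine ⟨b, fun h => b.ne_zero () (wB_nondeg hΦ ht' _ fun x => ?_), ?_⟩
    · rw [← b.sum_repr x]; simp [h]
    · have := N_dl ht' (sec t (b ()))
      rw [dl_sec, unit_N, (perp_im hΦ ht').2 (ht.2 _ (b ()).2) _ (b ()).2] at this
      rw [wB_apply]; simp at this; linear_combination this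
  obtain ⟨b, h1, h2⟩ := key ht' ht
  obtain ⟨d, h3, h4⟩ := key hs' hs
  obtain ⟨c, hc⟩ := norm_surj_fixed σ hσ hσ2 (wB Φ t (b ()) (b ()) / wB Φ s (d ()) (d ()))
    (by rw [map_div₀, h2, h4, neg_div_neg_eq])
  have h0 : c ≠ 0 := fun h => div_ne_zero h1 h3 (by rw [← hc, h, zero_mul])
  obtain ⟨g, hg, -, h⟩ := wall hΦ ht' hs' (b.equiv (d.unitsSMul fun _ => Units.mk0 c h0) (Equiv.refl _)) fun x y => by
    rw [← b.sum_repr x, ← b.sum_repr y]
    simp only [Finset.univ_unique, Finset.sum_singleton, map_smul, Basis.equiv_apply, Basis.unitsSMul_apply,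
      LinearMap.map_smulₛₗ, Units.smul_mk0, LinearMap.smul_apply, smul_eq_mul, Kind.unit_σ, Equiv.refl_apply]
    rw [(div_eq_iff h3).1 hc.symm]; ring
  exact ⟨g, hg, h⟩

end U

theorem exists_inv_quad {F V : Type*} [Field F] [Finite F] [AddCommGroup V] [Module F V] [FiniteDimensional F V]
    {Φ : Form (Kind.orth F) V} (h2 : (2 : F) = 0) (hΦ : Φ.Nondeg) {t : V ≃ₗ[F] V}
    (ht : ∀ u v, Φ.B (t u) (t v) = Φ.B u v) : ∃ z, ∀ v, Φ.N (t v) + Φ.B (t v) z ^ 2 = Φ.N v + Φ.B v z ^ 2 := by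
  haveI : CharP F 2 := CharTwo.of_one_ne_zero_of_two_eq_zero one_ne_zero h2
  obtain ⟨φ, hφ⟩ := exists_sqrt_lin h2 (fun v => Φ.N (t v) - Φ.N v)
    (fun u v => by
      have := ht u v
      rw [orth_B, orth_B] at this
      rw [map_add]; linear_combination this)
    fun c v => by simp only [map_smul, Φ.N_smul, Kind.orth_σ]; ring
  have h0 : LinearMap.ker (dl t) ≤ LinearMap.ker φ := fun v hv =>
    pow_eq_zero_iff two_ne_zero |>.1 (by rw [hφ, show t v = v from sub_eq_zero.1 hv, sub_self])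
  obtain ⟨ψ, hψ⟩ := LinearMap.exists_extend (p := im t)
    (((LinearMap.ker (dl t)).liftQ φ h0) ∘ₗ (dl t).quotKerEquivRange.symm.toLinearMap)
  obtain ⟨z, hz⟩ := hΦ.exists_repr ψ
  refine ⟨z, fun v => ?_⟩
  have h3 : ψ (dl t v) = φ v := by
    have := LinearMap.congr_fun hψ ⟨_, LinearMap.mem_range_self _ v⟩
    rw [LinearMap.comp_apply, LinearMap.comp_apply, LinearEquiv.coe_coe,
      LinearMap.quotKerEquivRange_symm_apply_image] at this
    exact this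
  have h4 := hφ v
  rw [← h3, dl_apply, map_sub] at h4
  rw [hz, hz]
  linear_combination -h4 + (ψ (t v) ^ 2 - ψ (t v) * ψ v) * h2

end Cfsg.Agent.Perm.Inv
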