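import Mathlib
import Cfsg.Agent.Lib.Perm.Cj1
import Cfsg.Agent.Lib.Perm.Inv5

set_option autoImplicit false

namespace Cfsg.Agent.Perm.Cj
open Module Polynomial Cfsg.Agent.Classical

universe u

theorem card_cl {G I : Type*} [Group G] (P : G → Prop) (f : G → I) (Q : I → Prop)
    (h1 : ∀ a b, P a → P b → (IsConj a b ↔ f a = f b)) (h2 : ∀ i, Q i ↔ ∃ a, P a ∧ f a = i) :
    Nat.card {C : ConjClasses G // ∃ g, ConjClasses.mk g = C ∧ P g} = Nat.card {i // Q i} := by
  refine Nat.card_congr (Equiv.ofBijective (fun C => ⟨f C.2.choose, (h2 _).2 ⟨_, C.2.choose_spec.2, rfl⟩⟩)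
    ⟨fun C D h => Subtype.ext ?_, fun ⟨i, hi⟩ => ?_⟩)
  · rw [← C.2.choose_spec.1, ← D.2.choose_spec.1, ConjClasses.mk_eq_mk_iff_isConj,
      h1 _ _ C.2.choose_spec.2 D.2.choose_spec.2]
    exact congrArg Subtype.val h
  · obtain ⟨a, ha, rfl⟩ := (h2 i).1 hi
    have h : ∃ g, ConjClasses.mk g = ConjClasses.mk a ∧ P g := ⟨a, rfl, ha⟩
    exact ⟨⟨_, h⟩, Subtype.ext ((h1 _ _ h.choose_spec.2 ha).1 (ConjClasses.mk_eq_mk_iff_isConj.1 h.choose_spec.1))⟩

theorem units_isConj {M : Type*} [Monoid M] {a b : Mˣ} : IsConj a b ↔ IsConj a.1 b.1 :=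
  ⟨fun h => (Units.coeHom M).map_isConj h, fun ⟨c, h⟩ => isConj_iff.2 ⟨c, mul_inv_eq_iff_eq_mul.2 (Units.ext h)⟩⟩

theorem card_monic {F : Type*} [Field F] [Finite F] (n : ℕ) (R : F → Prop) :
    Nat.card {P : F[X] // P.Monic ∧ P.natDegree = n + 1 ∧ R (P.coeff 0)} = Nat.card {c // R c} * Nat.card F ^ n := by
  let e := ((monicEquivDegreeLT (R := F) (n + 1)).trans (degreeLTEquiv F _).toEquiv).trans (Fin.consEquiv fun _ => F).symm
  have he : ∀ P, (e P).1 = P.1.coeff 0 := fun P => eraseLead_coeff_of_ne 0 (by rw [P.2.2]; simp)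
  rw [← Nat.card_fin n, ← Nat.card_fun, ← Nat.card_prod, Nat.card_fin]
  exact Nat.card_congr ((Equiv.subtypeEquivRight fun _ => and_assoc.symm).trans <|
    (Equiv.subtypeSubtypeEquivSubtypeInter _ _).symm.trans <| (e.subtypeEquiv (q := fun x => R x.1)
      fun P => by rw [he]).trans Equiv.prodSubtypeFstEquivSubtypeProd)

section Lin
variable {F : Type u} {V W : Type*} [Field F] [AddCommGroup V] [Module F V] [AddCommGroup W] [Module F W]

theorem conj_iff_sim {t s : V ≃ₗ[F] V} : (∃ g, g * t * g⁻¹ = s) ↔ Sim (t : End F V) (s : End F V) :=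
  exists_congr fun g => by rw [mul_inv_eq_iff_eq_mul, LinearEquiv.ext_iff]; rfl

theorem lin_pow (t : V ≃ₗ[F] V) (n : ℕ) : (t : End F V) ^ n = (t ^ n : V ≃ₗ[F] V) :=
  (map_pow LinearEquiv.automorphismGroup.toLinearMapMonoidHom t n).symm

theorem lin_pow_eq_one {t : V ≃ₗ[F] V} {n : ℕ} : (t : End F V) ^ n = 1 ↔ t ^ n = 1 := by
  rw [lin_pow]; exact LinearEquiv.toLinearMap_injective.eq_iff (b := 1)

theorem ss_of_pow {p N : ℕ} [Fact p.Prime] [CharP F p] {f : End F V} (h : f ^ N = 1) (hN : N.Coprime p) :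
    f.IsSemisimple :=
  End.isSemisimple_of_squarefree_aeval_eq_zero (X_pow_sub_one_separable_iff.2 fun h =>
    (Fact.out : p.Prime).coprime_iff_not_dvd.1 hN.symm ((CharP.cast_eq_zero_iff F p N).1 h)).squarefree (by simp [h])

variable [FiniteDimensional F V] [FiniteDimensional F W] {f : End F V} {g : End F W}

theorem sim_iff_kd : Sim f g ↔ ∀ P, kd f P = kd g P := ⟨Sim.kd, fun h => sim_of_kd fun _ _ _ => h _⟩

theorem Sim.ss (H : Sim f g) (h : f.IsSemisimple) : g.IsSemisimple :=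
  End.isSemisimple_of_squarefree_aeval_eq_zero h.minpoly_squarefree ((H.aeval_zero _).1 (minpoly.aeval _ _))

theorem sim_iff_charpoly (hf : f.IsSemisimple) (hg : g.IsSemisimple) : Sim f g ↔ f.charpoly = g.charpoly :=
  ⟨Sim.charpoly, sim_of_charpoly hf.minpoly_squarefree (minpoly.aeval _ _) hg.minpoly_squarefree (minpoly.aeval _ _)⟩

theorem ss_mdl {ι : Type*} [Fintype ι] {p : ι → F[X]} (hp : ∀ i, Irreducible (p i)) : (mdl p).IsSemisimple := by
  classical
  exact End.isSemisimple_of_squarefree_aeval_eq_zero (p := UniqueFactorizationMonoid.radical (∏ i, p i))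
    UniqueFactorizationMonoid.squarefree_radical ((aeval_mdl_zero _ _).2 fun i =>
      (UniqueFactorizationMonoid.dvd_radical_iff_of_irreducible (hp i)
        (Finset.prod_ne_zero_iff.2 fun i _ => (hp i).ne_zero)).2 (Finset.dvd_prod_of_mem _ (Finset.mem_univ i)))

theorem exists_sim (f : End F V) (h : finrank F V = finrank F W) : ∃ g : End F W, Sim f g :=
  let e := LinearEquiv.ofFinrankEq V W h
  ⟨e.conj f, e, fun v => by simp [LinearEquiv.conj_apply]⟩

theorem exists_ss {P : F[X]} (hP : P.Monic) (h : P.natDegree = finrank F V) :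
    ∃ f : End F V, f.IsSemisimple ∧ f.charpoly = P := by
  classical
  let s := UniqueFactorizationMonoid.normalizedFactors P
  have hs : ∀ i : s.ToType, i.1.Monic ∧ Irreducible i.1 := fun i =>
    ((Polynomial.mem_normalizedFactors_iff hP.ne_zero).1 (Multiset.coe_mem (x := i))).elim fun a b => ⟨b.1, a⟩
  have := fin_mdl fun i => (hs i).1
  have h1 : (mdl fun i : s.ToType => i.1).charpoly = P := by
    rw [charpoly_mdl fun i => (hs i).1, Multiset.prod_eq_prod_coe s |>.symm,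
      UniqueFactorizationMonoid.prod_normalizedFactors_eq hP.ne_zero, hP.normalize_eq_self]
  obtain ⟨f, hf⟩ := exists_sim (W := V) (mdl fun i : s.ToType => i.1) (by rw [← h, ← h1, LinearMap.charpoly_natDegree])
  exact ⟨f, hf.ss (ss_mdl fun i => (hs i).2), hf.charpoly ▸ h1⟩

theorem coprime_of_ss [Finite F] {p : ℕ} [Fact p.Prime] [CharP F p] {t : V ≃ₗ[F] V}
    (h : End.IsSemisimple (t : End F V)) : (orderOf t).Coprime p := by
  have := Module.finite_of_finite F (M := V)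
  have : Finite (V ≃ₗ[F] V) := Finite.of_injective _ LinearEquiv.toEquiv_injective
  obtain ⟨a, N, hN, e⟩ := Nat.exists_eq_pow_mul_and_not_dvd (orderOf_pos t).ne' p (Fact.out : p.Prime).ne_one
  have h1 : aeval (t : End F V) (X ^ N - 1 : F[X]) = 0 := End.eq_zero_of_isNilpotent_isSemisimple ⟨p ^ a, by
    rw [← map_pow, sub_pow_char_pow, one_pow, ← pow_mul, mul_comm, ← e]
    simp [lin_pow_eq_one, sub_eq_zero]⟩ (h.aeval _)
  exact Nat.Coprime.coprime_dvd_left (orderOf_dvd_of_pow_eq_one (lin_pow_eq_one.1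
    (by simpa [sub_eq_zero] using h1))) ((Fact.out : p.Prime).coprime_iff_not_dvd.2 hN).symm

theorem ss_iff [Finite F] {p : ℕ} [Fact p.Prime] [CharP F p] {t : V ≃ₗ[F] V} :
    (orderOf t).Coprime p ↔ End.IsSemisimple (t : End F V) :=
  ⟨ss_of_pow (lin_pow_eq_one.2 (pow_orderOf_eq_one t)), coprime_of_ss⟩

theorem exists_ss' {P : F[X]} (hP : P.Monic) (h : P.natDegree = finrank F V) (h0 : P.coeff 0 ≠ 0) :
    ∃ t : V ≃ₗ[F] V, End.IsSemisimple (t : End F V) ∧ (t : End F V).charpoly = P := by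
  obtain ⟨f, h1, rfl⟩ := exists_ss hP h
  exact ⟨f.equivOfDetNeZero (by rw [LinearMap.det_eq_sign_charpoly_coeff]; simpa), h1, rfl⟩

theorem det_eq_coeff (t : V ≃ₗ[F] V) :
    (LinearEquiv.det t : F) = (-1) ^ finrank F V * (t : End F V).charpoly.coeff 0 := by
  rw [LinearEquiv.coe_det, LinearMap.det_eq_sign_charpoly_coeff]

theorem coeff_ne (t : V ≃ₗ[F] V) : (t : End F V).charpoly.coeff 0 ≠ 0 :=
  right_ne_zero_of_mul (det_eq_coeff t ▸ Units.ne_zero _)

theorem ss_comm_det [Finite F] [Nontrivial V] (h : f.IsSemisimple) (c : Fˣ) :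
    ∃ k : V ≃ₗ[F] V, (∀ v, k (f v) = f (k v)) ∧ LinearEquiv.det k = c := by
  classical
  obtain ⟨ι, _, p, hp, e, he⟩ := exists_mdl_sqf h.minpoly_squarefree (minpoly.aeval _ _)
  obtain ⟨i⟩ : Nonempty ι := by
    by_contra hc
    have := not_nonempty_iff.1 hc
    exact not_subsingleton V e.injective.subsingleton
  have := fun i => (hp i).1.finite_adjoinRoot
  have := Fact.mk (hp i).2.1
  have := Module.finite_of_finite F (M := AdjoinRoot (p i))
  obtain ⟨u, hu⟩ := FiniteField.norm_surjective F (AdjoinRoot (p i)) c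
  let a : Π j, AdjoinRoot (p j) := Function.update 1 i u
  have ha : LinearMap.det (e.symm.conj (Algebra.lmul F _ a)) = c := by
    rw [← Sim.det (f := Algebra.lmul F _ a) ⟨e.symm, fun v => by simp [LinearEquiv.conj_apply]⟩, ← hu]
    refine (det_pi' _ fun j => Algebra.lmul F _ (a j)).trans ((Finset.prod_eq_single i (fun j _ hj => ?_)
      (by simp)).trans ?_)
    · simp only [a, Function.update_of_ne hj, Pi.one_apply, map_one]
    · simp only [a, Function.update_self, Algebra.norm_apply]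
  refine ⟨LinearMap.equivOfDetNeZero _ (ha ▸ c.ne_zero), fun v => e.injective ?_,
    Units.ext (by rw [LinearEquiv.coe_det]; exact ha)⟩
  simp [he, LinearEquiv.conj_apply, mdl, mul_left_comm]

theorem ss_adjust [Finite F] {t : V ≃ₗ[F] V} (h : End.IsSemisimple (t : End F V)) (g : V ≃ₗ[F] V) :
    ∃ k, LinearEquiv.det k = 1 ∧ k * t * k⁻¹ = g * t * g⁻¹ := by
  rcases subsingleton_or_nontrivial V with _ | _
  · exact ⟨1, map_one _, Subsingleton.elim _ _⟩
  obtain ⟨k, h1, h2⟩ := ss_comm_det h (LinearEquiv.det g)⁻¹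
  refine ⟨g * k, by simp [h2], ?_⟩
  rw [mul_assoc g, show k * t = t * k from LinearEquiv.ext h1]; group

end Lin

section Mat
variable {F : Type u} [Field F] {ι : Type*} [Fintype ι] [DecidableEq ι]

theorem isConj_iff_sim {A B : Matrix ι ι F} : IsConj A B ↔ Sim A.toLin' B.toLin' :=
  ⟨fun ⟨c, h⟩ => ⟨glEquiv c, fun v => by simp [h.eq]⟩, fun ⟨e, h⟩ => ⟨glEquiv.symm e, matrix_ext_mulVec fun v => by
    simpa [← Matrix.mulVec_mulVec, glEquiv_symm_mulVec] using h v⟩⟩

theorem aeval_toLin' (A : Matrix ι ι F) (P : F[X]) : aeval A.toLin' P = (aeval A P).toLin' :=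
  aeval_algHom_apply (Matrix.toLinAlgEquiv' (R := F) (n := ι)).toAlgHom A P

theorem kd_add_rank (A : Matrix ι ι F) (P : F[X]) : (aeval A P).rank + kd A.toLin' P = Fintype.card ι := by
  rw [kd, aeval_toLin', Matrix.rank, ← Matrix.toLin'_apply', LinearMap.finrank_range_add_finrank_ker, finrank_pi]

theorem aeval_transpose (A : Matrix ι ι F) (P : F[X]) : aeval A.transpose P = (aeval A P).transpose := by
  induction P using Polynomial.induction_on' with
  | add p q hp hq => simp [hp, hq]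
  | monomial n a => simp [aeval_monomial, ← Algebra.smul_def, Matrix.transpose_pow]

theorem isConj_transpose (A : Matrix ι ι F) : IsConj A A.transpose :=
  isConj_iff_sim.2 (sim_iff_kd.2 fun P => Nat.add_left_cancel ((kd_add_rank A P).trans (by
    rw [← kd_add_rank A.transpose P, aeval_transpose, Matrix.rank_transpose])))

theorem gl_isConj {g h : GL ι F} : IsConj g h ↔ Sim (glEquiv g : End F (ι → F)) (glEquiv h : End F (ι → F)) :=
  units_isConj.trans isConj_iff_sim

theorem charpoly_eq {M : Matrix ι ι F} {t : (ι → F) ≃ₗ[F] (ι → F)} (h : ∀ v, t v = M.mulVec v) :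
    M.charpoly = (t : End F (ι → F)).charpoly := by
  rw [← Matrix.charpoly_toLin']; congr 1; exact LinearMap.ext fun v => (h v).symm

end Mat

theorem orderOf_equiv {G L : Type*} [Group G] [Group L] {S : Subgroup L} (e : G ≃* S) (a : G) :
    orderOf a = orderOf (e a).1 := by rw [Subgroup.orderOf_coe, MulEquiv.orderOf_eq]

theorem card_cl' {G L I : Type*} [Group G] [Group L] {S : Subgroup L} (e : G ≃* S) (R : ℕ → Prop) (f : L → I)
    (Q : I → Prop) (h1 : ∀ t ∈ S, ∀ s ∈ S, R (orderOf t) → R (orderOf s) → ((∃ g ∈ S, g * t * g⁻¹ = s) ↔ f t = f s))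
    (h2 : ∀ i, Q i ↔ ∃ t ∈ S, R (orderOf t) ∧ f t = i) :
    Nat.card {C : ConjClasses G // ∃ g, ConjClasses.mk g = C ∧ R (orderOf g)} = Nat.card {i // Q i} :=
  card_cl _ (fun a => f (e a)) Q (fun a b ha hb => by
    rw [Inv.isConj_equiv e, h1 _ (e a).2 _ (e b).2 (orderOf_equiv e a ▸ ha) (orderOf_equiv e b ▸ hb)]) fun i => by
    rw [h2]
    exact ⟨fun ⟨t, ht, a, c⟩ => ⟨e.symm ⟨t, ht⟩, by rw [orderOf_equiv e]; simpa using a, by simpa using c⟩,
      fun ⟨a, ha, h⟩ => ⟨_, (e a).2, orderOf_equiv e a ▸ ha, h⟩⟩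

theorem card_ss {F : Type u} {V G : Type*} [Field F] [Finite F] [AddCommGroup V] [Module F V] [FiniteDimensional F V]
    [Group G] {S : Subgroup (V ≃ₗ[F] V)} (e : G ≃* S) (p : ℕ) [Fact p.Prime] [CharP F p] (Q : F[X] → Prop)
    (h1 : ∀ t ∈ S, ∀ g, End.IsSemisimple (t : End F V) → g * t * g⁻¹ ∈ S → ∃ k ∈ S, k * t * k⁻¹ = g * t * g⁻¹)
    (h2 : ∀ P, Q P ↔ ∃ t ∈ S, End.IsSemisimple (t : End F V) ∧ (t : End F V).charpoly = P) :
    Nat.card {C : ConjClasses G // ∃ g, ConjClasses.mk g = C ∧ (orderOf g).Coprime p} = Nat.card {P // Q P} := by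
  refine card_cl' e (·.Coprime p) (fun t => (t : End F V).charpoly) Q (fun t ht s hs a b => ?_) (by simpa only [ss_iff])
  rw [ss_iff] at a b
  rw [← sim_iff_charpoly a b, ← conj_iff_sim]
  exact ⟨fun ⟨g, _, h⟩ => ⟨g, h⟩, fun ⟨g, h⟩ => h ▸ h1 t ht g a (h ▸ hs)⟩

/-- `GL` as a group of linear maps -/
noncomputable def glE {F : Type*} [Field F] {ι : Type*} [Fintype ι] [DecidableEq ι] :
    GL ι F ≃* (⊤ : Subgroup ((ι → F) ≃ₗ[F] (ι → F))) := glEquiv.trans Subgroup.topEquiv.symm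

end Cfsg.Agent.Perm.Cj
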