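import Mathlib
import Cfsg.Agent.Lib.Perm.Inv5

set_option autoImplicit false

namespace Cfsg.Agent.Perm.Inv
open Module Cfsg.Agent.Classical Cfsg.Agent.Classical.Form Finset

universe u

theorem card_hom {G H : Type*} [Group G] [Group H] (f : G →* H) : Nat.card G = Nat.card f.range * Nat.card f.ker := by
  rw [← Subgroup.index_ker, mul_comm, Subgroup.card_mul_index]

section Fix
variable {F V : Type*} [Field F] [AddCommGroup V] [Module F V] {K : Kind F} {Φ : Form K V}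

theorem card_orb (H : Subgroup (V ≃ₗ[F] V)) (v : V) (P : V → Prop) (h : ∀ w, P w ↔ ∃ g ∈ H, g v = w) :
    Nat.card H = Nat.card {w // P w} * Nat.card {g : H // g.1 v = v} := by
  rw [← Nat.card_congr (MulAction.orbitProdStabilizerEquivGroup H v), Nat.card_prod]
  congr 1
  exact Nat.card_congr (Equiv.subtypeEquivRight fun w => by
    rw [h]; exact ⟨fun ⟨g, e⟩ => ⟨g.1, g.2, e⟩, fun ⟨g, a, e⟩ => ⟨⟨g, a⟩, e⟩⟩)

/-- the pointwise stabiliser of a subspace -/
def fix (Φ : Form K V) (W : Submodule F V) : Subgroup (V ≃ₗ[F] V) where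
  carrier := {g | g ∈ Φ.Isom ∧ ∀ w ∈ W, g w = w}
  mul_mem' ha hb := ⟨mul_mem ha.1 hb.1, fun w hw => by rw [LinearEquiv.mul_apply, hb.2 w hw, ha.2 w hw]⟩
  one_mem' := ⟨one_mem _, fun _ _ => rfl⟩
  inv_mem' ha := ⟨inv_mem ha.1, fun w hw => (LinearEquiv.symm_apply_eq _).2 (ha.2 w hw).symm⟩

theorem fix_bot : fix Φ ⊥ = Φ.Isom := by
  ext g; exact and_iff_left fun w hw => by simp [(Submodule.mem_bot F).1 hw]

variable [FiniteDimensional F V]

theorem sub_mem_hperp {W : Submodule F V} {e f : V} (h : Φ.IsHyp e f) (hW : W ≤ Φ.perp W) (he : e ∈ W) {w}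
    (hw : w ∈ W) : w - Φ.B w f • e ∈ Φ.hperp e f := by
  simpa [hW hw e he] using h.proj_mem w

theorem finrank_comap {W : Submodule F V} {e f : V} (h : Φ.IsHyp e f) (hW : W ≤ Φ.perp W) (he : e ∈ W) :
    finrank F (W.comap (Φ.hperp e f).subtype) + 1 = finrank F W := by
  have h1 : W = (W ⊓ Φ.hperp e f) ⊔ (F ∙ e) := by
    refine le_antisymm (fun w hw => ?_) (sup_le inf_le_left (by simpa using he))
    refine Submodule.mem_sup.2 ⟨_, ⟨W.sub_mem hw (W.smul_mem _ he), sub_mem_hperp h hW he hw⟩, Φ.B w f • e,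
      Submodule.smul_mem _ _ (Submodule.mem_span_singleton_self e), by simp⟩
  have h3 := Submodule.finrank_sup_span_singleton (p := W ⊓ Φ.hperp e f) (v := e) fun h3 => by
    simpa [h.hef] using (Φ.mem_hperp.1 h3.2).2
  rw [← h1] at h3
  rw [h3, ← Submodule.finrank_map_subtype_eq, Submodule.map_comap_subtype, inf_comm]

variable [Finite F]

theorem fix_step (hΦ : Φ.Nondeg) {W : Submodule F V} {e f : V} (h : Φ.IsHyp e f) (hW : W ≤ Φ.perp W) (he : e ∈ W)
    {k : ℕ} (hk : k + finrank F W + 1 = finrank F V) : Nat.card (fix Φ W) = Nat.card F ^ k * Nat.card K.T.ker *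
      Nat.card (fix (Φ.restrict (Φ.hperp e f)) (W.comap (Φ.hperp e f).subtype)) := by
  classical
  have hV := Module.finite_of_finite F (M := V)
  have hn : ∀ f', Φ.IsHyp e f' → f' ∉ W := fun f' h' hf => by simpa [h'.hef] using hW he f' hf
  rw [card_orb (fix Φ W) f (fun f' => Φ.IsHyp e f' ∧ ∀ w ∈ W, Φ.B w f = Φ.B w f') fun f' => ⟨fun h' => by
    obtain ⟨g, hg, h1, h2⟩ := hΦ.witt_step W (hn f h) (hn f' h'.1) h'.2 (h.hf.trans h'.1.hf.symm)
    exact ⟨g, ⟨Φ.elemSet_subset hg, h1⟩, h2⟩, fun ⟨g, hg, e'⟩ => ⟨e' ▸ hg.2 e he ▸ h.map hg.1, fun w hw => by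
      rw [← e', ← hg.1.1 w f, hg.2 w hw]⟩⟩]
  congr 1
  · set P := (Φ.restrict (Φ.hperp e f)).perp (W.comap (Φ.hperp e f).subtype)
    have e1 : (Σ y : P, {a : F // K.T a = - Φ.N y.1}) ≃ {f' // Φ.IsHyp e f' ∧ ∀ w ∈ W, Φ.B w f = Φ.B w f'} := by
      have h0 : ∀ w ∈ W, ∀ y : Φ.hperp e f, Φ.B w y = Φ.B (w - Φ.B w f • e) y := fun w hw y => by
        simp [Φ.B_symm_zero (Φ.mem_hperp.1 y.2).1]
      refine Equiv.ofBijective (fun p => ⟨p.2.1 • e + (1 : F) • f + p.1.1, ⟨h.he, by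
        rw [h.N_decomp _ _ p.1.1.2]; simp [p.2.2], by
        rw [Φ.symm, h.B_e _ _ p.1.1.2, one_mul, K.σε, K.εε]⟩, fun w hw => ?_⟩) ⟨?_, ?_⟩
      · have := (Φ.restrict _).mem_perp'.1 p.1.2 ⟨_, sub_mem_hperp h hW he hw⟩ (W.sub_mem hw (W.smul_mem _ he))
        rw [map_add, map_add, h0 w hw, show Φ.B (w - _) p.1.1.1 = 0 from this, Φ.B_smul_right, hW hw e he]; simp
      · rintro ⟨y, a, ha⟩ ⟨y', a', ha'⟩ hh
        have := h.coord.injective (a₁ := (a, 1, y.1)) (a₂ := (a', 1, y'.1)) (congrArg Subtype.val hh)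
        simp only [Prod.mk.injEq, Subtype.val_inj] at this
        obtain ⟨rfl, -, rfl⟩ := this; rfl
      · rintro ⟨v, hv, hv'⟩
        obtain ⟨a, b, y, hy, rfl⟩ := h.decomp v
        have h1 := hv.hf
        have h2 := hv.Bfe
        rw [h.N_decomp _ _ hy] at h1
        rw [h.B_e _ _ hy] at h2
        have hb : b = 1 := by simpa [K.ε_ne] using h2
        subst hb
        refine ⟨⟨⟨⟨y, hy⟩, (Φ.restrict _).mem_perp'.2 fun w hw => ?_⟩, a, by simpa [add_eq_zero_iff_eq_neg] using h1⟩, rfl⟩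
        have h3 : Φ.B w.1 e = 0 := hW hw e he
        simpa [Φ.B_smul_right, h3] using hv' _ hw
    have := Fintype.ofFinite P
    rw [← Nat.card_congr e1, Nat.card_sigma]
    have : ∀ y : P, Nat.card {a : F // K.T a = - Φ.N y.1} = Nat.card K.T.ker := fun y => by
      obtain ⟨b, hb⟩ := Φ.N_range y.1
      exact card_T_fiber ⟨- b, by rw [map_neg, hb]⟩
    have h1 : finrank F P + _ = _ := (h.nondeg_hperp hΦ).finrank_perp (W.comap (Φ.hperp e f).subtype)
    have h2 := finrank_comap h hW he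
    have h3 := h.finrank_hperp
    simp only [this, sum_const, card_univ, smul_eq_mul, ← Nat.card_eq_fintype_card,
      Module.natCard_eq_pow_finrank (K := F) (V := P), show finrank F P = k by omega]
  · symm
    refine Nat.card_congr (Equiv.ofBijective (fun g => ⟨⟨h.ext g.1, h.ext_mem g.2.1, fun w hw => ?_⟩, h.ext_f _⟩)
      ⟨fun a b hab => Subtype.ext (h.ext_injective (congrArg (fun x => x.1.1) hab)), ?_⟩)
    · have := h.ext_perp g.1 ⟨_, sub_mem_hperp h hW he hw⟩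
      rw [g.2.2 _ (W.sub_mem hw (W.smul_mem _ he)), map_sub, map_smul, h.ext_e] at this
      exact sub_left_injective this
    · rintro ⟨⟨g, hg⟩, hs⟩
      obtain ⟨g', hg', rfl⟩ := h.exists_ext hg.1 (hg.2 e he) hs
      exact ⟨⟨g', hg', fun w hw => Subtype.ext ((h.ext_perp g' w).symm.trans (hg.2 _ hw))⟩, rfl⟩

end Fix

section Ind
variable {F : Type*} [Field F] [Finite F]

/-- order of the symplectic group -/
def spc (q m : ℕ) : ℕ := q ^ (m ^ 2) * ∏ i ∈ range m, (q ^ (2 * (i + 1)) - 1)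

theorem fix_symp (r s : ℕ) : ∀ {V : Type u} [AddCommGroup V] [Module F V] [FiniteDimensional F V]
    (Φ : Form (Kind.symp F) V) (W : Submodule F V), Φ.Nondeg → W ≤ Φ.perp W → finrank F W = s →
    finrank F V = 2 * (r + s) → Nat.card (fix Φ W) = Nat.card F ^ (∑ i ∈ range s, (2 * r + i + 1)) * spc (Nat.card F) r := by
  induction s with
  | zero =>
    intro V _ _ _ Φ W hΦ _ h hV
    rw [Submodule.finrank_eq_zero.1 h, fix_bot, card_symp r Φ hΦ hV]; simp [spc]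
  | succ s ih =>
    intro V _ _ _ Φ W hΦ hW h hV
    obtain ⟨e, he, h0⟩ := W.exists_mem_ne_zero_of_ne_bot (by rintro rfl; simp at h)
    obtain ⟨f, hf⟩ := hΦ.exists_hyp h0 (Φ.symp_N e)
    have := finrank_comap hf hW he
    have := hf.finrank_hperp
    rw [fix_step hΦ hf hW he (k := 2 * r + s) (by omega), ih _ _ (hf.nondeg_hperp hΦ) (fun u hu w hw => hW hu _ hw)
      (by omega) (by omega), card_symp_ker, sum_range_succ]
    ring

theorem fix_TS (r s c : ℕ) (η : ℤ) (hc : ∀ {V : Type u} [AddCommGroup V] [Module F V] [FiniteDimensional F V]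
    (Φ : Form (Kind.orth F) V), Φ.Nondeg → Φ.IsType r η → Nat.card Φ.Isom = c) :
    ∀ {V : Type u} [AddCommGroup V] [Module F V] [FiniteDimensional F V]
    (Φ : Form (Kind.orth F) V) (W : Submodule F V), Φ.Nondeg → Φ.TS W → finrank F W = s →
    Φ.IsType (r + s) η → Nat.card (fix Φ W) = Nat.card F ^ (∑ i ∈ range s, (2 * r + i)) * c := by
  induction s with
  | zero =>
    intro V _ _ _ Φ W hΦ _ h hV
    rw [Submodule.finrank_eq_zero.1 h, fix_bot, hc Φ hΦ hV]; simp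
  | succ s ih =>
    intro V _ _ _ Φ W hΦ hW h hV
    obtain ⟨e, he, h0⟩ := W.exists_mem_ne_zero_of_ne_bot (by rintro rfl; simp at h)
    obtain ⟨f, hf⟩ := hΦ.exists_hyp h0 (hW.1 e he)
    have := finrank_comap hf hW.le_perp he
    have := hV.1
    rw [fix_step hΦ hf hW.le_perp he (k := 2 * r + s) (by omega), ih _ _ (hf.nondeg_hperp hΦ)
      ⟨fun w hw => hW.1 _ hw, fun u hu w hw => hW.2 _ hu _ hw⟩ (by omega) ((hf.isType_iff _ _).1 hV),
      card_orth_ker, sum_range_succ]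
    ring

theorem cnt_two {V : Type*} [AddCommGroup V] [Module F V] [FiniteDimensional F V] (Φ : Form (Kind.orth F) V)
    (h2 : (2 : F) = 0) {c : F} (hc : c ≠ 0) : Φ.cnt 0 + (Nat.card F - 1) * Φ.cnt c = Nat.card V := by
  classical
  have hV := Module.finite_of_finite F (M := V)
  have := Fintype.ofFinite F
  have h1 : ∀ d, d ≠ 0 → Φ.cnt d = Φ.cnt c := fun d hd => by
    obtain ⟨a, ha⟩ := exists_sq_of_two h2 (c / d)
    have h0 : a ≠ 0 := fun h => div_ne_zero hc hd (by rw [← ha, h]; simp)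
    exact Nat.card_congr ((LinearEquiv.smulOfNeZero F V a h0).toEquiv.subtypeEquiv fun v => by
      change _ ↔ Φ.N (a • v) = c
      rw [Φ.orth_N_smul, ha, div_mul_eq_mul_div, div_eq_iff hd, mul_right_inj' hc])
  rw [← Nat.card_congr (Equiv.sigmaFiberEquiv Φ.N), Nat.card_sigma, ← add_sum_erase _ _ (mem_univ 0),
    sum_congr (f := fun d => Nat.card {v // Φ.N v = d}) rfl fun d hd => h1 d (ne_of_mem_erase hd)]
  simp [cnt]

theorem fix_vec {V : Type u} [AddCommGroup V] [Module F V] [FiniteDimensional F V] {Φ : Form (Kind.orth F) V}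
    (h2 : (2 : F) = 0) (hΦ : Φ.Nondeg) {r : ℕ} (hV : finrank F V = 2 * (r + 1)) {v : V} (hv : Φ.N v ≠ 0) :
    Nat.card (fix Φ (F ∙ v)) = 2 * spc (Nat.card F) r := by
  have h0 : v ≠ 0 := by rintro rfl; simp at hv
  have h1 := card_orb Φ.Isom v (Φ.N · = Φ.N v) fun w => ⟨fun h => hΦ.exists_isom_vec h0 (by
    rintro rfl; exact hv (by simpa using h.symm)) h.symm, fun ⟨g, hg, e⟩ => e ▸ hg.2 v⟩
  rw [show Nat.card {g : Φ.Isom // g.1 v = v} = Nat.card (fix Φ (F ∙ v)) from Nat.card_congr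
    ⟨fun g => ⟨g.1.1, g.1.2, fun w hw => by
      obtain ⟨a, rfl⟩ := Submodule.mem_span_singleton.1 hw
      rw [map_smul, g.2]⟩, fun g => ⟨⟨g.1, g.2.1⟩, g.2.2 v (Submodule.mem_span_singleton_self v)⟩,
      fun _ => rfl, fun _ => rfl⟩] at h1
  obtain ⟨η, hη, ht⟩ : ∃ η : ℤ, (η = 1 ∨ η = -1) ∧ Φ.IsType (r + 1) η :=
    (exists_isType _ Φ hΦ hV).elim (fun h => ⟨_, .inl rfl, h⟩) fun h => ⟨_, .inr rfl, h⟩
  have h3 := card_orth_even hη r Φ hΦ ht
  have h4 := cnt_two Φ h2 hv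
  have h5 := ht.cnt_sub_one hη
  have hq : 1 < Nat.card F := Finite.one_lt_card
  have hq' : ∀ i, 1 ≤ Nat.card F ^ (2 * (i + 1)) := fun i => Nat.one_le_pow _ _ (by omega)
  rw [Module.natCard_eq_pow_finrank (K := F) (V := V), hV] at h4
  change _ = Φ.cnt (Φ.N v) * _ at h1
  unfold spc
  zify [hq.le, hq'] at h1 h4 hq ⊢
  generalize (Nat.card F : ℤ) = q at *
  have h6 : η ^ 2 = 1 := by rcases hη with rfl | rfl <;> simp
  have h7 : (Φ.cnt (Φ.N v) : ℤ) = q ^ r * (q ^ (r + 1) - η) :=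
    mul_left_cancel₀ (a := q - 1) (by omega) (by linear_combination h4 - h5 + h6)
  have h8 : q ^ r * (q ^ (r + 1) - η) ≠ 0 := by
    have : 1 < q ^ (r + 1) := one_lt_pow₀ hq (by omega)
    exact mul_ne_zero (by positivity) (by omega)
  refine mul_left_cancel₀ h8 ?_
  rw [← h7, ← h1, h3, h7]; ring

theorem fix_nTS (h2 : (2 : F) = 0) (r s : ℕ) : ∀ {V : Type u} [AddCommGroup V] [Module F V] [FiniteDimensional F V]
    (Φ : Form (Kind.orth F) V) (W : Submodule F V), Φ.Nondeg → W ≤ Φ.perp W → ¬ Φ.TS W → finrank F W = s + 1 →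
    finrank F V = 2 * (r + s + 1) →
    Nat.card (fix Φ W) = Nat.card F ^ (∑ i ∈ range s, (2 * r + i + 1)) * (2 * spc (Nat.card F) r) := by
  induction s with
  | zero =>
    intro V _ _ _ Φ W hΦ _ hT h hV
    obtain ⟨v, hv, h0⟩ : ∃ v ∈ W, Φ.N v ≠ 0 := by
      by_contra hc; push Not at hc; exact hT (TS_orth hc)
    rw [← Submodule.eq_of_le_of_finrank_eq ((Submodule.span_singleton_le_iff_mem v W).2 hv)
      (by rw [h, finrank_span_singleton (by rintro rfl; simp at h0)]), fix_vec h2 hΦ hV h0]; simp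
  | succ s ih =>
    intro V _ _ _ Φ W hΦ hW hT h hV
    obtain ⟨φ, hφ⟩ := exists_sqrt_lin (V := W) h2 (fun v => Φ.N v) (fun a b => Φ.N_add_of_orth (hW a.2 _ b.2))
      fun c v => Φ.orth_N_smul c v
    obtain ⟨e, he, h0⟩ := exists_ker_notMem φ ⊥ (by simp [h])
    obtain ⟨f, hf⟩ := hΦ.exists_hyp (e := e) (by simpa using h0) (by rw [← hφ, he]; simp)
    have := finrank_comap hf hW e.2
    have := hf.finrank_hperp
    rw [fix_step hΦ hf hW e.2 (k := 2 * r + s + 1) (by omega), ih _ _ (hf.nondeg_hperp hΦ) (fun u hu w hw => hW hu _ hw)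
      (fun h' => hT (TS_orth fun w hw => ?_)) (by omega) (by omega), card_orth_ker, sum_range_succ]
    · ring
    have := h'.1 ⟨_, sub_mem_hperp hf hW e.2 hw⟩ (W.sub_mem hw (W.smul_mem _ e.2))
    simpa [Φ.N_sub, Φ.orth_N_smul, hf.he, Φ.orth_B_smul, hW hw e e.2] using this

end Ind

section Beta
variable {F : Type*} {W : Type u} [Field F] [AddCommGroup W] [Module F W]

/-- isometries of a bilinear form -/
def isoB (β : LinearMap.BilinForm F W) : Subgroup (W ≃ₗ[F] W) where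
  carrier := {e | ∀ x y, β (e x) (e y) = β x y}
  mul_mem' ha hb x y := (ha _ _).trans (hb x y)
  one_mem' _ _ := rfl
  inv_mem' {a} ha x y := by simpa using (ha (a⁻¹ x) (a⁻¹ y)).symm

variable [FiniteDimensional F W] [Finite F] {β : LinearMap.BilinForm F W}

theorem card_isoB_alt (h : ∀ v, (∀ u, β u v = 0) → v = 0) (ha : ∀ v, β v v = 0) {r : ℕ} (hr : finrank F W = 2 * r) :
    Nat.card (isoB β) = spc (Nat.card F) r := by
  rw [show isoB β = (ofAlt β ha).Isom from Subgroup.ext fun _ => (mem_Isom_symp (Φ := ofAlt β ha)).symm]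
  exact card_symp r _ h hr

theorem card_isoB_nonalt (h2 : (2 : F) = 0) (hs : ∀ u v, β u v = β v u) (h : ∀ v, (∀ u, β u v = 0) → v = 0)
    (ha : ¬ ∀ v, β v v = 0) : (∀ r, finrank F W = 2 * r + 1 → Nat.card (isoB β) = spc (Nat.card F) r) ∧
      ∀ r, finrank F W = 2 * r + 2 → Nat.card (isoB β) = Nat.card F ^ (2 * r + 1) * spc (Nat.card F) r := by
  haveI : CharP F 2 := CharTwo.of_one_ne_zero_of_two_eq_zero one_ne_zero h2
  obtain ⟨φ, hφ⟩ := exists_sqrt_lin h2 (fun v => β v v)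
    (fun u v => by simp only [map_add, LinearMap.add_apply, hs v u]; linear_combination β u v * h2)
    fun c v => by simp only [map_smul, LinearMap.smul_apply, smul_eq_mul]; ring
  obtain ⟨c, hc⟩ : ∃ c, ∀ x, β x c = φ x :=
    ⟨(β.toDual (nondeg_of hs h)).symm φ, fun x => by rw [hs, LinearMap.BilinForm.apply_toDual_symm_apply]⟩
  have h0 : c ≠ 0 := fun e => ha fun v => by rw [← hφ, ← hc, e]; simp
  have h1 : ∀ g ∈ isoB β, ∀ x, φ (g x) = φ x := fun g hg x => CharTwo.sq_injective (by simp only [hφ, hg x x])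
  have h3 : ∀ g ∈ isoB β, g c = c := fun g hg => sub_eq_zero.1 (h _ fun u => by
    obtain ⟨u, rfl⟩ := g.surjective u
    rw [map_sub, hg, hc, hc, h1 g hg, sub_self])
  by_cases h4 : φ c = 0
  · let γ := β + (LinearMap.mul F F).compl₁₂ φ φ
    have hγ : ∀ x y, γ x y = β x y + φ x * φ y := fun _ _ => rfl
    have h5 : γ.IsAlt := fun v => by rw [hγ, ← hφ, sq, CharTwo.add_self_eq_zero]
    have h6 : ∀ v, (∀ u, γ u v = 0) → v = 0 := fun v hv => by
      have : φ v = 0 := by simpa [hγ, h4, hs c, hc] using hv c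
      exact h v fun u => by simpa [hγ, this] using hv u
    obtain ⟨k, hk⟩ := even_of_alt h6 h5
    refine ⟨fun r hr => by omega, fun r hr => ?_⟩
    have := fix_symp r 1 (ofAlt γ h5) (F ∙ c) h6 (by simp [mem_perp_singleton, h5 c]) (finrank_span_singleton h0) hr
    rw [sum_range_one] at this
    rw [← this]
    congr 2
    ext g
    refine ⟨fun hg => ⟨mem_Isom_symp.2 fun x y => by simp only [ofAlt_B, hγ, hg x y, h1 g hg], fun w hw => by
      obtain ⟨a, rfl⟩ := Submodule.mem_span_singleton.1 hw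
      rw [map_smul, h3 g hg]⟩, fun hg x y => ?_⟩
    have h7 : ∀ x, φ (g x) = φ x := fun x => by
      simpa [hγ, hg.2 c (Submodule.mem_span_singleton_self c), h4, hc] using hg.1.1 x c
    simpa [hγ, h7] using hg.1.1 x y
  have hc' : IsCompl (F ∙ c) (LinearMap.ker φ) := ⟨(Submodule.disjoint_span_singleton' h0 |>.2 h4).symm,
    codisjoint_iff_le_sup.2 fun x _ => Submodule.mem_sup.2 ⟨(φ x / φ c) • c, Submodule.smul_mem _ _
      (Submodule.mem_span_singleton_self c), x - (φ x / φ c) • c, by simp [h4], by simp⟩⟩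
  have h5 : ∀ v : LinearMap.ker φ, β.restrict _ v v = 0 := fun v => by simp [← hφ, LinearMap.mem_ker.1 v.2]
  have h7 : ∀ (a : F ∙ c) (y : LinearMap.ker φ), β y a = 0 := fun a y => by
    obtain ⟨a, ha⟩ := Submodule.mem_span_singleton.1 a.2
    simp [← ha, hc, LinearMap.mem_ker.1 y.2]
  have h6 : ∀ v : LinearMap.ker φ, (∀ u, β.restrict _ u v = 0) → v = 0 := fun v hv => Subtype.ext (h _ fun u => by
    obtain ⟨a, y, rfl⟩ := exists_add_of_isCompl hc' u
    rw [map_add, LinearMap.add_apply, hs, h7, zero_add]; exact hv y)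
  obtain ⟨k, hk⟩ := even_of_alt h6 h5
  have h8 := Submodule.finrank_add_eq_of_isCompl hc'
  rw [finrank_span_singleton h0] at h8
  refine ⟨fun r hr => ?_, fun r hr => by omega⟩
  rw [← card_isoB_alt h6 h5 (r := r) (by omega)]
  symm
  refine Nat.card_congr (Equiv.ofBijective (fun g => ⟨glue hc' (1, g.1), fun x y => ?_⟩)
    ⟨fun a b e => Subtype.ext (congrArg Prod.snd (glue_injective hc' (congrArg Subtype.val e)) :), fun ⟨g, hg⟩ => ?_⟩)
  · obtain ⟨a, x, rfl⟩ := exists_add_of_isCompl hc' x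
    obtain ⟨b, y, rfl⟩ := exists_add_of_isCompl hc' y
    have : β (g.1 x) (g.1 y) = β x y := g.2 x y
    simp [glue_add, h7, hs a.1 (_ : LinearMap.ker φ), this]
  refine ⟨⟨res g _ fun v => by simp [h1 g hg], fun x y => hg x y⟩, Subtype.ext (LinearEquiv.ext fun x => ?_)⟩
  obtain ⟨a, x, rfl⟩ := exists_add_of_isCompl hc' x
  obtain ⟨b, hb⟩ := Submodule.mem_span_singleton.1 a.2
  rw [glue_add, map_add]
  simp [← hb, h3 g hg]

end Beta

section Cent
variable {F V : Type*} [Field F] [AddCommGroup V] [Module F V] {K : Kind F} {Φ : Form K V} [FiniteDimensional F V]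
  {t : V ≃ₗ[F] V}

theorem SO2.card_cent (H : SO2 K) (hΦ : Φ.Nondeg) (ht : t ∈ Φ.Isom) :
    Nat.card ↥(Φ.Isom ⊓ Subgroup.centralizer {t}) = Nat.card (isoB (H.bil (wB Φ t))) * Nat.card (fix Φ (im t)) := by
  have h0 : ∀ {g : V ≃ₗ[F] V}, g ∈ Subgroup.centralizer {t} ↔ g * t * g⁻¹ = t := by
    simp [Subgroup.mem_centralizer_singleton_iff, mul_inv_eq_iff_eq_mul]
  have h1 : ∀ g : ↥(Φ.Isom ⊓ Subgroup.centralizer {t}), ∀ v, v ∈ im t ↔ g.1 v ∈ im t := fun g =>
    stab_iff_map_eq.2 (by rw [← im_conj, h0.1 g.2.2])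
  let ρ : ↥(Φ.Isom ⊓ Subgroup.centralizer {t}) →* (im t ≃ₗ[F] im t) :=
    { toFun g := res g.1 _ (h1 g), map_one' := rfl, map_mul' _ _ := rfl }
  rw [card_hom ρ]
  congr 1
  · congr 2
    ext e
    refine ⟨fun ⟨g, hg⟩ x y => ?_, fun he => ?_⟩
    · subst hg
      have := dl_conj g.1 t (sec t x)
      rw [h0.1 g.2.2, dl_sec] at this
      rw [SO2.bil_apply, SO2.bil_apply, wB_apply, wB_apply, B_sec ht (x := ρ g x) this (ρ g y).2]
      exact g.2.1.1 _ _
    · obtain ⟨g, hg, a, b⟩ := wall hΦ ht ht e he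
      exact ⟨⟨g, hg, h0.2 b⟩, LinearEquiv.ext fun x => Subtype.ext (a x)⟩
  · exact Nat.card_congr ⟨fun g => ⟨g.1.1, g.1.2.1, fun w hw => congrArg (fun e : im t ≃ₗ[F] im t => (e ⟨w, hw⟩).1) g.2⟩,
      fun g => ⟨⟨g.1, g.2.1, h0.2 (conj_eq_of hΦ ht ht 1 (fun _ _ => rfl) g.2.1 fun x => g.2.2 _ x.2)⟩,
        LinearEquiv.ext fun x => Subtype.ext (g.2.2 _ x.2)⟩, fun _ => rfl, fun _ => rfl⟩

theorem two_sum (r s : ℕ) : 2 * ∑ i ∈ range s, (2 * r + i) + s = 4 * (r * s) + s ^ 2 := by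
  induction s with
  | zero => simp
  | succ s ih => rw [sum_range_succ]; linear_combination ih

theorem two_sum' (r s : ℕ) : 2 * ∑ i ∈ range s, (2 * r + i + 1) = 4 * (r * s) + s ^ 2 + s := by
  rw [sum_add_distrib, ← two_sum]; simp; ring

variable [Finite F] {Φ : Form (Kind.orth F) V}

theorem om_cent_half (h2 : (2 : F) = 0) (hG : Φ.Good) (hΦ : Φ.Nondeg) (ht : t ∈ Φ.Isom) (h : t * t = 1)
    (h1 : ¬ Φ.MTS (im t)) : Nat.card ↥(Φ.Isom ⊓ Subgroup.centralizer {t}) =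
      2 * Nat.card ↥(⁅Φ.Isom, Φ.Isom⁆ ⊓ Subgroup.centralizer {t}) := by
  let ρ := (hG.dick hΦ).comp (Subgroup.inclusion (inf_le_left : Φ.Isom ⊓ Subgroup.centralizer {t} ≤ _))
  obtain ⟨v, hv, e⟩ := exists_refl_comm h2 hΦ ht h h1
  rw [card_hom ρ, show ρ.range = ⊤ from eq_top_iff.2 fun x _ => (Int.units_eq_one_or x).elim (· ▸ one_mem _) fun a =>
    ⟨⟨_, Φ.refl_mem v hv, Subgroup.mem_centralizer_singleton_iff.2 (mul_inv_eq_iff_eq_mul.1 e)⟩,
      a ▸ hG.dick_refl hΦ v hv⟩]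
  congr 1
  · simp
  exact Nat.card_congr ⟨fun g => ⟨g.1.1, (mem_om h2 hG hΦ g.1.2.1).2 g.2, g.1.2.2⟩,
    fun g => ⟨⟨g.1, om_le g.2.1, g.2.2⟩, (mem_om h2 hG hΦ _).1 g.2.1⟩, fun _ => rfl, fun _ => rfl⟩

theorem om_cent_mts (h2 : (2 : F) = 0) (hG : Φ.Good) (hΦ : Φ.Nondeg) (h1 : Φ.MTS (im t)) :
    ⁅Φ.Isom, Φ.Isom⁆ ⊓ Subgroup.centralizer {t} = Φ.Isom ⊓ Subgroup.centralizer {t} :=
  le_antisymm (inf_le_inf_right _ om_le) fun g hg => ⟨(mem_om h2 hG hΦ hg.1).2 ((Ort.even_iff_dick hG hΦ h1 _).1 (by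
    rw [← im_conj, mul_inv_eq_iff_eq_mul.2 (Subgroup.mem_centralizer_singleton_iff.1 hg.2), inf_idem]
    exact ⟨_, rfl⟩)), hg.2⟩

end Cent

theorem card_Om_comm {F : Type*} [Field F] {ι : Type} [Fintype ι] [DecidableEq ι] (Φ : Form (Kind.orth F) (ι → F))
    (x : Cfsg.isometryGroup F Φ.N) : Nat.card {g : Cfsg.Omega F Φ.N // g.1 * x = x * g.1} =
      Nat.card ↥(⁅Φ.Isom, Φ.Isom⁆ ⊓ Subgroup.centralizer {(orthEquiv Φ x).1}) :=
  Nat.card_congr (Equiv.ofBijective (fun g => ⟨(orthEquiv Φ g.1.1).1, (mem_Om Φ _).1 g.1.2,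
    Subgroup.mem_centralizer_singleton_iff.2 (by rw [← Subgroup.coe_mul, ← map_mul, g.2]; simp)⟩)
    ⟨fun a b h => Subtype.ext (Subtype.ext ((orthEquiv Φ).injective (Subtype.ext (congrArg (·.1) h)))),
    fun ⟨g, h1, h2⟩ => by
      obtain ⟨c, hc⟩ := (orthEquiv Φ).surjective ⟨g, comm_le_self _ h1⟩
      exact ⟨⟨⟨c, (mem_Om Φ c).2 (hc ▸ h1)⟩, (orthEquiv Φ).injective (Subtype.ext (by
        simpa [hc] using Subgroup.mem_centralizer_singleton_iff.1 h2))⟩, Subtype.ext (congrArg (·.1) hc)⟩⟩)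

end Cfsg.Agent.Perm.Inv
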