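import Mathlib
import Cfsg.Agent.Lib.Perm.Cj2
import Cfsg.Agent.Lib.Perm.Inv6

set_option autoImplicit false

namespace Cfsg.Agent.Perm.Cj
open Module Polynomial Cfsg.Agent.Classical Cfsg.Agent.Classical.Form

section H90
variable {R : Type*} [CommRing R] [Finite R] (τ : R →+* R) (hτ : ∀ a, τ (τ a) = a) {θ : R} (hθ : IsUnit (θ - τ θ))
include hτ hθ

theorem h90_comm {x : R} (hx : x * τ x = 1) : ∃ c, IsUnit c ∧ c = x * τ c := by
  classical
  have h0 : ∀ r, r + x * τ r = x * τ (r + x * τ r) := fun r => by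
    rw [map_add, map_mul, hτ]; linear_combination -r * hx
  have key : ∀ S : Finset (MaximalSpectrum R), ∃ c, c = x * τ c ∧ ∀ m ∈ S, c ∉ m.asIdeal := fun S => by
    induction S using Finset.induction_on with
    | empty => exact ⟨0, by simp, by simp⟩
    | insert m S _ ih =>
      obtain ⟨c, hc, hS⟩ := ih
      by_cases hm : c ∈ m.asIdeal
      swap
      · exact ⟨c, hc, by simpa [hm] using hS⟩
      have hp := m.isMaximal.isPrime
      have h1 : τ c ∈ m.asIdeal := by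
        rw [hc, map_mul, hτ]; exact Ideal.mul_mem_left _ _ hm
      obtain ⟨d, hd, hd'⟩ : ∃ d, d = x * τ d ∧ d ∉ m.asIdeal := by
        by_contra h
        push Not at h
        exact hp.ne_top (Ideal.eq_top_of_isUnit_mem _ (by
          convert m.asIdeal.sub_mem (h _ (h0 θ)) (m.asIdeal.mul_mem_left (τ θ) (h _ (h0 1))) using 1
          simp; ring) hθ)
      have h2 : ∀ n ∈ S, ∃ e ∈ n.asIdeal, e ∉ m.asIdeal ∧ τ e ∉ m.asIdeal := fun n hn => by
        by_contra h
        push Not at h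
        rcases (Ideal.subset_union (I := n.asIdeal) (J := m.asIdeal) (K := m.asIdeal.comap τ)).1
          (fun e he => (em _).imp_right (h e he)) with h | h
        · exact hS n hn (n.isMaximal.eq_of_le hp.ne_top h ▸ hm)
        · exact hS n hn (n.isMaximal.eq_of_le (Ideal.comap_ne_top τ hp.ne_top) h ▸ h1)
      choose! e he using h2
      have h3 : ∀ f : MaximalSpectrum R → R, (∀ n ∈ S, f n ∉ m.asIdeal) → ∏ n ∈ S, f n ∉ m.asIdeal := fun f h h' =>
        let ⟨n, a, b⟩ := Ideal.IsPrime.prod_mem_iff.1 h'; h n a b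
      refine ⟨c + (∏ n ∈ S, e n) * τ (∏ n ∈ S, e n) * d, ?_, fun n hn h => ?_⟩
      · rw [map_add, map_mul, map_mul, hτ]; linear_combination hc + (∏ n ∈ S, e n) * τ (∏ n ∈ S, e n) * hd
      rcases Finset.mem_insert.1 hn with rfl | hn
      · rw [Ideal.add_mem_iff_right _ hm, map_prod] at h
        exact (hp.mem_or_mem h).elim (fun h => (hp.mem_or_mem h).elim (h3 _ fun n a => (he n a).2.1)
          (h3 _ fun n a => (he n a).2.2)) hd'
      · exact hS n hn ((Ideal.add_mem_iff_left _ (Ideal.mul_mem_right _ _ (Ideal.mul_mem_right _ _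
          (Ideal.prod_mem _ hn (he n hn).1)))).1 h)
  have := Fintype.ofFinite (MaximalSpectrum R)
  obtain ⟨c, h1, h2⟩ := key Finset.univ
  refine ⟨c, by_contra fun h => ?_, h1⟩
  obtain ⟨m, hm, hc⟩ := exists_max_ideal_of_mem_nonunits h
  exact h2 ⟨m, hm⟩ (Finset.mem_univ _) hc

theorem norm_comm {h : R} (hu : IsUnit h) (hh : τ h = h) : ∃ c, τ c * c = h := by
  let τ' : Rˣ →* Rˣ := Units.map τ
  have h1 := Inv.card_hom (τ' * MonoidHom.id _)
  have h2 := Inv.card_hom (MonoidHom.id _ / τ')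
  rw [show (MonoidHom.id Rˣ / τ').range = (τ' * MonoidHom.id Rˣ).ker from le_antisymm (by
    rintro _ ⟨c, rfl⟩
    have : τ' (τ' c) = c := Units.ext (hτ c)
    simp [this]) fun x hx => by
      obtain ⟨c, ⟨c, rfl⟩, hc⟩ := h90_comm τ hτ hθ (x := x) ((mul_comm _ _).trans (congrArg Units.val hx))
      exact ⟨c, div_eq_iff_eq_mul.2 (Units.ext hc)⟩, h1, mul_comm, Nat.mul_right_inj Nat.card_pos.ne'] at h2
  have h3 := Subgroup.eq_of_le_of_card_ge (H := (τ' * MonoidHom.id _).range) (K := (MonoidHom.id _ / τ').ker) (by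
    rintro _ ⟨c, rfl⟩
    have : τ' (τ' c) = c := Units.ext (hτ c)
    simp [this, mul_comm]) h2.ge
  obtain ⟨c, hc⟩ : hu.unit ∈ (τ' * MonoidHom.id _).range := h3 ▸ div_eq_one.2 (Units.ext hh.symm)
  exact ⟨c, congrArg Units.val hc⟩

end H90

theorem h90 {A : Type*} [Ring A] [Finite A] (τ : A →+ A) (h1 : τ 1 = 1) (hm : ∀ a b, τ (a * b) = τ b * τ a)
    (S : Set A) (hS : ∀ x ∈ S, ∀ y ∈ S, x * y = y * x) (hτ : ∀ a ∈ S, τ a ∈ S ∧ τ (τ a) = a) {θ : A} (h : θ ∈ S)
    (hθ : IsUnit (θ - τ θ)) : (∀ x ∈ S, x * τ x = 1 → ∃ c ∈ Subring.closure S, IsUnit c ∧ c = x * τ c) ∧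
      ∀ x ∈ S, IsUnit x → τ x = x → ∃ c ∈ Subring.closure S, τ c * c = x := by
  open scoped IsMulCommutative in
  have := Subring.isMulCommutative_closure hS
  have h2 : ∀ a ∈ Subring.closure S, τ a ∈ Subring.closure S ∧ τ (τ a) = a := fun a ha => by
    induction ha using Subring.closure_induction with
    | mem x hx => exact ⟨Subring.subset_closure (hτ x hx).1, (hτ x hx).2⟩
    | zero => simp
    | one => simp [h1]
    | add x y _ _ a b => exact ⟨map_add τ x y ▸ add_mem a.1 b.1, by simp [a.2, b.2]⟩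
    | neg x _ a => exact ⟨map_neg τ x ▸ neg_mem a.1, by simp [a.2]⟩
    | mul x y _ _ a b => exact ⟨hm x y ▸ mul_mem b.1 a.1, by simp [hm, a.2, b.2]⟩
  let ρ : Subring.closure S →+* Subring.closure S :=
    { toFun a := ⟨τ a, (h2 a a.2).1⟩, map_one' := Subtype.ext h1, map_zero' := Subtype.ext (map_zero τ)
      map_add' a b := Subtype.ext (map_add τ _ _)
      map_mul' a b := by rw [mul_comm]; exact Subtype.ext (hm _ _) |>.trans (mul_comm _ _) |>.trans (mul_comm _ _) }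
  have h3 : ∀ a : Subring.closure S, IsUnit a.1 → IsUnit a := fun a ha =>
    IsLeftRegular.isUnit_of_finite fun x y e => Subtype.ext (ha.mul_left_cancel (congrArg Subtype.val e))
  have h4 := h3 (⟨θ, Subring.subset_closure h⟩ - ρ ⟨θ, Subring.subset_closure h⟩) hθ
  refine ⟨fun x hx e => ?_, fun x hx a e => ?_⟩
  · obtain ⟨c, a, b⟩ := h90_comm ρ (fun a => Subtype.ext (h2 a a.2).2) h4 (x := ⟨x, Subring.subset_closure hx⟩)
      (Subtype.ext e)
    exact ⟨c, c.2, a.map (Subring.subtype _), congrArg Subtype.val b⟩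
  · obtain ⟨c, b⟩ := norm_comm ρ (fun a => Subtype.ext (h2 a a.2).2) h4 (h3 ⟨x, Subring.subset_closure hx⟩ a)
      (Subtype.ext e)
    exact ⟨c, c.2, congrArg Subtype.val b⟩

theorem comm_of_closure {A : Type*} [Ring A] {S : Set A} {c t : A} (hc : c ∈ Subring.closure S)
    (h : ∀ x ∈ S, t * x = x * t) : c * t = t * c :=
  (Subring.closure_le (t := Subring.centralizer {t}).2 (fun x hx _ hy => hy ▸ h x hx) hc t rfl).symm

section Adj
variable {F V : Type*} [Field F] [Finite F] [AddCommGroup V] [Module F V] [FiniteDimensional F V] {σ : F →+* F}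
  (hσ : ∀ a, σ (σ a) = a) {B : V →ₗ[F] V →ₛₗ[σ] F} (hB : ∀ v, (∀ u, B u v = 0) → v = 0)
include hσ hB

theorem exists_rep (B' : V →ₗ[F] V →ₛₗ[σ] F) : ∃ h : End F V, ∀ u v, B u (h v) = B' u v := by
  have : RingHomInvPair σ σ := ⟨RingHom.ext hσ, RingHom.ext hσ⟩
  have : RingHomSurjective σ := ⟨fun a => ⟨σ a, hσ a⟩⟩
  have hi : Function.Injective B.flip := (injective_iff_map_eq_zero _).2 fun v hv => hB v (LinearMap.congr_fun hv)
  have := Module.finite_of_finite F (M := V →ₗ[F] F)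
  have hs : Function.Surjective B.flip := ((Nat.bijective_iff_injective_and_card _).2
    ⟨hi, Nat.card_congr (finBasis F V).toDualEquiv.toEquiv⟩).2
  exact ⟨(LinearEquiv.ofBijective B.flip ⟨hi, hs⟩).symm.toLinearMap ∘ₛₗ B'.flip, fun u v =>
    LinearMap.congr_fun ((LinearEquiv.ofBijective B.flip ⟨hi, hs⟩).apply_symm_apply (B'.flip v)) u⟩

theorem exists_adj : ∃ τ : End F V →+ End F V, τ 1 = 1 ∧ (∀ a b, τ (a * b) = τ b * τ a) ∧
    (∀ f u v, B u (τ f v) = B (f u) v) ∧ ∀ f g : End F V, (∀ u v, B u (g v) = B (f u) v) → τ f = g := by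
  choose τ hτ using fun f : End F V => exists_rep hσ hB (B ∘ₗ f)
  have h : ∀ f g : End F V, (∀ u v, B u (g v) = B (f u) v) → τ f = g := fun f g h => LinearMap.ext fun v =>
    sub_eq_zero.1 (hB _ fun u => by simp [hτ, h])
  exact ⟨⟨⟨τ, h _ _ (by simp)⟩, fun a b => h _ _ (by simp [hτ])⟩, h _ _ (by simp), fun a b => h _ _ (by simp [hτ]), hτ, h⟩

omit hB in
theorem h90_t {τ : End F V →+ End F V} (h1 : τ 1 = 1) (hm : ∀ a b, τ (a * b) = τ b * τ a)
    (h3 : ∀ f g : End F V, (∀ u v, B u (g v) = B (f u) v) → τ f = g) {t : V ≃ₗ[F] V}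
    (ht : ∀ u v, B (t u) (t v) = B u v) (h : σ ≠ RingHom.id F ∨ ∀ v, t (t v) = v → v = 0) {k : End F V}
    (h4 : τ (τ k) = k) (h5 : k * τ k = τ k * k) (h6 : k * t = t * k) :
    (k * τ k = 1 → ∃ c : End F V, c * t = t * c ∧ IsUnit c ∧ c = k * τ c) ∧
      (IsUnit k → τ k = k → ∃ c : End F V, c * t = t * c ∧ τ c * c = k) := by
  have := Module.finite_of_finite F (M := End F V)
  have := Module.finite_of_finite F (M := V)
  have h7 : k * t.symm = t.symm * k := LinearMap.ext fun v => t.injective (by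
    simpa using (LinearMap.congr_fun h6 (t.symm v)).symm)
  have h8 : τ t = t.symm := h3 _ _ fun u v => by simp [← ht u]
  have h9 : τ t.symm = t := h3 _ _ fun u v => by simp [← ht (t.symm u)]
  have h10 : ∀ a, τ (algebraMap F _ a) = algebraMap F _ (σ a) := fun a => h3 _ _ fun u v => by simp [hσ]
  have h11 : (t : End F V) * t.symm = t.symm * t := LinearMap.ext fun v => by simp
  have h12 : τ k * t = t * τ k := by rw [← h9, ← hm, ← hm, h7]
  have h13 : τ k * t.symm = t.symm * τ k := by rw [← h8, ← hm, ← hm, h6]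
  obtain ⟨a, θ, hθ, hu⟩ : ∃ a, ∃ θ ∈ ({k, τ k, (t : End F V), (t.symm : End F V), algebraMap F _ a,
      algebraMap F _ (σ a)} : Set (End F V)), IsUnit (θ - τ θ) := by
    rcases h with h | h
    · obtain ⟨a, ha⟩ := not_forall.1 fun h' => h (RingHom.ext h')
      exact ⟨a, algebraMap F _ a, by simp, by rw [h10, ← map_sub]; exact (sub_ne_zero.2 (Ne.symm ha)).isUnit.map _⟩
    · exact ⟨0, t, by simp, (Module.End.isUnit_iff _).2 (by
        rw [← Finite.injective_iff_bijective, injective_iff_map_eq_zero]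
        exact fun v hv => h v (by simpa [h8, sub_eq_zero] using congrArg t hv))⟩
  have := h90 τ h1 hm _ (by simp [h5, h6, h7, h11, h12, h13, Algebra.commutes, ← map_mul, mul_comm])
    (by simp [h4, h8, h9, h10, hσ]) hθ hu
  refine ⟨fun e => ?_, fun a e => ?_⟩
  · obtain ⟨c, hc, e⟩ := this.1 k (by simp) e
    exact ⟨c, comm_of_closure hc (by simp [h6, h11, h12, Algebra.commutes]), e⟩
  · obtain ⟨c, hc, e⟩ := this.2 k (by simp) a e
    exact ⟨c, comm_of_closure hc (by simp [h6, h11, h12, Algebra.commutes]), e⟩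

theorem exists_norm {B' : V →ₗ[F] V →ₛₗ[σ] F} (hB' : ∀ v, (∀ u, B' u v = 0) → v = 0) {ε : F}
    (hs : ∀ u v, B v u = ε * σ (B u v)) (hs' : ∀ u v, B' v u = ε * σ (B' u v)) {t : V ≃ₗ[F] V}
    (ht : ∀ u v, B (t u) (t v) = B u v) (ht' : ∀ u v, B' (t u) (t v) = B' u v)
    (h : σ ≠ RingHom.id F ∨ ∀ v, t (t v) = v → v = 0) :
    ∃ c : V ≃ₗ[F] V, (∀ v, c (t v) = t (c v)) ∧ ∀ u v, B (c u) (c v) = B' u v := by
  have := Module.finite_of_finite F (M := V)
  obtain ⟨τ, h1, hm, h2, h3⟩ := exists_adj hσ hB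
  obtain ⟨k, hk⟩ := exists_rep hσ hB B'
  have h4 : τ k = k := h3 _ _ fun u v => by rw [hk, hs, hk, hs']
  obtain ⟨c, hc, e⟩ := (h90_t hσ h1 hm h3 ht h (k := k) (by rw [h4, h4]) (by rw [h4]) (LinearMap.ext fun v =>
    sub_eq_zero.1 (hB _ fun u => by
      obtain ⟨u, rfl⟩ := t.surjective u
      simp [hk, ht, ht']))).2 ((Module.End.isUnit_iff _).2 (by
    rw [← Finite.injective_iff_bijective, injective_iff_map_eq_zero]
    exact fun v hv => hB' v fun u => by rw [← hk, hv, map_zero])) h4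
  have h10 : ∀ u v, B (c u) (c v) = B' u v := fun u v => by rw [← hk, ← e, ← h2]; rfl
  exact ⟨.ofInjectiveEndo c ((injective_iff_map_eq_zero _).2 fun v hv => hB' v fun u => by simp [← h10, hv]),
    LinearMap.congr_fun hc, h10⟩

theorem exists_herm {t : V ≃ₗ[F] V} (ht : ∀ u v, B (t u) (t v) = B u v)
    (h : σ ≠ RingHom.id F ∨ ∀ v, t (t v) = v → v = 0) {ε : F} (hε : ε * σ ε = 1) :
    ∃ B' : V →ₗ[F] V →ₛₗ[σ] F, (∀ v, (∀ u, B' u v = 0) → v = 0) ∧ (∀ u v, B' v u = ε * σ (B' u v)) ∧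
      ∀ u v, B' (t u) (t v) = B' u v := by
  obtain ⟨τ, h1, hm, h2, h3⟩ := exists_adj hσ hB
  obtain ⟨k, hk⟩ := exists_rep hσ hB (LinearMap.mk₂'ₛₗ _ _ (fun u v => ε * σ (B v u)) (by simp [mul_add])
    (by simp [hσ, mul_left_comm]) (by simp [mul_add]) (by simp [mul_left_comm]))
  simp only [LinearMap.mk₂'ₛₗ_apply] at hk
  have h4 : τ k * k = 1 := LinearMap.ext fun v => sub_eq_zero.1 (hB _ fun u => by
    simp [h2, hk, hσ, ← mul_assoc, hε])
  have h5 := mul_eq_one_comm.1 h4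
  have h6 : τ (τ k) = k := h3 _ _ fun u v => by
    rw [hk, ← show k (τ k u) = u from LinearMap.congr_fun h5 u, hk, show τ k (k (τ k u)) = _ from
      LinearMap.congr_fun h4 _]; simp [hσ, ← mul_assoc, hε]
  have h7 : k * t = t * k := LinearMap.ext fun v => sub_eq_zero.1 (hB _ fun u => by
    obtain ⟨u, rfl⟩ := t.surjective u
    simp [hk, ht])
  obtain ⟨c, hc, hu, e⟩ := (h90_t hσ h1 hm h3 ht h (k := τ k) (by rw [h6]) (by rw [h6, h4, h5]) (by
    rw [← mul_one (τ k * _), ← h5, mul_assoc, ← mul_assoc _ k, ← h7, ← mul_assoc, ← mul_assoc, h4, one_mul])).1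
    (by rw [h6, h4])
  have h8 : τ c = k * c := by rw [congrArg (k * ·) e, ← mul_assoc, h5, one_mul]
  refine ⟨B ∘ₗ c, fun v hv => hB v fun u => ?_, fun u v => ?_, fun u v => ?_⟩
  · obtain ⟨u, rfl⟩ := ((Module.End.isUnit_iff _).1 hu).2 u; exact hv u
  · rw [LinearMap.comp_apply, ← h2, h8]; exact hk _ _
  · rw [LinearMap.comp_apply, show c (t u) = t (c u) from LinearMap.congr_fun hc u, ht]; rfl

end Adj

end Cfsg.Agent.Perm.Cj
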