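import Mathlib
import Cfsg.Agent.Lib.Perm.Cj3

set_option autoImplicit false

namespace Cfsg.Agent.Perm.Cj
open Module Polynomial Cfsg.Agent.Classical Cfsg.Agent.Classical.Form

universe u
variable {F : Type u} {V W : Type*} [Field F] [AddCommGroup V] [Module F V] [AddCommGroup W] [Module F W]

section Rg

/-- the image of `t - c` -/
def rg (t : V ≃ₗ[F] V) (c : F) : Submodule F V := LinearMap.range ((t : End F V) - c • 1)

theorem mem_rg {t : V ≃ₗ[F] V} {c : F} {v : V} : v ∈ rg t c ↔ ∃ u, t u - c • u = v := Iff.rfl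

theorem rg_stab (t : V ≃ₗ[F] V) (c : F) (v : V) : v ∈ rg t c ↔ t v ∈ rg t c :=
  ⟨fun ⟨u, h⟩ => ⟨t u, by simp [← h]⟩, fun ⟨u, h⟩ => ⟨t.symm u, t.injective (by simpa using h)⟩⟩

/-- the restriction of `t` to the image of `t - c` -/
def rs (t : V ≃ₗ[F] V) (c : F) : rg t c ≃ₗ[F] rg t c := res t _ (rg_stab t c)

@[simp] theorem rs_apply (t : V ≃ₗ[F] V) (c : F) (v : rg t c) : (rs t c v : V) = t v := rfl

theorem Sim.rs {t : V ≃ₗ[F] V} {s : W ≃ₗ[F] W} (H : Sim (t : End F V) (s : End F W)) (c : F) :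
    Sim (rs t c : End F (rg t c)) (rs s c : End F (rg s c)) := by
  obtain ⟨e, he⟩ := H
  refine ⟨e.ofSubmodules _ _ (le_antisymm ?_ ?_), fun v => Subtype.ext (he v)⟩
  · rintro _ ⟨_, ⟨u, rfl⟩, rfl⟩; exact ⟨e u, by simpa using (he u).symm⟩
  · rintro _ ⟨u, rfl⟩; exact ⟨_, ⟨e.symm u, rfl⟩, by simpa using he (e.symm u)⟩

variable [FiniteDimensional F V] {t : V ≃ₗ[F] V}

theorem ss_rg (h : End.IsSemisimple (t : End F V)) {c : F} {v : V} (hv : v ∈ rg t c) (h' : t v = c • v) : v = 0 := by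
  obtain ⟨u, rfl⟩ := hv
  have := h.isFinitelySemisimple.genEigenspace_eq_eigenspace c (k := (2 : ℕ)) (by simp)
  have h1 : u ∈ End.genEigenspace (t : End F V) c (2 : ℕ) := End.mem_genEigenspace_nat.2 (by
    rw [sq]; exact sub_eq_zero.2 h')
  rw [this, End.mem_eigenspace_iff] at h1
  exact sub_eq_zero.2 h1

theorem ss_rs (h : End.IsSemisimple (t : End F V)) (c : F) : End.IsSemisimple (rs t c : End F (rg t c)) :=
  h.restrict (p := rg t c) fun v hv => (rg_stab t c v).1 hv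

variable {K : Kind F} {Φ : Form K V}

theorem perp_rg (hΦ : Φ.Nondeg) (ht : t ∈ Φ.Isom) {c : F} (hc : c * K.σ c = 1) {v : V} :
    v ∈ Φ.perp (rg t c) ↔ t v = c • v := by
  have h1 : ∀ u, Φ.B v (t u - c • u) = -K.σ c * Φ.B (t v - c • v) (t u) := fun u => by
    simp only [map_sub, LinearMap.sub_apply, ht.1, B_smul_right, B_smul_left]
    linear_combination -Φ.B v (t u) * hc
  refine ⟨fun h => sub_eq_zero.1 (hΦ.left fun u => ?_), fun h _ ⟨u, hu⟩ => by rw [← hu]; exact (h1 u).trans (by simp [h])⟩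
  obtain ⟨u, rfl⟩ := t.surjective u
  simpa [left_ne_zero_of_mul_eq_one hc] using (h1 u).symm.trans (h _ ⟨u, rfl⟩)

theorem nondeg_rg (hΦ : Φ.Nondeg) (ht : t ∈ Φ.Isom) (h : End.IsSemisimple (t : End F V)) {c : F}
    (hc : c * K.σ c = 1) : (Φ.restrict (rg t c)).Nondeg :=
  (Φ.restrict_nondeg_iff _).2 (eq_bot_iff.2 fun _ hv => ss_rg h hv.1 ((perp_rg hΦ ht hc).1 hv.2))

theorem rs_mem (ht : t ∈ Φ.Isom) (c : F) : rs t c ∈ (Φ.restrict (rg t c)).Isom := Φ.res_mem ht _ _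

end Rg

variable {K : Kind F}

/-- similarity by an isometry -/
def ISim (Φ : Form K V) (t : V ≃ₗ[F] V) (Ψ : Form K W) (s : W ≃ₗ[F] W) : Prop :=
  ∃ e : V ≃ₗ[F] W, (∀ v, e (t v) = s (e v)) ∧ (∀ u v, Ψ.B (e u) (e v) = Φ.B u v) ∧ ∀ v, Ψ.N (e v) = Φ.N v

variable {Φ : Form K V} {Ψ : Form K W} {t : V ≃ₗ[F] V} {s : W ≃ₗ[F] W}

theorem isim_iff {s : V ≃ₗ[F] V} : ISim Φ t Φ s ↔ ∃ g ∈ Φ.Isom, g * t * g⁻¹ = s :=
  exists_congr fun g => by rw [mul_inv_eq_iff_eq_mul, LinearEquiv.ext_iff, and_comm]; rfl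

theorem ISim.iso (H : ISim Φ t Ψ s) : Φ.Iso Ψ := let ⟨e, _, h⟩ := H; ⟨e, h⟩

variable [FiniteDimensional F V] [FiniteDimensional F W]

theorem isim_ext (hΦ : Φ.Nondeg) (hi : Φ.Iso Ψ) (ht : t ∈ Φ.Isom) (hs : s ∈ Ψ.Isom)
    (h : End.IsSemisimple (t : End F V)) {c : F} (hc : c * K.σ c = 1)
    (H : ISim (Φ.restrict (rg t c)) (rs t c) (Ψ.restrict (rg s c)) (rs s c)) : ISim Φ t Ψ s := by
  have hΨ := hi.nondeg hΦ
  obtain ⟨j, j1, j2⟩ := hi
  obtain ⟨e, e1, e2, e3⟩ := H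
  obtain ⟨g, hg, h1⟩ := hΨ.witt_maps (j ∘ₗ (rg t c).subtype) ((rg s c).subtype ∘ₗ e)
    (j.injective.comp Subtype.val_injective) (Subtype.val_injective.comp e.injective)
    (fun x y => (j1 _ _).trans (e2 x y).symm) fun x => (j2 _).trans (e3 x).symm
  replace h1 : ∀ x : rg t c, g (j x) = e x := h1
  refine ⟨j.trans g, fun v => ?_, fun u v => (hg.1 _ _).trans (j1 u v), fun v => (hg.2 _).trans (j2 v)⟩
  obtain ⟨x, y, rfl⟩ := exists_add_of_isCompl (Φ.isCompl_perp (nondeg_rg hΦ ht h hc)) v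
  have h2 : s (g (j y)) = c • g (j y) := (perp_rg hΨ hs hc).1 fun w hw => by
    obtain ⟨x, hx⟩ := e.surjective ⟨w, hw⟩
    rw [show w = g (j x) by rw [h1, hx], hg.1, j1, y.2 _ x.2]
  have h3 := h1 (rs t c x)
  rw [e1] at h3
  simpa [(perp_rg hΦ ht hc).1 y.2, h2, h1] using h3

variable [Finite F]

theorem isim_B (hΦ : Φ.Nondeg) (hΨ : Ψ.Nondeg) (ht : t ∈ Φ.Isom) (hs : s ∈ Ψ.Isom)
    (h : K.σ ≠ RingHom.id F ∨ ∀ v, t (t v) = v → v = 0) (H : Sim (t : End F V) (s : End F W)) :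
    ∃ e : V ≃ₗ[F] W, (∀ v, e (t v) = s (e v)) ∧ ∀ u v, Ψ.B (e u) (e v) = Φ.B u v := by
  obtain ⟨e, he⟩ := H
  replace he : ∀ v, e (t v) = s (e v) := he
  obtain ⟨c, h1, h2⟩ := exists_norm K.σσ (B := (Ψ.comap e.toLinearMap).B) (fun v hv => e.injective (by
    rw [map_zero]; exact hΨ _ fun u => by simpa using hv (e.symm u))) hΦ (Ψ.comap _).symm Φ.symm (t := t)
    (fun u v => by simp [he, hs.1]) ht.1 h
  exact ⟨c.trans e, fun v => by simp [h1, he], h2⟩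

theorem isim_norm (hΦ : Φ.Nondeg) (hΨ : Ψ.Nondeg) (ht : t ∈ Φ.Isom) (hs : s ∈ Ψ.Isom)
    (h : ∀ v, t (t v) = v → v = 0) (H : Sim (t : End F V) (s : End F W)) : ISim Φ t Ψ s := by
  obtain ⟨e, h1, h2⟩ := isim_B hΦ hΨ ht hs (.inr h) H
  refine ⟨e, h1, h2, fun v => ?_⟩
  obtain ⟨v, rfl⟩ := (LinearMap.injective_iff_surjective (f := Inv.dl t)).1 ((injective_iff_map_eq_zero _).2
    fun v hv => h v (by rw [show t v = v from sub_eq_zero.1 hv, show t v = v from sub_eq_zero.1 hv])) v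
  have : e (Inv.dl t v) = Inv.dl s (e v) := by simp [Inv.dl_apply, h1]
  rw [Inv.N_dl ht, ← h2, this, Inv.N_dl hs]

theorem isim_unit {σ : F →+* F} {hσ2 : ∀ a, σ (σ a) = a} {Φ : Form (Kind.unit σ hσ2) V} {Ψ : Form (Kind.unit σ hσ2) W}
    (hσ : σ ≠ RingHom.id F) (hΦ : Φ.Nondeg) (hΨ : Ψ.Nondeg) (ht : t ∈ Φ.Isom) (hs : s ∈ Ψ.Isom)
    (H : Sim (t : End F V) (s : End F W)) : ISim Φ t Ψ s := by
  obtain ⟨e, h1, h2⟩ := isim_B hΦ hΨ ht hs (.inl hσ) H
  exact ⟨e, h1, h2, fun v => by rw [unit_N, unit_N, h2]⟩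

theorem isim_one (hΦ : Φ.Nondeg) (hi : Φ.Iso Ψ) (ht : t ∈ Φ.Isom) (hs : s ∈ Ψ.Isom)
    (h : End.IsSemisimple (t : End F V)) (h1 : ∀ v, t (t v) = v → t v = v) (H : Sim (t : End F V) (s : End F W)) :
    ISim Φ t Ψ s :=
  isim_ext hΦ hi ht hs h (c := 1) (by simp) (isim_norm (nondeg_rg hΦ ht h (by simp))
    (nondeg_rg (hi.nondeg hΦ) hs (H.ss h) (by simp)) (rs_mem ht 1) (rs_mem hs 1) (fun v hv =>
      Subtype.ext (ss_rg h v.2 (by rw [one_smul]; exact h1 _ (congrArg Subtype.val hv)))) (H.rs 1))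

theorem isim_symp {Φ : Form (Kind.symp F) V} {Ψ : Form (Kind.symp F) W} (hΦ : Φ.Nondeg) (hΨ : Ψ.Nondeg)
    (ht : t ∈ Φ.Isom) (hs : s ∈ Ψ.Isom) (h : End.IsSemisimple (t : End F V)) (H : Sim (t : End F V) (s : End F W)) :
    ISim Φ t Ψ s := by
  have a := nondeg_rg hΦ ht h (c := -1) (by simp)
  refine isim_ext hΦ (symp_iso _ Φ Ψ hΦ hΨ H.finrank_eq rfl) ht hs h (c := -1) (by simp) (isim_one a
    (symp_iso _ _ _ a (nondeg_rg hΨ hs (H.ss h) (by simp)) (H.rs _).finrank_eq rfl) (rs_mem ht _) (rs_mem hs _)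
    (ss_rs h _) (fun v hv => sub_eq_zero.1 (Subtype.ext (ss_rg h (Submodule.coe_mem _) ?_))) (H.rs _))
  simpa [map_sub] using congrArg Subtype.val hv

omit [FiniteDimensional F V] [Finite F] in
theorem odd_fix (h : Odd (orderOf t)) (v : V) (hv : t (t v) = v) : t v = v := by
  obtain ⟨k, hk⟩ := h
  have h1 : ∀ k, (t ^ (2 * k)) v = v := fun k => by
    induction k with
    | zero => rfl
    | succ k ih => rw [mul_add_one, pow_add, LinearEquiv.mul_apply, show (t ^ 2) v = v from hv, ih]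
  rw [← h1 k, ← LinearEquiv.mul_apply, ← pow_succ', ← hk, pow_orderOf_eq_one, h1]; rfl

omit [Finite F] in
theorem det_adj (hΦ : Φ.Nondeg) {k k' : End F V} (h : ∀ u v, Φ.B u (k' v) = Φ.B (k u) v) :
    K.σ (LinearMap.det k') = LinearMap.det k := by
  classical
  let b := finBasis F V
  let G : Matrix _ _ F := .of fun i j => Φ.B (b i) (b j)
  have hG : G.det ≠ 0 := fun h => by
    obtain ⟨v, hv, e⟩ := Matrix.exists_mulVec_eq_zero_iff.2 h
    have : ∑ j, K.σ (v j) • b j = 0 := hΦ _ fun u => LinearMap.congr_fun (b.ext (f₁ := Φ.B.flip _) (f₂ := 0) fun i => by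
      simpa [G, Matrix.mulVec, dotProduct, K.σσ, mul_comm] using congrFun e i) u
    exact hv (funext fun i => K.σ_eq_zero.1 (Fintype.linearIndependent_iff.1 b.linearIndependent _ this i))
  have : G * K.σ.mapMatrix (LinearMap.toMatrix b b k') = (LinearMap.toMatrix b b k).transpose * G := by
    ext i j
    have := h (b i) (b j)
    rw [← b.sum_repr (k' _), ← b.sum_repr (k _)] at this
    simpa [G, Matrix.mul_apply, LinearMap.toMatrix_apply, mul_comm, -Basis.sum_repr] using this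
  have := congrArg Matrix.det this
  rwa [Matrix.det_mul, Matrix.det_mul, ← RingHom.map_det, Matrix.det_transpose, LinearMap.det_toMatrix,
    LinearMap.det_toMatrix, mul_comm, mul_left_inj' hG] at this

omit [Finite F] [FiniteDimensional F V] in
theorem comm_irr {f a b : End F V} {U : Submodule F V} (hU : ∀ W ≤ U, W ∈ f.invtSubmodule → W = ⊥ ∨ W = U)
    (hf : U ∈ f.invtSubmodule) (ha : a * f = f * a) (hb : b * f = f * b) (ha' : ∀ u ∈ U, a u ∈ U)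
    (hb' : ∀ u ∈ U, b u ∈ U) {u : V} (hu : u ∈ U) : a (b u) = b (a u) := by
  by_cases h0 : u = 0
  · simp [h0]
  have h1 := map_aeval ((LinearMap.applyₗ u).comp (aeval f).toLinearMap) (f := LinearMap.mulLeft F X) (g := f) (by simp)
  have h2 : ∀ v ∈ U, ∃ P : F[X], aeval f P u = v := fun v hv => by
    rcases hU (LinearMap.range ((LinearMap.applyₗ u).comp (aeval f).toLinearMap)) (by
      rintro _ ⟨P, rfl⟩; exact aeval_apply_smul_mem_of_le_comap hu P f hf) (by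
      rintro _ ⟨P, rfl⟩; exact ⟨X * P, by simp⟩) with h | h
    · exact absurd (by simpa using h.le ⟨1, rfl⟩) h0
    · exact h.ge hv
  obtain ⟨P, hP⟩ := h2 _ (ha' u hu)
  obtain ⟨Q, hQ⟩ := h2 _ (hb' u hu)
  rw [← hQ, map_aeval a (LinearMap.congr_fun ha), ← hP, map_aeval b (LinearMap.congr_fun hb), ← hQ,
    ← End.mul_apply, ← map_mul, mul_comm, map_mul, End.mul_apply]

theorem su_comm_det {σ : F →+* F} {hσ2 : ∀ a, σ (σ a) = a} {Φ : Form (Kind.unit σ hσ2) V} (hσ : σ ≠ RingHom.id F)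
    [Nontrivial V] (hΦ : Φ.Nondeg) (ht : t ∈ Φ.Isom) (h : End.IsSemisimple (t : End F V)) {d : F} (hd : d * σ d = 1) :
    ∃ c ∈ Φ.Isom, c * t = t * c ∧ (LinearEquiv.det c : F) = d := by
  obtain ⟨y, hy, rfl⟩ := hilbert90 σ hσ hσ2 hd
  have hp : ∀ U ∈ End.invtSubmodule (t : End F V), Φ.perp U ∈ End.invtSubmodule (t : End F V) := fun U hU v hv =>
    (Φ.stab_perp ht (stab_of_le hU) v).1 hv
  obtain ⟨U, ⟨h0, hU⟩, hmin⟩ := (measure fun U : Submodule F V => finrank F U).wf.has_min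
    {U | U ≠ ⊥ ∧ U ∈ End.invtSubmodule (t : End F V)} ⟨⊤, top_ne_bot, by simp⟩
  have h1 : ∀ U' : Submodule F V, finrank F U' = finrank F U → ∀ W ≤ U', W ∈ End.invtSubmodule (t : End F V) →
      W = ⊥ ∨ W = U' := fun U' e W a b => or_iff_not_imp_left.2 fun c =>
    Submodule.eq_of_le_of_finrank_le a (e ▸ not_lt.1 (hmin W ⟨c, b⟩))
  obtain ⟨U, U', h0, hU, hU', hc, H⟩ : ∃ U U' : Submodule F V, U ≠ ⊥ ∧ U ∈ End.invtSubmodule (t : End F V) ∧
      U' ∈ End.invtSubmodule (t : End F V) ∧ IsCompl U (Φ.perp U') ∧ ((U' = U ∧ ∀ W ≤ U,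
        W ∈ End.invtSubmodule (t : End F V) → W = ⊥ ∨ W = U) ∨ U ≤ Φ.perp U ∧ U' ≤ Φ.perp U') := by
    rcases h1 U rfl (U ⊓ Φ.perp U) inf_le_left (End.invtSubmodule.inf_mem hU (hp U hU)) with a | a
    · exact ⟨U, U, h0, hU, hU, Φ.isCompl_perp ((Φ.restrict_nondeg_iff U).2 a), .inl ⟨rfl, h1 U rfl⟩⟩
    obtain ⟨U', hU', hc⟩ := End.isSemisimple_iff.1 h _ (hp U hU)
    have e : finrank F U' = finrank F U := by
      have := Submodule.finrank_add_eq_of_isCompl hc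
      have := hΦ.finrank_perp U
      omega
    rcases h1 U' e (U' ⊓ Φ.perp U') inf_le_left (End.invtSubmodule.inf_mem hU' (hp U' hU')) with b | b
    · exact ⟨U', U', fun h => h0 (Submodule.finrank_eq_zero.1 (by rw [← e, h, finrank_bot])), hU', hU',
        Φ.isCompl_perp ((Φ.restrict_nondeg_iff U').2 b), .inl ⟨rfl, h1 U' e⟩⟩
    refine ⟨U, U', h0, hU, hU', ⟨disjoint_iff.2 ?_, codisjoint_iff.2 ?_⟩, .inr ⟨inf_eq_left.1 a, inf_eq_left.1 b⟩⟩
    · rw [← hΦ.perp_perp U, ← perp_sup, hc.sup_eq_top, hΦ.perp_top]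
    · rw [← hΦ.perp_perp U, ← hΦ.perp_inf, hc.inf_eq_bot, perp_bot]
  have := Submodule.nontrivial_iff_ne_bot.2 h0
  obtain ⟨k₀, k1, k2⟩ := ss_comm_det (h.restrict hU) (Units.mk0 y hy)
  let k := glue hc (k₀, 1)
  have k3 : (k : End F V) * t = t * k := LinearMap.ext fun v => by
    obtain ⟨a, b, rfl⟩ := exists_add_of_isCompl hc v
    have := glue_add hc (k₀, 1) ⟨t a, hU a.2⟩ ⟨t b, hp U' hU' b.2⟩
    have e : (k₀ ⟨t a, hU a.2⟩ : V) = t (k₀ a) := congrArg Subtype.val (k1 a)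
    rw [End.mul_apply, End.mul_apply, map_add (t : End F V)]
    exact this.trans (by simp [k, glue_add, e])
  obtain ⟨τ, t1, t2, t3, t4⟩ := exists_adj (Kind.unit σ hσ2).σσ hΦ
  have k4 : τ k * τ k.symm = 1 := by rw [← t2, ← t1]; congr 1; ext; simp
  have k5 : τ k * t = t * τ k := by
    have : τ t.symm = t := t4 _ _ fun u v => Isom_B_right ht u v
    rw [← this, ← t2, ← t2]; congr 1
    exact LinearMap.ext fun v => t.injective (by simpa using (LinearMap.congr_fun k3 (t.symm v)))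
  have k6 : ∀ v ∈ Φ.perp U, τ k v = v := fun v hv => hΦ.ext fun u => by
    obtain ⟨a, b, rfl⟩ := exists_add_of_isCompl hc u
    simp [t3, k, glue_left, glue_right, Φ.mem_perp'.1 hv]
  have k7 : ∀ v, τ k v - v ∈ U' := fun v => hΦ.perp_perp U' ▸ Φ.mem_perp'.2 fun u hu => by
    rw [map_sub, t3, show (k : End F V) u = u from glue_right hc _ ⟨u, hu⟩, sub_self]
  have k8 : (k : End F V) * τ k = τ k * k := LinearMap.ext fun v => by
    obtain ⟨a, b, rfl⟩ := exists_add_of_isCompl hc v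
    have k9 : ∀ u ∈ U, (k : End F V) u ∈ U := fun u hu => (glue_stab_left hc _ u).1 hu
    have k10 : ∀ u ∈ Φ.perp U', (k : End F V) u = u := fun u hu => glue_right hc _ ⟨u, hu⟩
    rcases H with ⟨rfl, H⟩ | ⟨H, H'⟩
    · simp only [End.mul_apply, map_add, k6 _ b.2, k10 _ b.2, comm_irr H hU k3 k5 k9
        (fun u hu => by simpa using add_mem (k7 u) hu) a.2]
    · simp only [End.mul_apply, map_add, k6 _ (H a.2), k6 _ (H (k9 _ a.2)), k10 _ b.2,
        k10 _ (show τ k b ∈ _ by simpa using add_mem (H' (k7 b)) b.2)]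
  let k' : V ≃ₗ[F] V := .ofLinear (τ k) (τ k.symm) k4 (mul_eq_one_comm.1 k4)
  refine ⟨k * k'⁻¹, mem_Isom_unit.2 fun u v => ?_, ?_, ?_⟩
  · obtain ⟨u, rfl⟩ := k'.surjective u
    obtain ⟨v, rfl⟩ := k'.surjective v
    have : Φ.B (τ k u) (τ k v) = Φ.B (k u) (k v) := by
      rw [t3, show (k : End F V) (τ k u) = _ from LinearMap.congr_fun k8 u, Φ.symm, End.mul_apply, t3, ← Φ.symm]; rfl
    simp only [LinearEquiv.mul_apply, LinearEquiv.coe_inv, LinearEquiv.symm_apply_apply]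
    exact this.symm
  · rw [mul_assoc, (show Commute k' t from LinearEquiv.toLinearMap_injective k5).inv_left.eq, ← mul_assoc,
      show k * t = t * k from LinearEquiv.toLinearMap_injective k3, mul_assoc]
  · have e : (LinearEquiv.det k : F) = y := by rw [det_glue]; simp [k2]
    have : σ (LinearEquiv.det k' : Fˣ) = y := by
      rw [← e, LinearEquiv.coe_det, LinearEquiv.coe_det]; exact det_adj hΦ (t3 k)
    rw [map_mul, map_inv, Units.val_mul, e, ← this, hσ2, Units.val_inv_eq_inv_val, div_eq_mul_inv]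

theorem su_ss {σ : F →+* F} {hσ2 : ∀ a, σ (σ a) = a} {Φ : Form (Kind.unit σ hσ2) V} (hσ : σ ≠ RingHom.id F)
    (hΦ : Φ.Nondeg) (ht : t ∈ Φ.Isom) (h : End.IsSemisimple (t : End F V)) (g : V ≃ₗ[F] V)
    (hs : g * t * g⁻¹ ∈ Φ.Isom) : ∃ k ∈ Φ.SIsom, k * t * k⁻¹ = g * t * g⁻¹ := by
  rcases subsingleton_or_nontrivial V with _ | _
  · exact ⟨1, one_mem _, Subsingleton.elim _ _⟩
  obtain ⟨k, hk, e⟩ := isim_iff.1 (isim_unit hσ hΦ hΦ ht hs (conj_iff_sim.1 ⟨g, rfl⟩))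
  obtain ⟨c, h1, h2, h3⟩ := su_comm_det hσ hΦ ht h (hΦ.det_mul_conj (inv_mem hk))
  refine ⟨k * c, mem_SIsom.2 ⟨mul_mem hk h1, by rw [map_mul, Units.ext h3, ← map_mul, mul_inv_cancel, map_one]⟩, ?_⟩
  rw [← e, mul_assoc k, h2]; group

end Cfsg.Agent.Perm.Cj
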