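import Mathlib
import Cfsg.Agent.Lib.Perm.Cj4

set_option autoImplicit false

namespace Cfsg.Agent.Perm.Cj
open Module Polynomial Cfsg.Agent.Classical Cfsg.Agent.Classical.Form

universe u
variable {F : Type u} {V W : Type*} [Field F] [AddCommGroup V] [Module F V] [AddCommGroup W] [Module F W]

section Dual

/-- the conjugate reciprocal polynomial -/
noncomputable def dual (σ : F →+* F) : F[X] →* F[X] where
  toFun P := C (σ (P.coeff 0))⁻¹ * (P.map σ).reverse
  map_one' := by simp [← C_1, -map_one]; simp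
  map_mul' P Q := by simp only [mul_coeff_zero, map_mul, mul_inv, Polynomial.map_mul, reverse_mul_of_domain]; ring

theorem dual_apply (σ : F →+* F) (P : F[X]) : dual σ P = C (σ (P.coeff 0))⁻¹ * (P.map σ).reverse := rfl

theorem coeff_dual (σ : F →+* F) (P : F[X]) (i : ℕ) :
    (dual σ P).coeff i = (σ (P.coeff 0))⁻¹ * σ (P.coeff (revAt P.natDegree i)) := by
  simp [dual_apply, coeff_reverse]

theorem dual_X_pow (σ : F →+* F) {r : ℕ} (hr : r ≠ 0) (c : F) (hc : c * σ c = 1) :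
    dual σ (X ^ r + C c) = X ^ r + C c := by
  have h : (X ^ r : F[X]).reverse = 1 := by rw [← one_mul (X ^ r), reverse_mul_X_pow, ← C_1, reverse_C]
  rw [dual_apply, Polynomial.map_add, Polynomial.map_pow, map_X, map_C, reverse_add_C, h, natDegree_X_pow, coeff_add,
    coeff_X_pow, if_neg hr.symm, coeff_C_zero, zero_add, ← eq_inv_of_mul_eq_one_left hc, mul_add, ← mul_assoc,
    ← C_mul, hc]
  simp [add_comm]

theorem aeval_dual {σ : F →+* F} {K : Type*} [Field K] [Algebra F K] {P : F[X]} (h : P.coeff 0 ≠ 0) {x : K}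
    (hx : x ≠ 0) : aeval x (dual σ P) = 0 ↔ aeval x⁻¹ (P.map σ) = 0 := by
  letI := invertibleOfNonzero (inv_ne_zero hx)
  have := eval₂_reverse_eq_zero_iff (algebraMap F K) x⁻¹ (P.map σ)
  rw [invOf_eq_inv, inv_inv] at this
  simp [dual_apply, h, aeval_def, this]

variable [FiniteDimensional F V] [FiniteDimensional F W]

theorem charpoly_symm (t : V ≃ₗ[F] V) : (t.symm : End F V).charpoly =
    C ((t : End F V).charpoly.coeff 0)⁻¹ * (t : End F V).charpoly.reverse := by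
  classical
  let b := finBasis F V
  have h : LinearMap.toMatrix b b t * LinearMap.toMatrix b b t.symm = 1 := by
    rw [← LinearMap.toMatrix_mul, ← LinearMap.toMatrix_one b]; congr 1; ext; simp
  rw [← LinearMap.charpoly_toMatrix _ b, ← LinearMap.charpoly_toMatrix _ b, ← Matrix.inv_eq_right_inv h,
    Matrix.charpoly_inv _ (IsUnit.of_mul_eq_one _ h), Matrix.reverse_charpoly, Matrix.det_eq_sign_charpoly_coeff]
  congr 1
  rcases neg_one_pow_eq_or F (Fintype.card (Fin (finrank F V))) with h | h <;>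
    simp only [← C_1, ← C_neg, ← C_pow, h, ← C_mul] <;> simp

theorem charpoly_adjoint {σ : F →+* F} (hσ : ∀ a, σ (σ a) = a) {B : V →ₗ[F] V →ₛₗ[σ] F}
    (hB : ∀ v, (∀ u, B u v = 0) → v = 0) {k k' : End F V} (h : ∀ u v, B u (k' v) = B (k u) v) :
    k'.charpoly.map σ = k.charpoly := by
  classical
  let b := finBasis F V
  let G : Matrix _ _ F := .of fun i j => B (b i) (b j)
  have hG : G.det ≠ 0 := fun h => by
    obtain ⟨v, hv, e⟩ := Matrix.exists_mulVec_eq_zero_iff.2 h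
    have : ∑ j, σ (v j) • b j = 0 := hB _ fun u => LinearMap.congr_fun (b.ext (f₁ := B.flip _) (f₂ := 0) fun i => by
      simpa [G, Matrix.mulVec, dotProduct, hσ, mul_comm] using congrFun e i) u
    exact hv (funext fun i => (map_eq_zero σ).1 (Fintype.linearIndependent_iff.1 b.linearIndependent _ this i))
  have : G * (LinearMap.toMatrix b b k').map σ = (LinearMap.toMatrix b b k).transpose * G := by
    ext i j
    have := h (b i) (b j)
    rw [← b.sum_repr (k' _), ← b.sum_repr (k _)] at this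
    simpa [G, Matrix.mul_apply, LinearMap.toMatrix_apply, mul_comm, -Basis.sum_repr] using this
  rw [← LinearMap.charpoly_toMatrix _ b, ← LinearMap.charpoly_toMatrix _ b, ← Matrix.charpoly_map,
    ← Matrix.charpoly_transpose (LinearMap.toMatrix b b k),
    ← Matrix.charpoly_units_conj (Matrix.GeneralLinearGroup.mkOfDetNeZero G hG)]
  congr 1
  rw [← Matrix.coe_units_inv]
  exact ((Units.mul_inv_eq_iff_eq_mul (Matrix.GeneralLinearGroup.mkOfDetNeZero G hG)).2 this)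

theorem charpoly_contra {σ : F →+* F} (hσ : ∀ a, σ (σ a) = a) {B : V →ₗ[F] V →ₛₗ[σ] F}
    (hB : ∀ v, (∀ u, B u v = 0) → v = 0) {t s : V ≃ₗ[F] V} (h : ∀ u v, B (s u) (t v) = B u v) :
    (s : End F V).charpoly = dual σ (t : End F V).charpoly := by
  rw [← charpoly_adjoint hσ hB (k := s) (k' := t.symm) fun u v => by simp [← h u], charpoly_symm, dual_apply]
  simp [reverse, reflect_map]

theorem dual_charpoly {K : Kind F} {Φ : Form K V} (hΦ : Φ.Nondeg) {t} (ht : t ∈ Φ.Isom) :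
    dual K.σ (t : End F V).charpoly = (t : End F V).charpoly := (charpoly_contra K.σσ hΦ ht.1).symm

theorem dual_spec {σ : F →+* F} (hσ : ∀ a, σ (σ a) = a) {P : F[X]} (h : P.Monic) (h0 : P.coeff 0 ≠ 0) :
    (dual σ P).Monic ∧ (dual σ P).natDegree = P.natDegree ∧ (dual σ P).coeff 0 ≠ 0 ∧ dual σ (dual σ P) = P := by
  have h1 : (dual σ P).coeff P.natDegree = 1 := by simp [coeff_dual, h0]
  have h2 : (dual σ P).natDegree ≤ P.natDegree :=
    (natDegree_C_mul_le _ _).trans ((reverse_natDegree_le _).trans natDegree_map_le)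
  have h3 := natDegree_eq_of_le_of_coeff_ne_zero h2 (h1 ▸ one_ne_zero)
  refine ⟨monic_of_natDegree_le_of_coeff_eq_one _ h2 h1, h3, by simp [coeff_dual, h0, h], ?_⟩
  ext i
  simp [coeff_dual, h3, hσ, h, h0]

theorem exists_contra [Finite F] {σ : F →+* F} (hσ : ∀ a, σ (σ a) = a) (t : V ≃ₗ[F] V) :
    ∃ (B : V →ₗ[F] V →ₛₗ[σ] F) (s : V ≃ₗ[F] V), (∀ v, (∀ u, B u v = 0) → v = 0) ∧ (∀ v, (∀ u, B v u = 0) → v = 0) ∧
      ∀ u v, B (s u) (t v) = B u v := by
  let b := finBasis F V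
  let B : V →ₗ[F] V →ₛₗ[σ] F := LinearMap.mk₂'ₛₗ _ _ (fun u v => ∑ i, b.repr u i * σ (b.repr v i))
    (by simp [add_mul, Finset.sum_add_distrib]) (by simp [Finset.mul_sum, mul_assoc])
    (by simp [mul_add, Finset.sum_add_distrib]) (by simp [Finset.mul_sum, mul_left_comm])
  have hB : ∀ v, (∀ u, B u v = 0) → v = 0 := fun v h => b.ext_elem fun i => by
    simpa [B, Finsupp.single_apply] using h (b i)
  have h1 : ∀ u v, B v u = σ (B u v) := fun u v => by simp [B, hσ, mul_comm]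
  obtain ⟨τ, t1, t2, t3, -⟩ := exists_adj hσ hB
  have h2 : τ t.symm * τ t = 1 := by rw [← t2, ← t1]; congr 1; ext; simp
  exact ⟨B, .ofLinear _ _ h2 (mul_eq_one_comm.1 h2), hB, fun v h => hB v fun u => by simp [h1 v, h],
    fun u v => by rw [h1, h1 v]; exact congrArg σ ((t3 _ _ _).trans (by simp))⟩

theorem inv_of_sim {σ : F →+* F} {B : V →ₗ[F] V →ₛₗ[σ] F} (hB : ∀ v, (∀ u, B u v = 0) → v = 0) {t s : V ≃ₗ[F] V}
    (h : ∀ u v, B (s u) (t v) = B u v) (H : Sim (t : End F V) (s : End F V)) :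
    ∃ B : V →ₗ[F] V →ₛₗ[σ] F, (∀ v, (∀ u, B u v = 0) → v = 0) ∧ ∀ u v, B (t u) (t v) = B u v := by
  obtain ⟨e, he⟩ := H
  exact ⟨B ∘ₗ e, fun v hv => hB v fun u => by simpa using hv (e.symm u), fun u v =>
    (congrArg (B · _) (he u)).trans (h _ _)⟩

theorem contra_pow {σ : F →+* F} {B : V →ₗ[F] V →ₛₗ[σ] F} {t s : V ≃ₗ[F] V} (h : ∀ u v, B (s u) (t v) = B u v) (n : ℕ)
    (u v) : B ((s ^ n) u) ((t ^ n) v) = B u v := by
  induction n with
  | zero => rfl
  | succ n ih => rw [pow_succ', pow_succ', LinearEquiv.mul_apply, LinearEquiv.mul_apply, h, ih]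

theorem inv_of_ss [Finite F] {σ : F →+* F} (hσ : ∀ a, σ (σ a) = a) {t : V ≃ₗ[F] V} (h : End.IsSemisimple (t : End F V))
    (hd : dual σ (t : End F V).charpoly = (t : End F V).charpoly) :
    ∃ B : V →ₗ[F] V →ₛₗ[σ] F, (∀ v, (∀ u, B u v = 0) → v = 0) ∧ ∀ u v, B (t u) (t v) = B u v := by
  obtain ⟨B, s, h1, h2, h3⟩ := exists_contra hσ t
  have := Fact.mk (CharP.char_is_prime F (ringChar F))
  refine inv_of_sim h1 h3 ((sim_iff_charpoly h (ss_of_pow (lin_pow_eq_one.2 (LinearEquiv.ext fun v => sub_eq_zero.1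
    (h2 _ fun u => ?_))) (coprime_of_ss (p := ringChar F) h))).2 (by rw [charpoly_contra hσ h1 h3, hd]))
  simpa [sub_eq_zero] using contra_pow h3 (orderOf t) v u

end Dual

section Forms
variable [FiniteDimensional F V] [Finite F] {t : V ≃ₗ[F] V}

theorem exists_unit_form {σ : F →+* F} (hσ2 : ∀ a, σ (σ a) = a) (hσ : σ ≠ RingHom.id F)
    (h : ∃ B : V →ₗ[F] V →ₛₗ[σ] F, (∀ v, (∀ u, B u v = 0) → v = 0) ∧ ∀ u v, B (t u) (t v) = B u v) :
    ∃ Φ : Form (Kind.unit σ hσ2) V, Φ.Nondeg ∧ t ∈ Φ.Isom := by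
  obtain ⟨B, h1, h2⟩ := h
  obtain ⟨B, h1, h2, h3⟩ := exists_herm hσ2 h1 h2 (.inl hσ) (ε := 1) (by simp)
  exact ⟨ofHerm σ hσ hσ2 B (by simpa using h2), h1, mem_Isom_unit.2 h3⟩

omit [Finite F] in
theorem dl_bij (h0 : ∀ v, t (t v) = v → v = 0) : Function.Bijective (Inv.dl t) :=
  have h : Function.Injective (Inv.dl t) := (injective_iff_map_eq_zero _).2
    fun v hv => h0 v (by rw [show t v = v from sub_eq_zero.1 hv, show t v = v from sub_eq_zero.1 hv])
  ⟨h, LinearMap.injective_iff_surjective.1 h⟩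

theorem exists_symp_form (h0 : ∀ v, t (t v) = v → v = 0)
    (h : ∃ B : V →ₗ[F] V →ₗ[F] F, (∀ v, (∀ u, B u v = 0) → v = 0) ∧ ∀ u v, B (t u) (t v) = B u v) :
    ∃ Φ : Form (Kind.symp F) V, Φ.Nondeg ∧ t ∈ Φ.Isom := by
  obtain ⟨B, h1, h2⟩ := h
  obtain ⟨B, h1, h2, h3⟩ := exists_herm (fun _ => rfl) h1 h2 (.inr h0) (ε := -1) (by simp)
  refine ⟨ofAlt B fun v => ?_, h1, mem_Isom_symp.2 h3⟩
  obtain ⟨v, rfl⟩ := (dl_bij h0).2 v
  have := h2 v v
  have := h2 v (t v)
  simp [Inv.dl_apply, h3] at *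
  grind

theorem exists_orth_form (h0 : ∀ v, t (t v) = v → v = 0)
    (h : ∃ B : V →ₗ[F] V →ₗ[F] F, (∀ v, (∀ u, B u v = 0) → v = 0) ∧ ∀ u v, B (t u) (t v) = B u v) :
    ∃ Φ : Form (Kind.orth F) V, Φ.Nondeg ∧ t ∈ Φ.Isom := by
  obtain ⟨B, h1, h2⟩ := h
  obtain ⟨B, h1, h2, h3⟩ := exists_herm (fun _ => rfl) h1 h2 (.inr h0) (ε := 1) (by simp)
  let d := LinearEquiv.ofBijective _ (dl_bij h0)
  have hd : ∀ v, d v = t v - v := fun _ => rfl
  refine ⟨ofQuadFun (fun v => -B (d.symm v) v) B (fun u v => ?_) (by simp [mul_assoc]), h1, mem_Isom_orth.2 fun v => ?_⟩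
  · obtain ⟨u, rfl⟩ := d.surjective u
    obtain ⟨v, rfl⟩ := d.surjective v
    have := h2 u v
    have := h2 v (t u)
    simp only [map_add, LinearEquiv.symm_apply_apply]
    simp [hd, h3] at *
    grind
  · obtain ⟨v, rfl⟩ := d.surjective v
    change -B (d.symm _) _ = -B (d.symm _) _
    rw [show t (d v) = d (t v) by simp [hd], d.symm_apply_apply, d.symm_apply_apply, ← h3 v]; simp [hd]

end Forms

section Prod
variable {K : Kind F}

/-- orthogonal sum -/
def prodForm (Φ : Form K V) (Ψ : Form K W) : Form K (V × W) where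
  B := (Φ.comap (LinearMap.fst F V W)).B + (Ψ.comap (LinearMap.snd F V W)).B
  N v := Φ.N v.1 + Ψ.N v.2
  symm u v := by simp [Φ.symm u.1, Ψ.symm u.2, mul_add]
  N_add u v := by simp [Φ.N_add, Ψ.N_add]; ring
  N_smul c v := by simp [Φ.N_smul, Ψ.N_smul, mul_add]
  N_range v := let ⟨a, ha⟩ := Φ.N_range v.1; let ⟨b, hb⟩ := Ψ.N_range v.2; ⟨a + b, by simp [ha, hb]⟩
  B_self v := by simp [Φ.B_self, Ψ.B_self, mul_add]

variable {Φ : Form K V} {Ψ : Form K W}

@[simp] theorem prodForm_B (u v) : (prodForm Φ Ψ).B u v = Φ.B u.1 v.1 + Ψ.B u.2 v.2 := rfl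
@[simp] theorem prodForm_N (v) : (prodForm Φ Ψ).N v = Φ.N v.1 + Ψ.N v.2 := rfl

theorem prodForm_nondeg (hΦ : Φ.Nondeg) (hΨ : Ψ.Nondeg) : (prodForm Φ Ψ).Nondeg := fun v h =>
  Prod.ext (hΦ _ fun u => by simpa using h (u, 0)) (hΨ _ fun u => by simpa using h (0, u))

theorem prod_mem {t s} (ht : t ∈ Φ.Isom) (hs : s ∈ Ψ.Isom) : t.prodCongr s ∈ (prodForm Φ Ψ).Isom :=
  ⟨fun u v => by simp [ht.1, hs.1], fun v => by simp [ht.2, hs.2]⟩

theorem exists_of_iso (h : Φ.Iso Ψ) {t} (ht : t ∈ Φ.Isom) : ∃ s ∈ Ψ.Isom, Sim (t : End F V) (s : End F W) :=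
  let ⟨e, h1, h2⟩ := h
  ⟨_, (Φ.isomCongr Ψ e h1 h2 ⟨t, ht⟩).2, e, fun v => by simp [isomCongr_apply]⟩

variable [FiniteDimensional F V] [FiniteDimensional F W]

theorem ss_prod {f : End F V} {g : End F W} (hf : f.IsSemisimple) (hg : g.IsSemisimple) :
    End.IsSemisimple (f.prodMap g) := by
  classical
  have h : minpoly F f * minpoly F g ≠ 0 := mul_ne_zero hf.minpoly_squarefree.ne_zero hg.minpoly_squarefree.ne_zero
  have key : ∀ P, minpoly F f ∣ P → minpoly F g ∣ P → aeval (f.prodMap g) P = 0 := fun P a b =>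
    LinearMap.ext fun v => Prod.ext
      ((map_aeval (LinearMap.fst F V W) (g := f) (fun _ => rfl) P v).trans (by simp [minpoly.dvd_iff.1 a]))
      ((map_aeval (LinearMap.snd F V W) (g := g) (fun _ => rfl) P v).trans (by simp [minpoly.dvd_iff.1 b]))
  exact End.isSemisimple_of_squarefree_aeval_eq_zero (p := UniqueFactorizationMonoid.radical (minpoly F f * minpoly F g))
    UniqueFactorizationMonoid.squarefree_radical (key _
      ((UniqueFactorizationMonoid.dvd_radical_iff hf.minpoly_squarefree.isRadical h).2 (dvd_mul_right _ _))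
      ((UniqueFactorizationMonoid.dvd_radical_iff hg.minpoly_squarefree.isRadical h).2 (dvd_mul_left _ _)))

end Prod

end Cfsg.Agent.Perm.Cj
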