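import Mathlib
import Cfsg.Agent.Lib.Perm.Cj5

set_option autoImplicit false

namespace Cfsg.Agent.Perm.Cj
open Module Polynomial Cfsg.Agent.Classical Cfsg.Agent.Classical.Form

universe u
variable {F : Type u} {V W : Type*} [Field F] [AddCommGroup V] [Module F V] [AddCommGroup W] [Module F W]

theorem card_fix_semi {σ : F →+* F} (hσ : σ ≠ RingHom.id F) (φ : V →+ V) (h1 : ∀ (c : F) v, φ (c • v) = σ c • φ v)
    (h2 : ∀ v, φ (φ v) = v) (h3 : ∀ a, σ (σ a) = a) : Nat.card {v // φ v = v} ^ 2 = Nat.card V := by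
  obtain ⟨a, ha⟩ := not_forall.1 fun h' => hσ (RingHom.ext h')
  replace ha : a - σ a ≠ 0 := sub_ne_zero.2 (Ne.symm ha)
  have hb : σ a - a ≠ 0 := by rwa [← neg_sub, neg_ne_zero]
  rw [sq, ← Nat.card_prod]
  refine Nat.card_congr (Equiv.ofBijective (fun x => x.1.1 + a • x.2.1) ⟨fun x y h => ?_, fun v =>
    ⟨(⟨(a - σ a)⁻¹ • (a • φ v - σ a • v), ?_⟩, ⟨(a - σ a)⁻¹ • (v - φ v), ?_⟩), ?_⟩⟩)
  · have h4 := congrArg φ h
    simp only [map_add, h1, x.1.2, x.2.2, y.1.2, y.2.2] at h4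
    have : x.2 = y.2 := Subtype.ext (smul_right_injective V ha (by linear_combination (norm := module) h - h4))
    exact Prod.ext (Subtype.ext (by simpa [this] using h)) this
  · simp only [h1, map_sub, h2, h3, map_inv₀]; match_scalars <;> field_simp <;> ring
  · simp only [h1, map_sub, h2, h3, map_inv₀]; match_scalars <;> field_simp <;> ring
  · match_scalars <;> field_simp <;> ring

theorem exists_poly (n : ℕ) (c : ℕ → F) (h : c n = 1) :
    ∃ P : F[X], P.Monic ∧ P.natDegree = n ∧ ∀ i ≤ n, P.coeff i = c i := by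
  have h1 : ∀ i ≤ n, (∑ j ∈ Finset.range (n + 1), monomial j (c j)).coeff i = c i := fun i hi => by
    simp [coeff_monomial, hi]
  have h2 : (∑ j ∈ Finset.range (n + 1), monomial j (c j)).natDegree ≤ n :=
    natDegree_sum_le_of_forall_le _ _ fun j hj => (natDegree_monomial_le _).trans (by simpa [Nat.lt_succ_iff] using hj)
  exact ⟨_, monic_of_natDegree_le_of_coeff_eq_one _ h2 ((h1 n le_rfl).trans h),
    natDegree_eq_of_le_of_coeff_ne_zero h2 (by simp [h1 n, h]), h1⟩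

theorem poly_ext {P Q : F[X]} {n : ℕ} (h1 : P.natDegree ≤ n) (h2 : Q.natDegree ≤ n)
    (h : ∀ i ≤ n, P.coeff i = Q.coeff i) : P = Q :=
  Polynomial.ext fun i => (le_or_gt i n).elim (h i) fun hi => by
    rw [coeff_eq_zero_of_natDegree_lt (h1.trans_lt hi), coeff_eq_zero_of_natDegree_lt (h2.trans_lt hi)]

theorem dual_iff {σ : F →+* F} {P : F[X]} : dual σ P = P ↔
    ∀ i ≤ P.natDegree, (σ (P.coeff 0))⁻¹ * σ (P.coeff (P.natDegree - i)) = P.coeff i :=
  ⟨fun h i hi => by rw [← revAt_le hi, ← coeff_dual, h], fun h => poly_ext ((natDegree_C_mul_le _ _).trans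
    ((reverse_natDegree_le _).trans natDegree_map_le)) le_rfl fun i hi => by rw [coeff_dual, revAt_le hi, h i hi]⟩

theorem card_unit_poly {σ : F →+* F} (hσ : σ ≠ RingHom.id F) (h3 : ∀ a, σ (σ a) = a) (n : ℕ) {ε : F} (h1 : σ ε = ε)
    (h2 : ε * ε = 1) : Nat.card {P : F[X] // P.Monic ∧ P.natDegree = n + 1 ∧ P.coeff 0 = ε ∧ dual σ P = P} ^ 2 =
      Nat.card F ^ n := by
  have h4 := eq_inv_of_mul_eq_one_left h2
  rw [← Nat.card_fin n, ← Nat.card_fun, Nat.card_fin, ← card_fix_semi hσ (V := Fin n → F)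
    ⟨⟨fun a i => ε * σ (a i.rev), by ext; simp⟩, fun a b => by ext; simp [mul_add]⟩
    (fun c a => by ext; simp [mul_left_comm]) (fun a => by ext; simp [h1, h3, ← mul_assoc, h2]) h3]
  congr 1
  refine Nat.card_congr (Equiv.ofBijective (fun P => ⟨fun i => P.1.coeff (i + 1), funext fun i => ?_⟩)
    ⟨fun P Q h => Subtype.ext (poly_ext P.2.2.1.le Q.2.2.1.le fun i hi => ?_), fun a => ?_⟩)
  · rw [← dual_iff.1 P.2.2.2.2 (i + 1) (by rw [P.2.2.1]; omega), P.2.2.2.1, h1, ← h4, P.2.2.1]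
    exact congrArg (fun j => ε * σ (P.1.coeff j)) (by simp; omega)
  · rcases i with _ | i
    · rw [P.2.2.2.1, Q.2.2.2.1]
    rcases hi.lt_or_eq with hi | hi
    · exact congrFun (congrArg Subtype.val h) ⟨i, by omega⟩
    · rw [hi]; exact (P.2.2.1 ▸ P.2.1.coeff_natDegree :).trans (Q.2.2.1 ▸ Q.2.1.coeff_natDegree :).symm
  obtain ⟨P, a1, a2, a3⟩ := exists_poly (n + 1) (fun i => if i = 0 then ε else if h : i - 1 < n then a.1 ⟨_, h⟩ else 1)
    (by simp)
  have a4 : P.coeff 0 = ε := by simp [a3]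
  refine ⟨⟨P, a1, a2, a4, dual_iff.2 fun i hi => ?_⟩, Subtype.ext (funext fun i => by simp [a3])⟩
  rw [a2] at hi
  rw [a4, h1, ← h4, a2, a3 _ hi, a3 _ (by omega)]
  split_ifs with b1 b2 b3 b4 b5 b6 b7 b8 <;> try omega
  · rw [h1, h2]
  · rw [← congrFun a.2 ⟨_, b6⟩]; exact congrArg (fun j => ε * σ (a.1 j)) (Fin.ext (by simp; omega))
  · simp

theorem card_symp_poly [Finite F] (n : ℕ) : Nat.card {P : F[X] // P.Monic ∧ P.natDegree = 2 * n ∧ P.coeff 0 = 1 ∧
    dual (RingHom.id F) P = P} = Nat.card F ^ n := by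
  rw [← Nat.card_fin n, ← Nat.card_fun, Nat.card_fin]
  refine Nat.card_congr (Equiv.ofBijective (fun P i => P.1.coeff (i + 1))
    ⟨fun P Q h => Subtype.ext (poly_ext P.2.2.1.le Q.2.2.1.le fun i hi => ?_), fun a => ?_⟩)
  · have : ∀ i ≤ n, P.1.coeff i = Q.1.coeff i := fun i hi => by
      rcases i with _ | i
      · rw [P.2.2.2.1, Q.2.2.2.1]
      · exact congrFun h ⟨i, by omega⟩
    rcases le_total i n with h1 | h1
    · exact this i h1
    rw [← dual_iff.1 P.2.2.2.2 i (hi.trans P.2.2.1.ge), ← dual_iff.1 Q.2.2.2.2 i (hi.trans Q.2.2.1.ge), P.2.2.1, Q.2.2.1,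
      this 0 (by omega), this _ (by omega)]
  obtain ⟨P, a1, a2, a3⟩ := exists_poly (2 * n) (fun i => if h : min i (2 * n - i) ≠ 0 ∧ min i (2 * n - i) - 1 < n then
    a ⟨_, h.2⟩ else 1) (by simp)
  have a4 : P.coeff 0 = 1 := by simp [a3]
  refine ⟨⟨P, a1, a2, a4, dual_iff.2 fun i hi => ?_⟩, funext fun i => ?_⟩
  · rw [a2] at hi
    simp only [a4, a2, a3 _ hi, a3 _ (Nat.sub_le _ _), Nat.sub_sub_self hi, min_comm]; simp
  · have : min (i.1 + 1) (2 * n - (i + 1)) = i + 1 := by omega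
    simp [a3 (i + 1) (by omega), this]

variable [FiniteDimensional F V] [FiniteDimensional F W]

theorem symp_det {Φ : Form (Kind.symp F) V} (hΦ : Φ.Nondeg) {g} (hg : g ∈ Φ.Isom) : LinearEquiv.det g = 1 :=
  (Subgroup.closure_le LinearEquiv.det.ker).2 (by
    rintro _ ⟨d, c, h, -, rfl⟩; exact Units.ext (by simpa [Φ.B_self] using det_qrefl Φ d c h)) (symp_closure_transvSet hΦ ▸ hg)

theorem symp_coeff {Φ : Form (Kind.symp F) V} (hΦ : Φ.Nondeg) {g} (hg : g ∈ Φ.Isom) :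
    (g : End F V).charpoly.coeff 0 = 1 := by
  simpa [symp_det hΦ hg, (symp_even _ Φ hΦ rfl).neg_one_pow] using (det_eq_coeff g).symm

theorem charpoly_neg : ((LinearEquiv.neg F : V ≃ₗ[F] V) : End F V).charpoly = (X + 1) ^ finrank F V := by
  classical
  rw [← LinearMap.charpoly_toMatrix _ (finBasis F V), show LinearMap.toMatrix _ _ ((LinearEquiv.neg F : V ≃ₗ[F] V) : End F V) =
    .diagonal fun _ => -1 by ext i j; simp [LinearMap.toMatrix_apply, Matrix.diagonal_apply, Finsupp.single_apply, eq_comm]; split_ifs <;> simp,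
    Matrix.charpoly_diagonal]
  simp

theorem eq_zero_of_not_root {f : End F V} {c : F} (h : ¬ X - C c ∣ f.charpoly) {v : V} (hv : f v = c • v) : v = 0 :=
  by_contra fun h0 => h (dvd_iff_isRoot.2 ((End.hasEigenvalue_iff_isRoot_charpoly f c).1
    (End.hasEigenvalue_of_hasEigenvector ⟨End.mem_eigenspace_iff.2 hv, h0⟩)))

theorem sq_fix {t : V ≃ₗ[F] V} (h1 : ¬ X - C 1 ∣ (t : End F V).charpoly) (h2 : ¬ X - C (-1) ∣ (t : End F V).charpoly)
    (v : V) (h : t (t v) = v) : v = 0 :=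
  eq_zero_of_not_root h1 (by simpa [sub_eq_zero] using eq_zero_of_not_root h2 (v := t v - v) (by simp [h]))

theorem charpoly_prod (t : V ≃ₗ[F] V) (s : W ≃ₗ[F] W) : (t.prodCongr s : End F (V × W)).charpoly =
    (t : End F V).charpoly * (s : End F W).charpoly := LinearMap.charpoly_prodMap (t : End F V) (s : End F W)

theorem ss_prod' {t : V ≃ₗ[F] V} {s : W ≃ₗ[F] W} (h1 : End.IsSemisimple (t : End F V))
    (h2 : End.IsSemisimple (s : End F W)) : End.IsSemisimple (t.prodCongr s : End F (V × W)) := ss_prod h1 h2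

theorem charpoly_one' : ((1 : V ≃ₗ[F] V) : End F V).charpoly = (X - C 1) ^ finrank F V := LinearMap.charpoly_one

omit [FiniteDimensional F V] in
theorem ss_one : End.IsSemisimple ((1 : V ≃ₗ[F] V) : End F V) := End.isSemisimple_id

omit [FiniteDimensional F V] in
theorem ss_neg : End.IsSemisimple ((LinearEquiv.neg F : V ≃ₗ[F] V) : End F V) :=
  End.isSemisimple_neg.2 End.isSemisimple_id

theorem exists_symp_ext {Φ : Form (Kind.symp F) V} (hΦ : Φ.Nondeg) {Ψ : Form (Kind.symp F) W} (hΨ : Ψ.Nondeg)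
    {s} (hs : s ∈ Ψ.Isom) (s1 : End.IsSemisimple (s : End F W)) (a b : ℕ)
    (h : finrank F V = 2 * a + (2 * b + finrank F W)) {P : F[X]}
    (hP : P = (X - C 1) ^ (2 * a) * ((X - C (-1)) ^ (2 * b) * (s : End F W).charpoly)) :
    ∃ t ∈ Φ.Isom, End.IsSemisimple (t : End F V) ∧ (t : End F V).charpoly = P := by
  have h7 := prodForm_nondeg (spForm_nondeg (F := F) a) (prodForm_nondeg (spForm_nondeg (F := F) b) hΨ)
  obtain ⟨t, ht, H⟩ := exists_of_iso (symp_iso _ _ Φ h7 hΦ rfl (by simp [h, two_mul]))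
    (prod_mem (one_mem _) (prod_mem (neg_mem_Isom _) hs))
  refine ⟨t, ht, H.ss (ss_prod' ss_one (ss_prod' ss_neg s1)), ?_⟩
  rw [← H.charpoly, hP, charpoly_prod, charpoly_prod, charpoly_one', charpoly_neg]
  simp [two_mul]

theorem exists_symp_ss [Finite F] {Φ : Form (Kind.symp F) V} (hΦ : Φ.Nondeg) {P : F[X]} (h1 : P.Monic)
    (h2 : P.natDegree = finrank F V) (h3 : P.coeff 0 = 1) (h4 : dual (RingHom.id F) P = P) :
    ∃ t ∈ Φ.Isom, End.IsSemisimple (t : End F V) ∧ (t : End F V).charpoly = P := by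
  obtain ⟨Q, e1, hQ⟩ := exists_eq_pow_rootMultiplicity_mul_and_not_dvd P h1.ne_zero 1
  obtain ⟨R, e2, hR⟩ := exists_eq_pow_rootMultiplicity_mul_and_not_dvd Q (by rintro rfl; simp at hQ) (-1)
  have h0 : (2 : F) = 0 → rootMultiplicity (-1) Q = 0 := fun h => rootMultiplicity_eq_zero fun h' =>
    hQ (dvd_iff_isRoot.2 (by rwa [show (1 : F) = -1 by linear_combination h]))
  generalize rootMultiplicity 1 P = a at *
  generalize rootMultiplicity (-1) Q = b at *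
  subst e2 e1
  have m1 := (monic_X_sub_C (1 : F)).pow a
  have m2 := (monic_X_sub_C (-1 : F)).pow b
  have h5 : R.Monic := m2.of_mul_monic_left (m1.of_mul_monic_left h1)
  have d1 := dual_X_pow (RingHom.id F) one_ne_zero (-1) (by simp)
  have d2 := dual_X_pow (RingHom.id F) one_ne_zero 1 (by simp)
  rw [map_mul, map_mul, map_pow, map_pow, show dual _ (X - C (1 : F)) = X - C 1 by simpa [sub_eq_add_neg] using d1,
    show dual _ (X - C (-1 : F)) = X - C (-1) by simpa using d2, mul_right_inj' m1.ne_zero, mul_right_inj' m2.ne_zero] at h4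
  simp only [mul_coeff_zero, coeff_zero_eq_eval_zero, eval_mul, eval_pow, eval_sub, eval_X, eval_C, zero_sub, neg_neg,
    one_pow, one_mul] at h3
  obtain ⟨s, s1, s2⟩ := exists_ss' (V := Fin R.natDegree → F) h5 (by simp)
    (by rw [coeff_zero_eq_eval_zero]; exact right_ne_zero_of_mul_eq_one h3)
  obtain ⟨Ψ, hΨ, s3⟩ := exists_symp_form (t := s) (sq_fix (by rw [s2]; exact fun h => hQ (h.mul_left _)) (by rwa [s2]))
    (inv_of_ss (fun _ => rfl) s1 (by rwa [s2]))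
  have h6 := symp_coeff hΨ s3
  rw [s2, coeff_zero_eq_eval_zero] at h6
  obtain ⟨k, hk⟩ := symp_even _ Ψ hΨ rfl
  obtain ⟨l, hl⟩ := symp_even _ Φ hΦ rfl
  rw [m1.natDegree_mul (m2.mul h5), m2.natDegree_mul h5] at h2
  simp only [natDegree_pow, natDegree_X_sub_C, finrank_fintype_fun_eq_card, Fintype.card_fin] at h2 hk
  obtain ⟨a, rfl⟩ : Even a := by
    by_cases h : (2 : F) = 0
    · exact ⟨l - k, by have := h0 h; omega⟩
    · exact (neg_one_pow_eq_one_iff_even fun h' => h (by linear_combination -h')).1 (by simpa [h6] using h3)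
  obtain ⟨b, rfl⟩ : Even b := ⟨l - k - a, by omega⟩
  exact exists_symp_ext hΦ hΨ s3 s1 a b (by simp; omega) (by rw [s2, two_mul, two_mul])

theorem exists_unit_of [Finite F] {σ : F →+* F} {hσ2 : ∀ a, σ (σ a) = a} (hσ : σ ≠ RingHom.id F)
    {Φ : Form (Kind.unit σ hσ2) V} (hΦ : Φ.Nondeg) {t : V ≃ₗ[F] V}
    (h : ∃ B : V →ₗ[F] V →ₛₗ[σ] F, (∀ v, (∀ u, B u v = 0) → v = 0) ∧ ∀ u v, B (t u) (t v) = B u v) :
    ∃ s ∈ Φ.Isom, Sim (t : End F V) (s : End F V) :=
  let ⟨Ψ, h1, h2⟩ := exists_unit_form hσ2 hσ h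
  exists_of_iso (unit_iso hσ _ Ψ Φ h1 hΦ rfl rfl) h2

theorem exists_unit_ss [Finite F] {σ : F →+* F} {hσ2 : ∀ a, σ (σ a) = a} (hσ : σ ≠ RingHom.id F)
    {Φ : Form (Kind.unit σ hσ2) V} (hΦ : Φ.Nondeg) {P : F[X]} (h1 : P.Monic)
    (h2 : P.natDegree = finrank F V) (h3 : P.coeff 0 ≠ 0) (h4 : dual σ P = P) :
    ∃ t ∈ Φ.Isom, End.IsSemisimple (t : End F V) ∧ (t : End F V).charpoly = P := by
  obtain ⟨s, s1, rfl⟩ := exists_ss' h1 h2 h3
  obtain ⟨t, ht, H⟩ := exists_unit_of hσ hΦ (inv_of_ss hσ2 s1 h4)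
  exact ⟨t, ht, H.ss s1, H.charpoly.symm⟩

theorem unit_iff_sim [Finite F] {σ : F →+* F} {hσ2 : ∀ a, σ (σ a) = a} (hσ : σ ≠ RingHom.id F)
    {Φ : Form (Kind.unit σ hσ2) V} (hΦ : Φ.Nondeg) {t s : V ≃ₗ[F] V} (h : ∀ u v, Φ.B (s u) (t v) = Φ.B u v) :
    (∃ r ∈ Φ.Isom, Sim (t : End F V) (r : End F V)) ↔ Sim (t : End F V) (s : End F V) := by
  refine ⟨fun ⟨r, hr, e, he⟩ => ?_, fun H => exists_unit_of hσ hΦ (inv_of_sim hΦ h H)⟩
  obtain ⟨c, hc⟩ := exists_rep (Kind.unit σ hσ2).σσ hΦ (Φ.comap (e : V →ₗ[F] V)).B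
  replace hc : ∀ u v, Φ.B (c u) v = Φ.B (e u) (e v) := fun u v => by rw [Φ.symm, hc, Φ.symm (e v)]; rfl
  have h1 : Function.Injective c := (injective_iff_map_eq_zero _).2 fun v hv => e.map_eq_zero_iff.1
    (hΦ.left fun u => by simpa [hv] using (hc v (e.symm u)).symm)
  refine ⟨.ofInjectiveEndo c h1, fun v => sub_eq_zero.1 (hΦ.left fun u => ?_)⟩
  obtain ⟨u, rfl⟩ := t.surjective u
  have h2 : ∀ v, e (t v) = r (e v) := he
  simp [hc, h, h2, hr.1 _]

end Cfsg.Agent.Perm.Cj
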