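import Mathlib
import Cfsg.Agent.Lib.Perm.Cj6

set_option autoImplicit false

namespace Cfsg.Agent.Perm.Cj
open Module Polynomial Cfsg.Agent.Classical Cfsg.Agent.Classical.Form

section Comb
variable {α : Type*}

theorem card_split (P Q : α → Prop) [Finite {a // P a}] :
    Nat.card {a // P a} = Nat.card {a // P a ∧ Q a} + Nat.card {a // P a ∧ ¬ Q a} := by
  classical
  rw [← Nat.card_congr (Equiv.sumCompl fun a : {a // P a} => Q a), Nat.card_sum,
    Nat.card_congr (Equiv.subtypeSubtypeEquivSubtypeInter P Q),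
    Nat.card_congr (Equiv.subtypeSubtypeEquivSubtypeInter P (¬ Q ·))]

variable (J : Set α) [Finite J]

theorem ms_fin (k : ℕ) : Finite {s : Multiset α // (∀ a ∈ s, a ∈ J) ∧ s.card ≤ k} := by
  have := (List.finite_length_le J k).to_subtype
  refine Finite.of_surjective (fun l : {l : List J | l.length ≤ k} => (⟨(l.1 : Multiset J).map Subtype.val, by simp +contextual,
    by simpa using (show l.1.length ≤ k from l.2)⟩ : {s : Multiset α // (∀ a ∈ s, a ∈ J) ∧ s.card ≤ k})) fun ⟨s, h1, h2⟩ => ?_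
  lift s to Multiset J using h1
  induction s using Quotient.inductionOn
  exact ⟨⟨_, by simpa using h2⟩, rfl⟩

theorem ms_eq (k : ℕ) :
    Nat.card {s : Multiset α // (∀ a ∈ s, a ∈ J) ∧ s.card = k} = (Nat.card J + k - 1).choose k := by
  rw [← Sym.natCard_sym_eq_choose]
  refine (Nat.card_congr (Equiv.ofBijective (fun s : Sym J k => (⟨s.1.map Subtype.val, by simp +contextual, by simp⟩ :
    {s : Multiset α // (∀ a ∈ s, a ∈ J) ∧ s.card = k}))
    ⟨fun s t h => Subtype.ext (Multiset.map_injective Subtype.val_injective (congrArg Subtype.val h)),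
    fun ⟨s, h1, h2⟩ => ?_⟩)).symm
  lift s to Multiset J using h1
  exact ⟨⟨s, by simpa using h2⟩, rfl⟩

theorem ms_le (k : ℕ) :
    Nat.card {s : Multiset α // (∀ a ∈ s, a ∈ J) ∧ s.card ≤ k} = (k + Nat.card J).choose (Nat.card J) := by
  induction k with
  | zero => simp only [Nat.le_zero, ms_eq]; simp
  | succ k ih =>
    have := ms_fin J (k + 1)
    rw [card_split _ (·.card = k + 1)]
    simp only [and_assoc, show ∀ a, a ≤ k + 1 ∧ a = k + 1 ↔ a = k + 1 by omega,
      show ∀ a, a ≤ k + 1 ∧ ¬ a = k + 1 ↔ a ≤ k by omega, ms_eq, ih]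
    rw [← Nat.choose_symm_add, ← Nat.choose_symm_add, add_right_comm, Nat.choose_succ_succ', add_comm]
    congr 2; omega

theorem ms_cond (hJ : 0 < Nat.card J) (k : ℕ) (B : Prop) [Decidable B] :
    Nat.card {s : Multiset α // (∀ a ∈ s, a ∈ J) ∧ s.card ≤ k ∧ (s.card = k → ¬ B)} =
    (k + Nat.card J).choose (Nat.card J) - if B then (k + Nat.card J - 1).choose (Nat.card J - 1) else 0 := by
  have := ms_fin J k
  rw [← ms_le, card_split (fun s : Multiset α => (∀ a ∈ s, a ∈ J) ∧ s.card ≤ k) (·.card = k)]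
  split_ifs with h
  · simp only [and_assoc, show ∀ a, a ≤ k ∧ a = k ↔ a = k by omega, ms_eq, h, not_true, imp_false]
    rw [show Nat.card J + k - 1 = k + (Nat.card J - 1) by omega, show k + Nat.card J - 1 = k + (Nat.card J - 1) by omega,
      Nat.choose_symm_add, Nat.add_sub_cancel_left]
  · simp [h, ← card_split]

theorem ms_inv (δ : α → α) (h1 : ∀ a ∈ J, δ a ∈ J ∧ δ (δ a) = a ∧ δ a ≠ a) : ∃ J' ⊆ J, 2 * Nat.card J' = Nat.card J ∧
    ∀ A : ℕ → Prop, Nat.card {s : Multiset α // (∀ a ∈ s, a ∈ J) ∧ s.map δ = s ∧ A s.card} =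
      Nat.card {s : Multiset α // (∀ a ∈ s, a ∈ J') ∧ A (2 * s.card)} := by
  classical
  let _ := IsWellOrder.linearOrder (WellOrderingRel (α := α))
  have key : ∀ s : Multiset α, (∀ a ∈ s, a ∈ J) → s.map δ = s →
      s.filter (fun a => a < δ a) + (s.filter fun a => a < δ a).map δ = s := fun s hs h => by
    conv_rhs => rw [← s.filter_add_not (fun a => a < δ a)]
    congr 1
    conv_rhs => rw [← h, Multiset.filter_map]
    exact congrArg _ (Multiset.filter_congr fun a ha => by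
      simp [(h1 a (hs a ha)).2.1, (h1 a (hs a ha)).2.2.symm.le_iff_lt])
  have hJ := Set.toFinite J
  refine ⟨{a ∈ J | a < δ a}, fun _ h => h.1, ?_, fun A => .symm ?_⟩
  rotate_left
  refine Nat.card_congr (Equiv.ofBijective (fun s => ⟨s.1 + s.1.map δ, ?_, ?_, by simpa [two_mul] using s.2.2⟩) ?_)
  rotate_left 2
  refine ⟨fun s t h => Subtype.ext ?_, fun s => ⟨⟨s.1.filter (fun a => a < δ a),
    fun a ha => ⟨s.2.1 a (Multiset.mem_of_mem_filter ha), Multiset.of_mem_filter (p := fun a => a < δ a) ha⟩, ?_⟩,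
    Subtype.ext (key _ s.2.1 s.2.2.1)⟩⟩
  rotate_left 2
  · have := congrArg Multiset.card (key hJ.toFinset.val (by simp) ((Multiset.Nodup.ext (hJ.toFinset.nodup.map_on
      fun a ha b hb h => by rw [← (h1 a (by simpa using ha)).2.1, h, (h1 b (by simpa using hb)).2.1]) hJ.toFinset.nodup).2
      fun a => by simpa using ⟨by rintro ⟨a, h, rfl⟩; exact (h1 a h).1, fun h => ⟨_, (h1 a h).1, (h1 a h).2.1⟩⟩))
    rw [Multiset.card_add, Multiset.card_map, ← two_mul, ← Finset.filter_val, Finset.card_val, Finset.card_val] at this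
    rw [Nat.card_eq_card_finite_toFinset hJ, ← this, ← Nat.card_eq_finsetCard]
    simp; rfl
  · simp only [Multiset.mem_add, Multiset.mem_map]
    rintro _ (h | ⟨a, h, rfl⟩)
    exacts [(s.2.1 _ h).1, (h1 _ (s.2.1 _ h).1).1]
  · rw [Multiset.map_add, Multiset.map_map, add_comm, Multiset.map_congr (f := δ ∘ δ) rfl fun a h => (h1 a (s.2.1 a h).1).2.1]; simp
  · have : ∀ s : Multiset α, (∀ a ∈ s, a ∈ J ∧ a < δ a) → (s + s.map δ).filter (fun a => a < δ a) = s := fun s hs => by
      rw [Multiset.filter_add, Multiset.filter_eq_self.2 fun a h => (hs a h).2, Multiset.filter_eq_nil.2, add_zero]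
      simp only [Multiset.mem_map]
      rintro _ ⟨a, h, rfl⟩
      simpa [(h1 a (hs a h).1).2.1] using (hs a h).2.le
    rw [← this _ s.2.1, ← this _ t.2.1]; exact congrArg _ (congrArg Subtype.val h)
  · have := s.2.2.2
    rw [← key _ s.2.1 s.2.2.1] at this
    simpa [two_mul] using this

end Comb

universe u
variable {F : Type u} {V W : Type*} [Field F] [AddCommGroup V] [Module F V] [AddCommGroup W] [Module F W]

section Cf
open UniqueFactorizationMonoid

/-- irreducible factors of a cyclotomic polynomial -/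
def cf (F : Type u) [Field F] (r : ℕ) : Set F[X] := {f | Irreducible f ∧ f.Monic ∧ f ∣ cyclotomic r F}

theorem cf_eq [DecidableEq F] (r : ℕ) : cf F r = (normalizedFactors (cyclotomic r F)).toFinset :=
  Set.ext fun _ => (Polynomial.mem_normalizedFactors_iff (cyclotomic_ne_zero r F)).symm.trans Multiset.mem_toFinset.symm

instance cf_finite (r : ℕ) : Finite (cf F r) := by classical rw [cf_eq]; infer_instance

variable {r : ℕ}

theorem cf_spec [Finite F] (hr : r.Prime) [NeZero (r : F)] : (∀ f ∈ cf F r, f.natDegree = orderOf (Nat.card F : ZMod r)) ∧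
    Nat.card (cf F r) = (r - 1) / orderOf (Nat.card F : ZMod r) := by
  classical
  have := Fintype.ofFinite F
  obtain ⟨p, hc⟩ := CharP.exists F
  obtain ⟨n, hp, hn⟩ := FiniteField.card F p
  have := Fact.mk hp
  have h : p.Coprime r := hp.coprime_iff_not_dvd.2 fun h => NeZero.ne (r : F) ((CharP.cast_eq_zero_iff F p r).2 h)
  have h1 : orderOf (Nat.card F : ZMod r) = orderOf (ZMod.unitOfCoprime _ (h.pow_left n)) := by
    rw [← orderOf_units, Nat.card_eq_fintype_card, hn]; rfl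
  refine ⟨fun f hf => h1 ▸ natDegree_of_dvd_cyclotomic_of_irreducible hn h hf.2.2 hf.1, ?_⟩
  rw [cf_eq, h1, ← Nat.totient_prime hr, ← normalizedFactors_cyclotomic_card hn h, ← Nat.card_eq_finsetCard]; rfl

theorem cf_root [NeZero (r : F)] {c : F} {s : Multiset F[X]} (hs : ∀ f ∈ s, f ∈ cf F r) (h : X - C c ∣ s.prod) :
    IsPrimitiveRoot c r :=
  let ⟨f, h1, h2⟩ := (prime_X_sub_C c).exists_mem_multiset_dvd h
  isRoot_cyclotomic_iff.1 (dvd_iff_isRoot.1 (h2.trans (hs f h1).2.2))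

theorem cf_monic {s : Multiset F[X]} (hs : ∀ f ∈ s, f ∈ cf F r) : s.prod.Monic := by
  simpa using monic_multiset_prod_of_monic s id fun f h => (hs f h).2.1

theorem cf_deg {s : Multiset F[X]} (hs : ∀ f ∈ s, f ∈ cf F r) {i : ℕ} (hi : ∀ f ∈ cf F r, f.natDegree = i) :
    s.prod.natDegree = i * s.card := by
  rw [natDegree_multiset_prod_of_monic _ fun f h => (hs f h).2.1, Multiset.map_congr rfl fun f h => hi f (hs f h)]
  simp [mul_comm]

theorem cf_inj (hr : r.Prime) [NeZero (r : F)] {s s' : Multiset F[X]} (hs : ∀ f ∈ s, f ∈ cf F r)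
    (hs' : ∀ f ∈ s', f ∈ cf F r) {a a' : ℕ} (h : (X - C 1) ^ a * s.prod = (X - C 1) ^ a' * s'.prod) : s = s' := by
  classical
  have h1 : ∀ (s : Multiset F[X]) (a : ℕ), (∀ f ∈ s, f ∈ cf F r) → rootMultiplicity 1 ((X - C 1) ^ a * s.prod) = a :=
    fun s a hs => by
      rw [mul_comm, rootMultiplicity_mul_X_sub_C_pow (cf_monic hs).ne_zero, rootMultiplicity_eq_zero, zero_add]
      exact fun h => (cf_root hs (dvd_iff_isRoot.2 h)).ne_one hr.one_lt rfl
  have h2 : ∀ s : Multiset F[X], (∀ f ∈ s, f ∈ cf F r) → normalizedFactors s.prod = s := fun s hs => by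
    rw [normalizedFactors_prod_eq _ fun f h => (hs f h).1,
      Multiset.map_congr rfl fun f h => (hs f h).2.1.normalize_eq_self, Multiset.map_id']
  obtain rfl : a = a' := by rw [← h1 s a hs, h, h1 s' a' hs']
  rw [← h2 s hs, mul_left_cancel₀ ((monic_X_sub_C 1).pow a).ne_zero h, h2 s' hs']

theorem dual_X_sub (σ : F →+* F) : dual σ (X - C 1) = X - C 1 := by
  simpa [sub_eq_add_neg] using dual_X_pow σ one_ne_zero (-1) (by simp)

theorem dual_cyc (hr : r.Prime) (σ : F →+* F) : dual σ (cyclotomic r F) = cyclotomic r F := by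
  have := Fact.mk hr
  have h := dual_X_pow σ hr.ne_zero (-1) (by simp)
  rw [C_neg, ← sub_eq_add_neg, C_1, ← cyclotomic_prime_mul_X_sub_one, map_mul, ← C_1, dual_X_sub] at h
  exact mul_right_cancel₀ (X_sub_C_ne_zero 1) h

theorem cf_coeff (hr : r.Prime) {f : F[X]} (h : f ∈ cf F r) : f.coeff 0 ≠ 0 := fun h0 => by
  have := X_dvd_iff.1 ((X_dvd_iff.2 h0).trans h.2.2)
  rw [cyclotomic_coeff_zero _ hr.one_lt] at this
  exact one_ne_zero this

theorem dual_cf [Finite F] (hr : r.Prime) [NeZero (r : F)] {σ : F →+* F} (hσ : ∀ a, σ (σ a) = a) {f : F[X]}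
    (h : f ∈ cf F r) : dual σ f ∈ cf F r := by
  obtain ⟨h1, h2, -⟩ := dual_spec hσ h.2.1 (cf_coeff hr h)
  have h3 : dual σ f ∣ cyclotomic r F := (map_dvd (dual σ) h.2.2).trans (dual_cyc hr σ).dvd
  obtain ⟨g, g1, g2, g3⟩ := exists_monic_irreducible_factor (dual σ f) (not_isUnit_of_natDegree_pos _
    (h.1.natDegree_pos.trans_eq h2.symm))
  have g4 : g ∈ cf F r := ⟨g2, g1, g3.trans h3⟩
  have := eq_of_monic_of_dvd_of_natDegree_le g1 h1 g3
    (h2.trans (((cf_spec hr).1 f h).trans ((cf_spec hr).1 g g4).symm)).le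
  rwa [this]

theorem root_iff {K : Type*} [Field K] [Finite K] [Algebra F K] (ζ x : K) :
    aeval x (minpoly F ζ) = 0 ↔ ∃ j, x = ζ ^ Nat.card F ^ j := by
  have := Finite.of_injective _ (algebraMap F K).injective
  have := Fintype.ofFinite F
  refine ⟨fun hx => ?_, ?_⟩
  · obtain ⟨g, rfl⟩ := minpoly.exists_algEquiv_of_root' (Algebra.IsAlgebraic.isAlgebraic ζ) hx
    obtain ⟨j, rfl⟩ := (FiniteField.bijective_frobeniusAlgEquivOfAlgebraic_pow F _).2 g
    exact ⟨j, by simp [FiniteField.coe_frobeniusAlgEquivOfAlgebraic_iterate]⟩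
  · rintro ⟨j, rfl⟩
    simpa [FiniteField.coe_frobeniusAlgEquivOfAlgebraic_iterate] using
      aeval_algHom_apply (FiniteField.frobeniusAlgEquivOfAlgebraic F _ ^ j) ζ (minpoly F ζ)

theorem dual_fix_iff [Finite F] (hr : r.Prime) [NeZero (r : F)] {σ : F →+* F} (hσ : ∀ a, σ (σ a) = a) {p k : ℕ}
    [Fact p.Prime] [CharP F p] (he : ∀ a, σ a = a ^ p ^ k) {f : F[X]} (h : f ∈ cf F r) :
    dual σ f = f ↔ ∃ j, (p ^ k * Nat.card F ^ j : ZMod r) = -1 := by
  obtain ⟨K, _, _, _, ζ, m1⟩ : ∃ (K : Type u) (_ : Field K) (_ : Algebra F K) (_ : Finite K) (ζ : K), minpoly F ζ = f := by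
    have := Fact.mk h.1
    have := h.2.1.finite_adjoinRoot
    exact ⟨AdjoinRoot f, inferInstance, inferInstance, Module.finite_of_finite F, _,
      by simpa [h.2.1.leadingCoeff] using AdjoinRoot.minpoly_root h.1.ne_zero⟩
  have := charP_of_injective_algebraMap (algebraMap F K).injective p
  have : NeZero (r : K) := .of_faithfulSMul F K r
  have h1 : aeval ζ f = 0 := m1 ▸ minpoly.aeval F ζ
  have hζ : IsPrimitiveRoot ζ r := isRoot_cyclotomic_iff.1 (by
    rw [← map_cyclotomic r (algebraMap F _), IsRoot, eval_map_algebraMap]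
    exact aeval_eq_zero_of_dvd_aeval_eq_zero h.2.2 h1)
  have h0 := hζ.ne_zero hr.ne_zero
  obtain ⟨y, hy⟩ := (bijective_iterateFrobenius K p k).2 ζ⁻¹
  have h2 : aeval ζ⁻¹ (f.map σ) = iterateFrobenius _ p k (aeval y f) := by
    rw [← hy, aeval_def, aeval_def, hom_eval₂, eval₂_map]; congr 1; ext a; simp [he, iterateFrobenius_def]
  have h3 := dual_cf hr hσ h
  rw [show dual σ f = f ↔ aeval ζ (dual σ f) = 0 from ⟨fun e => e.symm ▸ h1, fun e =>
    (minpoly.eq_of_irreducible_of_monic h3.1 e h3.2.1).trans m1⟩, aeval_dual (cf_coeff hr h) h0, h2, map_eq_zero,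
    ← m1, root_iff]
  refine exists_congr fun j => ?_
  rw [← (iterateFrobenius K p k).injective.eq_iff, hy, iterateFrobenius_def, ← pow_mul, 
    ← mul_eq_one_iff_inv_eq₀ h0, ← pow_succ', hζ.pow_eq_one_iff_dvd, ← ZMod.natCast_eq_zero_iff,
    ← add_eq_zero_iff_eq_neg]
  push_cast; rw [mul_comm]

end Cf

end Cfsg.Agent.Perm.Cj
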