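import Mathlib
import Cfsg.Agent.Lib.Perm.Cj7

set_option autoImplicit false

namespace Cfsg.Agent.Perm.Cj
open Module Polynomial Cfsg.Agent.Classical Cfsg.Agent.Classical.Form

theorem pow_eq_neg_one_iff {r : ℕ} [Fact r.Prime] (hr2 : r ≠ 2) {x : ZMod r} (hx : x ≠ 0) (n : ℕ) :
    x ^ n = -1 ↔ ∃ h, orderOf x = 2 * h ∧ n ≡ h [MOD 2 * h] := by
  have : Fact (2 < r) := ⟨lt_of_le_of_ne (Fact.out : r.Prime).two_le hr2.symm⟩
  have h0 := orderOf_pos_iff.2 (isOfFinOrder_iff_pow_eq_one.2 ⟨_, by have := this.out; omega, ZMod.pow_card_sub_one_eq_one hx⟩)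
  have h1 : ∀ h, orderOf x = 2 * h → x ^ h = -1 := fun h e => (sq_eq_one_iff.1 (by
    rw [← pow_mul', ← e, pow_orderOf_eq_one])).resolve_left (pow_ne_one_of_lt_orderOf (by omega) (by omega))
  refine ⟨fun H => ?_, fun ⟨h, e, H⟩ => by rw [← h1 h e, (orderOf_pos_iff.1 h0).pow_eq_pow_iff_modEq, e]; exact H⟩
  obtain ⟨h, e⟩ : 2 ∣ orderOf x := by_contra fun h => ZMod.neg_one_ne_one (n := r) (H ▸ orderOf_dvd_iff_pow_eq_one.1
    ((Nat.prime_two.coprime_iff_not_dvd.2 h).symm.dvd_of_dvd_mul_left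
      (orderOf_dvd_iff_pow_eq_one.2 (by rw [pow_mul', H, neg_one_sq]))))
  exact ⟨h, e, by rw [← e, ← (orderOf_pos_iff.1 h0).pow_eq_pow_iff_modEq, H, h1 h e]⟩

theorem card_ord_sub {G : Type*} [Group G] [Finite G] {r : ℕ} (hr : r.Prime) :
    Nat.card {C : ConjClasses G // ∃ g, ConjClasses.mk g = C ∧ orderOf g = r} =
      Nat.card {C : ConjClasses G // ∃ g, ConjClasses.mk g = C ∧ orderOf g ∣ r} - 1 := by
  rw [card_split (fun C : ConjClasses G => ∃ g, ConjClasses.mk g = C ∧ orderOf g ∣ r) (· = 1),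
    Nat.card_eq_one_iff_exists (α := {C // _ ∧ C = 1}).2 ⟨⟨1, ⟨1, rfl, by simp⟩, rfl⟩, fun a => Subtype.ext a.2.2⟩,
    Nat.add_sub_cancel_left]
  refine Nat.card_congr (Equiv.subtypeEquivRight fun C => ⟨?_, ?_⟩)
  · rintro ⟨g, rfl, h⟩
    exact ⟨⟨g, rfl, h.dvd⟩, fun e => hr.ne_one (by
      rw [← h, isConj_one_left.1 (ConjClasses.mk_eq_mk_iff_isConj.1 e), orderOf_one])⟩
  · rintro ⟨⟨g, rfl, h⟩, e⟩
    exact ⟨g, rfl, ((Nat.dvd_prime hr).1 h).resolve_left fun h => e (by rw [orderOf_eq_one_iff.1 h]; rfl)⟩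

universe u
variable {F : Type u} {V W : Type*} [Field F] [AddCommGroup V] [Module F V] [AddCommGroup W] [Module F W]
  [FiniteDimensional F V] [FiniteDimensional F W] {r : ℕ}

theorem card_ne [Finite F] (hr : r.Prime) [NeZero (r : F)] : (Nat.card F : ZMod r) ≠ 0 := fun h => by
  have := Fintype.ofFinite F
  obtain ⟨n, hp, hn⟩ := FiniteField.card F (ringChar F)
  rw [ZMod.natCast_eq_zero_iff, Nat.card_eq_fintype_card, hn] at h
  exact NeZero.ne (r : F) (by rw [(Nat.prime_dvd_prime_iff_eq hr hp).1 (hr.dvd_of_dvd_pow h), ringChar.Nat.cast_ringChar])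

theorem ss_of_r (hr : r.Prime) [NeZero (r : F)] {t : V ≃ₗ[F] V} (h : t ^ r = 1) : End.IsSemisimple (t : End F V) :=
  End.isSemisimple_of_squarefree_aeval_eq_zero (separable_X_pow_sub_C 1 (NeZero.ne (r : F)) one_ne_zero).squarefree
    (by simp [lin_pow_eq_one.2 h])

theorem pow_r_iff (hr : r.Prime) [NeZero (r : F)] {t : V ≃ₗ[F] V} : t ^ r = 1 ↔ End.IsSemisimple (t : End F V) ∧
    ∃ (s : Multiset F[X]) (a : ℕ), (∀ f ∈ s, f ∈ cf F r) ∧ (t : End F V).charpoly = (X - C 1) ^ a * s.prod := by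
  classical
  have := Fact.mk hr
  have h0 : (X ^ r - 1 : F[X]) = cyclotomic r F * (X - C 1) := (cyclotomic_prime_mul_X_sub_one F r).symm
  refine ⟨fun h => ⟨ss_of_r hr h, ?_⟩, fun ⟨h, s, a, h1, h2⟩ => ?_⟩
  · obtain ⟨ι, _, p, hp, H⟩ := exists_mdl_sqf (f := (t : End F V))
      (separable_X_pow_sub_C 1 (NeZero.ne (r : F)) one_ne_zero).squarefree (by simp [lin_pow_eq_one.2 h])
    have := fin_mdl fun i => (hp i).1
    refine ⟨(Finset.univ.filter fun i => p i ≠ X - C 1).val.map p, (Finset.univ.filter fun i => p i = X - C 1).card, ?_, ?_⟩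
    · simp only [Multiset.mem_map, Finset.mem_val, Finset.mem_filter]
      rintro _ ⟨i, ⟨-, hi⟩, rfl⟩
      refine ⟨(hp i).2.1, (hp i).1, ((hp i).2.1.prime.dvd_or_dvd (h0 ▸ (hp i).2.2)).resolve_right fun h => hi ?_⟩
      exact eq_of_monic_of_associated (hp i).1 (monic_X_sub_C 1) ((hp i).2.1.associated_of_dvd (irreducible_X_sub_C 1) h)
    · rw [H.charpoly, charpoly_mdl fun i => (hp i).1, ← Finset.prod_filter_mul_prod_filter_not _ (p · = X - C 1),
        Finset.prod_congr rfl fun i hi => (Finset.mem_filter.1 hi).2, Finset.prod_const]; rfl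
  · have h3 : minpoly F (t : End F V) ∣ X ^ r - 1 := h.minpoly_squarefree.isRadical (a + s.card) _
      ((LinearMap.minpoly_dvd_charpoly _).trans (by
        rw [h2, pow_add, ← Multiset.prod_replicate s.card, ← Multiset.map_const']
        exact mul_dvd_mul (pow_dvd_pow_of_dvd (h0 ▸ dvd_mul_left _ _) _) (by
          simpa only [Multiset.map_id'] using Multiset.prod_dvd_prod_of_dvd _ (fun _ => X ^ r - 1) fun f hf => (h1 f hf).2.2.trans (h0 ▸ dvd_mul_right _ _))))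
    simpa [sub_eq_zero, lin_pow_eq_one] using minpoly.dvd_iff.1 h3

theorem card_ord [Finite F] {G : Type*} [Group G] {S : Subgroup (V ≃ₗ[F] V)} (e : G ≃* S) (hr : r.Prime) [NeZero (r : F)]
    {i n : ℕ} (hi : i = orderOf (Nat.card F : ZMod r)) (hn : finrank F V = n) (Q : Multiset F[X] → Prop)
    (h1 : ∀ t ∈ S, ∀ s ∈ S, t ^ r = 1 → Sim (t : End F V) (s : End F V) → ∃ g ∈ S, g * t * g⁻¹ = s)
    (h2 : ∀ (s : Multiset F[X]) (a : ℕ), (∀ f ∈ s, f ∈ cf F r) → a + i * s.card = n →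
      (Q s ↔ ∃ t ∈ S, End.IsSemisimple (t : End F V) ∧ (t : End F V).charpoly = (X - C 1) ^ a * s.prod)) :
    Nat.card {C : ConjClasses G // ∃ g, ConjClasses.mk g = C ∧ orderOf g = r} =
      Nat.card {s : Multiset F[X] // (∀ f ∈ s, f ∈ cf F r) ∧ i * s.card ≤ n ∧ Q s} - 1 := by
  have := Module.finite_of_finite F (M := V)
  have : Finite (V ≃ₗ[F] V) := DFunLike.finite _
  have := Finite.of_equiv _ e.toEquiv.symm
  rw [card_ord_sub hr, card_cl' e (· ∣ r) (fun t => (t : End F V).charpoly) (fun P => ∃ s : Multiset F[X],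
    ((∀ f ∈ s, f ∈ cf F r) ∧ i * s.card ≤ n ∧ Q s) ∧ (X - C 1) ^ (n - i * s.card) * s.prod = P) (fun t ht s hs a b => ?_)
    fun P => ⟨?_, ?_⟩]
  · congr 1
    symm
    refine Nat.card_congr (Equiv.ofBijective (fun s => ⟨_, s.1, s.2, rfl⟩) ?_)
    exact ⟨fun s t h => Subtype.ext (cf_inj hr s.2.1 t.2.1 (congrArg Subtype.val h)), fun ⟨_, s, h, rfl⟩ => ⟨⟨s, h⟩, rfl⟩⟩
  · rw [orderOf_dvd_iff_pow_eq_one] at a b
    exact ⟨fun ⟨g, _, h⟩ => (conj_iff_sim.1 ⟨g, h⟩).charpoly, fun h => h1 t ht s hs a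
      ((sim_iff_charpoly (ss_of_r hr a) (ss_of_r hr b)).2 h)⟩
  · rintro ⟨s, ⟨a, b, c⟩, rfl⟩
    obtain ⟨t, d, e, f⟩ := (h2 s (n - i * s.card) a (by omega)).1 c
    exact ⟨t, d, orderOf_dvd_iff_pow_eq_one.2 ((pow_r_iff hr).2 ⟨e, s, _, a, f⟩), f⟩
  · rintro ⟨t, a, b, rfl⟩
    obtain ⟨c, s, k, d, e⟩ := (pow_r_iff hr).1 (orderOf_dvd_iff_pow_eq_one.1 b)
    have : k + i * s.card = n := by
      rw [← hn, ← LinearMap.charpoly_natDegree, e, ((monic_X_sub_C 1).pow k).natDegree_mul (cf_monic d),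
        cf_deg d (cf_spec hr).1, hi, natDegree_pow, natDegree_X_sub_C, mul_one]
    exact ⟨s, ⟨d, by omega, (h2 s k d this).2 ⟨t, a, c, e⟩⟩, by rw [e, ← this, Nat.add_sub_cancel]⟩

section Typ
variable [Finite F] {Φ : Form (Kind.orth F) V} {Ψ : Form (Kind.orth F) W} {m k : ℕ} {η η' : ℤ}

theorem cnt_ne (hΦ : Φ.Nondeg) (h : Φ.IsType m η) {c : F} (hc : c ≠ 0) : Φ.cnt c = Φ.cnt 1 := by
  rw [← (orth_iso_even η m (Φ.scale c) Φ (hΦ.scale hc) hΦ ⟨h.1, by rw [Φ.cnt_scale hc, h.2]⟩ h).cnt_eq]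
  exact Nat.card_congr (Equiv.subtypeEquivRight fun v => by simp [hc])

theorem sum_ne [Fintype F] (f : F → ℕ) {a : ℕ} (h : ∀ c ≠ 0, f c = a) : (∑ c, f c : ℤ) = f 0 + (Nat.card F - 1) * a := by
  classical
  rw [← Finset.add_sum_erase _ _ (Finset.mem_univ 0), Finset.sum_congr rfl fun c hc => congrArg _
    (h c (Finset.ne_of_mem_erase hc))]
  simp [Fintype.card_pos]

theorem cnt_one (hΦ : Φ.Nondeg) (h : Φ.IsType m η) :
    (Nat.card F : ℤ) * Φ.cnt 1 = Nat.card F ^ (2 * m) - η * Nat.card F ^ m := by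
  have := Module.finite_of_finite F (M := V)
  have := Fintype.ofFinite F
  have h1 := congrArg (Nat.cast : ℕ → ℤ) (Nat.card_congr (Equiv.sigmaFiberEquiv Φ.N))
  rw [Nat.card_sigma, natCard_eq_pow_finrank (K := F) (V := V), h.1, Nat.cast_sum] at h1
  replace h1 := (sum_ne Φ.cnt fun _ => cnt_ne hΦ h).symm.trans h1
  have : (Nat.card F - 1 : ℤ) ≠ 0 := by have := Finite.one_lt_card (α := F); omega
  apply mul_left_cancel₀ this
  push_cast at h1
  linear_combination (Nat.card F : ℤ) * h1 - h.2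

theorem isType_prod (hΦ : Φ.Nondeg) (hΨ : Ψ.Nondeg) (h : Φ.IsType m η) (h' : Ψ.IsType k η') :
    (prodForm Φ Ψ).IsType (m + k) (η * η') := by
  have := Module.finite_of_finite F (M := V)
  have := Module.finite_of_finite F (M := W)
  have := Fintype.ofFinite F
  have h1 : (prodForm Φ Ψ).cnt 0 = ∑ c, Φ.cnt c * Ψ.cnt (-c) := by
    simp only [cnt, ← Nat.card_prod]
    rw [← Nat.card_sigma]
    exact Nat.card_congr ⟨fun v => ⟨_, ⟨v.1.1, rfl⟩, v.1.2, eq_neg_of_add_eq_zero_right v.2⟩, fun x => ⟨(x.2.1, x.2.2),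
      by simp [x.2.1.2, x.2.2.2]⟩, fun _ => rfl, fun ⟨_, ⟨_, rfl⟩, _⟩ => rfl⟩
  refine ⟨by simp [h.1, h'.1, mul_add], mul_left_cancel₀ (Nat.cast_ne_zero.2 (Nat.card_pos (α := F)).ne') ?_⟩
  rw [h1, Nat.cast_sum, sum_ne (fun c => Φ.cnt c * Ψ.cnt (-c)) fun c hc => by
    rw [cnt_ne hΦ h hc, cnt_ne hΨ h' (neg_ne_zero.2 hc)]]
  have := cnt_one hΦ h
  have := cnt_one hΨ h'
  have := h.2
  have := h'.2
  simp only [neg_zero, pow_add, two_mul] at *
  push_cast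
  grind

theorem type_mod (hr : r.Prime) [NeZero (r : F)] (hΦ : Φ.Nondeg) (h : Φ.IsType m η) {t : V ≃ₗ[F] V} (ht : t ∈ Φ.Isom)
    (h1 : t ^ r = 1) (h2 : ∀ v, t v = v → v = 0) : (Nat.card F : ZMod r) ^ m = η := by
  have := Module.finite_of_finite F (M := V)
  have := Fact.mk hr
  have := Fintype.ofFinite {v // Φ.N v = 1}
  have h3 : r ∣ Φ.cnt 1 := by_contra fun h => by
    obtain ⟨v, hv⟩ := Equiv.Perm.exists_fixed_point_of_prime (n := 1) (by rwa [← Nat.card_eq_fintype_card])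
      (σ := (MulAction.toPermHom _ V t).subtypePerm (p := (Φ.N · = 1)) fun v => by simp [ht.2])
      (by simp only [Equiv.Perm.subtypePerm_pow, ← map_pow, pow_one, h1, map_one]; rfl)
    simpa [h2 _ (congrArg Subtype.val hv)] using v.2
  have h4 := congrArg (Int.cast : ℤ → ZMod r) (cnt_one hΦ h)
  push_cast at h4
  rw [(ZMod.natCast_eq_zero_iff _ _).2 h3] at h4
  exact mul_right_cancel₀ (pow_ne_zero m (card_ne hr)) (by linear_combination -h4)

end Typ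

end Cfsg.Agent.Perm.Cj
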