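import Mathlib
import Cfsg.Agent.Lib.Perm.Cj8

set_option autoImplicit false

namespace Cfsg.Agent.Perm.Cj
open Module Polynomial Cfsg.Agent.Classical Cfsg.Agent.Classical.Form

universe u
variable {F : Type u} {V W U : Type*} [Field F] [AddCommGroup V] [Module F V] [AddCommGroup W] [Module F W]
  [AddCommGroup U] [Module F U] [FiniteDimensional F V] [FiniteDimensional F W] [FiniteDimensional F U] {r : ℕ}

theorem exists_ext {K : Kind F} {Φ : Form K V} {Θ : Form K U} {Ψ : Form K W} (H : (prodForm Θ Ψ).Iso Φ) {s}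
    (hs : s ∈ Ψ.Isom) (s1 : End.IsSemisimple (s : End F W)) : ∃ t ∈ Φ.Isom, End.IsSemisimple (t : End F V) ∧
      (t : End F V).charpoly = (X - C 1) ^ finrank F U * (s : End F W).charpoly :=
  let ⟨t, ht, H⟩ := exists_of_iso H (prod_mem (one_mem _) hs)
  ⟨t, ht, H.ss (ss_prod' ss_one s1), by rw [← H.charpoly, charpoly_prod, charpoly_one']⟩

theorem neZero_of {p : ℕ} [Fact p.Prime] [CharP F p] (hr : r.Prime) (h : r ≠ p) : NeZero (r : F) :=
  ⟨fun h' => h ((Nat.prime_dvd_prime_iff_eq Fact.out hr).1 ((CharP.cast_eq_zero_iff F p r).1 h')).symm⟩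

variable [Finite F] (hr : r.Prime) [NeZero (r : F)] {s : Multiset F[X]} (hs : ∀ f ∈ s, f ∈ cf F r) {a : ℕ}
include hr

theorem ms_dual {σ : F →+* F} (hσ : ∀ a, σ (σ a) = a) {p k : ℕ} [Fact p.Prime] [CharP F p] (he : ∀ a, σ a = a ^ p ^ k)
    (D : Prop) [Decidable D] (hD : ¬ D ↔ ∃ j, (p ^ k * Nat.card F ^ j : ZMod r) = -1) {t : ℕ}
    (ht : t * orderOf (Nat.card F : ZMod r) = r - 1) :
    ∃ (J : Set F[X]) (_ : Finite J), 0 < Nat.card J ∧ Nat.card J = (if D then t / 2 else t) ∧ ∀ A : ℕ → Prop,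
      Nat.card {s : Multiset F[X] // (∀ f ∈ s, f ∈ cf F r) ∧ s.map (dual σ) = s ∧ A s.card} =
      Nat.card {s : Multiset F[X] // (∀ f ∈ s, f ∈ J) ∧ A ((if D then 2 else 1) * s.card)} := by
  have h0 : t * orderOf (Nat.card F : ZMod r) ≠ 0 := by have := hr.two_le; omega
  have h1 : Nat.card (cf F r) = t := by
    rw [(cf_spec hr).2, ← ht, Nat.mul_div_cancel _ (Nat.pos_of_ne_zero (right_ne_zero_of_mul h0))]
  have := left_ne_zero_of_mul h0
  split_ifs with h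
  · obtain ⟨J, h2, h3, h4⟩ := ms_inv (cf F r) (dual σ) fun f hf => ⟨dual_cf hr hσ hf,
      (dual_spec hσ hf.2.1 (cf_coeff hr hf)).2.2.2, fun e => hD.2 ((dual_fix_iff hr hσ he hf).1 e) h⟩
    exact ⟨J, Finite.Set.subset _ h2, by omega, by omega, h4⟩
  · refine ⟨_, inferInstance, by omega, h1, fun A => Nat.card_congr (Equiv.subtypeEquivRight fun s =>
      and_congr_right fun hs => ?_)⟩
    simp [Multiset.map_congr rfl fun f hf => (dual_fix_iff hr hσ he (hs f hf)).2 (hD.1 h)]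

theorem ms_id (hr2 : r ≠ 2) {i t : ℕ} (hi : i = orderOf (Nat.card F : ZMod r)) (ht : t * i = r - 1) :
    ∃ (J : Set F[X]) (_ : Finite J), 0 < Nat.card J ∧ Nat.card J = (if Odd i then t / 2 else t) ∧ ∀ A : ℕ → Prop,
      Nat.card {s : Multiset F[X] // (∀ f ∈ s, f ∈ cf F r) ∧ s.map (dual (RingHom.id F)) = s ∧ A s.card} =
      Nat.card {s : Multiset F[X] // (∀ f ∈ s, f ∈ J) ∧ A ((if Odd i then 2 else 1) * s.card)} := by
  have := Fact.mk (CharP.char_is_prime F (ringChar F))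
  have := Fact.mk hr
  refine ms_dual hr (fun _ => rfl) (p := ringChar F) (k := 0) (by simp) _ ?_ (hi ▸ ht)
  simp only [pow_zero, one_mul, pow_eq_neg_one_iff hr2 (card_ne hr), ← hi, Nat.not_odd_iff_even]
  exact ⟨fun ⟨h, e⟩ => ⟨h, h, by omega, rfl⟩, fun ⟨_, h, e, _⟩ => ⟨h, by omega⟩⟩

include hs

theorem map_dual {K : Kind F} {Φ : Form K V} (hΦ : Φ.Nondeg) {t} (ht : t ∈ Φ.Isom)
    (h : (t : End F V).charpoly = (X - C 1) ^ a * s.prod) : s.map (dual K.σ) = s := by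
  have := dual_charpoly hΦ ht
  rw [h, map_mul, map_pow, dual_X_sub, map_multiset_prod] at this
  refine cf_inj hr (fun f hf => ?_) hs this
  obtain ⟨f, h, rfl⟩ := Multiset.mem_map.1 hf
  exact dual_cf hr K.σσ (hs f h)

theorem cf_coeff' : s.prod.coeff 0 ≠ 0 := fun h =>
  (cf_root hs (c := 0) (by simpa using X_dvd_iff.2 h)).ne_zero hr.ne_zero rfl

theorem unit_Q {σ : F →+* F} {hσ2 : ∀ a, σ (σ a) = a} (hσ : σ ≠ RingHom.id F) {Φ : Form (Kind.unit σ hσ2) V}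
    (hΦ : Φ.Nondeg) (h : a + orderOf (Nat.card F : ZMod r) * s.card = finrank F V) : s.map (dual σ) = s ↔
      ∃ t ∈ Φ.Isom, End.IsSemisimple (t : End F V) ∧ (t : End F V).charpoly = (X - C 1) ^ a * s.prod :=
  ⟨fun H => exists_unit_ss hσ hΦ (((monic_X_sub_C 1).pow a).mul (cf_monic hs)) (by
    rw [((monic_X_sub_C 1).pow a).natDegree_mul (cf_monic hs), cf_deg hs (cf_spec hr).1, natDegree_pow,
      natDegree_X_sub_C, mul_one, h]) (by simpa [coeff_zero_eq_eval_zero] using cf_coeff' hr hs)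
    (by rw [map_mul, map_pow, dual_X_sub, map_multiset_prod, H]), fun ⟨_, h1, _, h2⟩ => (map_dual hr hs hΦ h1 h2 :)⟩

theorem exists_core (hr2 : r ≠ 2) (H : s.map (dual (RingHom.id F)) = s) :
    ∃ (k : ℕ) (t : (Fin (2 * k) → F) ≃ₗ[F] (Fin (2 * k) → F)), orderOf (Nat.card F : ZMod r) * s.card = 2 * k ∧
      End.IsSemisimple (t : End F (Fin (2 * k) → F)) ∧ (t : End F (Fin (2 * k) → F)).charpoly = s.prod ∧
      (∀ v, t v = v → v = 0) ∧ (∃ Ψ : Form (Kind.symp F) _, Ψ.Nondeg ∧ t ∈ Ψ.Isom) ∧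
      ∃ Ψ : Form (Kind.orth F) _, Ψ.Nondeg ∧ t ∈ Ψ.Isom := by
  have h1 : ∀ c : F, c ^ 2 = 1 → ¬ X - C c ∣ s.prod := fun c hc h =>
    hr2 ((Nat.prime_dvd_prime_iff_eq hr Nat.prime_two).1 ((cf_root hs h).dvd_of_pow_eq_one 2 hc))
  have key : ∀ n, s.prod.natDegree = n → ∃ t : (Fin n → F) ≃ₗ[F] (Fin n → F),
      End.IsSemisimple (t : End F (Fin n → F)) ∧ (t : End F (Fin n → F)).charpoly = s.prod ∧
      (∀ v, t v = v → v = 0) ∧ (∃ Ψ : Form (Kind.symp F) _, Ψ.Nondeg ∧ t ∈ Ψ.Isom) ∧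
      ∃ Ψ : Form (Kind.orth F) _, Ψ.Nondeg ∧ t ∈ Ψ.Isom := fun n hn => by
    obtain ⟨t, t1, t2⟩ := exists_ss' (V := Fin n → F) (cf_monic hs) (by simp [hn]) (cf_coeff' hr hs)
    have t3 := sq_fix (t := t) (by rw [t2]; exact h1 _ (by simp)) (by rw [t2]; exact h1 _ (by simp))
    have t4 := inv_of_ss (σ := RingHom.id F) (fun _ => rfl) t1 (by rw [t2, map_multiset_prod, H])
    exact ⟨t, t1, t2, fun v h => t3 v (by rw [h, h]), exists_symp_form t3 t4, exists_orth_form t3 t4⟩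
  obtain ⟨-, -, -, -, ⟨Ψ, h, -⟩, -⟩ := key _ rfl
  obtain ⟨k, hk⟩ := symp_even _ Ψ h rfl
  obtain ⟨t, ht⟩ := key (2 * k) (by simpa [two_mul] using hk)
  exact ⟨k, t, (cf_deg hs (cf_spec hr).1).symm.trans (by simpa [two_mul] using hk), ht⟩

theorem symp_Q (hr2 : r ≠ 2) {Φ : Form (Kind.symp F) V} (hΦ : Φ.Nondeg)
    (h : a + orderOf (Nat.card F : ZMod r) * s.card = finrank F V) : s.map (dual (RingHom.id F)) = s ↔
      ∃ t ∈ Φ.Isom, End.IsSemisimple (t : End F V) ∧ (t : End F V).charpoly = (X - C 1) ^ a * s.prod := by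
  refine ⟨fun H => ?_, fun ⟨_, h1, _, h2⟩ => (map_dual hr hs hΦ h1 h2 :)⟩
  obtain ⟨k, t, h1, h2, h3, -, ⟨Ψ, h4, h5⟩, -⟩ := exists_core hr hs hr2 H
  obtain ⟨m, hm⟩ := symp_even _ Φ hΦ rfl
  exact exists_symp_ext hΦ h4 h5 h2 (m - k) 0 (by simp; omega) (by rw [h3, show a = 2 * (m - k) by omega]; simp)

theorem odd_Q (hr2 : r ≠ 2) {Φ : Form (Kind.orth F) V} (hΦ : Φ.Nondeg) {m : ℕ} (hm : finrank F V = 2 * m + 1)
    (h : a + orderOf (Nat.card F : ZMod r) * s.card = finrank F V) : s.map (dual (RingHom.id F)) = s ↔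
      ∃ t ∈ Φ.Isom, End.IsSemisimple (t : End F V) ∧ (t : End F V).charpoly = (X - C 1) ^ a * s.prod := by
  refine ⟨fun H => ?_, fun ⟨_, h1, _, h2⟩ => (map_dual hr hs hΦ h1 h2 :)⟩
  obtain ⟨k, t, h1, h2, h3, -, -, Ψ, h4, h5⟩ := exists_core hr hs hr2 H
  obtain ⟨c, hc, e⟩ := orth_iso_odd m Φ _ hΦ (prodForm_nondeg (oddForm_nondeg (m - k)
    (two_ne_of_odd hΦ ⟨m, hm⟩)) h4) hm (by simp; omega)
  have := exists_ext e.symm h5 h2
  rwa [Φ.Isom_scale hc, h3, show finrank F _ = a by simp; omega] at this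

theorem even_Q (hr2 : r ≠ 2) {Φ : Form (Kind.orth F) V} (hΦ : Φ.Nondeg) {m : ℕ} {η : ℤ} (hη : η = 1 ∨ η = -1)
    (hm : Φ.IsType m η) (h : a + orderOf (Nat.card F : ZMod r) * s.card = 2 * m) :
    (s.map (dual (RingHom.id F)) = s ∧ (orderOf (Nat.card F : ZMod r) * s.card = 2 * m → (Nat.card F : ZMod r) ^ m = η)) ↔
      ∃ t ∈ Φ.Isom, End.IsSemisimple (t : End F V) ∧ (t : End F V).charpoly = (X - C 1) ^ a * s.prod := by
  refine ⟨fun H => ?_, fun ⟨t, h1, h2, h3⟩ => ⟨(map_dual hr hs hΦ h1 h3 :), fun e => type_mod hr hΦ hm h1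
    ((pow_r_iff hr).2 ⟨h2, s, a, hs, h3⟩) fun v hv => eq_zero_of_not_root (F := F) (f := t) (c := 1) (fun h' => ?_) (by simpa)⟩⟩
  · obtain ⟨k, t, h1, h2, h3, h6, -, Ψ, h4, h5⟩ := exists_core hr hs hr2 H.1
    obtain ⟨η', hη', h7⟩ : ∃ η', (η' = 1 ∨ η' = -1) ∧ Ψ.IsType k η' :=
      (exists_isType k Ψ h4 (by simp)).elim (⟨_, .inl rfl, ·⟩) (⟨_, .inr rfl, ·⟩)
    have key : ∀ {U : Type u} [AddCommGroup U] [Module F U] [FiniteDimensional F U] (Θ : Form (Kind.orth F) U) {ε},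
        Θ.Nondeg → Θ.IsType (m - k) ε → ε * η' = η → _ := fun Θ _ a1 a2 a3 => by
      have := exists_ext (orth_iso_even η m _ Φ (prodForm_nondeg a1 h4) hΦ (by
        simpa [a3, show m - k + k = m by omega] using isType_prod a1 h4 a2 h7) hm) h5 h2
      rw [h3, a2.1, show 2 * (m - k) = a by omega] at this
      exact this
    by_cases e : η' = η
    · exact key _ (plusForm_nondeg _) (plusForm_isType _) (by simp [e])
    have h8 : k ≠ m := by
      rintro rfl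
      have := Fact.mk hr
      have : Fact (2 < r) := ⟨lt_of_le_of_ne hr.two_le hr2.symm⟩
      have := (H.2 h1).symm.trans (type_mod hr h4 h7 h5 ((pow_r_iff hr).2 ⟨h2, s, 0, hs, by simp [h3]⟩) h6)
      rcases hη with rfl | rfl <;> rcases hη' with rfl | rfl
      exacts [e rfl, ZMod.neg_one_ne_one (n := r) (by simpa using this.symm),
        ZMod.neg_one_ne_one (n := r) (by simpa using this), e rfl]
    obtain ⟨K, _, _, _, hK⟩ := exists_quad_ext F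
    refine key (ε := -1) _ (prodForm_nondeg (normForm_nondeg hK) (plusForm_nondeg (m - k - 1))) ?_ (by omega)
    simpa [show 1 + (m - k - 1) = m - k by omega] using isType_prod (normForm_nondeg hK) (plusForm_nondeg (m - k - 1))
      (isType_aniso _ (normForm_aniso hK) hK) (plusForm_isType _)
  · rw [h3, show a = 0 by omega, pow_zero, one_mul] at h'
    exact (cf_root hs h').ne_one hr.one_lt rfl

omit hs in
theorem conj_odd (hr2 : r ≠ 2) {K : Kind F} {Φ : Form K V} (hΦ : Φ.Nondeg) : ∀ t ∈ Φ.Isom, ∀ s ∈ Φ.Isom, t ^ r = 1 →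
    Sim (t : End F V) (s : End F V) → ∃ g ∈ Φ.Isom, g * t * g⁻¹ = s := fun _ ht _ hs h H =>
  isim_iff.1 (isim_one hΦ (Iso.refl _) ht hs (ss_of_r hr h)
    (odd_fix ((hr.odd_of_ne_two hr2).of_dvd_nat (orderOf_dvd_of_pow_eq_one h))) H)

omit hs in
theorem card_even (hr2 : r ≠ 2) {G : Type*} [Group G] {Φ : Form (Kind.orth F) V} (e : G ≃* Φ.Isom) (hΦ : Φ.Nondeg) {m : ℕ}
    {η : ℤ} (hη : η = 1 ∨ η = -1) (hm : Φ.IsType m η) {i t : ℕ} (hi : i = orderOf (Nat.card F : ZMod r))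
    (ht : t * i = r - 1) (B B' : Prop) [Decidable B] [Decidable B']
    (hB : Odd i → (B ↔ i ∣ m ∧ (Nat.card F : ZMod r) ^ m ≠ η))
    (hB' : ¬ Odd i → (B' ↔ i ∣ 2 * m ∧ (Nat.card F : ZMod r) ^ m ≠ η)) :
    Nat.card {C : ConjClasses G // ∃ g, ConjClasses.mk g = C ∧ orderOf g = r} = if Odd i then
      (m / i + t / 2).choose (t / 2) - 1 - (if B then (m / i + t / 2 - 1).choose (t / 2 - 1) else 0) else
      (2 * m / i + t).choose t - 1 - (if B' then (2 * m / i + t - 1).choose (t - 1) else 0) := by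
  have h0 : t * i ≠ 0 := by have := hr.two_le; omega
  have h1 := Nat.pos_of_ne_zero (right_ne_zero_of_mul h0)
  obtain ⟨J, _, h4, h2, h3⟩ := ms_id hr hr2 hi ht
  have key : ∀ (n c : ℕ) (P : Prop), (i * c ≤ n ∧ (i * c = n → P)) ↔ c ≤ n / i ∧ (c = n / i → ¬ (i ∣ n ∧ ¬ P)) :=
    fun n c P => and_congr (by rw [Nat.le_div_iff_mul_le h1, mul_comm]) ⟨fun h e a => a.2 (h (by
      rw [e, Nat.mul_div_cancel' a.1])), fun h e => by_contra fun a => h (by rw [← e, Nat.mul_div_cancel_left _ h1])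
      ⟨⟨c, e.symm⟩, a⟩⟩
  rw [card_ord e hr hi hm.1 _ (conj_odd hr hr2 hΦ) fun s a hs h => even_Q hr hs hr2 hΦ hη hm (hi ▸ h)]
  simp only [← hi, and_left_comm (a := _ ≤ _), h3 fun c => i * c ≤ 2 * m ∧ (i * c = 2 * m → (Nat.card F : ZMod r) ^ m = η)]
  by_cases h : Odd i
  · simp only [h, if_true, mul_left_comm i, Nat.mul_le_mul_left_iff two_pos, Nat.mul_right_inj two_ne_zero, key,
      ← hB h, ms_cond J h4, h2, Nat.sub_right_comm]
  · simp only [h, if_false, one_mul, key, ← hB' h, ms_cond J h4, h2, Nat.sub_right_comm]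

end Cfsg.Agent.Perm.Cj
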