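import Mathlib
import Cfsg.Agent.Lib.Perm.Cj9

set_option autoImplicit false

namespace Cfsg.Agent.Perm.Cj
open Module Polynomial Cfsg.Agent.Classical Cfsg.Agent.Classical.Form Cfsg.Agent.Perm.Inv

universe u
variable {F : Type u} {V W : Type*} [Field F] [AddCommGroup V] [Module F V] [AddCommGroup W] [Module F W]

theorem dl_eq (t : V ≃ₗ[F] V) : (dl t : End F V) = (t : End F V) - 1 := rfl

theorem sim_dl {t : V ≃ₗ[F] V} {s : W ≃ₗ[F] W} : Sim (dl t) (dl s) ↔ Sim (t : End F V) (s : End F W) :=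
  exists_congr fun e => forall_congr' fun v => by simp [dl_apply]

theorem dl_pow_char (p : ℕ) [Fact p.Prime] [CharP F p] (t : V ≃ₗ[F] V) (k : ℕ) :
    (dl t : End F V) ^ p ^ k = 0 ↔ t ^ p ^ k = 1 := by
  have := congrArg (aeval (t : End F V)) (sub_pow_char_pow (R := F[X]) (p := p) (n := k) X 1)
  simp only [map_pow, map_sub, aeval_X, map_one, one_pow] at this
  rw [dl_eq, this, sub_eq_zero, lin_pow_eq_one]

theorem unip_iff (p : ℕ) [Fact p.Prime] [CharP F p] (t : V ≃ₗ[F] V) :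
    (∃ k, orderOf t = p ^ k) ↔ IsNilpotent (dl t : End F V) := by
  simp only [exists_orderOf_eq_prime_pow_iff, ← dl_pow_char]
  exact ⟨fun ⟨_, h⟩ => ⟨_, h⟩, fun ⟨k, h⟩ => ⟨k, pow_eq_zero_of_le (Nat.lt_pow_self (Fact.out : p.Prime).one_lt).le h⟩⟩

theorem exists_dl {N : End F V} (h : IsNilpotent N) : ∃ t : V ≃ₗ[F] V, dl t = N :=
  ⟨.ofBijective _ ((End.isUnit_iff _).1 h.isUnit_add_one), by ext; simp [dl_apply]⟩

/-- kernel dimensions of powers -/
noncomputable def jt (N : End F V) (k : ℕ) : ℕ := finrank F (LinearMap.ker (N ^ k))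

theorem jt_eq (N : End F V) (k : ℕ) : jt N k = kd N (X ^ k) := by rw [jt, kd, map_pow, aeval_X]

theorem Sim.jt {N : End F V} {M : End F W} (H : Sim N M) : jt N = jt M := funext fun k => by rw [jt_eq, jt_eq, H.kd]

theorem jt_mdl {ι : Type*} [Fintype ι] (d : ι → ℕ) (k : ℕ) : jt (mdl fun i => (X : F[X]) ^ d i) k = ∑ i, min k (d i) := by
  simpa [jt_eq] using kd_pow (F := F) (p := fun _ : ι => X) (fun _ => ⟨monic_X, irreducible_X⟩) d ⟨monic_X, irreducible_X⟩ k

variable [FiniteDimensional F V] [FiniteDimensional F W] {N : End F V}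

theorem nil_pow (h : IsNilpotent N) : N ^ finrank F V = 0 := by
  simpa [h.charpoly_eq_X_pow_finrank] using N.aeval_self_charpoly

theorem finrank_comap_le (f : V →ₗ[F] W) (U : Submodule F W) :
    finrank F (U.comap f) ≤ finrank F U + finrank F (LinearMap.ker f) := by
  rw [← (f.domRestrict (U.comap f)).finrank_range_add_finrank_ker]
  exact add_le_add (Submodule.finrank_mono (by rintro _ ⟨v, rfl⟩; exact v.2)) (LinearMap.finrank_le_finrank_of_injective
    (f := (U.comap f).subtype.restrict fun _ h => h) fun a b h => Subtype.ext (Subtype.ext (congrArg Subtype.val h :)))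

theorem jt_le (N : End F V) (k : ℕ) : jt N k ≤ k * finrank F (LinearMap.ker N) := by
  induction k with
  | zero => simp [jt, End.one_eq_id]
  | succ k ih =>
    rw [jt, pow_succ, End.mul_eq_comp, LinearMap.ker_comp, add_mul, one_mul]
    exact (finrank_comap_le _ _).trans (Nat.add_le_add_right ih _)

theorem nil_le_ker (h : IsNilpotent N) {U : Submodule F V} (hU : ∀ v ∈ U, N v ∈ U) :
    U ≤ LinearMap.ker (N ^ finrank F U) := fun v hv => by
  have := nil_pow (End.isNilpotent.restrict hU h)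
  rw [End.pow_restrict] at this
  exact congrArg Subtype.val (LinearMap.congr_fun this ⟨v, hv⟩)

theorem reg_inv (h : IsNilpotent N) (h1 : finrank F (LinearMap.ker N) ≤ 1) {U : Submodule F V} (hU : ∀ v ∈ U, N v ∈ U) :
    U = LinearMap.ker (N ^ finrank F U) :=
  Submodule.eq_of_le_of_finrank_le (nil_le_ker h hU) ((jt_le N _).trans (by simpa using Nat.mul_le_mul_left _ h1))

theorem exists_nil_mdl (h : IsNilpotent N) : ∃ (ι : Type) (_ : Fintype ι) (e : ι → ℕ),
    Sim N (mdl fun i => (X : F[X]) ^ (e i + 1)) := by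
  obtain ⟨ι, _, p, e, hp, H⟩ := exists_mdl N
  obtain ⟨k, hk⟩ := h
  refine ⟨ι, inferInstance, e, H.trans (sim_congr (funext fun i => ?_))⟩
  rw [eq_of_monic_of_associated (hp i).1 monic_X ((hp i).2.associated_of_dvd irreducible_X ((hp i).2.prime.dvd_of_dvd_pow
    ((dvd_pow_self _ (Nat.succ_ne_zero _)).trans ((aeval_mdl_zero _ _).1 ((H.aeval_zero (X ^ k)).1 (by simpa)) i))))]

theorem sim_nil {M : End F W} (h : IsNilpotent N) (h' : IsNilpotent M) (H : jt N = jt M) : Sim N M := by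
  obtain ⟨ι, _, e, a⟩ := exists_nil_mdl h
  obtain ⟨κ, _, e', b⟩ := exists_nil_mdl h'
  refine a.trans (.trans (sim_of_fiber (fun n => (X : F[X]) ^ (n + 1)) fun n => ?_) b.symm)
  simpa using card_eq_of_min (a := (e · + 1)) (b := (e' · + 1)) (fun k => by
    rw [← jt_mdl (F := F), ← jt_mdl (F := F), ← a.jt, ← b.jt, H]) n

theorem exists_nil {ι : Type*} [Fintype ι] (d : ι → ℕ) (h : ∑ i, d i = finrank F V) :
    ∃ N : End F V, Sim (mdl fun i => (X : F[X]) ^ d i) N := by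
  have := fin_mdl (m := fun i => (X : F[X]) ^ d i) fun _ => monic_X_pow _
  exact exists_sim _ (by simp [finrank_mdl fun _ => monic_X_pow _, h])

omit [FiniteDimensional F V] in
theorem mdl_pow {ι : Type*} {d : ι → ℕ} (H : Sim (mdl fun i => (X : F[X]) ^ d i) N) (b : ℕ) : N ^ b = 0 ↔ ∀ i, d i ≤ b := by
  have := (H.aeval_zero (X ^ b)).symm.trans (aeval_mdl_zero _ _)
  simpa only [map_pow, aeval_X, pow_dvd_pow_iff (X_ne_zero (R := F)) not_isUnit_X] using this

theorem sum_coe {α : Type*} [DecidableEq α] (s : Multiset α) (f : α → ℕ) : ∑ i : s.ToType, f i.1 = (s.map f).sum :=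
  congrArg Multiset.sum (s.map_univ f)

theorem card_unip {G : Type*} [Group G] {S : Subgroup (V ≃ₗ[F] V)} (e : G ≃* S) {n : ℕ} (hn : finrank F V = n) (R : ℕ → Prop)
    (b : ℕ) (h0 : ∀ t : V ≃ₗ[F] V, R (orderOf t) ↔ (dl t : End F V) ^ b = 0)
    (h1 : ∀ t ∈ S, ∀ s ∈ S, Sim (t : End F V) (s : End F V) → ∃ g ∈ S, g * t * g⁻¹ = s)
    (h2 : ∀ t : V ≃ₗ[F] V, IsNilpotent (dl t : End F V) → ∃ s ∈ S, Sim (t : End F V) (s : End F V)) :
    Nat.card {C : ConjClasses G // ∃ g, ConjClasses.mk g = C ∧ R (orderOf g)} =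
      (Finset.univ.filter fun μ : Nat.Partition n => ∀ a ∈ μ.parts, a ≤ b).card := by
  rw [card_cl' e R (fun t => jt (dl t)) (fun φ => ∃ μ : Nat.Partition n, (∀ a ∈ μ.parts, a ≤ b) ∧
    (fun k => (μ.parts.map (min k)).sum) = φ) (fun t ht s hs a c => ⟨fun ⟨g, _, h⟩ => (sim_dl.2 (conj_iff_sim.1 ⟨g, h⟩)).jt,
    fun h => h1 t ht s hs (sim_dl.1 (sim_nil ⟨_, (h0 t).1 a⟩ ⟨_, (h0 s).1 c⟩ h))⟩) fun φ => ⟨?_, ?_⟩, ← Nat.subtype_card _
    (p := fun μ : Nat.Partition n => ∀ a ∈ μ.parts, a ≤ b) (by simp)]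
  · symm
    refine Nat.card_congr (Equiv.ofBijective (fun μ => ⟨_, μ.1, μ.2, rfl⟩) ?_)
    refine ⟨fun μ ν h => Subtype.ext (Nat.Partition.ext (Multiset.ext.2 fun k => ?_)), fun ⟨_, s, h, rfl⟩ => ⟨⟨s, h⟩, rfl⟩⟩
    rcases k with _ | k
    · rw [Multiset.count_eq_zero.2 fun h => (μ.1.parts_pos h).false, Multiset.count_eq_zero.2 fun h => (ν.1.parts_pos h).false]
    have key : ∀ (s : Multiset ℕ) k, Nat.card {i : s.ToType // i.1 = k} = s.count k := fun s k => by
      exact (Nat.card_congr (Equiv.sigmaSubtype k)).trans (Nat.card_fin _)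
    rw [← key, ← key]
    exact card_eq_of_min (fun k => by rw [sum_coe, sum_coe]; exact congrFun (congrArg Subtype.val h) k) k
  · rintro ⟨μ, h, rfl⟩
    obtain ⟨N, H⟩ := exists_nil (F := F) (V := V) (fun i : μ.parts.ToType => i.1)
      (by rw [hn, ← Multiset.sum_eq_sum_coe, μ.parts_sum])
    have h3 := (mdl_pow H b).2 fun i => h _ Multiset.coe_mem
    obtain ⟨t, rfl⟩ := exists_dl ⟨_, h3⟩
    obtain ⟨s, hs, H'⟩ := h2 t ⟨_, h3⟩
    replace H := H.trans (sim_dl.2 H')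
    refine ⟨s, hs, (h0 s).2 ((mdl_pow H b).2 fun i => h _ Multiset.coe_mem), funext fun k => ?_⟩
    rw [← H.jt, jt_mdl, sum_coe]
  · rintro ⟨t, -, h, rfl⟩
    obtain ⟨ι, _, d, H⟩ := exists_nil_mdl ⟨_, (h0 t).1 h⟩
    refine ⟨⟨Finset.univ.val.map (d · + 1), by simp +contextual [← forall_and], ?_⟩, by
      simpa using (mdl_pow H.symm b).1 ((h0 t).1 h), funext fun k => by simp [H.jt, jt_mdl]⟩
    rw [← hn, H.finrank_eq, finrank_mdl fun _ => monic_X_pow _]; simp

theorem jt_contra {K : Kind F} {Φ : Form K V} (hΦ : Φ.Nondeg) {t s : V ≃ₗ[F] V} (h : ∀ u v, Φ.B (s u) (t v) = Φ.B u v) :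
    jt (dl s) = jt (dl t) := funext fun k => by
  have h1 : ∀ k u v, Φ.B ((dl s ^ k : End F V) u) ((t ^ k) v) = (-1) ^ k * Φ.B u ((dl t ^ k : End F V) v) := fun k => by
    induction k with
    | zero => simp
    | succ k ih =>
      intro u v
      have : ∀ u v, Φ.B (dl s u) (t v) = -Φ.B u (dl t v) := fun u v => by simp [dl_apply, h]
      rw [pow_succ', pow_succ', End.mul_apply, LinearEquiv.mul_apply, this, show dl t ((t ^ k) v) = (t ^ k) (dl t v) by
        rw [dl_apply, dl_apply, map_sub, ← LinearEquiv.mul_apply, ← LinearEquiv.mul_apply, pow_mul_comm'], ih]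
      simp [pow_succ]
  have h2 : (LinearMap.ker (dl t ^ k : End F V)).map ((t ^ k : V ≃ₗ[F] V) : V →ₗ[F] V) = Φ.perp (LinearMap.range (dl s ^ k : End F V)) := by
    ext v
    obtain ⟨v, rfl⟩ := (t ^ k).surjective v
    simpa [mem_perp', h1] using ⟨fun h u => by simp [h], hΦ _⟩
  have := hΦ.finrank_perp (LinearMap.range (dl s ^ k : End F V))
  rw [← h2, LinearEquiv.finrank_map_eq, ← (dl s ^ k : End F V).finrank_range_add_finrank_ker, add_comm] at this
  exact (Nat.add_left_cancel this).symm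

theorem nil_iff_jt : IsNilpotent N ↔ ∃ k, jt N k = finrank F V :=
  exists_congr fun _ => LinearMap.ker_eq_top.symm.trans ⟨fun h => by rw [jt, h, finrank_top], Submodule.eq_top_of_finrank_eq⟩

theorem exists_unit_unip [Finite F] {σ : F →+* F} {hσ2 : ∀ a, σ (σ a) = a} (hσ : σ ≠ RingHom.id F)
    {Φ : Form (Kind.unit σ hσ2) V} (hΦ : Φ.Nondeg) (t : V ≃ₗ[F] V) (h : IsNilpotent (dl t : End F V)) :
    ∃ s ∈ Φ.Isom, Sim (t : End F V) (s : End F V) := by
  obtain ⟨τ, t1, t2, t3, -⟩ := exists_adj (Kind.unit σ hσ2).σσ hΦ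
  have h2 : τ t.symm * τ t = 1 := by rw [← t2, ← t1]; congr 1; ext; simp
  let s : V ≃ₗ[F] V := .ofLinear _ _ h2 (mul_eq_one_comm.1 h2)
  have h3 : ∀ u v, Φ.B (s u) (t v) = Φ.B u v := fun u v => by
    rw [Φ.symm, Φ.symm v]; exact congrArg _ (congrArg _ ((t3 _ _ _).trans (by simp)))
  have := jt_contra hΦ h3
  exact (unit_iff_sim hσ hΦ h3).2 (sim_dl.1 (sim_nil h (by rwa [nil_iff_jt, this, ← nil_iff_jt]) this.symm))

end Cfsg.Agent.Perm.Cj
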