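import Mathlib
import Cfsg.Agent.Lib.Perm.Count
import Cfsg.Agent.Lib.Perm.Prim

namespace Cfsg.Agent.Perm.PG

open MulAction Equiv

section
variable {G : Type*} [Group G] {α : Type*} [MulAction G α]

theorem mt_perm [Finite α] {k : ℕ} (h : IsMultiplyPretransitive G α k) (hk : k ≤ Nat.card α)
    (s : Finset α) (hs : s.card ≤ k) (σ : Perm α) : ∃ g : G, ∀ x ∈ s, g • x = σ x := by
  have h2 : IsMultiplyPretransitive G α s.card := isMultiplyPretransitive_of_le hs hk
  obtain ⟨g, hg⟩ := multTrans_iff.1 h2 (fun i => (s.equivFin.symm i : α)) (fun i => σ (s.equivFin.symm i))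
    (Subtype.val_injective.comp s.equivFin.symm.injective)
    (σ.injective.comp (Subtype.val_injective.comp s.equivFin.symm.injective))
  refine ⟨g, fun x hx => ?_⟩
  simpa using hg (s.equivFin ⟨x, hx⟩)

theorem mt_of_perm {k : ℕ} (h : ∀ s : Finset α, s.card = k → ∀ σ : Perm α, ∃ g : G, ∀ x ∈ s, g • x = σ x) :
    IsMultiplyPretransitive G α k := by
  classical
  rw [multTrans_iff]
  intro x y hx hy
  obtain ⟨σ, hσ⟩ := Perm.exists_extending_pair x y hx hy
  obtain ⟨g, hg⟩ := h (Finset.univ.image x) (by rw [Finset.card_image_of_injective _ hx]; simp) σ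
  exact ⟨g, fun i => by rw [hg _ (Finset.mem_image_of_mem _ (Finset.mem_univ i)), hσ]⟩

theorem mt_move [Finite α] {k : ℕ} (h : IsMultiplyPretransitive G α k) (hk : k ≤ Nat.card α)
    (s : Finset α) (hs : s.card < k) {b c : α} (hb : b ∉ s) (hc : c ∉ s) :
    ∃ g : G, (∀ x ∈ s, g • x = x) ∧ g • b = c := by
  classical
  obtain ⟨g, hg⟩ := mt_perm h hk (insert b s) (by rw [Finset.card_insert_of_notMem hb]; omega) (swap b c)
  refine ⟨g, fun x hx => ?_, by rw [hg b (by simp), swap_apply_left]⟩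
  rw [hg x (by simp [hx]), swap_apply_of_ne_of_ne] <;> rintro rfl <;> contradiction

theorem exists_perm_map (s t : Finset α) (h : s.card = t.card) : ∃ τ : Perm α, ∀ x, τ x ∈ t ↔ x ∈ s := by
  classical
  obtain ⟨τ, hτ⟩ := Perm.exists_map_finset_eq s t h
  exact ⟨τ, fun x => by rw [← hτ]; simp⟩

theorem mt_succ [Finite α] {k : ℕ} (h : IsMultiplyPretransitive G α k) (s : Finset α) (hs : s.card = k)
    (h2 : ∀ a ∉ s, ∀ b ∉ s, ∃ g : G, (∀ x ∈ s, g • x = x) ∧ g • a = b) :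
    IsMultiplyPretransitive G α (k + 1) := by
  classical
  have := Fintype.ofFinite α
  have hk : k ≤ Nat.card α := by rw [← hs, Nat.card_eq_fintype_card]; exact s.card_le_univ
  refine mt_of_perm fun t ht σ => ?_
  obtain ⟨a, ha⟩ := Finset.card_pos.1 (show 0 < t.card by omega)
  have ht' : (t.erase a).card = k := by rw [Finset.card_erase_of_mem ha]; omega
  obtain ⟨τ, hτ⟩ := exists_perm_map (t.erase a) s (ht'.trans hs.symm)
  obtain ⟨g1, hg1⟩ := mt_perm h hk s hs.le τ⁻¹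
  obtain ⟨g2, hg2⟩ := mt_perm h hk s hs.le (σ * τ⁻¹)
  obtain ⟨g, hg, hga⟩ := h2 (g1⁻¹ • a) (fun hh => by
      have h3 := hg1 _ hh
      rw [smul_inv_smul, Perm.eq_inv_iff_eq] at h3
      rw [← h3, hτ] at hh
      simp at hh) (g2⁻¹ • σ a) (fun hh => by
      have h3 := hg2 _ hh
      rw [smul_inv_smul, Perm.mul_apply, σ.injective.eq_iff, Perm.eq_inv_iff_eq] at h3
      rw [← h3, hτ] at hh
      simp at hh)
  refine ⟨g2 * g * g1⁻¹, fun x hx => ?_⟩
  by_cases hxa : x = a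
  · subst hxa
    rw [mul_smul, mul_smul, hga, smul_inv_smul]
  · have h3 : τ x ∈ s := (hτ x).2 (Finset.mem_erase.2 ⟨hxa, hx⟩)
    have h4 : g1⁻¹ • x = τ x := by rw [inv_smul_eq_iff, hg1 _ h3]; simp
    rw [mul_smul, mul_smul, h4, hg _ h3, hg2 _ h3]; simp

theorem exists_fix {p : ℕ} (hp : p.Prime) (hG : IsPGroup p G) {S : Set α} (hfin : S.Finite)
    (hS : ∀ g : G, ∀ x ∈ S, g • x ∈ S) (hn : ¬ p ∣ S.ncard) : ∃ x ∈ S, ∀ g : G, g • x = x := by
  have := Fact.mk hp
  by_contra h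
  push Not at h
  refine hn (dvd_ncard_of_invariant hfin hS fun x hx => ?_)
  have hfo : (orbit G x).Finite := hfin.subset (by rintro _ ⟨g, rfl⟩; exact hS g x hx)
  have : Finite (orbit G x) := hfo
  have : Nonempty (orbit G x) := ⟨⟨x, mem_orbit_self x⟩⟩
  have : (stabilizer G x).FiniteIndex := ⟨by
    rw [← card_orbit_eq_index]; exact (Nat.card_pos).ne'⟩
  obtain ⟨k, hk⟩ := hG.index (stabilizer G x)
  rw [hk]
  refine dvd_pow_self _ ?_
  rintro rfl
  obtain ⟨g, hg⟩ := h x hx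
  rw [pow_zero, Subgroup.index_eq_one] at hk
  exact hg (show g ∈ stabilizer G x from hk ▸ Subgroup.mem_top g)

theorem card_fixing_eq [Finite G] [Finite α] {k : ℕ} (h : IsMultiplyPretransitive G α k) {s t : Set α}
    (hs : s.ncard = k) (ht : t.ncard = k) : Nat.card (fixingSubgroup G s) = Nat.card (fixingSubgroup G t) := by
  have h1 := h.index_of_fixingSubgroup_mul hs
  rw [← h.index_of_fixingSubgroup_mul ht] at h1
  have h2 := Nat.eq_of_mul_eq_mul_right (Nat.factorial_pos _) h1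
  have h3 := (fixingSubgroup G s).index_mul_card
  rw [← (fixingSubgroup G t).index_mul_card, h2] at h3
  exact Nat.eq_of_mul_eq_mul_left (Nat.pos_of_ne_zero Subgroup.index_ne_zero_of_finite) h3

theorem gen_orbit [Finite G] [Finite α] {k : ℕ} (hk : IsMultiplyPretransitive G α k)
    (hgen : ∀ s : Finset α, s.card = k + 1 → ∀ σ : Perm α, (∀ x ∈ s, σ x ∈ s) →
      ∃ g : G, ∀ x ∈ s, g • x = σ x) {p : ℕ} (hp : p.Prime) (hpk : p ≤ k) (Γ : Finset α) (hΓ : Γ.card = k)
    (f : Fin p → α) (hf : ∀ i, f i ∉ Γ)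
    (hdist : ∀ i j, i ≠ j → f j ∉ orbit (fixingSubgroup G (Γ : Set α)) (f i)) :
    ∃ i, p ∣ Nat.card (orbit (fixingSubgroup G (Γ : Set α)) (f i)) := by
  classical
  have := Fintype.ofFinite α
  have := Fact.mk hp
  by_contra hcon
  push Not at hcon
  obtain ⟨Γ₁, h1, hc1⟩ := Finset.exists_subset_card_eq (hΓ ▸ hpk : p ≤ Γ.card)
  set F := fixingSubgroup G (Γ : Set α) with hF
  let H : Subgroup G :=
    { carrier := {g | (∀ x ∈ Γ \ Γ₁, g • x = x) ∧ ∀ x, g • x ∈ Γ ↔ x ∈ Γ}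
      one_mem' := by simp
      mul_mem' := fun {a b} ha hb => ⟨fun x hx => by rw [mul_smul, hb.1 x hx, ha.1 x hx],
        fun x => by rw [mul_smul, ha.2, hb.2]⟩
      inv_mem' := fun {a} ha => ⟨fun x hx => by rw [inv_smul_eq_iff, ha.1 x hx],
        fun x => by rw [← ha.2, smul_inv_smul]⟩ }
  have hmF : ∀ g, g ∈ F ↔ ∀ x ∈ Γ, g • x = x := fun g => mem_fixingSubgroup_iff G
  have hout : ∀ i, ∀ x ∈ orbit F (f i), x ∉ Γ := by
    rintro i _ ⟨g, rfl⟩ hx
    have := (hmF _).1 g⁻¹.2 _ hx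
    apply hf i
    rw [show ((g⁻¹ : F) : G) • g • f i = f i from inv_smul_smul g (f i)] at this
    rw [this]; exact hx
  have hinv : ∀ h ∈ H, ∀ i, ∀ x ∈ orbit F (f i), h • x ∈ orbit F (f i) := by
    intro h hh i x hx
    have hx' := hout i x hx
    have hy : h • x ∉ Γ := fun e => hx' ((hh.2 x).1 e)
    have hσ : ∀ z ∈ Γ, (swap x (h • x) * toPerm h⁻¹ : Perm α) z = h⁻¹ • z := by
      intro z hz
      have := ((H.inv_mem hh).2 z).2 hz
      rw [Perm.mul_apply, toPerm_apply, swap_apply_of_ne_of_ne] <;> intro e <;> rw [e] at this <;> contradiction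
    obtain ⟨g, hg⟩ := hgen (insert (h • x) Γ) (by rw [Finset.card_insert_of_notMem hy, hΓ])
      (swap x (h • x) * toPerm h⁻¹) (by
      intro z hz
      rcases Finset.mem_insert.1 hz with rfl | hz
      · simp
      · rw [hσ z hz]; exact Finset.mem_insert_of_mem (((H.inv_mem hh).2 z).2 hz))
    have h4 : g * h ∈ F := by
      rw [hmF]
      intro z hz
      have := (hh.2 z).2 hz
      rw [mul_smul, hg _ (by simp [this]), hσ _ this, inv_smul_smul]
    have h5 : (g * h) • x = h • x := by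
      rw [mul_smul, hg _ (by simp)]; simp
    rw [← h5]
    exact mem_orbit_of_mem_orbit (⟨g * h, h4⟩ : F) hx
  obtain ⟨Q⟩ : Nonempty (Sylow p H) := inferInstance
  have hx : ∀ i, ∃ x ∈ orbit F (f i), ∀ g : (Q : Subgroup H), g • x = x := fun i =>
    exists_fix hp Q.isPGroup' (Set.toFinite _) (fun g x hx => hinv _ g.1.2 i x hx) (hcon i)
  choose x hx1 hx2 using hx
  have hxi : Function.Injective x := by
    intro i j hij
    by_contra hne
    apply hdist i j hne
    rw [← orbit_eq_iff.2 (hx1 i), hij, orbit_eq_iff.2 (hx1 j)]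
    exact mem_orbit_self _
  have hc : (((Γ \ Γ₁) ∪ Finset.univ.image x : Finset α) : Set α).ncard = k := by
    rw [Set.ncard_coe_finset, Finset.card_union_of_disjoint, Finset.card_sdiff_of_subset h1,
      Finset.card_image_of_injective _ hxi]
    · simp; omega
    · rw [Finset.disjoint_right]
      intro a ha hb
      obtain ⟨i, -, rfl⟩ := Finset.mem_image.1 ha
      exact hout i _ (hx1 i) (Finset.mem_sdiff.1 hb).1
  have hQ : Nat.card (Q : Subgroup H) ∣ Nat.card F := by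
    rw [hF, card_fixing_eq hk (by rw [Set.ncard_coe_finset, hΓ]) hc,
      ← Subgroup.card_map_of_injective H.subtype_injective]
    apply Subgroup.card_dvd_of_le
    rintro _ ⟨g, hg, rfl⟩
    rw [mem_fixingSubgroup_iff]
    intro y hy
    rcases Finset.mem_union.1 hy with hy | hy
    · exact g.2.1 y hy
    · obtain ⟨i, -, rfl⟩ := Finset.mem_image.1 hy
      exact hx2 i ⟨g, hg⟩
  have hFH : F ≤ H := fun g hg => ⟨fun x hx => (hmF g).1 hg x (Finset.mem_sdiff.1 hx).1, fun x =>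
    ⟨fun h => by
      have := (hmF _).1 (F.inv_mem hg) _ h
      rw [inv_smul_smul] at this
      rw [this]; exact h, fun h => by rw [(hmF g).1 hg x h]; exact h⟩⟩
  have hn : (F.subgroupOf H).Normal := (Subgroup.normal_subgroupOf_iff hFH).2 fun a b ha hb => by
    rw [hmF] at ha ⊢
    intro z hz
    rw [mul_smul, mul_smul, ha _ (((H.inv_mem hb).2 z).2 hz), smul_inv_smul]
  obtain ⟨c, hc1', hc2⟩ := Γ₁.exists_cycleOn
  have hcm : ∀ z ∈ Γ₁, c z ∈ Γ₁ := fun z hz => hc1'.1.mapsTo hz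
  have hcf : ∀ z ∉ Γ₁, c z = z := fun z hz => Perm.notMem_support.1 fun e => hz (hc2 e)
  obtain ⟨h, hh⟩ := hgen (insert (f ⟨0, hp.pos⟩) Γ) (by rw [Finset.card_insert_of_notMem (hf _), hΓ]) c (by
    intro z hz
    by_cases e : z ∈ Γ₁
    · exact Finset.mem_insert_of_mem (h1 (hcm z e))
    · rwa [hcf z e])
  have hhm : ∀ z ∈ Γ, h • z ∈ Γ := by
    intro z hz
    rw [hh z (by simp [hz])]
    by_cases e : z ∈ Γ₁
    · exact h1 (hcm z e)
    · rwa [hcf z e]
  have hH : h ∈ H := ⟨fun z hz => by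
    rw [hh z (by simp [(Finset.mem_sdiff.1 hz).1]), hcf z (Finset.mem_sdiff.1 hz).2], fun z =>
    ⟨fun e => by simpa using Perm.perm_symm_on_of_perm_on_finset (f := toPerm h) hhm e, hhm z⟩⟩
  have hpow : ∀ j, ∀ z ∈ Γ₁, h ^ j • z = (c ^ j) z := by
    intro j
    induction j with
    | zero => simp
    | succ j ih =>
      intro z hz
      rw [pow_succ, pow_succ, mul_smul, hh z (by simp [h1 hz]), ih _ (hcm z hz), Perm.mul_apply]
  obtain ⟨a, ha⟩ := Finset.card_pos.1 (show 0 < Γ₁.card from hc1 ▸ hp.pos)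
  have hm := (hmF _).1 (Subgroup.mem_subgroupOf.1 ((F.subgroupOf H).pow_index_mem ⟨h, hH⟩)) a (h1 ha)
  rw [Subgroup.coe_pow, hpow _ a ha, hc1'.pow_apply_eq ha, hc1] at hm
  apply Q.not_dvd_index
  obtain ⟨t, ht⟩ := hQ
  have e1 := (F.subgroupOf H).index_mul_card
  rw [Nat.card_congr (Subgroup.subgroupOfEquivOfLe hFH).toEquiv, ht,
    ← (Q : Subgroup H).index_mul_card, mul_comm _ t, ← mul_assoc] at e1
  rw [← Nat.eq_of_mul_eq_mul_right Nat.card_pos e1]
  exact hm.mul_right t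

end

end Cfsg.Agent.Perm.PG
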