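import Mathlib
import Cfsg.Agent.Lib.Perm.PG1

namespace Cfsg.Agent.Perm.PG

open MulAction Equiv
open scoped Pointwise

section
variable {G : Type*} [Group G] {α : Type*} [MulAction G α]

theorem prim_range [IsPreprimitive G α] : IsPreprimitive (toPermHom G α).range α := by
  have : IsPretransitive (toPermHom G α).range α := ⟨fun x y => by
    obtain ⟨g, hg⟩ := exists_smul_eq G x y
    exact ⟨⟨_, g, rfl⟩, hg⟩⟩
  exact prim_of_rel fun r hr hi => prim_rel (G := G) r hr fun g => hi ⟨_, g, rfl⟩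

theorem comm_eq_swap [DecidableEq α] {g h : Perm α} {x : α} (hg : g x ≠ x) (hh : h x ≠ x)
    (hd : ∀ y, y ≠ x → g y = y ∨ h y = y) : g * h * g⁻¹ * h⁻¹ = swap x (h x) * swap x (g x) := by
  have h1 : ∀ y, y ≠ x → g y ≠ y → h y = y := fun y h1 h2 => (hd y h1).resolve_left h2
  have h2 : ∀ y, y ≠ x → h y ≠ y → g y = y := fun y h1 h2 => (hd y h1).resolve_right h2
  have gi := g.injective
  have hi := h.injective
  rw [mul_inv_eq_iff_eq_mul, mul_inv_eq_iff_eq_mul]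
  ext y
  have e1 := h1 (g x) hg (fun e => hg (gi e))
  have e2 := h2 (h x) hh (fun e => hh (hi e))
  have e3 : g x ≠ h x := fun e => by rw [e] at e1; exact hh (hi e1)
  simp only [Perm.mul_apply]
  by_cases hy : y = x
  · subst hy
    rw [e1, e2, swap_apply_right, swap_apply_left]
  by_cases h3 : h y = x
  · have h4 := h2 y hy (by rw [h3]; exact Ne.symm hy)
    rw [h4, h3, swap_apply_left, swap_apply_of_ne_of_ne hg e3]
  by_cases h4 : g y = x
  · have h5 := h1 y hy (by rw [h4]; exact Ne.symm hy)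
    rw [h5, h4, swap_apply_of_ne_of_ne hh e3.symm, swap_apply_right]
  have h5 : g (h y) = h (g y) := by
    rcases hd y hy with h6 | h6
    · rw [h6]
      by_cases h7 : h y = y
      · rw [h7, h6]
      · exact h2 _ h3 fun e => h7 (hi e)
    · rw [h6]
      by_cases h7 : g y = y
      · rw [h7, h6]
      · exact (h1 _ h4 fun e => h7 (gi e)).symm
  have h6 : h (g y) ≠ x := by
    intro e
    have := h2 (g y) h4 (by rw [e]; exact Ne.symm h4)
    rw [gi this] at e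
    exact h3 e
  have h7 : h (g y) ≠ g x := fun e => h3 (gi (h5.trans e))
  have h8 : h (g y) ≠ h x := fun e => h4 (hi e)
  rw [swap_apply_of_ne_of_ne h6 h7, swap_apply_of_ne_of_ne h6 h8, h5]

theorem three_cycle_comm [Fintype α] [DecidableEq α] {g h : Perm α} {x : α} (hg : g x ≠ x) (hh : h x ≠ x)
    (hd : ∀ y, y ≠ x → g y = y ∨ h y = y) : (g * h * g⁻¹ * h⁻¹).IsThreeCycle := by
  rw [comm_eq_swap hg hh hd]
  refine Perm.isThreeCycle_swap_mul_swap_same hh.symm hg.symm fun e => ?_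
  rcases hd (g x) hg with h1 | h1
  · exact hg (g.injective h1)
  · rw [← e] at h1; exact hh (h.injective h1)

/-- `Γ` is a Jordan set (possibly trivial). -/
def Jor (G : Type*) [Group G] {α : Type*} [MulAction G α] (Γ : Set α) : Prop :=
  ∀ x ∈ Γ, ∀ y ∈ Γ, ∃ g : G, (∀ z ∉ Γ, g • z = z) ∧ g • x = y

theorem jor_iff {Γ : Set α} :
    IsPretransitive (fixingSubgroup G Γᶜ) (SubMulAction.ofFixingSubgroup G Γᶜ) ↔ Jor G Γ := by
  constructor
  · intro h x hx y hy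
    obtain ⟨g, hg⟩ := h.exists_smul_eq ⟨x, fun e => e hx⟩ ⟨y, fun e => e hy⟩
    exact ⟨g, (mem_fixingSubgroup_iff G).1 g.2, congrArg Subtype.val hg⟩
  · intro h
    refine ⟨fun x y => ?_⟩
    obtain ⟨g, h1, h2⟩ := h x (not_not.1 x.2) y (not_not.1 y.2)
    exact ⟨⟨g, (mem_fixingSubgroup_iff G).2 h1⟩, Subtype.ext h2⟩

theorem Jor.union {Γ Δ : Set α} (h1 : Jor G Γ) (h2 : Jor G Δ) {a : α} (ha : a ∈ Γ) (hb : a ∈ Δ) :
    Jor G (Γ ∪ Δ) := by
  have key : ∀ x ∈ Γ ∪ Δ, ∃ g : G, (∀ z ∉ Γ ∪ Δ, g • z = z) ∧ g • a = x := by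
    rintro x (hx | hx)
    · obtain ⟨g, h3, h4⟩ := h1 a ha x hx
      exact ⟨g, fun z hz => h3 z fun e => hz (Or.inl e), h4⟩
    · obtain ⟨g, h3, h4⟩ := h2 a hb x hx
      exact ⟨g, fun z hz => h3 z fun e => hz (Or.inr e), h4⟩
  intro x hx y hy
  obtain ⟨g, h3, rfl⟩ := key x hx
  obtain ⟨k, h4, rfl⟩ := key y hy
  exact ⟨k * g⁻¹, fun z hz => by rw [mul_smul, inv_smul_eq_iff.2 (h3 z hz).symm, h4 z hz], by simp [mul_smul]⟩

theorem Jor.smul {Γ : Set α} (h1 : Jor G Γ) (k : G) : Jor G (k • Γ) := by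
  rintro _ ⟨x, hx, rfl⟩ _ ⟨y, hy, rfl⟩
  obtain ⟨g, h3, rfl⟩ := h1 x hx y hy
  refine ⟨k * g * k⁻¹, fun z hz => ?_, by simp [mul_smul]⟩
  rw [mul_smul, mul_smul, h3 _ (fun e => hz (Set.mem_smul_set_iff_inv_smul_mem.2 e)), smul_inv_smul]

theorem Jor.two_trans [Finite α] [hp : IsPreprimitive G α] {Γ : Set α} (h : Jor G Γ) (h1 : 1 < Γ.ncard)
    (h2 : Γ.ncard < Nat.card α) : IsMultiplyPretransitive G α 2 := by
  have := Set.ncard_add_ncard_compl Γ
  exact hp.is_two_pretransitive (s := Γᶜ) (n := Γᶜ.ncard - 1) (by omega) (by omega) (jor_iff.2 h)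

theorem Jor.three_trans [Finite α] [hp : IsPreprimitive G α] {Γ : Set α} (h : Jor G Γ) (h1 : 1 < Γ.ncard)
    (h2 : 2 * Γ.ncard ≤ Nat.card α) : IsMultiplyPretransitive G α 3 := by
  classical
  have ht := h.two_trans h1 (by omega)
  obtain ⟨M, ⟨hM, hM2⟩, hmax⟩ := Set.exists_max_image {M : Set α | Jor G M ∧ M.ncard + 2 ≤ Nat.card α}
    Set.ncard (Set.toFinite _) ⟨Γ, h, by omega⟩
  have hΓM := hmax Γ ⟨h, by omega⟩
  have hMc := Set.ncard_add_ncard_compl M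
  rcases hM2.eq_or_lt with h3 | h3
  · refine mt_succ ht (Set.toFinite Mᶜ).toFinset (by rw [← Set.ncard_eq_toFinset_card]; omega) fun a ha b hb => ?_
    obtain ⟨g, h4, h5⟩ := hM a (by simpa using ha) b (by simpa using hb)
    exact ⟨g, fun x hx => h4 x (by simpa using hx), h5⟩
  exfalso
  have K1 : ∀ (k g : G) a, a ∈ k • M → a ∈ g • M → k • M ≠ g • M → Nat.card α ≤ (k • M ∪ g • M).ncard + 1 := by
    intro k g a ha hb hne
    by_contra hc
    have h4 := hmax _ ⟨(hM.smul k).union (hM.smul g) ha hb, by omega⟩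
    have h5 := Set.eq_of_subset_of_ncard_le (Set.subset_union_left (s := k • M) (t := g • M))
      (by rwa [Set.ncard_smul_set])
    exact hne (Set.eq_of_subset_of_ncard_le (h5 ▸ Set.subset_union_right) (by simp [Set.ncard_smul_set])).symm
  have hu : ∀ k g : G, (k • M ∪ g • M).ncard + (k • M ∩ g • M).ncard = 2 * M.ncard := fun k g => by
    rw [Set.ncard_union_add_ncard_inter, Set.ncard_smul_set, Set.ncard_smul_set, two_mul]
  have hbig : Nat.card α < 2 * M.ncard := by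
    by_contra hc
    obtain ⟨a, ha, b, hb, hab⟩ := (Set.one_lt_ncard (s := M)).1 (by omega)
    have K2 : ∀ k g : G, a ∈ k • M → a ∈ g • M → k • M ≠ g • M → ∀ y ∈ k • M, y ∈ g • M → y = a := by
      intro k g h4 h5 h6 y h7 h8
      have := K1 k g a h4 h5 h6
      have := hu k g
      exact (Set.ncard_le_one (s := k • M ∩ g • M)).1 (by omega) y ⟨h7, h8⟩ a ⟨h4, h5⟩
    obtain ⟨c, hc2⟩ := (Set.ncard_pos (s := Mᶜ)).1 (by omega)
    obtain ⟨g, hg1, hg2⟩ := two_trans_iff.1 ht a b a c hab (by rintro rfl; exact hc2 ha)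
    have a1 : a ∈ (1 : G) • M := by simpa
    have ag : a ∈ g • M := ⟨a, ha, hg1⟩
    have h4 := K1 1 g a a1 ag (fun e => hc2 (by rw [← one_smul G M, e]; exact ⟨b, hb, hg2⟩))
    have h5 := hu 1 g
    have h6 : 0 < ((1 : G) • M ∩ g • M).ncard := (Set.ncard_pos).2 ⟨a, a1, ag⟩
    have h7 := Set.ncard_add_ncard_compl ((1 : G) • M ∪ g • M)
    obtain ⟨z, hz⟩ := Set.ncard_eq_one.1 (show ((1 : G) • M ∪ g • M)ᶜ.ncard = 1 by omega)
    have hz1 : z ∉ (1 : G) • M ∪ g • M := by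
      show z ∈ ((1 : G) • M ∪ g • M)ᶜ
      rw [hz]; rfl
    obtain ⟨k, hk1, hk2⟩ := two_trans_iff.1 ht a b a z hab (by rintro rfl; exact hz1 (Or.inr ag))
    have ak : a ∈ k • M := ⟨a, ha, hk1⟩
    have zk : z ∈ k • M := ⟨b, hb, hk2⟩
    have h8 : k • M ⊆ {a, z} := by
      intro y hy
      by_cases e : y ∈ (1 : G) • M ∪ g • M
      · left
        rcases e with e | e
        · exact K2 k 1 ak a1 (fun e => hz1 (Or.inl (e ▸ zk))) y hy e
        · exact K2 k g ak ag (fun e => hz1 (Or.inr (e ▸ zk))) y hy e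
      · right
        rw [← hz]; exact e
    have h9 := (Set.ncard_le_ncard h8).trans (Set.ncard_insert_le _ _)
    rw [Set.ncard_smul_set, Set.ncard_singleton] at h9
    omega
  have K2 : ∀ (k g : G) x y, x ≠ y → x ∉ k • M → y ∉ k • M → x ∉ g • M → y ∉ g • M → k • M = g • M := by
    intro k g x y hxy h4 h5 h6 h7
    by_contra hne
    have h8 := hu k g
    have h9 := Set.ncard_add_ncard_compl (k • M ∪ g • M)
    have h10 : 1 < (k • M ∪ g • M)ᶜ.ncard := (Set.one_lt_ncard).2 ⟨x, by simp [h4, h6], y, by simp [h5, h7], hxy⟩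
    obtain ⟨a, ha, hb⟩ := (Set.ncard_pos (s := k • M ∩ g • M)).1 (by omega)
    have := K1 k g a ha hb hne
    omega
  have hex : ∀ x y, x ≠ y → ∃ g : G, x ∉ g • M ∧ y ∉ g • M := by
    intro x y hxy
    obtain ⟨a, ha, b, hb, hab⟩ := (Set.one_lt_ncard (s := Mᶜ)).1 (by omega)
    obtain ⟨g, rfl, rfl⟩ := two_trans_iff.1 ht a b x y hab hxy
    exact ⟨g, by simpa using ha, by simpa using hb⟩
  have hth : ∀ (g : G) x y, ∃ w ∉ g • M, w ≠ x ∧ w ≠ y := by
    intro g x y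
    have := Set.ncard_add_ncard_compl (g • M)
    rw [Set.ncard_smul_set] at this
    obtain ⟨w, h4, h5⟩ := Set.exists_mem_notMem_of_ncard_lt_ncard (s := {x, y}) (t := (g • M)ᶜ)
      (lt_of_le_of_lt (Set.ncard_insert_le _ _) (by rw [Set.ncard_singleton]; omega))
    exact ⟨w, h4, by simpa using h5⟩
  have K3 : ∀ (g : G) d e x, d ≠ e → d ∉ Γ → e ∉ Γ → d ∉ g • M → e ∉ g • M → x ∈ Γ → x ∉ g • M →
      ∀ y ∈ Γ, y ∉ g • M := by
    intro g d e x hde hd he h4 h5 hx h6 y hy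
    obtain ⟨t, ht1, rfl⟩ := h x hx y hy
    rw [← K2 (t * g) g d e hde (by rw [← ht1 d hd, mul_smul]; simpa) (by rw [← ht1 e he, mul_smul]; simpa) h4 h5,
      mul_smul]
    simpa
  obtain ⟨x, hx, y, hy, hxy⟩ := (Set.one_lt_ncard (s := Γ)).1 h1
  have K4 : ∀ (g : G) d, d ∉ Γ → x ∉ g • M → d ∉ g • M → ∀ w ∉ g • M, w ≠ d → w ∈ Γ := by
    intro g d hd h4 h5 w hw hwd
    by_contra hw2
    have h6 := K3 g d w x hwd.symm hd hw2 h5 hw hx h4
    obtain ⟨p, hp⟩ := (Set.ncard_pos (s := g • M)).1 (by rw [Set.ncard_smul_set]; omega)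
    obtain ⟨k, h7, h8⟩ := hex x p (by rintro rfl; exact h4 hp)
    obtain ⟨v, h9, h10, h11⟩ := hth k x p
    have hne : k • M ≠ g • M := fun e => h8 (e ▸ hp)
    have h12 : v ∈ g • M := by_contra fun e => hne (K2 k g x v h10.symm h7 h9 h4 e)
    exact hne (K2 k g x y hxy h7 (K3 k v p x h11 (fun e => h6 v e h12) (fun e => h6 p e hp) h9 h8 hx h7 y hy)
      h4 (h6 y hy))
  have : ∀ d : α, ∃ (g : G) (w : α), d ∉ Γ → x ∉ g • M ∧ d ∉ g • M ∧ w ∉ g • M ∧ w ≠ x ∧ w ≠ d := by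
    intro d
    by_cases hd : d ∈ Γ
    · exact ⟨1, x, fun e => absurd hd e⟩
    obtain ⟨g, h4, h5⟩ := hex x d (by rintro rfl; exact hd hx)
    obtain ⟨w, h6⟩ := hth g x d
    exact ⟨g, w, fun _ => ⟨h4, h5, h6⟩⟩
  choose g w hgw using this
  have h4 := Set.ncard_le_ncard_of_injOn (s := Γᶜ) (t := Γ \ {x}) w (fun d hd => by
    obtain ⟨h4, h5, h6, h7, h8⟩ := hgw d hd
    exact ⟨K4 _ d hd h4 h5 _ h6 h8, h7⟩) (fun d hd e he hde => by
    obtain ⟨h4, h5, h6, h7, h8⟩ := hgw d hd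
    obtain ⟨h9, h10, h11, -⟩ := hgw e he
    by_contra hne
    rw [← K2 _ _ x _ h7.symm h4 h6 h9 (hde ▸ h11)] at h10
    exact he (K4 _ d hd h4 h5 e h10 (Ne.symm hne)))
  have := Set.ncard_diff_singleton_add_one hx
  have := Set.ncard_add_ncard_compl Γ
  omega

end

end Cfsg.Agent.Perm.PG
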