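import Cfsg.Agent.Lib.Perm.Br10
import Cfsg.Agent.Lib.Solv.Coprime
import Cfsg.Agent.Lib.Solv.Cores

/-! The theorem of Brauer and Reynolds. -/

set_option autoImplicit false

namespace Cfsg.Agent.Perm.Br

open Subgroup MulAction
open Cfsg.Agent.Char
open scoped _root_.Classical ComplexConjugate Pointwise commutatorElement

variable {G : Type*} [Group G] [Finite G]

theorem Rep.of_dvd {p n m : ℕ} (hp : 2 ≤ p) (h : Rep p m) (hd : m * p + 1 ∣ n * p + 1) : Rep p n := by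
  obtain ⟨k, u, hk, hu, h⟩ := h
  obtain ⟨c, hc⟩ := hd
  zify at h hc
  have h1 : (k : ℤ) * (p - 1) = (u + 1) * (k * p - m + u) := by linear_combination h
  have h2 : (0 : ℤ) < k * p - m + u := (pos_iff_pos_of_mul_pos (h1 ▸ mul_pos (by omega) (by omega))).1 (by omega)
  obtain ⟨v, hv⟩ := Int.eq_ofNat_of_zero_le h2.le
  obtain ⟨j, hj⟩ : (p : ℤ) ∣ c - 1 := ⟨n - m * c, by linear_combination -hc⟩
  have hc0 : c ≠ 0 := by rintro rfl; simp at hc; nlinarith
  obtain ⟨j, rfl⟩ := Int.eq_ofNat_of_zero_le (nonneg_of_mul_nonneg_right (a := (p : ℤ)) (b := j) (by omega) (by omega))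
  refine rep_of_mul (u := u + j + u * j * p) (v := v + 1) hp (by omega) (by omega) ?_
  have h3 : ((u : ℤ) * p + 1) * ((v + 1) * p - 1) = (p - 1) * (m * p + 1) := by
    rw [← hv]; linear_combination -(p : ℤ) * p * h
  push_cast
  rw [hc, ← mul_assoc, ← h3]
  linear_combination -((u : ℤ) * p + 1) * ((v + 1) * p - 1) * hj

section
variable {p e : ℕ} [hp : Fact p.Prime] {P : Sylow p G} {X Y : Finset (IrrCharacter G)} {δ : IrrCharacter G → ℤ} {ε : ℤ}
  {S : IrrCharacter G → Finset (P →* ℂˣ)} (h : BD p e P X Y δ ε S) {χ : IrrCharacter G}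
include h

theorem BD.coprime_ker (h1 : χ ∈ X ∪ Y) : (Nat.card (charKer χ.1)).Coprime p := by
  refine ((hp.out.coprime_iff_not_dvd).2 fun h2 => ?_).symm
  have := Fintype.ofFinite (P : Subgroup G)
  obtain ⟨⟨x, hx⟩, h3⟩ := exists_prime_orderOf_dvd_card' p h2
  replace h3 : orderOf x = p := (Subgroup.orderOf_coe _).trans h3
  obtain ⟨Q, hQ⟩ := (IsPGroup.of_card (G := zpowers x) (p := p) (n := 1) (by
    rw [Nat.card_zpowers, h3, pow_one])).exists_le_sylow
  obtain ⟨c, rfl⟩ := exists_smul_eq G Q P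
  have h4 := zpowers_eq hp.out h.card ((conj_mem_smul Q c x).2 (hQ (mem_zpowers x))) (fun e => by
    rw [show x = 1 by simpa using e, orderOf_one] at h3; exact hp.out.one_lt.ne h3)
  have h5 := h4 ▸ zpowers_le.2 (χ.2.isCharacter.normal_charKer.conj_mem x hx c)
  have h6 : ∑ x : (c • Q : Sylow p G), χ.1 x = p * dg χ := by
    rw [Finset.sum_congr rfl fun x _ => (χ.2.isCharacter.mem_charKer.1 (h5 x.2)).trans (dg_cast χ)]
    simp [← Nat.card_eq_fintype_card, h.card]
  have h7 := two_le_dg h.perf (h.ne_one h1)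
  have h8 := h.e_lt
  have h10 := h.three_le
  have h11 : (p - 1 : ℤ) * 2 ≤ (p - 1) * dg χ := mul_le_mul_of_nonneg_left (by omega) (by omega)
  rcases Finset.mem_union.1 h1 with h1 | h1
  · have h9 : (dg χ + (p - 1) * δ χ : ℤ) = p * dg χ := by exact_mod_cast (h.mX h1).symm.trans h6
    rcases h.sgn χ h1 with h | h <;> rw [h] at h9 <;> nlinarith
  · have h9 : (dg χ - ε * e : ℤ) = p * dg χ := by exact_mod_cast (h.mY h1).symm.trans h6
    rcases h.esgn with h | h <;> rw [h] at h9 <;> nlinarith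

theorem BD.cent_le (h1 : χ ∈ X ∪ Y) (h2 : dg χ ≤ 2 * p) :
    centralizer ((P : Subgroup G) : Set G) ≤ (P : Subgroup G) ⊔ charKer χ.1 := fun y hy => by
  obtain ⟨x, hx⟩ := Blk.exists_isPPart p y
  rw [← mul_inv_cancel_left x y]
  refine mul_mem_sup ((SylNum.smul_eq_iff_mem hx.isPGroup (mem_zpowers x)).1 (SylNum.smul_eq_iff.2
    (centralizer_le_normalizer _ (hx.mem hy)))) (χ.2.isCharacter.mem_charKer.2 ?_)
  by_contra h3
  exact (h.big h1 (mul_mem (inv_mem (hx.mem hy)) hy) hx.preg h3).not_ge h2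

end

theorem reyn (hperf : commutator G = ⊤) {p : ℕ} [hp : Fact p.Prime] (P : Sylow p G) (hP : Nat.card P = p)
    {n : ℕ} (hn : Nat.card (Sylow p G) = n * p + 1) (hr : ¬ Rep p n) :
    (∃ (F : Type) (_ : Field F) (_ : Fintype F), Fintype.card F = p ∧ 3 < p ∧
      Nonempty (G ⧸ pPrimeCore p G ≃* GL2.PSL2 F)) ∨
    ∃ (m : ℕ) (F : Type) (_ : Field F) (_ : Fintype F), Fintype.card F = 2 ^ m ∧ p = 2 ^ m + 1 ∧ 3 < p ∧
      Nonempty (G ⧸ pPrimeCore p G ≃* GL2.PSL2 F) := by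
  obtain ⟨e, X, Y, δ, ε, S, h⟩ := exists_bd hperf P hP
  obtain ⟨θ, hθ⟩ := h.Y_ne
  have hM := (SylNum.card_syl P).symm.trans hn
  have hn0 : 0 < n := Nat.pos_of_ne_zero fun e => h.norm_ne_top (index_eq_one.1 (by simpa [e] using hM))
  obtain ⟨χ, h1, h2⟩ : ∃ χ ∈ X ∪ Y, dg χ ≤ 2 * p := by
    obtain ⟨hX, ⟨-, hY⟩ | ⟨rfl, -⟩⟩ := h.deg hM hn0 hr hθ
    · exact ⟨θ, Finset.mem_union_right _ hθ, by have := h.e_lt; omega⟩
    · by_contra! h1
      have h2 := h.relZ hθ
      have : 0 ≤ ∑ χ ∈ X, δ χ * dg χ := Finset.sum_nonneg fun χ hχ => by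
        have := h1 χ (Finset.mem_union_left _ hχ)
        rw [((hX χ hχ).resolve_right (by omega)).1]; positivity
      omega
  have := χ.2.isCharacter.normal_charKer
  have h3 := (h.cent_le h1 h2).trans (sup_le_sup_left (Solv.le_pPrimeCore (h.coprime_ker h1)) _)
  have h4 := Solv.coprime_card_pPrimeCore (G := G) p
  have hs := QuotientGroup.mk'_surjective (pPrimeCore p G)
  have h5 : Nat.card (P.mapSurjective hs) = p := by
    refine (Nat.card_congr (Equiv.ofBijective _ ⟨(injective_iff_map_eq_one _).2 fun x hx => ?_,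
      MonoidHom.subgroupMap_surjective _ _⟩)).symm.trans hP
    exact Subtype.ext (mem_bot.1 ((inf_eq_bot_of_coprime (hP.symm ▸ h4.symm)).le
      ⟨x.2, (QuotientGroup.eq_one_iff _).1 (congrArg Subtype.val hx)⟩))
  obtain ⟨m, hm⟩ := (Nat.modEq_iff_dvd' Nat.card_pos).1 (card_sylow_modEq_one p (G ⧸ pPrimeCore p G)).symm
  have hm' : Nat.card (Sylow p (G ⧸ pPrimeCore p G)) = m * p + 1 := by
    have := Nat.card_pos (α := Sylow p (G ⧸ pPrimeCore p G)); rw [mul_comm]; omega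
  refine core ?_ (P.mapSurjective hs) h5 (le_antisymm ?_ fun _ ha _ hb => comm_of_card hp.out h5 hb ha) hm' fun h6 =>
    hr (h6.of_dvd hp.out.two_le ?_)
  · rw [commutator_def, ← map_top_of_surjective _ hs, ← map_commutator, ← commutator_def, hperf]
  · rw [Sylow.coe_mapSurjective, ← Solv.coprime_map_mk_centralizer (hP.symm ▸ h4.symm) (Or.inl (by
      have := isCyclic_of_prime_card hP; exact isSolvable_of_comm fun a b => this.isMulCommutative.1.1 a b))]
    refine (map_mono h3).trans ?_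
    rw [Subgroup.map_sup, QuotientGroup.map_mk'_self, sup_bot_eq]
  · rw [← hm', ← hM, SylNum.card_syl_quot P]
    exact index_dvd_of_le le_sup_left

theorem cube (hperf : commutator G = ⊤) {p : ℕ} [hp : Fact p.Prime] (hdvd : p ∣ Nat.card G) (hbig : Nat.card G < p ^ 3)
    (P : Sylow p G) (hP : ¬ (P : Subgroup G).Normal) (h2 : ∀ N : Subgroup G, N.Normal → Nat.card N ≠ 2) :
    (∃ (F : Type) (_ : Field F) (_ : Fintype F), Fintype.card F = p ∧ 3 < p ∧ Nonempty (G ≃* GL2.PSL2 F)) ∨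
    ∃ (m : ℕ) (F : Type) (_ : Field F) (_ : Fintype F), Fintype.card F = 2 ^ m ∧ p = 2 ^ m + 1 ∧ 3 < p ∧
      Nonempty (G ≃* GL2.PSL2 F) := by
  obtain ⟨n, hn⟩ := (Nat.modEq_iff_dvd' Nat.card_pos).1 (card_sylow_modEq_one p G).symm
  replace hn : Nat.card (Sylow p G) = n * p + 1 := by
    have := Nat.card_pos (α := Sylow p G); rw [mul_comm]; omega
  have hp0 := hp.out.pos
  have h3 : Nat.card P = p := by
    obtain ⟨k, hk0, hk⟩ := P.2.nontrivial_iff_card.1 ((P : Subgroup G).nontrivial_iff_ne_bot.2 (P.ne_bot_of_dvd_card hdvd))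
    by_contra h3
    have h4 : p ^ 2 ≤ p ^ k := Nat.pow_le_pow_right hp0 (by
      by_contra h5; exact h3 (by rw [hk, show k = 1 by omega, pow_one]))
    have h5 := (P : Subgroup G).card_mul_index
    have h6 := Nat.le_of_dvd (Nat.pos_of_ne_zero index_ne_zero_of_finite) (P.card_dvd_index)
    have h7 : n = 0 := by
      by_contra h7
      have : p ≤ n * p := Nat.le_mul_of_pos_left _ (by omega)
      have : p ^ 2 * p ≤ p ^ k * (P : Subgroup G).index := Nat.mul_le_mul h4 (by omega)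
      rw [← hk, h5, ← pow_succ] at this
      exact this.not_gt hbig
    exact hP (normalizer_eq_top_iff.1 (index_eq_one.1 (by simpa [h7, SylNum.card_syl P] using hn)))
  have h4 : ¬ Rep p n := fun h4 => by
    obtain ⟨e, X, Y, δ, ε, S, h⟩ := exists_bd hperf P h3
    obtain ⟨w, h5, hw, -⟩ := h.exists_w
    have h6 := le_of_rep h4
    have h7 : w ≠ 0 := by rintro rfl; exact Nat.card_pos.ne' h5
    rw [← SylNum.card_syl P, hn] at hw
    have : (n * p + 1) * p * 2 * 1 ≤ (n * p + 1) * p * e * w :=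
      Nat.mul_le_mul (Nat.mul_le_mul_left _ h.one_lt_e) (by omega)
    have : p * p * p ≤ 2 * n * p * p := Nat.mul_le_mul_right _ (Nat.mul_le_mul_right _ (by omega))
    nlinarith
  have h5 := (pPrimeCore p G).card_eq_card_quotient_mul_card_subgroup
  have key : 3 * Nat.card (G ⧸ pPrimeCore p G) ≥ p ^ 3 → Nonempty (G ≃* G ⧸ pPrimeCore p G) := fun h6 => by
    have h7 := h2 (pPrimeCore p G) inferInstance
    have h8 := Nat.card_pos (α := pPrimeCore p G)
    have h9 : Nat.card (pPrimeCore p G) = 1 := by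
      by_contra h9
      have := Nat.mul_le_mul_left (Nat.card (G ⧸ pPrimeCore p G)) (show 3 ≤ Nat.card (pPrimeCore p G) by omega)
      omega
    exact ⟨(QuotientGroup.quotientBot.symm.trans (QuotientGroup.quotientMulEquivOfEq (card_eq_one.1 h9).symm))⟩
  refine (reyn hperf P h3 hn h4).imp (fun ⟨F, _, _, h6, h7, ⟨e⟩⟩ => ⟨F, _, _, h6, h7, ⟨(key ?_).some.trans e⟩⟩)
    fun ⟨m, F, _, _, h6, h7, h8, ⟨e⟩⟩ => ⟨m, F, _, _, h6, h7, h8, ⟨(key ?_).some.trans e⟩⟩
  · have h9 := GL2.card_PSL2_mul (F := F)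
    have h10 := Nat.mul_le_mul_left (Nat.card (GL2.PSL2 F)) (Nat.gcd_le_left (m := 2) (Fintype.card F - 1) two_pos)
    rw [Nat.card_congr e.toEquiv]
    obtain ⟨q, rfl⟩ := Nat.exists_eq_add_of_lt h7
    rw [h9, h6, Nat.add_sub_cancel] at h10
    nlinarith [Nat.zero_le (q ^ 3), Nat.zero_le (q ^ 2)]
  · have h9 := GL2.card_PSL2_mul (F := F)
    rw [h6, (Nat.coprime_two_left.2 (Nat.Even.sub_odd Nat.one_le_two_pow (Nat.even_pow.2 ⟨even_two, by
      rintro rfl; omega⟩) odd_one)).gcd_eq_one, mul_one] at h9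
    rw [Nat.card_congr e.toEquiv, h9, h7]
    have : 4 ≤ 2 ^ m := by
      by_contra h10
      have := Nat.even_pow.2 ⟨even_two, show m ≠ 0 by rintro rfl; omega⟩
      rw [show 2 ^ m = 3 by omega] at this
      exact absurd this (by decide)
    obtain ⟨q, hq⟩ := Nat.exists_eq_add_of_le this
    rw [hq, show 4 + q - 1 = 3 + q by omega]
    nlinarith [Nat.zero_le (q ^ 3), Nat.zero_le (q ^ 2)]

theorem cube_simple [IsSimpleGroup G] (hG : ¬ IsMulCommutative G) {p : ℕ} (hp : p.Prime) (hdvd : p ∣ Nat.card G)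
    (hbig : Nat.card G < p ^ 3) :
    (∃ (F : Type) (_ : Field F) (_ : Fintype F), Fintype.card F = p ∧ 3 < p ∧ Nonempty (G ≃* GL2.PSL2 F)) ∨
    ∃ (m : ℕ) (F : Type) (_ : Field F) (_ : Fintype F), Fintype.card F = 2 ^ m ∧ p = 2 ^ m + 1 ∧ 3 < p ∧
      Nonempty (G ≃* GL2.PSL2 F) := by
  have := Fact.mk hp
  obtain ⟨P⟩ : Nonempty (Sylow p G) := inferInstance
  exact cube (perf_of_simple hG) hdvd hbig P (fun h => P.ne_bot_of_dvd_card hdvd (normal_eq hG h P.2)) fun N hN h => by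
    simp [normal_eq hG hN (p := 2) (IsPGroup.of_card (n := 1) h)] at h

theorem two_eq_zero {F : Type*} [Field F] [Fintype F] {m : ℕ} (h : Fintype.card F = 2 ^ m) : (2 : F) = 0 := by
  have := FiniteField.cast_card_eq_zero F
  rw [h] at this
  exact eq_zero_of_pow_eq_zero (by exact_mod_cast this)

omit [Finite G] in
theorem iso_of_card {F K : Type*} [Field F] [Fintype F] [Field K] [Fintype K] (e : Nonempty (G ≃* GL2.PSL2 K))
    (h : Fintype.card K = Fintype.card F) : Nonempty (G ≃* GL2.PSL2 F) := by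
  let σ := FiniteField.ringEquivOfCardEq h
  let τ : GL2.SL2 K ≃* GL2.SL2 F := MonoidHom.toMulEquiv (Matrix.SpecialLinearGroup.map σ.toRingHom)
    (Matrix.SpecialLinearGroup.map σ.symm.toRingHom) (by ext; simp) (by ext; simp)
  refine ⟨e.some.trans (QuotientGroup.congr _ _ τ (le_antisymm ?_ fun x hx => ⟨τ.symm x, ?_, by simp⟩))⟩
  · rintro _ ⟨x, hx, rfl⟩
    exact MulEquivClass.apply_mem_center τ hx
  · exact MulEquivClass.apply_mem_center τ.symm hx

/-- identification of a simple group of small order -/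
theorem iso_of_order [IsSimpleGroup G] {N p q : ℕ} (h : Nat.card G = N) (hN : ¬ N.Prime) (hp : p.Prime) (h1 : p ∣ N)
    (h2 : N < p ^ 3) (h3 : ∀ r, r = p ∨ r + 1 = p → N * Nat.gcd 2 (r - 1) = r * (r + 1) * (r - 1) → r = q)
    {F : Type*} [Field F] [Fintype F] (hF : Fintype.card F = q) : Nonempty (G ≃* GL2.PSL2 F) := by
  subst h
  obtain ⟨K, _, _, h4, e⟩ : ∃ (K : Type) (_ : Field K) (_ : Fintype K), (Fintype.card K = p ∨ Fintype.card K + 1 = p) ∧
      Nonempty (G ≃* GL2.PSL2 K) := by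
    rcases cube_simple (noncomm_of_card hN) hp h1 h2 with ⟨K, _, _, h4, -, e⟩ | ⟨m, K, _, _, h4, h5, -, e⟩
    · exact ⟨K, _, _, Or.inl h4, e⟩
    · exact ⟨K, _, _, Or.inr (by omega), e⟩
  exact iso_of_card e (hF ▸ h3 _ h4 (by rw [Nat.card_congr e.some.toEquiv, GL2.card_PSL2_mul]))

end Cfsg.Agent.Perm.Br
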