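import Cfsg.Agent.Lib.Perm.GL2a

/-! Elements, conjugacy and tori of `SL₂` and `PSL₂` over a finite field. -/

namespace Cfsg.Agent.Perm.GL2

open Matrix
open Matrix.SpecialLinearGroup (toGL toGL_injective)

/-- `SL₂` -/
abbrev SL2 (F : Type*) [Field F] := SpecialLinearGroup (Fin 2) F
/-- `PSL₂` -/
abbrev PSL2 (F : Type*) [Field F] := ProjectiveSpecialLinearGroup (Fin 2) F

variable {F : Type*} [Field F]

theorem orderOf_eq_of_isConj {G : Type*} [Group G] {a b : G} (h : IsConj a b) :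
    orderOf a = orderOf b := by
  obtain ⟨c, hc⟩ := h
  exact SemiconjBy.orderOf_eq _ hc

@[simp] theorem coe_toGL (g : SL2 F) : ((toGL g : GL (Fin 2) F) : M2 F) = g := rfl

theorem det_toGL (g : SL2 F) : GeneralLinearGroup.det (toGL g) = 1 := Units.ext g.2

theorem det_SL (g : SL2 F) : (g : M2 F) 0 0 * (g : M2 F) 1 1 - (g : M2 F) 0 1 * (g : M2 F) 1 0 = 1 := by
  rw [← det_fin_two]; exact g.2

theorem exists_toGL {g : GL (Fin 2) F} (h : (g : M2 F).det = 1) : ∃ x : SL2 F, toGL x = g :=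
  ⟨⟨g, h⟩, Units.ext rfl⟩

theorem exists_toGL' {g : GL (Fin 2) F} (h : GeneralLinearGroup.det g = 1) :
    ∃ x : SL2 F, toGL x = g := exists_toGL (congrArg Units.val h)

theorem range_toGL : (toGL : SL2 F →* GL (Fin 2) F).range = GeneralLinearGroup.det.ker := by
  ext g
  constructor
  · rintro ⟨x, rfl⟩; exact det_toGL x
  · exact fun h => exists_toGL' h

theorem card_comap_mul [Fintype F] (H : Subgroup (GL (Fin 2) F))
    (h : ∀ n : Fˣ, ∃ c ∈ H, GeneralLinearGroup.det c = n) :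
    Nat.card (H.comap (toGL : SL2 F →* GL (Fin 2) F)) * (Fintype.card F - 1) = Nat.card H := by
  classical
  let f : H →* Fˣ := GeneralLinearGroup.det.comp H.subtype
  have hf : f.range = ⊤ := eq_top_iff.2 fun n _ => by
    obtain ⟨c, hc, h⟩ := h n
    exact ⟨⟨c, hc⟩, h⟩
  have h1 := f.ker.card_mul_index
  rw [Subgroup.index_ker, hf, Subgroup.card_top, Nat.card_eq_fintype_card (α := Fˣ),
    Fintype.card_units] at h1
  rw [← h1]
  congr 1
  refine Nat.card_congr (Equiv.ofBijective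
    (fun x => (⟨⟨toGL x.1, x.2⟩, det_toGL x.1⟩ : f.ker)) ⟨fun a b h => ?_, fun y => ?_⟩)
  · exact Subtype.ext (toGL_injective (congrArg (fun y : f.ker => (y.1 : GL (Fin 2) F)) h))
  · obtain ⟨x, hx⟩ := exists_toGL' (g := y.1.1) y.2
    exact ⟨⟨x, show toGL x ∈ H from hx ▸ y.1.2⟩, Subtype.ext (Subtype.ext hx)⟩

theorem card_sub_one_pos [Fintype F] : 0 < Fintype.card F - 1 := by
  have := Fintype.one_lt_card (α := F); omega

theorem sq_sub_one_eq (q : ℕ) : q ^ 2 - 1 = (q + 1) * (q - 1) := by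
  rw [← Nat.sq_sub_sq, one_pow]

theorem card_SL2 [Fintype F] : Nat.card (SL2 F) =
    Fintype.card F * (Fintype.card F + 1) * (Fintype.card F - 1) := by
  have := card_comap_mul (F := F) ⊤ fun n => ⟨up n 1 0, trivial, Units.ext (by simp [det_fin_two])⟩
  rw [Subgroup.comap_top, Subgroup.card_top, Subgroup.card_top, card_GL2, sq, ← mul_assoc] at this
  exact Nat.eq_of_mul_eq_mul_right card_sub_one_pos this

theorem cent_SL (g : SL2 F) : cent g = (cent (toGL g)).comap toGL := by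
  ext x
  rw [Subgroup.mem_comap, mem_cent, mem_cent, ← map_mul, ← map_mul, toGL_injective.eq_iff]

theorem mem_cent_SL {g x : SL2 F} : x ∈ cent g ↔ toGL x ∈ cent (toGL g) := by
  rw [cent_SL]; rfl

theorem isConj_toGL {g h : SL2 F} (hc : IsConj g h) : IsConj (toGL g) (toGL h) :=
  (toGL : SL2 F →* GL (Fin 2) F).map_isConj hc

theorem isConj_SL_of_det {g h : SL2 F} (hc : IsConj (toGL g) (toGL h))
    (hd : ∀ n : Fˣ, ∃ c ∈ cent (toGL g), GeneralLinearGroup.det c = n) : IsConj g h := by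
  obtain ⟨x, hx⟩ := isConj_iff.1 hc
  obtain ⟨c, hc, hdc⟩ := hd (GeneralLinearGroup.det x)⁻¹
  obtain ⟨y, hy⟩ := exists_toGL' (g := x * c) (by rw [map_mul, hdc, mul_inv_cancel])
  refine isConj_iff.2 ⟨y, toGL_injective ?_⟩
  rw [map_mul, map_mul, map_inv, hy, ← hx, mul_assoc x, mem_cent.1 hc]
  group

theorem IsEll.isConj_SL [Finite F] {g h : SL2 F} (hg : IsEll (g : M2 F))
    (ht : (g : M2 F).trace = (h : M2 F).trace) : IsConj g h := by
  have hh : IsEll (h : M2 F) := hg.of_trace_det ht.symm (h.2.trans g.2.symm)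
  exact isConj_SL_of_det (isConj_of_trace_det hg.not_scal hh.not_scal ht (g.2.trans h.2.symm))
    (IsEll.exists_det (e := toGL g) hg)

theorem IsDiag.isConj_SL {g h : SL2 F} (hg : IsDiag (g : M2 F)) (hh : ¬ IsScal (h : M2 F))
    (ht : (g : M2 F).trace = (h : M2 F).trace) : IsConj g h :=
  isConj_SL_of_det (isConj_of_trace_det hg.not_scal hh ht (g.2.trans h.2.symm))
    (IsDiag.exists_det (g := toGL g) hg)

theorem trace_eq_of_isConj_SL {g h : SL2 F} (hc : IsConj g h) :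
    (g : M2 F).trace = (h : M2 F).trace := trace_eq_of_isConj (isConj_toGL hc)

theorem isEll_of_isConj_SL {g h : SL2 F} (hc : IsConj g h) (hg : IsEll (g : M2 F)) :
    IsEll (h : M2 F) := isEll_of_isConj (isConj_toGL hc) hg

theorem isScal_of_isConj_SL {g h : SL2 F} (hc : IsConj g h) (hg : IsScal (g : M2 F)) :
    IsScal (h : M2 F) := isScal_of_isConj (isConj_toGL hc) hg

theorem eq_of_isConj_scal_SL {g h : SL2 F} (hc : IsConj g h) (hg : IsScal (g : M2 F)) :
    h = g := toGL_injective (eq_of_isConj_scal (isConj_toGL hc) hg)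

theorem conj_up_entries (a : Fˣ) (h : GL (Fin 2) F) :
    ((up a 1 0 * h * (up a 1 0)⁻¹ : GL (Fin 2) F) : M2 F) =
      !![(h : M2 F) 0 0, a * (h : M2 F) 0 1; (a : F)⁻¹ * (h : M2 F) 1 0, (h : M2 F) 1 1] := by
  have : (up a 1 0 : GL (Fin 2) F)⁻¹ = up a⁻¹ 1 0 := by
    rw [inv_eq_iff_mul_eq_one]
    apply Units.ext
    apply m2_ext <;> simp [mul_apply2]
  rw [this]
  apply m2_ext <;> simp only [Units.val_mul, mul_apply2] <;> simp
  · rw [mul_right_comm, mul_inv_cancel₀ a.ne_zero, one_mul]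
  · rw [mul_comm]

theorem classify_SL (g : SL2 F) : IsScal (g : M2 F) ∨ IsEll (g : M2 F) ∨
    (∃ h : SL2 F, IsConj g h ∧ IsJord (h : M2 F)) ∨
    (∃ h : SL2 F, IsConj g h ∧ IsDiag (h : M2 F)) := by
  rcases classify (toGL g) with h | h | ⟨h, hc, hj⟩ | ⟨h, hc, hj⟩
  · exact Or.inl h
  · exact Or.inr (Or.inl h)
  · right; right; left
    obtain ⟨x, hx⟩ := isConj_iff.1 hc
    obtain ⟨y, hy⟩ := exists_toGL' (g := up (GeneralLinearGroup.det x)⁻¹ 1 0 * x) (by
      rw [map_mul]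
      have : GeneralLinearGroup.det (up (GeneralLinearGroup.det x)⁻¹ 1 0) =
          (GeneralLinearGroup.det x)⁻¹ := Units.ext (by simp [det_fin_two])
      rw [this, inv_mul_cancel])
    refine ⟨y * g * y⁻¹, isConj_iff.2 ⟨y, rfl⟩, ?_⟩
    have : toGL (y * g * y⁻¹) = up (GeneralLinearGroup.det x)⁻¹ 1 0 * h *
        (up (GeneralLinearGroup.det x)⁻¹ 1 0)⁻¹ := by
      rw [map_mul, map_mul, map_inv, hy, ← hx]; group
    rw [← coe_toGL, this, conj_up_entries]
    refine ⟨by simp [hj.1], by simp [hj.2.1], ?_⟩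
    simpa using ⟨det_ne x, hj.2.2⟩
  · right; right; right
    obtain ⟨y, rfl⟩ := exists_toGL (g := h) (by rw [← det_eq_of_isConj hc]; exact g.2)
    refine ⟨y, (IsDiag.isConj_SL hj (fun hs => hj.not_scal (isScal_of_isConj hc hs))
      (trace_eq_of_isConj hc).symm).symm, hj⟩

theorem IsEll.exists_isConj_SL [Finite F] {e : GL (Fin 2) F} {g : SL2 F} (he : IsEll (e : M2 F))
    (hg : IsEll (g : M2 F)) : ∃ c : SL2 F, toGL c ∈ cent e ∧ IsConj g c := by
  obtain ⟨c, hc, h⟩ := he.exists_isConj (g := toGL g) hg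
  obtain ⟨y, rfl⟩ := exists_toGL (g := c) (by rw [← det_eq_of_isConj h]; exact g.2)
  exact ⟨y, hc, hg.isConj_SL (trace_eq_of_isConj h)⟩

theorem IsEll.card_comap [Fintype F] {e : GL (Fin 2) F} (he : IsEll (e : M2 F)) :
    Nat.card ((cent e).comap (toGL : SL2 F →* GL (Fin 2) F)) = Fintype.card F + 1 := by
  have := card_comap_mul _ he.exists_det
  rw [he.card_cent, sq_sub_one_eq] at this
  exact Nat.eq_of_mul_eq_mul_right card_sub_one_pos this

theorem IsEll.isCyclic_comap [Finite F] {e : GL (Fin 2) F} (he : IsEll (e : M2 F)) :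
    IsCyclic ((cent e).comap (toGL : SL2 F →* GL (Fin 2) F)) := by
  haveI := he.isCyclic
  exact isCyclic_of_injective (G' := cent e)
    ((toGL.comp (Subgroup.subtype _)).codRestrict _ fun x => x.2) fun a b h =>
      Subtype.ext (toGL_injective (congrArg Subtype.val h))

theorem IsEll.card_cent_SL [Fintype F] {g : SL2 F} (hg : IsEll (g : M2 F)) :
    Nat.card (cent g) = Fintype.card F + 1 := by
  rw [cent_SL]; exact IsEll.card_comap (e := toGL g) hg

theorem IsEll.isCyclic_cent_SL [Finite F] {g : SL2 F} (hg : IsEll (g : M2 F)) :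
    IsCyclic (cent g) := by
  rw [cent_SL]; exact IsEll.isCyclic_comap (e := toGL g) hg

theorem IsDiag.card_cent_SL [Fintype F] {g : SL2 F} (hg : IsDiag (g : M2 F)) :
    Nat.card (cent g) = Fintype.card F - 1 := by
  have := card_comap_mul _ (IsDiag.exists_det (g := toGL g) hg)
  rw [IsDiag.card_cent (g := toGL g) hg, sq, ← cent_SL] at this
  exact Nat.eq_of_mul_eq_mul_right card_sub_one_pos this

theorem IsDiag.mem_cent_SL {g x : SL2 F} (hg : IsDiag (g : M2 F)) :
    x ∈ cent g ↔ (x : M2 F) 0 1 = 0 ∧ (x : M2 F) 1 0 = 0 :=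
  GL2.mem_cent_SL.trans (IsDiag.mem_cent (g := toGL g) hg)

theorem IsJord.mem_cent_SL {g x : SL2 F} (hg : IsJord (g : M2 F)) :
    x ∈ cent g ↔ (x : M2 F) 1 0 = 0 ∧ (x : M2 F) 0 0 = (x : M2 F) 1 1 :=
  GL2.mem_cent_SL.trans (IsJord.mem_cent (g := toGL g) hg)

/-- upper triangular element of `SL₂` -/
def upS (a : Fˣ) (b : F) : SL2 F := ⟨!![(a : F), b; 0, (a : F)⁻¹], by simp [det_fin_two]⟩

@[simp] theorem coe_upS (a : Fˣ) (b : F) : (upS a b : M2 F) = !![(a : F), b; 0, (a : F)⁻¹] := rfl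

theorem upper_mul_SL {g : SL2 F} (h : (g : M2 F) 1 0 = 0) :
    (g : M2 F) 0 0 * (g : M2 F) 1 1 = 1 := by
  have := det_SL g
  rwa [h, mul_zero, sub_zero] at this

theorem upper_ne_SL {g : SL2 F} (h : (g : M2 F) 1 0 = 0) : (g : M2 F) 0 0 ≠ 0 :=
  left_ne_zero_of_mul_eq_one (upper_mul_SL h)

theorem upper_inv_SL {g : SL2 F} (h : (g : M2 F) 1 0 = 0) :
    (g : M2 F) 1 1 = ((g : M2 F) 0 0)⁻¹ := eq_inv_of_mul_eq_one_right (upper_mul_SL h)

theorem eq_upS {g : SL2 F} (h : (g : M2 F) 1 0 = 0) :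
    g = upS (Units.mk0 _ (upper_ne_SL h)) ((g : M2 F) 0 1) :=
  Subtype.ext (m2_ext (by simp) (by simp) (by simp [h]) (by simp [upper_inv_SL h]))

theorem upS_mul (a a' : Fˣ) (b b' : F) :
    upS a b * upS a' b' = upS (a * a') (a * b' + b * (a' : F)⁻¹) := by
  apply Subtype.ext
  apply m2_ext <;> simp [mul_apply2, mul_comm]

theorem upS_one : upS (1 : Fˣ) (0 : F) = 1 := by
  apply Subtype.ext
  apply m2_ext <;> simp

theorem upS_inj {a a' : Fˣ} {b b' : F} : upS a b = upS a' b' ↔ a = a' ∧ b = b' := by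
  constructor
  · intro h
    have := m2_ext_iff.1 (congrArg Subtype.val h)
    simp at this
    exact ⟨Units.ext this.1, this.2.1⟩
  · rintro ⟨rfl, rfl⟩; rfl

theorem upS_inv (a : Fˣ) (b : F) : (upS a b)⁻¹ = upS a⁻¹ (-b) := by
  rw [inv_eq_iff_mul_eq_one, upS_mul, ← upS_one, upS_inj]
  simp [mul_comm]

theorem upS_pow_diag (a : Fˣ) (n : ℕ) : upS a (0 : F) ^ n = upS (a ^ n) 0 := by
  induction n with
  | zero => simp [upS_one]
  | succ n ih => rw [pow_succ, ih, upS_mul, pow_succ]; simp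

theorem upS_pow_one (b : F) (n : ℕ) : upS 1 b ^ n = upS 1 (n * b) := by
  induction n with
  | zero => simp [upS_one]
  | succ n ih => rw [pow_succ, ih, upS_mul]; simp [add_mul, add_comm]

theorem isDiag_of_sq_ne {g : SL2 F} (h1 : (g : M2 F) 0 1 = 0) (h2 : (g : M2 F) 1 0 = 0)
    (h3 : (g : M2 F) 0 0 ^ 2 ≠ 1) : IsDiag (g : M2 F) :=
  ⟨h1, h2, fun h => h3 (by rw [sq]; nth_rewrite 2 [h]; exact upper_mul_SL h2)⟩

theorem IsDiag.sq_ne {g : SL2 F} (h : IsDiag (g : M2 F)) : (g : M2 F) 0 0 ^ 2 ≠ 1 := by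
  intro h'
  apply h.2.2
  apply mul_left_cancel₀ (upper_ne_SL h.2.1)
  rw [upper_mul_SL h.2.1, ← sq, h']

theorem sq_eq_one_of_eq {g : SL2 F} (h : (g : M2 F) 1 0 = 0)
    (h' : (g : M2 F) 0 0 = (g : M2 F) 1 1) : (g : M2 F) 0 0 = 1 ∨ (g : M2 F) 0 0 = -1 := by
  have := upper_mul_SL h
  rw [← h'] at this
  exact mul_self_eq_one_iff.1 this

theorem isScal_SL_iff {g : SL2 F} : IsScal (g : M2 F) ↔ g = 1 ∨ g = -1 := by
  constructor
  · intro h
    rcases sq_eq_one_of_eq h.2.1 h.2.2 with h' | h'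
    · left; apply Subtype.ext; rw [h.eq, h']; simp
    · right; apply Subtype.ext; rw [h.eq, h']; simp
  · rintro (rfl | rfl) <;> simp [IsScal]

theorem isScal_iff_center_SL {g : SL2 F} :
    IsScal (g : M2 F) ↔ g ∈ Subgroup.center (SL2 F) := by
  rw [← SpecialLinearGroup.toGL_mem_center_iff, ← isScal_iff_center]; rfl

theorem neg_one_ne_one_SL (h : (2 : F) ≠ 0) : (-1 : SL2 F) ≠ 1 := by
  intro h'
  have := (m2_ext_iff.1 (congrArg Subtype.val h')).1
  simp at this
  apply h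
  linear_combination -this

theorem neg_one_eq_one_SL (h : (2 : F) = 0) : (-1 : SL2 F) = 1 := by
  have : (-1 : F) = 1 := by linear_combination -h
  apply Subtype.ext
  apply m2_ext <;> simp [this]

theorem two_ne_zero_of_odd [Fintype F] (h : Odd (Fintype.card F)) : (2 : F) ≠ 0 := by
  apply Ring.two_ne_zero
  intro h2
  have := FiniteField.even_card_of_char_two h2
  rw [Nat.odd_iff] at h
  omega

theorem odd_of_two_ne_zero [Fintype F] (h : (2 : F) ≠ 0) : Odd (Fintype.card F) := by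
  rw [Nat.odd_iff]
  apply FiniteField.odd_card_of_char_ne_two
  intro h2
  apply h
  haveI : CharP F 2 := h2 ▸ ringChar.charP F
  exact CharTwo.two_eq_zero

theorem two_eq_zero_of_even [Fintype F] (h : 2 ∣ Fintype.card F) : (2 : F) = 0 := by
  by_contra h'
  have := odd_of_two_ne_zero h'
  rw [Nat.odd_iff] at this
  omega

theorem ringChar_ne_two (h : (2 : F) ≠ 0) : ringChar F ≠ 2 := by
  intro h2
  apply h
  haveI : CharP F 2 := h2 ▸ ringChar.charP F
  exact CharTwo.two_eq_zero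

theorem ringChar_eq_two (h : (2 : F) = 0) : ringChar F = 2 := by
  by_contra h'
  exact Ring.two_ne_zero h' h

theorem card_center_SL_odd (h : (2 : F) ≠ 0) : Nat.card (Subgroup.center (SL2 F)) = 2 := by
  rw [Nat.card_eq_two_iff' 1]
  refine ⟨⟨-1, isScal_iff_center_SL.1 (isScal_SL_iff.2 (Or.inr rfl))⟩, ?_, ?_⟩
  · exact fun h' => neg_one_ne_one_SL h (congrArg Subtype.val h')
  · intro y hy
    exact Subtype.ext ((isScal_SL_iff.1 (isScal_iff_center_SL.2 y.2)).resolve_left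
      fun h' => hy (Subtype.ext h'))

theorem center_SL_even (h : (2 : F) = 0) : Subgroup.center (SL2 F) = ⊥ := by
  rw [eq_bot_iff]
  intro y hy
  rcases isScal_SL_iff.1 (isScal_iff_center_SL.2 hy) with h' | h'
  · exact h'
  · exact h'.trans (neg_one_eq_one_SL h)

theorem IsJord.card_cent_SL [Fintype F] {g : SL2 F} (hg : IsJord (g : M2 F)) :
    Nat.card (cent g) = Fintype.card F * Nat.card (Subgroup.center (SL2 F)) := by
  have : F × Subgroup.center (SL2 F) ≃ cent g := Equiv.ofBijective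
    (fun p => ⟨p.2 * upS 1 p.1, mul_mem (Subgroup.center_le_centralizer _ p.2.2)
      (hg.mem_cent_SL.2 (by simp))⟩) ⟨by
      rintro ⟨b, z, hz⟩ ⟨b', z', hz'⟩ h
      have h1 : z * upS 1 b = z' * upS 1 b' := congrArg Subtype.val h
      have h2 := isScal_iff_center_SL.2 hz
      have h3 := isScal_iff_center_SL.2 hz'
      have h4 := m2_ext_iff.1 (congrArg Subtype.val h1)
      simp [mul_apply2, h2.1, h2.2.1, h3.1, h3.2.1] at h4
      have h5 : z = z' := Subtype.ext (by rw [h2.eq, h3.eq, h4.1])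
      subst h5
      rw [(upS_inj.1 (mul_left_cancel h1)).2], by
      rintro ⟨x, hx⟩
      obtain ⟨h1, h2⟩ := hg.mem_cent_SL.1 hx
      have h3 := upper_ne_SL h1
      have h4 := upper_inv_SL h1
      refine ⟨((x : M2 F) 0 1 / (x : M2 F) 0 0, ⟨upS (Units.mk0 _ h3) 0,
        isScal_iff_center_SL.1 ⟨by simp, by simp, by simpa using h2.trans h4⟩⟩), Subtype.ext ?_⟩
      apply Subtype.ext
      apply m2_ext <;> simp [mul_apply2, h1, h4]
      field_simp⟩
  rw [← Nat.card_congr this, Nat.card_prod, Nat.card_eq_fintype_card]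

theorem IsJord.isConj_iff {g h : SL2 F} (hg : IsJord (g : M2 F)) (hh : IsJord (h : M2 F)) :
    IsConj g h ↔ (g : M2 F) 0 0 = (h : M2 F) 0 0 ∧ IsSquare ((g : M2 F) 0 1 * (h : M2 F) 0 1) := by
  constructor
  · intro hc
    obtain ⟨x, hx⟩ := _root_.isConj_iff.1 hc
    rw [mul_inv_eq_iff_eq_mul] at hx
    obtain ⟨h1, h2, h3, h4⟩ := m2_ext_iff.1 (congrArg Subtype.val hx)
    simp only [Matrix.SpecialLinearGroup.coe_mul, mul_apply2, hg.1, hh.1, ← hg.2.1, ← hh.2.1, mul_zero,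
      zero_mul, add_zero, zero_add] at h1 h2 h3 h4
    have hd := det_SL x
    have h5 : (g : M2 F) 0 0 = (h : M2 F) 0 0 := by
      by_cases h0 : (x : M2 F) 1 0 = 0
      · rw [h0] at h1
        apply mul_left_cancel₀ (upper_ne_SL h0)
        linear_combination h1
      · apply mul_left_cancel₀ h0
        linear_combination h3
    rw [h5] at h1 h2
    have h6 : (x : M2 F) 1 0 = 0 := by
      apply mul_left_cancel₀ hh.2.2
      linear_combination -h1
    refine ⟨h5, (x : M2 F) 0 0 * (g : M2 F) 0 1, ?_⟩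
    rw [h6] at hd
    linear_combination -((g : M2 F) 0 1 * (x : M2 F) 0 0) * h2 -
      (g : M2 F) 0 1 * (h : M2 F) 0 1 * hd
  · rintro ⟨h1, s, hs⟩
    have hs0 : s ≠ 0 := by
      rintro rfl
      exact mul_ne_zero hg.2.2 hh.2.2 (by simpa using hs)
    have hg0 := hg.2.2
    refine _root_.isConj_iff.2 ⟨upS (Units.mk0 (s / (g : M2 F) 0 1) (div_ne_zero hs0 hg0)) 0, ?_⟩
    rw [mul_inv_eq_iff_eq_mul]
    apply Subtype.ext
    apply m2_ext <;> simp [mul_apply2, hg.1, hh.1, ← hg.2.1, ← hh.2.1, h1, mul_comm]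
    field_simp
    linear_combination -hs

theorem IsJord.pow_char {g : SL2 F} (hg : IsJord (g : M2 F)) (n : ℕ) :
    ((g ^ n : SL2 F) : M2 F) = !![(g : M2 F) 0 0 ^ n, n * (g : M2 F) 0 0 ^ (n - 1) * (g : M2 F) 0 1;
      0, (g : M2 F) 0 0 ^ n] := by
  induction n with
  | zero => apply m2_ext <;> simp
  | succ n ih =>
    rw [pow_succ, Matrix.SpecialLinearGroup.coe_mul, ih]
    apply m2_ext <;> simp [mul_apply2, hg.1, ← hg.2.1, pow_succ]
    cases n with
    | zero => simp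
    | succ n => simp [pow_succ]; ring

theorem IsJord.isScal_pow_iff {g : SL2 F} (hg : IsJord (g : M2 F)) (n : ℕ) :
    IsScal ((g ^ n : SL2 F) : M2 F) ↔ (n : F) = 0 := by
  rw [hg.pow_char]
  simp [IsScal, upper_ne_SL hg.1, hg.2.2]

/-- the projection to `PSL₂` -/
abbrev toP : SL2 F →* PSL2 F := QuotientGroup.mk' _

theorem toP_surjective : Function.Surjective (toP : SL2 F →* PSL2 F) :=
  QuotientGroup.mk'_surjective _

theorem toP_eq_one {g : SL2 F} : toP g = 1 ↔ IsScal (g : M2 F) := by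
  rw [isScal_iff_center_SL]; exact QuotientGroup.eq_one_iff g

theorem toP_eq_iff {g h : SL2 F} : toP g = toP h ↔ g = h ∨ g = -h := by
  rw [← mul_inv_eq_one, ← map_inv, ← map_mul, toP_eq_one, isScal_SL_iff, mul_inv_eq_one,
    mul_inv_eq_iff_eq_mul, neg_one_mul]

theorem orderOf_toP_dvd {g : SL2 F} {n : ℕ} :
    orderOf (toP g) ∣ n ↔ IsScal ((g ^ n : SL2 F) : M2 F) := by
  rw [orderOf_dvd_iff_pow_eq_one, ← map_pow, toP_eq_one]

theorem IsJord.orderOf_toP {g : SL2 F} (hg : IsJord (g : M2 F)) (p : ℕ) [CharP F p] :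
    orderOf (toP g) = p := by
  apply Nat.dvd_antisymm
  · rw [orderOf_toP_dvd, hg.isScal_pow_iff]; exact CharP.cast_eq_zero F p
  · rw [← CharP.cast_eq_zero_iff F p, ← hg.isScal_pow_iff, ← orderOf_toP_dvd]

theorem card_center_SL [Fintype F] :
    Nat.card (Subgroup.center (SL2 F)) = Nat.gcd 2 (Fintype.card F - 1) := by
  by_cases h : (2 : F) = 0
  · rw [center_SL_even h, Subgroup.card_bot]
    have h1 := FiniteField.even_card_of_char_two (ringChar_eq_two h)
    have h2 := Fintype.one_lt_card (α := F)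
    symm
    rw [← Nat.coprime_iff_gcd_eq_one, Nat.coprime_two_left, Nat.odd_iff]
    omega
  · rw [card_center_SL_odd h]
    have := Nat.odd_iff.1 (odd_of_two_ne_zero h)
    exact (Nat.gcd_eq_left (by omega)).symm

theorem card_PSL2_mul [Fintype F] : Nat.card (PSL2 F) * Nat.gcd 2 (Fintype.card F - 1) =
    Fintype.card F * (Fintype.card F + 1) * (Fintype.card F - 1) := by
  rw [← card_center_SL, ← card_SL2]
  exact (Subgroup.card_eq_card_quotient_mul_card_subgroup _).symm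

/-- For `q` even `PSL₂` is `SL₂`. -/
noncomputable def toPEquiv (h : (2 : F) = 0) : SL2 F ≃* PSL2 F :=
  MulEquiv.ofBijective toP ⟨(injective_iff_map_eq_one _).2 fun g hg => by
    have := isScal_iff_center_SL.1 (toP_eq_one.1 hg)
    rwa [center_SL_even h] at this, toP_surjective⟩

theorem orderOf_toP_of_cyclic [Finite F] {H : Subgroup (SL2 F)} (hH : IsCyclic H)
    (hZ : Subgroup.center (SL2 F) ≤ H) :
    (∀ g ∈ H, orderOf (toP g) ∣ Nat.card H / Nat.card (Subgroup.center (SL2 F))) ∧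
    ∃ g ∈ H, orderOf (toP g) = Nat.card H / Nat.card (Subgroup.center (SL2 F)) := by
  have hc : Nat.card (H.map toP) = Nat.card H / Nat.card (Subgroup.center (SL2 F)) := by
    have h1 := ((toP.comp H.subtype : H →* PSL2 F)).ker.card_mul_index
    rw [Subgroup.index_ker, MonoidHom.range_comp, Subgroup.range_subtype, ← MonoidHom.comap_ker,
      QuotientGroup.ker_mk'] at h1
    have h2 : Nat.card ((Subgroup.center (SL2 F)).comap H.subtype) =
        Nat.card (Subgroup.center (SL2 F)) :=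
      Nat.card_congr (Subgroup.subgroupOfEquivOfLe hZ).toEquiv
    rw [h2] at h1
    rw [← h1, Nat.mul_div_cancel_left _ Nat.card_pos]
  rw [← hc]
  refine ⟨fun g hg => Subgroup.orderOf_dvd_natCard _ (Subgroup.mem_map_of_mem _ hg), ?_⟩
  haveI : IsCyclic (H.map toP) := isCyclic_of_surjective _ (MonoidHom.subgroupMap_surjective toP H)
  obtain ⟨⟨_, g, hg, rfl⟩, h⟩ := IsCyclic.exists_ofOrder_eq_natCard (α := H.map toP)
  exact ⟨g, hg, (Subgroup.orderOf_mk _ _).symm.trans h⟩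

/-- The diagonal torus of `SL₂`. -/
def torS : Fˣ →* SL2 F where
  toFun a := upS a 0
  map_one' := upS_one
  map_mul' a b := by rw [upS_mul]; simp

theorem torS_injective : Function.Injective (torS : Fˣ →* SL2 F) := fun _ _ h => (upS_inj.1 h).1

theorem mem_range_torS {g : SL2 F} :
    g ∈ (torS : Fˣ →* SL2 F).range ↔ (g : M2 F) 0 1 = 0 ∧ (g : M2 F) 1 0 = 0 := by
  constructor
  · rintro ⟨a, rfl⟩; simp [torS]
  · rintro ⟨h1, h2⟩
    exact ⟨_, by rw [eq_upS h2, h1]; rfl⟩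

theorem IsDiag.cent_eq_range {g : SL2 F} (hg : IsDiag (g : M2 F)) :
    cent g = (torS : Fˣ →* SL2 F).range := by
  ext x; rw [hg.mem_cent_SL, mem_range_torS]

theorem card_range_torS [Fintype F] :
    Nat.card (torS : Fˣ →* SL2 F).range = Fintype.card F - 1 := by
  classical
  rw [← Nat.card_congr (MonoidHom.ofInjective torS_injective).toEquiv, Nat.card_eq_fintype_card,
    Fintype.card_units]

theorem isCyclic_range_torS [Finite F] : IsCyclic (torS : Fˣ →* SL2 F).range :=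
  isCyclic_of_surjective _ (MonoidHom.rangeRestrict_surjective torS)

theorem spec_PSL2 [Fintype F] (p : ℕ) [Fact p.Prime] [CharP F p] :
    Set.range (orderOf : PSL2 F → ℕ) =
      {m : ℕ | m ∣ p ∨ m ∣ (Fintype.card F - 1) / Nat.gcd 2 (Fintype.card F - 1) ∨
        m ∣ (Fintype.card F + 1) / Nat.gcd 2 (Fintype.card F - 1)} := by
  obtain ⟨e, he⟩ := exists_ell (F := F)
  have h1 := orderOf_toP_of_cyclic (isCyclic_range_torS (F := F)) fun z hz =>
    mem_range_torS.2 ⟨(isScal_iff_center_SL.2 hz).1, (isScal_iff_center_SL.2 hz).2.1⟩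
  have h2 := orderOf_toP_of_cyclic he.isCyclic_comap fun z hz =>
    scal_mem_cent (z := toGL z) (isScal_iff_center_SL.2 hz) e
  rw [card_range_torS, card_center_SL] at h1
  rw [he.card_comap, card_center_SL] at h2
  have hconj : ∀ g h : SL2 F, IsConj g h → orderOf (toP g) = orderOf (toP h) := fun g h hc =>
    orderOf_eq_of_isConj (toP.map_isConj hc)
  have hdvd : ∀ (x : PSL2 F) (m : ℕ), m ∣ orderOf x → m ∈ Set.range (orderOf : PSL2 F → ℕ) :=
    fun x m h => ⟨_, orderOf_pow_orderOf_div (orderOf_pos x).ne' h⟩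
  ext m
  constructor
  · rintro ⟨x, rfl⟩
    obtain ⟨g, rfl⟩ := toP_surjective x
    rcases classify_SL g with h | h | ⟨h, hc, hj⟩ | ⟨h, hc, hj⟩
    · left; rw [toP_eq_one.2 h, orderOf_one]; exact one_dvd _
    · obtain ⟨c, hc, h'⟩ := he.exists_isConj_SL h
      right; right
      rw [hconj _ _ h']; exact h2.1 c hc
    · left; rw [hconj _ _ hc, hj.orderOf_toP p]
    · right; left
      rw [hconj _ _ hc]; exact h1.1 h (mem_range_torS.2 ⟨hj.1, hj.2.1⟩)
  · rintro (h | h | h)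
    · have hj : IsJord (upS (1 : Fˣ) (1 : F) : M2 F) := ⟨by simp, by simp, by simp⟩
      exact hdvd _ _ (hj.orderOf_toP p ▸ h)
    · obtain ⟨g, -, hg⟩ := h1.2
      exact hdvd _ _ (hg ▸ h)
    · obtain ⟨g, -, hg⟩ := h2.2
      exact hdvd _ _ (hg ▸ h)

end Cfsg.Agent.Perm.GL2
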