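import Cfsg.Agent.Lib.Perm.Ac2
import Cfsg.Agent.Lib.Perm.GL2b
import Cfsg.Agent.S0089
import Cfsg.Agent.Lib.Solv.Gen
import Cfsg.Agent.S0262
import Mathlib.Algebra.Group.Shrink

/-!
Groups all of whose involution centralizers are abelian, III.
-/

set_option autoImplicit false
set_option linter.unusedSectionVars false
set_option linter.style.haveILetI false

namespace Cfsg.Agent.Perm.Ac

open Subgroup Cfsg.Agent.Transfer Cfsg.Agent.Transfer.ElemC

universe u

section

variable {G : Type*} [Group G] [Finite G]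

/-- Elements commuting with two non-commuting involutions are central. -/
def ZI (G : Type*) [Group G] : Prop :=
  ∀ s t : G, orderOf s = 2 → orderOf t = 2 → ¬ Commute s t →
    ∀ x : G, Commute x s → Commute x t → x ∈ center G

namespace AC

variable (h : AC G)
include h

theorem odd_center : Odd (Nat.card (center G)) := odd_card_iff.2 fun t ht ht2 => by
  obtain ⟨u, -, hu⟩ := h.exists_u ht2
  exact hu (mem_MM.2 (mem_center_iff.1 ht u))

theorem eq_one_of_center {x : G} (hx : x ∈ center G) (h2 : x * x = 1) : x = 1 :=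
  eq_one_of_odd_of_mul_self (odd_orderOf_of_mem h.odd_center hx) h2

theorem lift {s : G ⧸ center G} (hs : orderOf s = 2) : ∃ t : G, orderOf t = 2 ∧ (t : G ⧸ center G) = s := by
  obtain ⟨a, rfl⟩ := QuotientGroup.mk_surjective s
  have h1 : a * a ∈ center G := (QuotientGroup.eq_one_iff _).1 (by
    rw [QuotientGroup.mk_mul, mul_self_of_orderOf hs])
  obtain ⟨k, hk⟩ := odd_orderOf_of_mem h.odd_center h1
  have h2 : ((a ^ orderOf (a * a) : G) : G ⧸ center G) = a := by
    rw [hk, QuotientGroup.mk_pow, pow_succ, pow_mul, pow_two, mul_self_of_orderOf hs, one_pow, one_mul]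
  refine ⟨a ^ orderOf (a * a), orderOf_eq_two (by
    rw [← (Commute.refl a).mul_pow, pow_orderOf_eq_one]) fun e => ne_one_of_orderOf hs ?_, h2⟩
  rw [← h2, e, QuotientGroup.mk_one]

theorem eq_of_mk_eq {s t : G} (hs : s * s = 1) (ht : t * t = 1)
    (he : (s : G ⧸ center G) = t) : s = t := by
  have h1 := QuotientGroup.eq.1 he
  refine inv_mul_eq_one.1 (h.eq_one_of_center h1 ?_)
  calc _ = s⁻¹ * (s⁻¹ * t * t) := by rw [← mem_center_iff.1 h1 t]; group
    _ = 1 := by rw [mul_assoc, ht, mul_one, ← mul_inv_rev, hs, inv_one]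

theorem commute_of_mk {t a : G} (ht : t * t = 1) (hc : Commute (a : G ⧸ center G) t) : Commute a t :=
  commute_iff_conj.2 (h.eq_of_mk_eq (conj_mul_self ht a) ht (by
    simpa using commute_iff_conj.1 hc))

theorem orderOf_mk {t : G} (ht : orderOf t = 2) : orderOf (t : G ⧸ center G) = 2 :=
  orderOf_eq_two (by rw [← QuotientGroup.mk_mul, mul_self_of_orderOf ht, QuotientGroup.mk_one])
    fun e => ne_one_of_orderOf ht (h.eq_one_of_center ((QuotientGroup.eq_one_iff _).1 e)
      (mul_self_of_orderOf ht))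

theorem ti_quot (hZ : ZI G) : TI (G ⧸ center G) := by
  have hm : ∀ a b : G, Commute a b → Commute (a : G ⧸ center G) b := fun a b hab =>
    hab.map (QuotientGroup.mk' _)
  refine ⟨⟨fun t ht a b ha hb => ?_, ?_, ?_⟩, fun s t hs ht hst x hxs hxt => ?_⟩
  · obtain ⟨t, ht2, rfl⟩ := h.lift ht
    obtain ⟨a, rfl⟩ := QuotientGroup.mk_surjective a
    obtain ⟨b, rfl⟩ := QuotientGroup.mk_surjective b
    exact hm _ _ (h.hC t ht2 a b (h.commute_of_mk (mul_self_of_orderOf ht2) ha)
      (h.commute_of_mk (mul_self_of_orderOf ht2) hb))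
  · obtain ⟨s, t, hs, ht, hst, hc⟩ := h.hs
    exact ⟨s, t, h.orderOf_mk hs, h.orderOf_mk ht, fun e => hst (h.eq_of_mk_eq
      (mul_self_of_orderOf hs) (mul_self_of_orderOf ht) e), hm _ _ hc⟩
  · obtain ⟨s, t, hs, ht, hc⟩ := h.hu
    exact ⟨s, t, h.orderOf_mk hs, h.orderOf_mk ht,
      fun e => hc (h.commute_of_mk (mul_self_of_orderOf ht) e)⟩
  · obtain ⟨s, hs2, rfl⟩ := h.lift hs
    obtain ⟨t, ht2, rfl⟩ := h.lift ht
    obtain ⟨x, rfl⟩ := QuotientGroup.mk_surjective x
    exact (QuotientGroup.eq_one_iff _).2 (hZ s t hs2 ht2 (fun e => hst (hm _ _ e)) x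
      (h.commute_of_mk (mul_self_of_orderOf hs2) hxs) (h.commute_of_mk (mul_self_of_orderOf ht2) hxt))

theorem not_trans (hZ : ZI G) {E : Subgroup G} (hE : Odd (Nat.card E))
    (htr : ∀ s t : G, orderOf s = 2 → orderOf t = 2 → ∃ e ∈ E, e * s * e⁻¹ = t) : False := by
  refine (h.ti_quot hZ).not_trans (E := E.map (QuotientGroup.mk' _))
    (hE.of_dvd_nat (card_map_dvd _ _)) fun s t hs ht => ?_
  obtain ⟨s, hs2, rfl⟩ := h.lift hs
  obtain ⟨t, ht2, rfl⟩ := h.lift ht
  obtain ⟨e, he, rfl⟩ := htr s t hs2 ht2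
  exact ⟨e, mem_map_of_mem _ he, rfl⟩

theorem sub {X : Subgroup G} {s t : G} (hs : orderOf s = 2) (ht : orderOf t = 2) (hst : ¬ Commute s t)
    (h1 : MM s ≤ X) (h2 : t ∈ X) : AC X := by
  obtain ⟨r, hr, hr2, hrs⟩ := h.exists_s hs
  refine ⟨fun t ht a b ha hb => Subtype.ext (h.hC t (by simpa using ht) a b
    (ha.map X.subtype) (hb.map X.subtype)), ⟨⟨r, h1 hr⟩, ⟨s, h1 self_mem⟩, by simpa using hr2,
      by simpa using hs, fun e => hrs (congrArg Subtype.val e), Subtype.ext (mem_MM.1 hr)⟩,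
    ⟨⟨s, h1 self_mem⟩, ⟨t, h2⟩, by simpa using hs, by simpa using ht,
      fun e => hst (e.map X.subtype)⟩⟩

end AC

end

theorem AC.zi (n : ℕ) : ∀ (G : Type u) [Group G] [Finite G], Nat.card G = n → AC G → ZI G := by
  induction n using Nat.strong_induction_on with
  | _ n ih =>
  intro G _ _ hn h s t hs ht hst x hxs hxt
  have h1 := h.HH_le hs ht (fun e => hst e.symm) hxs hxt
  have h2 : MM s ≤ MM x := le_normalizer.trans h1
  by_contra hx
  have hX : MM x ≠ ⊤ := fun e => hx (mem_center_iff.2 fun g => (mem_MM.1 (e ▸ mem_top g)).eq)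
  have hA := h.sub hs ht hst h2 (mem_MM.2 hxt.symm)
  have hZ := ih _ (hn ▸ Solv.card_lt_of_ne_top hX) (MM x) rfl hA
  have hs' : orderOf (⟨s, h2 AC.self_mem⟩ : MM x) = 2 := by simpa using hs
  have hse : IsStronglyEmbedded (MM x) := by
    refine stronglyEmbedded_iff.2 ⟨hX, even_card_of_invol_mem hs (h2 AC.self_mem), fun a ha ha2 g hg => ?_⟩
    obtain ⟨c, hc⟩ := isConj_iff.1 (se_isConj (hA.se hs') hs' (b := ⟨a, ha⟩) (by simpa using ha2))
    obtain ⟨d, hd⟩ := isConj_iff.1 (se_isConj (hA.se hs') hs' (b := ⟨_, hg⟩)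
      (by rw [← orderOf_coe, orderOf_conj, ha2]))
    have hc' : (c : G) * s * (c : G)⁻¹ = a := congrArg Subtype.val hc
    have hd' : (d : G) * s * (d : G)⁻¹ = g * a * g⁻¹ := congrArg Subtype.val hd
    have h3 : (d : G)⁻¹ * (g * c) ∈ MM x := h2 (mem_MM.2 (conj_eq_conj_iff.1 (by
      rw [hd', ← hc']; group)))
    exact (mul_mem_cancel_right c.2).1 ((mul_mem_cancel_left (inv_mem d.2)).1 h3)
  obtain ⟨v, hv2, hv⟩ := se_exists_invol_notMem hse
  refine hA.not_trans hZ (E := (MM x ⊓ cj v (MM x)).subgroupOf (MM x)) ?_ fun a b ha hb => ?_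
  · rw [Nat.card_congr (subgroupOfEquivOfLe inf_le_left).toEquiv]
    exact hse.2.2 v hv
  · obtain ⟨d, hd, h3, h4⟩ := se_exists_inverted_conj hse hv hv2 a.2 (by simpa using ha) b.2
      (by simpa using hb)
    exact ⟨⟨d, hd⟩, mem_inf_cj_of_inverts hd h3, Subtype.ext h4⟩

variable {G : Type*} [Group G] [Finite G]

theorem sylow_comm (hC : ∀ t : G, orderOf t = 2 → ∀ a b : G, Commute a t → Commute b t → Commute a b)
    (P : Sylow 2 G) : IsMulCommutative P := by
  by_cases hP : (P : Subgroup G) = ⊥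
  · exact ⟨⟨fun a b => Subtype.ext (by
      have h1 : (a : G) = 1 := mem_bot.1 (hP ▸ a.2)
      simp [h1])⟩⟩
  obtain ⟨z, -, hz, h1⟩ := exists_central_invol P.2 hP
  exact ⟨⟨fun a b => Subtype.ext (hC z hz a b (mem_MM.1 (h1 a.2)) (mem_MM.1 (h1 b.2)))⟩⟩

theorem ac_of (hC : ∀ t : G, orderOf t = 2 → ∀ a b : G, Commute a t → Commute b t → Commute a b)
    (P : Sylow 2 G) (hnc : ¬ IsCyclic P) (hnn : ¬ (P : Subgroup G).Normal) : AC G := by
  have hP : (P : Subgroup G) ≠ ⊥ := fun e => hnn (e ▸ inferInstance)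
  obtain ⟨z, hzP, hz, h1⟩ := exists_central_invol P.2 hP
  have hcomm := sylow_comm hC P
  refine ⟨hC, ?_, ?_⟩
  · by_contra hs
    push Not at hs
    obtain ⟨p, hp, E, hE, hE'⟩ := Solv.exists_elementary_sq_of_not_isCyclic hcomm hnc
    have h2 : p = 2 := by
      obtain ⟨k, hk⟩ := (P.2.to_subgroup E).exists_card_eq
      exact (Nat.prime_dvd_prime_iff_eq hp Nat.prime_two).1
        (hp.dvd_of_dvd_pow (hk ▸ hE ▸ dvd_pow_self p two_ne_zero))
    subst h2
    have h3 : ∀ x ∈ E, x = 1 ∨ x = ⟨z, hzP⟩ := fun x hx => by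
      by_contra hc
      push Not at hc
      exact hs x z (orderOf_eq_two (by rw [← pow_two]; exact congrArg Subtype.val (hE' x hx))
        fun e => hc.1 (Subtype.ext e)) hz (fun e => hc.2 (Subtype.ext e)) (mem_MM.1 (h1 x.2))
    have h4 := (cnt_mono h3).trans (cnt_eq_two (p := fun x => x = 1 ∨ x = (⟨z, hzP⟩ : P))
      (fun e => ne_one_of_orderOf hz (congrArg Subtype.val e).symm) fun _ => Iff.rfl).le
    rw [hE] at h4
    omega
  · by_contra hu
    push Not at hu
    refine hnn ⟨fun a ha g => ?_⟩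
    have hz' : orderOf (g * z * g⁻¹) = 2 := by rw [orderOf_conj, hz]
    have h2 : g * a * g⁻¹ ∈ MM z := mem_MM.2 (hC _ hz' _ _ ((mem_MM.1 (h1 ha)).conj g) (hu _ _ hz hz'))
    refine (isSyl_top P).le_of_le_normalizer (Q := zpowers (g * a * g⁻¹)) ?_ le_top ?_ (mem_zpowers _)
    · rw [← cj_zpowers]
      exact (P.2.to_le (zpowers_le.2 ha)).map _
    · refine zpowers_le.2 (centralizer_le_normalizer _ fun y hy => ?_)
      exact (hC z hz _ _ (mem_MM.1 (h1 hy)) (mem_MM.1 h2)).eq

theorem AC.prod (h : AC G) : ∃ (F : Type) (_ : Field F) (_ : Fintype F) (A : Type) (_ : CommGroup A)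
    (_ : Finite A), CharP F 2 ∧ Odd (Nat.card A) ∧
      Nonempty (G ≃* Matrix.SpecialLinearGroup (Fin 2) F × A) := by
  obtain ⟨F, _, _, h1, h2, ⟨e⟩⟩ := (h.ti_quot (AC.zi _ G rfl h)).exists_psl
  have hch : CharP F 2 := CharTwo.of_one_ne_zero_of_two_eq_zero one_ne_zero h2
  let f : G →* GL2.SL2 F := ((e.trans (GL2.toPEquiv h2).symm).toMonoidHom).comp (QuotientGroup.mk' _)
  have hf : Function.Surjective f := (e.trans (GL2.toPEquiv h2).symm).surjective.comp
    (QuotientGroup.mk'_surjective _)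
  have hk : ∀ x, f x = 1 ↔ x ∈ center G := fun x => by
    simp only [f, MonoidHom.comp_apply, MulEquiv.coe_toMonoidHom, EmbeddingLike.map_eq_one_iff,
      QuotientGroup.mk'_apply, QuotientGroup.eq_one_iff]
  have h3 : commutator G ⊓ center G = ⊥ := by
    refine S0089.result fun p hp P => ?_
    have := Fact.mk hp
    by_cases h4 : p = 2
    · subst h4; exact sylow_comm h.hC P
    have h5 : IsCyclic ((P : Subgroup G).map f) := S0262.result 2 p h4 h4 (P.mapSurjective hf)
    exact MonoidHom.isMulCommutative_of_isCyclic_of_ker_le_center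
      (f.subgroupMap (P : Subgroup G)) fun x hx =>
        mem_center_iff.2 fun y => Subtype.ext (mem_center_iff.1 ((hk x).1
          (Subtype.ext_iff.1 (MonoidHom.mem_ker.1 hx) :)) y)
  have h4 : commutator (GL2.SL2 F) = ⊤ := by
    obtain ⟨a, ha, ha1⟩ : ∃ a : F, a ≠ 0 ∧ a ≠ 1 := by
      by_contra hc
      push Not at hc
      have : Fintype.card F ≤ 2 := by
        classical
        calc _ ≤ ({0, 1} : Finset F).card := Finset.card_le_card fun a _ => by
              by_cases h0 : a = 0 <;> simp [h0, hc]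
          _ ≤ 2 := Finset.card_le_two
      omega
    refine Matrix.SL2.commutator_eq_top ha fun e => ha1 ?_
    rcases sq_eq_one_iff.1 e with e | e
    · exact e
    · rw [e, CharTwo.neg_eq]
  let φ : commutator G →* GL2.SL2 F := f.comp (commutator G).subtype
  have hφ : Function.Bijective φ := by
    refine ⟨(injective_iff_map_eq_one _).2 fun x hx => Subtype.ext (mem_bot.1 (h3 ▸ ⟨x.2, (hk x).1 hx⟩)),
      fun y => ?_⟩
    have : y ∈ (commutator G).map f := by
      rw [_root_.commutator_def, Subgroup.map_commutator, ← MonoidHom.range_eq_map,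
        MonoidHom.range_eq_top.2 hf, ← _root_.commutator_def, h4]; trivial
    obtain ⟨x, hx, rfl⟩ := this
    exact ⟨⟨x, hx⟩, rfl⟩
  let ψ : commutator G × center G →* G := (commutator G).subtype.noncommCoprod (center G).subtype
    fun a b => mem_center_iff.1 b.2 a
  have hψ : Function.Bijective ψ := by
    refine ⟨(injective_iff_map_eq_one _).2 fun x hx => ?_, fun y => ?_⟩
    · have h5 : (x.1 : G) * x.2 = 1 := hx
      have h6 : (x.1 : G) = 1 := mem_bot.1 (h3 ▸ ⟨x.1.2, by
        rw [eq_inv_of_mul_eq_one_left h5]; exact (center G).inv_mem x.2.2⟩)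
      rw [h6, one_mul] at h5
      exact Prod.ext (Subtype.ext h6) (Subtype.ext h5)
    · obtain ⟨x, hx⟩ := hφ.2 (f y)
      refine ⟨(x, ⟨(x : G)⁻¹ * y, (hk _).1 ?_⟩), mul_inv_cancel_left _ _⟩
      rw [map_mul, map_inv, ← hx]; exact inv_mul_cancel _
  letI : CommGroup (center G) := { (inferInstance : Group (center G)) with
    mul_comm := fun a b => Subtype.ext (mem_center_iff.1 b.2 a) }
  refine ⟨F, inferInstance, inferInstance, Shrink.{0} (center G), inferInstance, inferInstance, hch, ?_,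
    ⟨(MulEquiv.ofBijective ψ hψ).symm.trans ((MulEquiv.ofBijective φ hφ).prodCongr
      Shrink.mulEquiv.symm)⟩⟩
  rw [Nat.card_congr (equivShrink _).symm]
  exact h.odd_center

end Cfsg.Agent.Perm.Ac
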