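import Mathlib
import Cfsg.Agent.Lib.Perm.Dick5

/-! Maximal subgroups of `PSL₂(q)`. -/

namespace Cfsg.Agent.Perm.GL2
open Matrix OnePoint MulAction Cfsg.Agent.Perm Subgroup Cfsg.Agent.Perm.Tri
open Matrix.SpecialLinearGroup (toGL toGL_injective)
open scoped Pointwise

/-- the order of `PGL₂(q)` -/
def oP (q : ℕ) : ℕ := q * (q + 1) * (q - 1)

theorem oP_eq (q : ℕ) : oP q = q * (q ^ 2 - 1) := by rw [oP, sq_sub_one_eq, mul_assoc]

theorem oP_mono {l q : ℕ} (h : l ≤ q) : oP l ≤ oP q :=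
  Nat.mul_le_mul (Nat.mul_le_mul h (by omega)) (by omega)

theorem oP_lt {l q : ℕ} (h : l < q) (h1 : 1 < q) : oP l < oP q := by
  unfold oP
  calc l * (l + 1) * (l - 1) ≤ l * (l + 1) * (q - 1) := Nat.mul_le_mul_left _ (by omega)
    _ < _ := Nat.mul_lt_mul_of_pos_right (by nlinarith) (by omega)

theorem two_oP_lt {l m : ℕ} (hl : 1 < l) (hm : 2 ≤ m) : 2 * oP l < oP (l ^ m) := by
  refine lt_of_lt_of_le ?_ (oP_mono (Nat.pow_le_pow_right (by omega) hm))
  obtain ⟨k, rfl⟩ := Nat.exists_eq_add_of_lt hl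
  have : (1 + k + 1) ^ 2 - 1 = (k + 1) * (k + 3) := by
    rw [show (1 + k + 1) ^ 2 = (k + 1) * (k + 3) + 1 by ring]; rfl
  unfold oP
  rw [this, show 1 + k + 1 - 1 = k + 1 by omega]
  nlinarith [Nat.zero_le (k ^ 6), Nat.zero_le (k ^ 5), Nat.zero_le (k ^ 4), Nat.zero_le (k ^ 3), Nat.zero_le (k ^ 2)]

theorem geom_parity {Y : ℕ} (hY : Even Y) (m : ℕ) : ∃ s, (Y + 1) ^ m = 1 + Y * s ∧ s % 2 = m % 2 := by
  induction m with
  | zero => exact ⟨0, by simp, rfl⟩
  | succ m ih =>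
    obtain ⟨s, h1, h2⟩ := ih
    obtain ⟨y, rfl⟩ := hY
    refine ⟨1 + s + 2 * (s * y), by rw [pow_succ, h1]; ring, by omega⟩

theorem even_of_dvd_oP {l m : ℕ} (hl : Odd l) (h1 : 1 < l) (h : 2 * oP l ∣ oP (l ^ m)) : Even m := by
  by_contra hm
  have h2 : 1 < l ^ 2 := Nat.one_lt_pow two_ne_zero h1
  obtain ⟨s, hs, hs2⟩ := geom_parity (Y := l ^ 2 - 1) (Nat.Odd.sub_odd hl.pow odd_one) m
  rw [Nat.sub_add_cancel h2.le] at hs
  rw [oP_eq, oP_eq, ← pow_mul, mul_comm m, pow_mul, hs, Nat.add_sub_cancel_left,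
    show l ^ m * ((l ^ 2 - 1) * s) = l ^ m * s * (l ^ 2 - 1) by ring, ← mul_assoc] at h
  have h3 := (Dvd.intro _ rfl : 2 ∣ 2 * l).trans (Nat.dvd_of_mul_dvd_mul_right (by omega) h)
  have : Odd (l ^ m * s) := hl.pow.mul (Nat.odd_iff.2 (by rw [hs2]; exact Nat.odd_iff.1 (Nat.not_even_iff_odd.1 hm)))
  exact Nat.not_even_iff_odd.2 this (even_iff_two_dvd.2 h3)

theorem dvd_of_oP_dvd {p a b : ℕ} (hp : p.Prime) (ha : 0 < a) (h : oP (p ^ a) ∣ 2 * oP (p ^ b)) : a ∣ b := by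
  rw [oP_eq, oP_eq, ← pow_mul, ← pow_mul, mul_comm a, mul_comm b, pow_mul, pow_mul] at h
  have h4 : 4 ≤ p ^ 2 := Nat.pow_le_pow_left hp.two_le 2
  have hc : Nat.Coprime ((p ^ 2) ^ a - 1) (p ^ b) := by
    apply Nat.Coprime.pow_right
    rw [Nat.coprime_comm, hp.coprime_iff_not_dvd]
    intro hd
    have h1 : p ∣ (p ^ 2) ^ a := (dvd_pow_self p two_ne_zero).trans (dvd_pow_self _ ha.ne')
    have := Nat.dvd_sub h1 hd
    rw [Nat.sub_sub_self (Nat.one_le_pow _ _ (by omega))] at this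
    exact hp.one_lt.ne' (Nat.dvd_one.1 this)
  have h1 : (p ^ 2) ^ a - 1 ∣ 2 * ((p ^ 2) ^ b - 1) := hc.dvd_of_dvd_mul_left (by
    rw [mul_left_comm]; exact (Dvd.intro_left _ rfl).trans h)
  have h2 := Nat.dvd_gcd (Dvd.intro_left 2 rfl) h1
  rw [Nat.gcd_mul_left, Nat.pow_sub_one_gcd_pow_sub_one] at h2
  have hg : 0 < a.gcd b := Nat.gcd_pos_of_pos_left _ ha
  have h3 : 1 < (p ^ 2) ^ a.gcd b := Nat.one_lt_pow hg.ne' (by omega)
  have h5 := Nat.le_of_dvd (by omega) h2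
  by_contra hn
  have h6 : a.gcd b < a := lt_of_le_of_ne (Nat.gcd_le_left _ ha) fun e => hn (e ▸ Nat.gcd_dvd_right a b)
  have h7 : (p ^ 2) ^ (a.gcd b + 1) ≤ (p ^ 2) ^ a := Nat.pow_le_pow_right (by omega) h6
  rw [pow_succ] at h7
  have := Nat.mul_le_mul_left ((p ^ 2) ^ a.gcd b) h4
  omega

theorem five_dvd_oP {q : ℕ} : 5 ∣ oP q ↔ q % 5 = 0 ∨ q % 5 = 1 ∨ q % 5 = 4 := by
  rw [oP, (by norm_num : Nat.Prime 5).dvd_mul, (by norm_num : Nat.Prime 5).dvd_mul]; omega

section Abstract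
variable {G : Type*} [Group G]

theorem not_coatom_of_sylow [Finite G] {r : ℕ} [Fact r.Prime] {M X : Subgroup G} (hM : IsCoatom M)
    (h1 : IsPGroup r M) (h2 : ¬ r ∣ X.index) (h3 : X ≠ ⊤) (h4 : Nat.card M < Nat.card X) : False := by
  obtain ⟨P, hP⟩ := h1.exists_le_sylow
  obtain ⟨Q⟩ : Nonempty (Sylow r X) := inferInstance
  let Q' : Sylow r G := (Q.isPGroup'.map X.subtype).toSylow (by
    rw [index_map_subtype, (Fact.out : r.Prime).dvd_mul]; exact not_or.2 ⟨Q.not_dvd_index, h2⟩)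
  obtain ⟨g, hg⟩ := exists_smul_eq G Q' P
  have hle : M ≤ cjs g X := hP.trans (by
    rw [← hg]; exact map_mono (map_subtype_le _))
  rcases hM.le_iff.1 hle with h | h
  · exact h3 (by rw [← cjs_inv_cjs g X, h, cjs_normal])
  · rw [← h, card_cjs] at h4; omega

theorem isCoatom_cjs {M : Subgroup G} (hM : IsCoatom M) (g : G) : IsCoatom (cjs g M) :=
  (OrderIso.isCoatom_iff (MulEquiv.mapSubgroup (MulAut.conj g)) M).2 hM

theorem not_coatom_dih [Finite G] [IsSimpleGroup G] {r : ℕ} (hr : r.Prime) {M X : Subgroup G} (hM : IsCoatom M)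
    (e : M ≃* DihedralGroup r) (h2 : ¬ r ^ 2 ∣ Nat.card G) (h3 : X ≠ ⊤) (h4 : Nat.card M < Nat.card X)
    {A : Type*} [Group A] (e' : X ≃* A) {a s : A} (ha : orderOf a = r) (h5 : s * a * s⁻¹ = a⁻¹) (h6 : s ^ 2 = 1)
    (h7 : s ∉ zpowers a) : False := by
  haveI := Fact.mk hr
  haveI : NeZero r := ⟨hr.ne_zero⟩
  obtain ⟨t, w, b1, b2, b3, b4, rfl⟩ := Transfer.exists_gens_of_dihedral e
  let φ : A →* G := X.subtype.comp e'.symm.toMonoidHom
  have hφ : Function.Injective φ := X.subtype_injective.comp e'.symm.injective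
  have hs : ∀ x : G, orderOf x = r → ∃ P : Sylow r G, (P : Subgroup G) = zpowers x := fun x hx =>
    ⟨(IsPGroup.of_card (G := zpowers x) (n := 1) (by rw [Nat.card_zpowers, hx, pow_one])).toSylow (fun h => h2 (by
      rw [← (zpowers x).card_mul_index, Nat.card_zpowers, hx, pow_two]; exact Nat.mul_dvd_mul_left _ h)), rfl⟩
  obtain ⟨P, hP⟩ := hs t b1
  obtain ⟨Q, hQ⟩ := hs (φ a) (by rw [orderOf_injective φ hφ, ha])
  obtain ⟨g, hg⟩ := exists_smul_eq G P Q
  have hc : ∀ R : Sylow r G, normalizer ((R : Subgroup G) : Set G) ≠ ⊤ := fun R h => by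
    rcases (normalizer_eq_top_iff.1 h).eq_bot_or_eq_top with h' | h'
    · have := Nat.card_congr (R.equiv P).toEquiv
      rw [h', hP, card_bot, Nat.card_zpowers, b1] at this; exact hr.one_lt.ne this
    · have := Nat.card_congr (R.equiv P).toEquiv
      have h9 := card_le_card_group (closure ({t, w} : Set G))
      rw [h', hP, card_top, Nat.card_zpowers, b1] at this
      rw [card_dih b2 b3 b4, b1, this] at h9
      have := hr.pos; omega
  have hN : closure {t, w} = normalizer ((P : Subgroup G) : Set G) := by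
    refine ((hM.le_iff.1 ?_).resolve_left (hc P)).symm
    rw [hP, closure_le]
    rintro _ (rfl | rfl)
    exacts [le_normalizer (mem_zpowers _), Transfer.mem_normalizer_zpowers_of_inv b2]
  have hN2 : cjs g (closure {t, w}) = normalizer ((Q : Subgroup G) : Set G) := by
    rw [hN, ← hg]; exact map_equiv_normalizer_eq _ (MulAut.conj g)
  have c1 : φ s * φ a * (φ s)⁻¹ = (φ a)⁻¹ := by rw [← map_inv, ← map_inv, ← map_mul, ← map_mul, h5]
  have hD : closure {φ a, φ s} = cjs g (closure {t, w}) := by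
    refine eq_of_le_of_card_ge ?_ ?_
    · rw [hN2, hQ, closure_le]
      rintro _ (rfl | rfl)
      exacts [le_normalizer (mem_zpowers _), Transfer.mem_normalizer_zpowers_of_inv c1]
    · rw [card_cjs, card_dih b2 b3 b4, card_dih c1 (by rw [← map_pow, h6, map_one]) (by
        rw [← MonoidHom.map_zpowers, mem_map_iff_mem hφ]; exact h7), b1, orderOf_injective φ hφ, ha]
  have hle : cjs g (closure {t, w}) ≤ X := by
    rw [← hD, closure_le]
    rintro _ (rfl | rfl) <;> exact (e'.symm _).2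
  rcases (isCoatom_cjs hM g).le_iff.1 hle with h | h
  · exact h3 h
  · rw [h, card_cjs] at h4; omega

theorem exists_sub_iso {A B : Type*} [Group A] [Group B] {H : Subgroup G} (e : H ≃* A) {K : Subgroup A}
    (e' : Nonempty (K ≃* B)) : ∃ M ≤ H, Nonempty (M ≃* B) :=
  ⟨K.map (H.subtype.comp e.symm.toMonoidHom), by rintro _ ⟨x, -, rfl⟩; exact (e.symm x).2,
    ⟨(K.equivMapOfInjective _ (H.subtype_injective.comp e.symm.injective)).symm.trans e'.some⟩⟩

theorem orderOf_of_iso {A : Type*} [Group A] {H : Subgroup G} (e : H ≃* A) {g : G} (hg : g ∈ H) :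
    ∃ a : A, orderOf g = orderOf a := ⟨e ⟨g, hg⟩, by rw [e.orderOf_eq, orderOf_mk]⟩

theorem covBy_cjs {M S : Subgroup G} [S.Normal] (h : M ⋖ S) (c : G) : cjs c M ⋖ S := by
  rw [← cjs_normal c S]
  exact (apply_covBy_apply_iff (MulEquiv.mapSubgroup (MulAut.conj c))).2 h

theorem card_lt_of_lt [Finite G] {M H : Subgroup G} (h : M < H) : Nat.card M < Nat.card H :=
  lt_of_le_of_ne (card_le_of_le h.le) fun e => h.ne (eq_of_le_of_card_ge h.le e.ge)

theorem lt_of_card_lt {M H : Subgroup G} (h : M ≤ H) (h2 : Nat.card M ≠ Nat.card H) : M < H :=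
  lt_of_le_of_ne h fun e => h2 (by rw [e])

end Abstract

variable {F : Type*} [Field F] {p : ℕ}

section Sub
variable {K : Type*} [Field K]

theorem card_RG' [Finite K] (f : K →+* F) (c : PGL2 F) : Nat.card (cjs c (RG f)) = oP (Nat.card K) := by
  letI := Fintype.ofFinite K
  rw [card_cjs, card_RG, Nat.card_eq_fintype_card, oP]

theorem card_RS' [Finite K] (f : K →+* F) (c : PGL2 F) :
    Nat.card (cjs c (RS f)) * Nat.gcd 2 (Nat.card K - 1) = oP (Nat.card K) := by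
  letI := Fintype.ofFinite K
  rw [card_cjs, Nat.card_eq_fintype_card (α := K), card_RS, oP]

theorem card_PS' [Fintype F] : Nat.card (PS F) * Nat.gcd 2 (Fintype.card F - 1) = oP (Fintype.card F) := card_PS_mul

theorem card_PGL2' [Fintype F] : Nat.card (PGL2 F) = oP (Fintype.card F) := card_PGL2

theorem exists_card_pow' [Finite K] [Fintype F] (f : K →+* F) : ∃ m, 0 < m ∧ Fintype.card F = Nat.card K ^ m := by
  letI := Fintype.ofFinite K
  rw [Nat.card_eq_fintype_card]; exact exists_card_pow f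

theorem order_RG [Finite K] (p : ℕ) [hp : Fact p.Prime] [CharP F p] (f : K →+* F) {c g : PGL2 F}
    (hg : g ∈ cjs c (RG f)) : orderOf g ∣ p ∨ orderOf g ∣ Nat.card K - 1 ∨ orderOf g ∣ Nat.card K + 1 := by
  letI := Fintype.ofFinite K
  haveI := f.charP f.injective p
  obtain ⟨a, ha⟩ := orderOf_of_iso ((rgEquiv f).trans (cjsEquiv c _)).symm hg
  rw [ha, Nat.card_eq_fintype_card]; exact spec_PGL2 p a

theorem char_le_card [Finite K] (p : ℕ) [hp : Fact p.Prime] [CharP F p] (f : K →+* F) :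
    ∃ a, 0 < a ∧ Nat.card K = p ^ a := by
  letI := Fintype.ofFinite K
  haveI := f.charP f.injective p
  obtain ⟨n, -, hn⟩ := FiniteField.card K p
  exact ⟨n, n.2, by rw [Nat.card_eq_fintype_card, hn]⟩

theorem gcd_eq_gcd [Finite K] [Fintype F] (f : K →+* F) :
    Nat.gcd 2 (Nat.card K - 1) = Nat.gcd 2 (Fintype.card F - 1) := by
  obtain ⟨m, hm, h⟩ := exists_card_pow' f
  have h0 : 0 < Nat.card K := Nat.card_pos
  rcases Nat.even_or_odd (Nat.card K) with h1 | h1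
  · rw [gcd_even h1 h0, gcd_even (by rw [h]; exact h1.pow_of_ne_zero hm.ne') Fintype.card_pos]
  · rw [gcd_odd h1, gcd_odd (by rw [h]; exact h1.pow)]

theorem RG_eq_top [Finite K] [Fintype F] (f : K →+* F) (h : Nat.card K = Fintype.card F) (c : PGL2 F) :
    cjs c (RG f) = ⊤ := eq_top_of_card_eq _ (by rw [card_RG', card_PGL2', h])

theorem cjs_RS_le (f : K →+* F) (c : PGL2 F) : cjs c (RS f) ≤ PS F := by
  rw [← cjs_normal c (PS F)]; exact cjs_mono c (RS_le_PS f)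

theorem RS_eq_PS [Finite K] [Fintype F] (f : K →+* F) (h : Nat.card K = Fintype.card F) (c : PGL2 F) :
    cjs c (RS f) = PS F := eq_PS_of_card (cjs_RS_le f c) (le_of_eq (Nat.eq_of_mul_eq_mul_right
      (Nat.gcd_pos_of_pos_left (Fintype.card F - 1) two_pos) (by rw [card_PS', ← h, card_RS'])))

theorem cjs_RG_le [Finite K] [Fintype F] (f : K →+* F) {m : ℕ} (h : Fintype.card F = Nat.card K ^ m) (hm : Even m)
    (c : PGL2 F) : cjs c (RG f) ≤ PS F := by
  letI := Fintype.ofFinite K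
  rw [← cjs_normal c (PS F)]
  exact cjs_mono c (RG_le_PS f (isSquare_of_even f (by rw [h, Nat.card_eq_fintype_card]) hm))

theorem cjs_RG_lt [Finite K] [Fintype F] (f : K →+* F) {m : ℕ} (h : Fintype.card F = Nat.card K ^ m) (hm : 2 ≤ m)
    (c : PGL2 F) : Nat.card (cjs c (RG f)) < Nat.card (PS F) := by
  have h1 := two_oP_lt (Finite.one_lt_card (α := K)) hm
  rw [← h, ← card_PS', ← card_RG' f c] at h1
  rcases gcd_two_cases (Fintype.card F - 1) with e | e <;> rw [e] at h1 <;> omega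

theorem iso_of_card [Finite K] [Fintype F] (h : Nat.card K = Fintype.card F) :
    Nonempty (PGL2 K ≃* PGL2 F) ∧ Nonempty (PSL2 K ≃* PSL2 F) := by
  letI := Fintype.ofFinite K
  obtain ⟨f⟩ := exists_ringHom (K := K) (F := F) (m := 1) (by rw [pow_one, ← h, Nat.card_eq_fintype_card])
  exact ⟨⟨((rgEquiv f).trans (cjsEquiv 1 _)).trans ((MulEquiv.subgroupCongr (RG_eq_top f h 1)).trans topEquiv)⟩,
    ⟨((rsEquiv f).trans (cjsEquiv 1 _)).trans ((MulEquiv.subgroupCongr (RS_eq_PS f h 1)).trans psEquiv.symm)⟩⟩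

theorem exists_type0 [Finite K] (f : K →+* F) (c : PGL2 F) :
    ∃ (K0 : Type) (_ : Field K0) (_ : Fintype K0), Fintype.card K0 = Nat.card K ∧
      Nonempty (cjs c (RG f) ≃* PGL2 K0) ∧ Nonempty (cjs c (RS f) ≃* PSL2 K0) := by
  letI := Fintype.ofFinite K
  obtain ⟨p, hp⟩ := CharP.exists K
  obtain ⟨n, hpp, hn⟩ := FiniteField.card K p
  haveI := Fact.mk hpp
  letI := Fintype.ofFinite (GaloisField p n)
  have hc : Fintype.card (GaloisField p n) = Nat.card K := by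
    rw [← Nat.card_eq_fintype_card, GaloisField.card p n n.2.ne', Nat.card_eq_fintype_card, hn]
  obtain ⟨⟨e1⟩, ⟨e2⟩⟩ := iso_of_card hc.symm
  exact ⟨_, inferInstance, inferInstance, hc, ⟨((rgEquiv f).trans (cjsEquiv c _)).symm.trans e1⟩,
    ⟨((rsEquiv f).trans (cjsEquiv c _)).symm.trans e2⟩⟩

theorem RS_not_fix (f : K →+* F) (x : OnePoint F) : ¬ ∀ g ∈ RS f, g • x = x := fun h => by
  have h1 := h _ (tr_mem_RS f 1)
  have hx : x = ∞ := by
    induction x using OnePoint.rec with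
    | infty => rfl
    | coe a => rw [tr_coe] at h1; simp at h1
  have h2 := h _ ⟨mkP (toGL (mkS 0 (-1) 1 0 (by simp))), ⟨_, rfl⟩, rfl⟩
  rw [hx, mapP_mk, smul_inf] at h2
  simp [GeneralLinearGroup.map_apply] at h2

theorem exists_subfield' [Finite K] [Fintype F] {a b : ℕ} (h : Fintype.card F = (Nat.card K ^ a) ^ b) :
    ∃ L : Subfield F, Nat.card L = Nat.card K ^ a := by
  letI := Fintype.ofFinite K
  obtain ⟨p, hp⟩ := CharP.exists K
  obtain ⟨n, hpp, hn⟩ := FiniteField.card K p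
  haveI := Fact.mk hpp
  rw [Nat.card_eq_fintype_card (α := K), hn, ← pow_mul p] at h ⊢
  exact exists_subfield h

end Sub

/-- a full dihedral subgroup of `PSL₂(q)` -/
structure DihS [Fintype F] (t s : PGL2 F) : Prop where
  ord : orderOf t * Nat.gcd 2 (Fintype.card F - 1) = Fintype.card F + 1 ∨
    orderOf t * Nat.gcd 2 (Fintype.card F - 1) = Fintype.card F - 1
  ht : t ∈ PS F
  hs : s ∈ PS F
  inv : s * t * s⁻¹ = t⁻¹
  sq : s ^ 2 = 1
  nm : s ∉ zpowers t

theorem DihS.le [Fintype F] {t s : PGL2 F} (h : DihS t s) : closure {t, s} ≤ PS F := by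
  rw [closure_le]; rintro _ (rfl | rfl); exacts [h.ht, h.hs]

theorem DihS.card [Fintype F] {t s : PGL2 F} (h : DihS t s) :
    Nat.card (closure ({t, s} : Set (PGL2 F))) = 2 * orderOf t := card_dih h.inv h.sq h.nm

theorem DihS.iso [Fintype F] {t s : PGL2 F} (h : DihS t s) :
    Nonempty (closure ({t, s} : Set (PGL2 F)) ≃* DihedralGroup (orderOf t)) :=
  Transfer.nonempty_dihedral_closure h.inv h.sq h.nm

theorem DihS.lt [Fintype F] {t s : PGL2 F} (h : DihS t s) (hq : 3 ≤ Fintype.card F) : closure {t, s} < PS F := by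
  refine lt_of_card_lt h.le fun e => ?_
  have h1 := card_PS_mul (F := F)
  rw [← e, h.card, mul_assoc] at h1
  obtain ⟨k, hk⟩ := Nat.exists_eq_add_of_le hq
  rw [hk, show 3 + k - 1 = k + 2 by omega] at h1
  rcases h.ord with h2 | h2 <;> rw [hk, show 3 + k - 1 = k + 2 by omega] at h2 <;> rw [h2] at h1 <;> ring_nf at h1 <;> omega

theorem dickson2 [Fintype F] (p : ℕ) [hp : Fact p.Prime] [CharP F p] (H : Subgroup (PGL2 F)) :
    Tor p H ∨ (∃ x : OnePoint F, ∀ g ∈ H, g • x = x) ∨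
    (¬ p ∣ Nat.card H ∧ (Nonempty (H ≃* alternatingGroup (Fin 4)) ∨ Nonempty (H ≃* Equiv.Perm (Fin 4)))) ∨
    ((¬ p ∣ Nat.card H ∨ p = 3) ∧ Nonempty (H ≃* alternatingGroup (Fin 5))) ∨
    ∃ (L : Subfield F) (c : PGL2 F), 2 < Nat.card L ∧ (H = cjs c (RG L.subtype) ∨ H = cjs c (RS L.subtype)) := by
  rcases dickson p H with h | h | h | h
  · by_cases hb : H = ⊥
    · exact Or.inr (Or.inl ⟨∞, fun g hg => by rw [hb, mem_bot] at hg; rw [hg, one_smul]⟩)
    · exact Or.inl (tor_of_cyc h.1 h.2 hb)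
  · exact Or.inl (tor_of_dih h)
  · exact Or.inr (Or.inl h.2)
  · exact Or.inr (Or.inr h)

theorem dickson_lt [Fintype F] (p : ℕ) [hp : Fact p.Prime] [CharP F p] {H : Subgroup (PGL2 F)} (hH : H < PS F) :
    (∃ t s, DihS t s ∧ H ≤ closure {t, s}) ∨ (∃ x : OnePoint F, ∀ g ∈ H, g • x = x) ∨
    (¬ p ∣ Nat.card H ∧ (Nonempty (H ≃* alternatingGroup (Fin 4)) ∨ Nonempty (H ≃* Equiv.Perm (Fin 4)))) ∨
    ((¬ p ∣ Nat.card H ∨ p = 3) ∧ Nonempty (H ≃* alternatingGroup (Fin 5))) ∨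
    ∃ (L : Subfield F) (c : PGL2 F) (m : ℕ), 2 < Nat.card L ∧ 2 ≤ m ∧ Fintype.card F = Nat.card L ^ m ∧
      ((H = cjs c (RG L.subtype) ∧ (Even m ∨ p = 2)) ∨ H = cjs c (RS L.subtype)) := by
  rcases dickson2 p H with ⟨a, ha, h1, h2⟩ | h | h | h | ⟨L, c, hL, h⟩
  · obtain ⟨t, s, b1, -, b3, b4, b5, b6, b7, b8⟩ := torusS h1 (hH.le ha)
    exact Or.inl ⟨t, s, ⟨b1.imp_right And.left, b3, b4, b5, b6, b7⟩, fun g hg =>
      (mem_dih b5 b6).2 (b8 g (hH.le hg) (h2 g hg))⟩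
  · exact Or.inr (Or.inl h)
  · exact Or.inr (Or.inr (Or.inl h))
  · exact Or.inr (Or.inr (Or.inr (Or.inl h)))
  obtain ⟨m, hm, hc⟩ := exists_card_pow' L.subtype
  have hm2 : 2 ≤ m := by
    by_contra h2
    obtain rfl : m = 1 := by omega
    rw [pow_one] at hc
    rcases h with h | h
    · rw [h, RG_eq_top _ hc.symm] at hH; exact not_top_lt hH
    · rw [h, RS_eq_PS _ hc.symm] at hH; exact lt_irrefl _ hH
  refine Or.inr (Or.inr (Or.inr (Or.inr ⟨L, c, m, hL, hm2, hc, h.imp_left fun h => ⟨h, ?_⟩⟩)))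
  by_cases h2 : p = 2
  · exact Or.inr h2
  left
  obtain ⟨a, -, ha⟩ := char_le_card p L.subtype
  have hodd : Odd (Nat.card L) := by rw [ha]; exact (hp.out.odd_of_ne_two h2).pow
  refine even_of_dvd_oP hodd (by omega) ?_
  rw [← hc, ← card_PS', gcd_odd (by rw [hc]; exact hodd.pow), mul_comm, ← card_RG' L.subtype c, ← h]
  exact Nat.mul_dvd_mul_right (card_dvd_of_le hH.le) 2

theorem over_RS [Fintype F] (p : ℕ) [hp : Fact p.Prime] [CharP F p] {K : Type*} [Field K] [Finite K] (f : K →+* F)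
    (hK : 2 < Nat.card K) {H : Subgroup (PGL2 F)} (h1 : RS f ≤ H) (hH : H < PS F) :
    (p = 3 ∧ Nonempty (H ≃* alternatingGroup (Fin 5))) ∨ ∃ k m, 2 ≤ m ∧ Fintype.card F = (Nat.card K ^ k) ^ m ∧
      ((Nat.card H = oP (Nat.card K ^ k) ∧ (Even m ∨ p = 2)) ∨
        Nat.card H * Nat.gcd 2 (Nat.card K - 1) = oP (Nat.card K ^ k)) := by
  have hc := card_RS' f 1
  rw [card_cjs] at hc
  obtain ⟨a, ha0, ha⟩ := char_le_card p f
  have hd := card_dvd_of_le h1
  have hpd : p ∣ Nat.card H := by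
    have := Subgroup.orderOf_dvd_natCard H (h1 (tr_mem_RS f 1))
    rwa [orderOf_eq_prime (tr_pow _) (by rw [Ne, tr_eq_one, map_one]; exact one_ne_zero)] at this
  have hd2 : oP (Nat.card K) ∣ 2 * Nat.card H := by
    rw [← hc, mul_comm]; exact Nat.mul_dvd_mul (Nat.gcd_dvd_left _ _) hd
  rcases dickson_lt p hH with ⟨t, s, h2, h3⟩ | ⟨x, hx⟩ | h | h | ⟨L, c, m, hL, hm, hc2, h⟩
  · exfalso
    obtain ⟨b, hb, -, hb2⟩ := card_le_of_dih (M := RS f) fun g hg => (mem_dih h2.inv h2.sq).1 (h3 (h1 hg))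
    have h4 : orderOf b ≤ Nat.card K + 1 := by
      have : p ≤ Nat.card K := by rw [ha]; exact Nat.le_self_pow ha0.ne' p
      rcases order_RG p f (c := 1) (mem_cjs.2 (by simpa using RS_le_RG f hb)) with h | h | h <;>
        have := Nat.le_of_dvd (by have := hp.out.pos; omega) h <;> omega
    have h5 := Nat.le_of_dvd (by have := orderOf_pos b; omega) hb2
    obtain ⟨k, hk⟩ := Nat.exists_eq_add_of_lt hK
    rw [oP, hk, show 2 + k + 1 - 1 = k + 2 by omega] at hc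
    rw [hk] at h4
    rcases gcd_two_cases (k + 2) with e | e <;> rw [e] at hc <;> ring_nf at hc <;> omega
  · exact absurd (fun g hg => hx g (h1 hg)) (RS_not_fix f x)
  · exact absurd hpd h.1
  · exact Or.inl ⟨h.1.resolve_left (not_not.2 hpd), h.2⟩
  · obtain ⟨b, -, hb⟩ := char_le_card p L.subtype
    have hH2 : Nat.card H ∣ oP (Nat.card L) := by
      rw [← card_RG' L.subtype c]
      rcases h with h | h
      · rw [h.1]
      · rw [h]; exact card_dvd_of_le (cjs_mono c (RS_le_RG _))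
    obtain ⟨k, hk⟩ := dvd_of_oP_dvd (b := b) hp.out ha0 (by
      rw [← ha, ← hb]; exact hd2.trans (Nat.mul_dvd_mul_left 2 hH2))
    have hl : Nat.card L = Nat.card K ^ k := by rw [ha, hb, hk, pow_mul]
    refine Or.inr ⟨k, m, hm, by rw [hc2, hl], ?_⟩
    rcases h with h | h
    · exact Or.inl ⟨by rw [h.1, card_RG', hl], h.2⟩
    · right; rw [h, gcd_eq_gcd f, ← gcd_eq_gcd L.subtype, card_RS', hl]

theorem five_dvd_of_A5 [Fintype F] {H : Subgroup (PGL2 F)} (e : H ≃* alternatingGroup (Fin 5)) :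
    5 ∣ oP (Fintype.card F) := by
  have := H.card_subgroup_dvd_card
  rw [Nat.card_congr e.toEquiv, card_A5, card_PGL2'] at this
  exact (by norm_num : 5 ∣ 60).trans this

theorem RS_covBy [Fintype F] {K : Type*} [Field K] [Finite K] (f : K →+* F) (hK : 2 < Nat.card K) {r : ℕ}
    (hr : r.Prime) (h : Fintype.card F = Nat.card K ^ r) (h2 : r ≠ 2 ∨ Even (Nat.card K)) : RS f ⋖ PS F := by
  obtain ⟨p, hp⟩ := CharP.exists F
  haveI := Fact.mk (CharP.char_is_prime F p)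
  have hc := card_RS' f 1
  rw [card_cjs] at hc
  refine ⟨lt_of_card_lt (RS_le_PS f) (ne_of_lt (lt_of_le_of_lt ?_ (cjs_RG_lt f h hr.two_le 1))), fun H h1 hH => ?_⟩
  · rw [card_cjs]; exact card_le_of_le (RS_le_RG f)
  have hlt := card_lt_of_lt h1
  obtain ⟨a, ha0, ha⟩ := char_le_card p f
  rcases over_RS p f hK h1.le hH with ⟨rfl, ⟨e⟩⟩ | ⟨k, m, hm, h3, h4⟩
  · rw [Nat.card_congr e.toEquiv, card_A5] at hlt
    have hodd : Odd (Nat.card K) := by rw [ha]; exact Odd.pow (by decide)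
    have hr2 : r ≠ 2 := h2.resolve_right (Nat.not_even_iff_odd.2 hodd)
    rw [gcd_odd hodd] at hc
    have h3 : Nat.card K = 3 := by
      by_contra h3
      have := oP_mono (show 5 ≤ Nat.card K by obtain ⟨k, hk⟩ := hodd; omega)
      rw [← hc, show oP 5 = 120 from rfl] at this; omega
    have h5 := five_dvd_oP.1 (five_dvd_of_A5 e)
    obtain ⟨j, rfl⟩ := hr.odd_of_ne_two hr2
    rw [h, h3, pow_succ, pow_mul] at h5
    have : ∀ j : ℕ, (3 ^ 2) ^ j % 5 = 1 ∨ (3 ^ 2) ^ j % 5 = 4 := fun j => by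
      induction j with
      | zero => simp
      | succ j ih => rw [pow_succ]; omega
    have := this j
    omega
  · rw [h, ← pow_mul] at h3
    have h5 := Nat.pow_right_injective hK.le h3
    obtain ⟨rfl, rfl⟩ : k = 1 ∧ m = r := by
      rcases (Nat.dvd_prime hr).1 (Dvd.intro_left k h5.symm) with e | e
      · omega
      · exact ⟨Nat.eq_of_mul_eq_mul_right hr.pos (by rw [one_mul, ← e]; rw [← e] at h5; exact h5.symm), e⟩
    rw [pow_one, ← hc] at h4
    rcases h4 with ⟨h4, h6⟩ | h4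
    · have : Even (Nat.card K) := by
        rcases h6 with h6 | h6
        · exact h2.resolve_left (not_not.2 (hr.even_iff.1 h6))
        · rw [ha, h6]; exact even_two.pow_of_ne_zero ha0.ne'
      rw [gcd_even this (by omega)] at h4; omega
    · exact hlt.ne' (Nat.eq_of_mul_eq_mul_right (Nat.gcd_pos_of_pos_left _ two_pos) h4)

theorem RG_covBy [Fintype F] {K : Type*} [Field K] [Finite K] (f : K →+* F) (hK : Odd (Nat.card K))
    (h : Fintype.card F = Nat.card K ^ 2) : RG f ⋖ PS F := by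
  obtain ⟨p, hp⟩ := CharP.exists F
  haveI := Fact.mk (CharP.char_is_prime F p)
  have hc := card_RG' f 1
  have h0 := cjs_RG_lt f h le_rfl 1
  have h00 := cjs_RG_le f h even_two 1
  rw [show cjs 1 (RG f) = RG f from Subgroup.ext fun g => by simp [mem_cjs]] at hc h0 h00
  have hK2 : 2 < Nat.card K := by have := Finite.one_lt_card (α := K); obtain ⟨k, hk⟩ := hK; omega
  refine ⟨lt_of_card_lt h00 h0.ne, fun H h1 hH => ?_⟩
  have hlt := card_lt_of_lt h1
  have hd := card_dvd_of_le h1.le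
  rcases over_RS p f hK2 ((RS_le_RG f).trans h1.le) hH with ⟨rfl, ⟨e⟩⟩ | ⟨k, m, hm, h3, h4⟩
  · rw [Nat.card_congr e.toEquiv, card_A5, hc] at hlt hd
    by_cases h3 : Nat.card K = 3
    · rw [h3] at hd; revert hd; decide
    · have := oP_mono (show 5 ≤ Nat.card K by obtain ⟨k, hk⟩ := hK; omega)
      rw [show oP 5 = 120 from rfl] at this; omega
  · rw [h, ← pow_mul] at h3
    have h5 := Nat.pow_right_injective hK2.le h3
    obtain rfl : k = 1 := by
      rcases k with _ | _ | k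
      · omega
      · rfl
      · nlinarith
    rw [pow_one, ← hc, gcd_odd hK] at h4
    omega

theorem over_A4 [Fintype F] (p : ℕ) [hp : Fact p.Prime] [CharP F p] (h2 : p ≠ 2) {M H : Subgroup (PGL2 F)}
    (e : M ≃* alternatingGroup (Fin 4)) (h1 : M ≤ H) (hH : H < PS F) :
    Nonempty (H ≃* alternatingGroup (Fin 4)) ∨ Nonempty (H ≃* Equiv.Perm (Fin 4)) ∨
      Nonempty (H ≃* alternatingGroup (Fin 5)) ∨
      ∃ l m, 2 < l ∧ 2 ≤ m ∧ Fintype.card F = l ^ m ∧ Nat.card H ∣ oP l := by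
  rcases dickson_lt p hH with ⟨t, s, h2, h3⟩ | ⟨x, hx⟩ | h | h | ⟨L, c, m, hL, hm, hc2, h⟩
  · exfalso
    obtain ⟨b, hb, -, hb2⟩ := card_le_of_dih (M := M) fun g hg => (mem_dih h2.inv h2.sq).1 (h3 (h1 hg))
    obtain ⟨a, ha⟩ := orderOf_of_iso e hb
    rw [Nat.card_congr e.toEquiv, card_A4, ha] at hb2
    have := Nat.le_of_dvd (by have := orderOf_pos a; omega) hb2
    rcases orders_A4 a with h | h <;> have := Nat.le_of_dvd (by norm_num) h <;> omega
  · exfalso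
    have h3 := comm_pow_of_fix (p := p) (hx _ (h1 (e.symm a4).2)) (hx _ (h1 (e.symm b4).2))
    have h4 : (a4 * b4 * a4⁻¹ * b4⁻¹) ^ p = 1 := e.symm.injective (Subtype.ext (by simpa using h3))
    rw [← orderOf_dvd_iff_pow_eq_one, orderOf_eq_prime (p := 2) (by decide +kernel) (by decide +kernel)] at h4
    exact h2 ((Nat.prime_dvd_prime_iff_eq Nat.prime_two hp.out).1 h4).symm
  · exact h.2.imp_right Or.inl
  · exact Or.inr (Or.inr (Or.inl h.2))
  · refine Or.inr (Or.inr (Or.inr ⟨_, m, hL, hm, hc2, ?_⟩))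
    rw [← card_RG' L.subtype c]
    rcases h with h | h
    · rw [h.1]
    · rw [h]; exact card_dvd_of_le (cjs_mono c (RS_le_RG _))

theorem not_prime_pow {p l m : ℕ} (hp : p.Prime) (hm : 2 ≤ m) : p ≠ l ^ m := fun h =>
  Nat.Prime.not_prime_pow hm (h ▸ hp)

theorem card_PS_ge [Fintype F] {n : ℕ} (h : n ≤ Fintype.card F) : oP n ≤ 2 * Nat.card (PS F) := by
  have := oP_mono h
  rw [← card_PS'] at this
  rcases gcd_two_cases (Fintype.card F - 1) with e | e <;> rw [e] at this <;> omega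

theorem A4_covBy [Fintype F] (p : ℕ) [hp : Fact p.Prime] (hF : Fintype.card F = p) (h5 : 5 ≤ p)
    (h8 : p % 8 = 3 ∨ p % 8 = 5) (h10 : p % 10 ≠ 1 ∧ p % 10 ≠ 9) {M : Subgroup (PGL2 F)}
    (e : M ≃* alternatingGroup (Fin 4)) : M ⋖ PS F := by
  haveI : CharP F p := charP_of_card_eq_prime hF
  have hc : Nat.card M = 12 := by rw [Nat.card_congr e.toEquiv, card_A4]
  have h0 := card_PS_ge (F := F) (n := 5) (by omega)
  rw [show oP 5 = 120 from rfl] at h0
  refine ⟨lt_of_card_lt (A4_le_PS e) (by omega), fun H h1 hH => ?_⟩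
  have hlt := card_lt_of_lt h1
  rcases over_A4 p (by omega) e h1.le hH with ⟨⟨e'⟩⟩ | ⟨⟨e'⟩⟩ | ⟨⟨e'⟩⟩ | ⟨l, m, -, hm, h, -⟩
  · rw [Nat.card_congr e'.toEquiv, card_A4] at hlt; omega
  · have := (S4_le_PS_iff e').1 hH.le; omega
  · have h3 := five_dvd_oP.1 (five_dvd_of_A5 e')
    have : p = 5 := ((Nat.prime_dvd_prime_iff_eq (by norm_num) hp.out).1 (show 5 ∣ p by omega)).symm
    have h4 := card_lt_of_lt hH
    have h6 := card_PS' (F := F)
    rw [Nat.card_congr e'.toEquiv, card_A5] at h4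
    rw [hF, this, show oP 5 = 120 from rfl, show Nat.gcd 2 (5 - 1) = 2 from rfl] at h6; omega
  · exact not_prime_pow hp.out hm (hF ▸ h)

theorem S4_covBy [Fintype F] (p : ℕ) [hp : Fact p.Prime] (hF : Fintype.card F = p)
    (h8 : p % 8 = 1 ∨ p % 8 = 7) {M : Subgroup (PGL2 F)} (e : M ≃* Equiv.Perm (Fin 4)) : M ⋖ PS F := by
  haveI : CharP F p := charP_of_card_eq_prime hF
  have hc : Nat.card M = 24 := by rw [Nat.card_congr e.toEquiv, card_S4]
  have h0 := card_PS_ge (F := F) (n := 5) (by have := hp.out.two_le; omega)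
  rw [show oP 5 = 120 from rfl] at h0
  refine ⟨lt_of_card_lt ((S4_le_PS_iff e).2 (by omega)) (by omega), fun H h1 hH => ?_⟩
  have hlt := card_lt_of_lt h1
  have hd := card_dvd_of_le h1.le
  obtain ⟨M0, h2, ⟨e0⟩⟩ := exists_sub_iso e A4_le_S4
  rcases over_A4 p (by omega) e0 (h2.trans h1.le) hH with ⟨⟨e'⟩⟩ | ⟨⟨e'⟩⟩ | ⟨⟨e'⟩⟩ | ⟨l, m, -, hm, h, -⟩
  · rw [Nat.card_congr e'.toEquiv, card_A4] at hlt; omega
  · rw [Nat.card_congr e'.toEquiv, card_S4] at hlt; omega
  · rw [Nat.card_congr e'.toEquiv, card_A5, hc] at hd; omega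
  · exact not_prime_pow hp.out hm (hF ▸ h)

theorem A5_covBy [Fintype F] (p : ℕ) [hp : Fact p.Prime] [CharP F p]
    (h : (Fintype.card F = p ∧ (p % 10 = 1 ∨ p % 10 = 9)) ∨ (Fintype.card F = p ^ 2 ∧ (p % 10 = 3 ∨ p % 10 = 7)))
    {M : Subgroup (PGL2 F)} (e : M ≃* alternatingGroup (Fin 5)) : M ⋖ PS F := by
  have hc : Nat.card M = 60 := by rw [Nat.card_congr e.toEquiv, card_A5]
  have h0 := card_PS_ge (F := F) (n := 7) (by
    have := hp.out.two_le
    rcases h with h | h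
    · omega
    · have : 3 ^ 2 ≤ p ^ 2 := Nat.pow_le_pow_left (by omega) 2
      omega)
  rw [show oP 7 = 336 from rfl] at h0
  refine ⟨lt_of_card_lt (A5_le_PS e) (by omega), fun H h1 hH => ?_⟩
  have hlt := card_lt_of_lt h1
  have hd := card_dvd_of_le h1.le
  obtain ⟨M0, h2, ⟨e0⟩⟩ := exists_sub_iso e A4_le_A5
  rcases over_A4 p (by omega) e0 (h2.trans h1.le) hH with ⟨⟨e'⟩⟩ | ⟨⟨e'⟩⟩ | ⟨⟨e'⟩⟩ | ⟨l, m, hl, hm, h3, h4⟩
  · rw [Nat.card_congr e'.toEquiv, card_A4] at hlt; omega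
  · rw [Nat.card_congr e'.toEquiv, card_S4] at hlt; omega
  · rw [Nat.card_congr e'.toEquiv, card_A5] at hlt; omega
  · rcases h with h | h
    · exact not_prime_pow hp.out hm (h.1 ▸ h3)
    · obtain ⟨i, -, rfl⟩ := (Nat.dvd_prime_pow hp.out).1
        (show l ∣ p ^ 2 by rw [← h.1, h3]; exact dvd_pow_self l (by omega))
      rw [h.1, ← pow_mul] at h3
      have h5 := Nat.pow_right_injective hp.out.two_le h3
      obtain rfl : i = 1 := by
        rcases i with _ | _ | i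
        · omega
        · rfl
        · nlinarith
      rw [pow_one] at h4
      have := five_dvd_oP.1 ((by rw [hc]; norm_num : 5 ∣ Nat.card M).trans (hd.trans h4))
      omega

theorem stab_covBy (x : OnePoint F) : stabilizer (PGL2 F) x ⊓ PS F ⋖ PS F := by
  obtain ⟨c, hc, rfl⟩ := exists_PS_smul_inf x
  have e : stabilizer (PGL2 F) (c • (∞ : OnePoint F)) ⊓ PS F = cjs c (stabilizer (PGL2 F) (∞ : OnePoint F) ⊓ PS F) := by
    ext g
    simp only [mem_cjs, mem_inf, mem_stabilizer_iff, mul_smul, inv_smul_eq_iff]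
    exact and_congr_right fun _ => (normal_PS.mem_comm_iff.trans (by simp)).symm
  rw [e]
  apply covBy_cjs
  refine ⟨lt_of_le_of_ne inf_le_right fun h => RS_not_fix (RingHom.id F) ∞ fun g hg => ?_, fun H h1 hH => ?_⟩
  · exact (h.ge (RS_le_PS _ hg)).1
  · obtain ⟨g, hg, hg2⟩ := SetLike.exists_of_lt h1
    obtain ⟨g, rfl⟩ := hH.le hg
    have hu : ∀ b, upS 1 b ∈ H.comap (mkP.comp toGL) := fun b =>
      h1.le (show mkP (toGL _) ∈ _ from tr_eq b ▸ ⟨tr_inf b, tr_mem b⟩)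
    have := eq_top_of_conj _ hu (e := g) (fun h => hg2 ⟨smul_inf.2 h, g, rfl⟩) fun b =>
      mul_mem (mul_mem hg (hu b)) (inv_mem hg)
    refine hH.not_ge ?_
    rintro _ ⟨x, rfl⟩
    exact (show x ∈ H.comap (mkP.comp toGL) by rw [this]; trivial)

end Cfsg.Agent.Perm.GL2
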