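import Mathlib
import Cfsg.Agent.Lib.Perm.Dick6

/-! Maximal subgroups of `PSL₂(q)` and `PGL₂(q)`, continued. -/

namespace Cfsg.Agent.Perm.GL2
open Matrix OnePoint MulAction Cfsg.Agent.Perm Subgroup Cfsg.Agent.Perm.Tri
open Matrix.SpecialLinearGroup (toGL toGL_injective)
open scoped Pointwise

variable {F : Type*} [Field F] {p : ℕ}

theorem small_cases {G : Type*} [Group G] {H : Subgroup G} {t s : G} (ht : t ∈ H) (hs : s ∈ H)
    (h1 : s * t * s⁻¹ = t⁻¹) (h : (Nonempty (H ≃* alternatingGroup (Fin 4)) ∨ Nonempty (H ≃* Equiv.Perm (Fin 4))) ∨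
      Nonempty (H ≃* alternatingGroup (Fin 5))) :
    (Nat.card H = 12 ∧ orderOf t ≤ 2) ∨ (Nat.card H = 24 ∧ orderOf t ≤ 4) ∨ (Nat.card H = 60 ∧ orderOf t ≤ 5) := by
  rcases h with (⟨⟨e⟩⟩ | ⟨⟨e⟩⟩) | ⟨⟨e⟩⟩
  · refine Or.inl ⟨by rw [Nat.card_congr e.toEquiv, card_A4], orderOf_le_of_pow_eq_one two_pos ?_⟩
    have key : ∀ a b : alternatingGroup (Fin 4), b * a * b⁻¹ = a⁻¹ → a ^ 2 = 1 := by decide +kernel
    have := key (e ⟨t, ht⟩) (e ⟨s, hs⟩) (by
      rw [← map_inv, ← map_inv, ← map_mul, ← map_mul]; congr 1; exact Subtype.ext h1)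
    rw [← map_pow, e.map_eq_one_iff] at this
    exact congrArg Subtype.val this
  · obtain ⟨a, ha⟩ := orderOf_of_iso e ht
    refine Or.inr (Or.inl ⟨by rw [Nat.card_congr e.toEquiv, card_S4], ?_⟩)
    rcases orders_S4 a with h | h <;> have := Nat.le_of_dvd (by norm_num) h <;> omega
  · obtain ⟨a, ha⟩ := orderOf_of_iso e ht
    refine Or.inr (Or.inr ⟨by rw [Nat.card_congr e.toEquiv, card_A5], ?_⟩)
    rcases orders_A5 a with h | h | h <;> have := Nat.le_of_dvd (by norm_num) h <;> omega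

theorem order_le_RG {K : Type*} [Field K] [Finite K] (p : ℕ) [hp : Fact p.Prime] [CharP F p] (f : K →+* F)
    {c g : PGL2 F} (hg : g ∈ cjs c (RG f)) : orderOf g ≤ Nat.card K + 1 := by
  obtain ⟨a, ha0, ha⟩ := char_le_card p f
  have : p ≤ Nat.card K := by rw [ha]; exact Nat.le_self_pow ha0.ne' p
  have h1 := Finite.one_lt_card (α := K)
  rcases order_RG p f hg with h | h | h <;> have := Nat.le_of_dvd (by have := hp.out.pos; omega) h <;> omega

theorem gcd_le_two (q : ℕ) : Nat.gcd 2 q ≤ 2 := Nat.gcd_le_left _ two_pos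

theorem DihS.covBy [Fintype F] {t s : PGL2 F} (h : DihS t s)
    (hq : (orderOf t * Nat.gcd 2 (Fintype.card F - 1) = Fintype.card F + 1 ∧
      Fintype.card F ∉ ({2, 7, 9} : Finset ℕ)) ∨ (orderOf t * Nat.gcd 2 (Fintype.card F - 1) = Fintype.card F - 1 ∧
      Fintype.card F ∉ ({2, 3, 5, 7, 9, 11} : Finset ℕ))) : closure {t, s} ⋖ PS F := by
  obtain ⟨p, hp⟩ := CharP.exists F
  haveI hp := Fact.mk (CharP.char_is_prime F p)
  simp only [Finset.mem_insert, Finset.mem_singleton, not_or] at hq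
  have h1q := Fintype.one_lt_card (α := F)
  refine ⟨h.lt (by omega), fun H h1 hH => ?_⟩
  have hlt := card_lt_of_lt h1
  have hlt2 := card_lt_of_lt hH
  have hd := card_dvd_of_le h1.le
  have hd2 := card_dvd_of_le hH.le
  have hS := card_PS' (F := F)
  have ht : t ∈ H := h1.le (subset_closure (by simp))
  have hs : s ∈ H := h1.le (subset_closure (by simp))
  have hg := gcd_le_two (Fintype.card F - 1)
  have hg0 : 0 < Nat.gcd 2 (Fintype.card F - 1) := Nat.gcd_pos_of_pos_left _ two_pos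
  have hto := Nat.mul_le_mul_left (orderOf t) hg
  rw [h.card] at hlt hd
  have small : (Nonempty (H ≃* alternatingGroup (Fin 4)) ∨ Nonempty (H ≃* Equiv.Perm (Fin 4))) ∨
      Nonempty (H ≃* alternatingGroup (Fin 5)) → False := fun h3 => by
    have h4 := small_cases ht hs h.inv h3
    have h5 : Fintype.card F ≤ 11 := by omega
    obtain ⟨k, hk⟩ := hd2
    generalize Fintype.card F = q at *
    interval_cases q <;> simp only [oP, Nat.reduceSub, Nat.reduceGcd, Nat.reduceAdd, Nat.reduceMul] at hS <;>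
      norm_num at hq <;>
      rcases h4 with ⟨h4, h6⟩ | ⟨h4, h6⟩ | ⟨h4, h6⟩ <;> rw [h4] at hk hlt2 <;> omega
  rcases dickson_lt p hH with ⟨t', s', h2, h3⟩ | ⟨x, hx⟩ | h3 | h3 | ⟨L, c, m, hL, hm, hc2, h3⟩
  · have h4 := card_dvd_of_le h3
    have h5 := card_le_of_le h3
    rw [h2.card] at h4 h5
    have h6 := Nat.mul_dvd_mul_right (Nat.dvd_of_mul_dvd_mul_left two_pos (hd.trans h4))
      (Nat.gcd 2 (Fintype.card F - 1))
    have h7 : orderOf t * Nat.gcd 2 (Fintype.card F - 1) < orderOf t' * Nat.gcd 2 (Fintype.card F - 1) :=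
      Nat.mul_lt_mul_of_pos_right (by omega) hg0
    rcases h2.ord with h8 | h8 <;> rcases hq with h9 | h9 <;> try omega
    rw [h8, h9.1] at h6
    have := Nat.dvd_sub h6 dvd_rfl
    rw [show Fintype.card F + 1 - (Fintype.card F - 1) = 2 by omega] at this
    have := Nat.le_of_dvd two_pos this
    omega
  · rcases hq with h9 | h9
    · have h4 : Nat.card H ∣ Nat.card (stabilizer (PGL2 F) x ⊓ PS F : Subgroup _) :=
        card_dvd_of_le fun g hg => ⟨hx g hg, hH.le hg⟩
      have h5 := Nat.mul_dvd_mul_right (hd.trans h4) (Nat.gcd 2 (Fintype.card F - 1))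
      rw [card_stabS, mul_assoc, h9.1] at h5
      obtain ⟨k, hk⟩ := Nat.exists_eq_add_of_lt h1q
      have h6 := (Dvd.intro_left _ rfl).trans h5
      rw [hk, show (1 + k + 1) * (1 + k + 1 - 1) = (1 + k + 1 + 1) * k + 2 by
        rw [show 1 + k + 1 - 1 = k + 1 by omega]; ring] at h6
      have := Nat.le_of_dvd two_pos ((Nat.dvd_add_right (Dvd.intro _ rfl)).1 h6)
      omega
    · have h4 := comm_pow_of_fix (p := p) (hx s hs) (hx t ht)
      rw [h.inv, ← pow_two, ← pow_mul, inv_pow, inv_eq_one, ← orderOf_dvd_iff_pow_eq_one] at h4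
      have h5 : orderOf t ∣ 2 := Nat.Coprime.dvd_of_dvd_mul_right (by
        rw [Nat.coprime_comm, hp.out.coprime_iff_not_dvd]
        exact fun e => not_dvd_qq.2.2 (e.trans (Dvd.intro _ h9.1))) h4
      have h6 := Nat.le_of_dvd two_pos h5
      have h7 : Fintype.card F = 4 := by omega
      rw [h7] at h9
      simp only [Nat.reduceSub, Nat.reduceGcd] at h9
      omega
  · exact small (Or.inl h3.2)
  · exact small (Or.inr h3.2)
  · have h4 : orderOf t ≤ Nat.card L + 1 := order_le_RG p L.subtype (c := c) (by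
      rcases h3 with h3 | h3
      · exact h3.1 ▸ ht
      · exact cjs_mono c (RS_le_RG _) (h3 ▸ ht))
    have h5 : Nat.card L ^ 2 ≤ Fintype.card F := hc2 ▸ Nat.pow_le_pow_right (by omega) hm
    obtain ⟨k, hk⟩ := Nat.exists_eq_add_of_lt hL
    rw [hk] at h4 h5
    ring_nf at h5
    omega

theorem exists_dihS [Fintype F] {n : ℕ} (h : n = Fintype.card F + 1 ∨ (n = Fintype.card F - 1 ∧ 4 ≤ Fintype.card F)) :
    ∃ t s : PGL2 F, DihS t s ∧ orderOf t * Nat.gcd 2 (Fintype.card F - 1) = n := by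
  obtain ⟨p, hp⟩ := CharP.exists F
  haveI hp := Fact.mk (CharP.char_is_prime F p)
  have h1q := Fintype.one_lt_card (α := F)
  have hd : Nat.gcd 2 (Fintype.card F - 1) ∣ n := by
    have h1 := Nat.gcd_dvd_right 2 (Fintype.card F - 1)
    rcases h with h | h
    · rw [h, show Fintype.card F + 1 = Fintype.card F - 1 + 2 by omega]; exact dvd_add h1 (Nat.gcd_dvd_left _ _)
    · rwa [h.1]
  obtain ⟨x, hx⟩ : n / Nat.gcd 2 (Fintype.card F - 1) ∈ Set.range (orderOf : PSL2 F → ℕ) := by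
    rw [spec_PSL2 p]
    rcases h with h | h
    · exact Or.inr (Or.inr (by rw [h]))
    · exact Or.inr (Or.inl (by rw [h.1]))
  have ho : orderOf (io x) * Nat.gcd 2 (Fintype.card F - 1) = n := by
    rw [orderOf_injective _ io_injective, hx, Nat.div_mul_cancel hd]
  have hg := gcd_le_two (Fintype.card F - 1)
  obtain ⟨t, s, b1, b2, b3, b4, b5, b6, b7, -⟩ := torusS (p := p) (a := io x) (fun e => by
    rcases (Nat.dvd_prime hp.out).1 (orderOf_dvd_of_pow_eq_one e) with e | e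
    · rw [e] at ho; omega
    · rw [e] at ho
      rcases h with h | h
      · exact not_dvd_qq.2.1 (Dvd.intro _ (ho.trans h))
      · exact not_dvd_qq.2.2 (Dvd.intro _ (ho.trans h.1))) (io_mem x)
  refine ⟨t, s, ⟨b1.imp_right And.left, b3, b4, b5, b6, b7⟩, ?_⟩
  have h6 := Nat.mul_dvd_mul_right (orderOf_dvd_of_mem_zpowers b2) (Nat.gcd 2 (Fintype.card F - 1))
  rw [ho] at h6
  rcases b1 with b1 | ⟨b1, -⟩ <;> rcases h with h | h
  · omega
  · rw [b1, h.1] at h6
    have := Nat.dvd_sub h6 dvd_rfl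
    rw [show Fintype.card F + 1 - (Fintype.card F - 1) = 2 by omega] at this
    have := Nat.le_of_dvd two_pos this
    omega
  · rw [b1, h] at h6
    have := Nat.le_of_dvd (by omega) h6
    omega
  · omega

theorem eq_or_of_covBy {G : Type*} [Group G] {M S X : Subgroup G} (h : M ⋖ S) (h1 : M ≤ X) (h2 : X ≤ S) :
    X = M ∨ X = S := h.eq_or_eq h1 h2

theorem covBy_RS [Fintype F] {M : Subgroup (PGL2 F)} (h : M ⋖ PS F) {K : Type*} [Field K] [Finite K] (f : K →+* F)
    {c : PGL2 F} (hM : M ≤ cjs c (RS f)) :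
    Nat.card K = Fintype.card F ∨ Nat.card M * Nat.gcd 2 (Nat.card K - 1) = oP (Nat.card K) := by
  rcases h.eq_or_eq hM (cjs_RS_le f c) with e | e
  · right; rw [← e, card_RS']
  · left
    obtain ⟨m, hm, hc⟩ := exists_card_pow' f
    by_contra hne
    have := cjs_RG_lt f hc (by by_contra h2; obtain rfl : m = 1 := by omega
                               exact hne (by rw [hc, pow_one])) c
    rw [← e] at this
    exact this.not_ge (card_le_of_le (cjs_mono c (RS_le_RG f)))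

theorem prime_of_no_sub [Fintype F] {L : Subfield F} {m : ℕ} (hm : 2 ≤ m) (hc : Fintype.card F = Nat.card L ^ m)
    (h : ∀ (L' : Subfield F) (a b : ℕ), L ≤ L' → 2 ≤ a → 2 ≤ b → Nat.card L' = Nat.card L ^ a →
      Fintype.card F = Nat.card L' ^ b → False) : m.Prime := by
  by_contra hn
  obtain ⟨a, ⟨b, rfl⟩, ha, ha2⟩ := Nat.exists_dvd_of_not_prime2 hm hn
  obtain ⟨L', hL'⟩ := exists_subfield' (F := F) (K := L) (a := a) (b := b) (by rw [hc, pow_mul])
  refine h L' a b (subfield_le hL') ha ?_ hL' (by rw [hc, hL', pow_mul])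
  rcases b with _ | _ | b <;> omega

/-- the prime field embedding -/
abbrev pf (F : Type*) [Field F] (p : ℕ) [CharP F p] : ZMod p →+* F := ZMod.castHom (dvd_refl p) F

theorem two_ne_of_char [hp : Fact p.Prime] [CharP F p] (h : p ≠ 2) : (2 : F) ≠ 0 := fun e =>
  h ((ringChar.eq F p).symm.trans (ringChar_eq_two e))

theorem oP_eq_iff {l n : ℕ} (hn : 1 < n) (h : oP l = oP n) : l = n := by
  rcases lt_trichotomy l n with h1 | h1 | h1
  · exact absurd h (oP_lt h1 hn).ne
  · exact h1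
  · exact absurd h (oP_lt h1 (by omega)).ne'

theorem S4_le_pf [Finite F] [hp : Fact p.Prime] [CharP F p] {M : Subgroup (PGL2 F)} (e : M ≃* Equiv.Perm (Fin 4)) :
    ∃ c, M ≤ cjs c (RG (pf F p)) ∧ (IsSquare (2 : ZMod p) → M ≤ cjs c (RS (pf F p))) := by
  obtain ⟨δ, x, y, hδ, h, rfl⟩ := pair_S4 e
  have h2 : (2 : F) ≠ 0 := fun e => by rw [e, zero_mul] at hδ; exact zero_ne_one hδ
  have : δ = pf F p 2⁻¹ := by rw [map_inv₀, map_ofNat]; exact eq_inv_of_mul_eq_one_right hδ
  subst this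
  obtain ⟨c, h3, h4⟩ := h.le_sub (pf F p) h2 (three_mul_ne_one' hδ)
  exact ⟨c, h3, fun h => h4 (isSquare_inv.2 h)⟩

theorem A4_le_pf [Finite F] [hp : Fact p.Prime] [CharP F p] (h2 : (2 : F) ≠ 0) {M : Subgroup (PGL2 F)}
    (e : M ≃* alternatingGroup (Fin 4)) : ∃ c, M ≤ cjs c (RS (pf F p)) := by
  obtain ⟨x, y, h, rfl⟩ := pair_A4 e
  rw [← map_one (pf F p)] at h
  obtain ⟨c, -, h4⟩ := h.le_sub (pf F p) h2 (by rw [map_one]; exact three_ne_one h2)
  exact ⟨c, h4 IsSquare.one⟩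

theorem A5_le_sub [Finite F] (h2 : (2 : F) ≠ 0) {M : Subgroup (PGL2 F)} (e : M ≃* alternatingGroup (Fin 5))
    {K : Type*} [Field K] [Finite K] (f : K →+* F) (h5 : 5 ∣ oP (Nat.card K)) : ∃ c, M ≤ cjs c (RS f) := by
  letI := Fintype.ofFinite K
  obtain ⟨δ, x, y, hδ, h, rfl⟩ := pair_A5 e
  obtain ⟨ε, hε⟩ := exists_gold (F := K) (by rwa [← oP_eq, ← Nat.card_eq_fintype_card])
  have h3 := congrArg f hε
  simp only [map_add, map_sub, map_pow, map_mul, map_ofNat, map_one, map_zero] at h3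
  obtain ⟨ε, hε, rfl⟩ : ∃ ε : K, ε ^ 2 - 3 * ε + 1 = 0 ∧ f ε = δ := by
    rcases mul_eq_zero.1 (show (f ε - δ) * (f ε + δ - 3) = 0 by linear_combination h3 - hδ) with h | h
    · exact ⟨ε, hε, sub_eq_zero.1 h⟩
    · exact ⟨3 - ε, by linear_combination hε, by rw [map_sub, map_ofNat]; linear_combination -h⟩
  obtain ⟨c, -, h4⟩ := h.le_sub f h2 (three_mul_ne_one hδ)
  exact ⟨c, h4 (isSquare_gold hε)⟩

theorem exists_A5' [Fintype F] (h : 5 ∣ oP (Fintype.card F)) :
    ∃ H : Subgroup (PGL2 F), Nonempty (H ≃* alternatingGroup (Fin 5)) := by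
  obtain ⟨δ, hδ⟩ := exists_gold (F := F) (by rwa [← oP_eq])
  obtain ⟨x, y, -, e⟩ := exists_A5 hδ
  exact ⟨_, e⟩

theorem coatom_PGL [Fintype F] (hodd : Odd (Fintype.card F)) (h3 : 3 < Fintype.card F) {M : Subgroup (PGL2 F)}
    (hM : IsCoatom M) (hML : ¬ PS F ≤ M) :
    (∃ x : OnePoint F, M = stabilizer (PGL2 F) x) ∨
    (∃ t s : PGL2 F, (orderOf t = Fintype.card F + 1 ∨ (orderOf t = Fintype.card F - 1 ∧ Fintype.card F ≠ 5)) ∧
      s ∈ PS F ∧ s * t * s⁻¹ = t⁻¹ ∧ s ^ 2 = 1 ∧ s ∉ zpowers t ∧ M = closure {t, s}) ∨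
    ((Fintype.card F).Prime ∧ (Fintype.card F % 8 = 3 ∨ Fintype.card F % 8 = 5) ∧
      Nonempty (M ≃* Equiv.Perm (Fin 4))) ∨
    ∃ (L : Subfield F) (c : PGL2 F) (r : ℕ), r.Prime ∧ Odd r ∧ 2 < Nat.card L ∧ Fintype.card F = Nat.card L ^ r ∧
      M = cjs c (RG L.subtype) := by
  obtain ⟨p, hp⟩ := CharP.exists F
  haveI hp := Fact.mk (CharP.char_is_prime F p)
  have h2 := two_ne_zero_of_odd hodd
  have hG := card_PGL2' (F := F)
  have hMS : ¬ M ≤ PS F := fun h => by
    rcases hM.le_iff.1 h with e | e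
    · have := index_PS (F := F)
      rw [e, index_top, gcd_odd hodd] at this; omega
    · exact hML e.le
  have hq5 : 5 ≤ Fintype.card F := by obtain ⟨k, hk⟩ := hodd; omega
  have h120 := oP_mono hq5
  rw [show oP 5 = 120 from rfl] at h120
  rcases dickson2 p M with ⟨a, ha, h4, h5⟩ | ⟨x, hx⟩ | ⟨h4, ⟨⟨e⟩⟩ | ⟨⟨e⟩⟩⟩ | ⟨-, ⟨e⟩⟩ | ⟨L, c, hL, h | h⟩
  · obtain ⟨t, s, b1, -, b3, b4, b5, b6, -, b8⟩ := torus h4
    have hD : closure {t, s} = M := (hM.le_iff.1 fun g hg => (mem_dih b4 b5).2 (b8 g (h5 g hg))).resolve_left fun e => by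
      have := card_dih b4 b5 b6
      obtain ⟨k, hk⟩ := Nat.exists_eq_add_of_lt h3
      rw [e, card_top, hG, oP, hk, show 3 + k + 1 - 1 = k + 3 by omega] at this
      rcases b1 with b1 | ⟨b1, -⟩ <;> rw [b1, hk] at this <;> ring_nf at this <;> omega
    refine Or.inr (Or.inl ⟨t, s, b1.imp_right fun b1 => ⟨b1.1, fun e5 => ?_⟩, b3, b4, b5, b6, hD.symm⟩)
    obtain ⟨X, ⟨e⟩⟩ := exists_S4 (F := F) h2
    have c1 : Nat.card X = 24 := by rw [Nat.card_congr e.toEquiv, card_S4]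
    have c2 : Nat.card M = 8 := by rw [← hD, card_dih b4 b5 b6, b1.1, e5]
    have c3 := X.card_mul_index
    rw [c1, hG, e5, show oP 5 = 120 from rfl] at c3
    exact not_coatom_of_sylow (r := 2) (X := X) hM (IsPGroup.of_card (n := 3) c2) (by omega)
      (fun e => by rw [e, index_top] at c3; omega) (by omega)
  · refine Or.inl ⟨x, ((hM.le_iff.1 hx).resolve_left fun e => ?_).symm⟩
    exact RS_not_fix (RingHom.id F) x fun g _ => (show g ∈ stabilizer (PGL2 F) x by rw [e]; trivial)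
  · exact absurd (A4_le_PS e) hMS
  · refine Or.inr (Or.inr (Or.inl ⟨?_, ?_, ⟨e⟩⟩))
    · obtain ⟨c, hc, -⟩ := S4_le_pf (p := p) e
      have h5 := card_RG' (pf F p) c
      rw [Nat.card_zmod] at h5
      rcases hM.le_iff.1 hc with e' | e'
      · rw [e', card_top, hG] at h5
        rw [oP_eq_iff hp.out.one_lt h5]; exact hp.out
      · rw [e', Nat.card_congr e.toEquiv, card_S4] at h5
        rw [Nat.card_congr e.toEquiv, card_S4, oP_eq_iff (n := 3) (by norm_num) h5.symm] at h4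
        exact absurd (by norm_num) h4
    · have := (S4_le_PS_iff e).not.1 hMS
      obtain ⟨k, hk⟩ := hodd
      omega
  · exact absurd (A5_le_PS e) hMS
  · obtain ⟨m, hm, hc⟩ := exists_card_pow' L.subtype
    have hm2 : 2 ≤ m := by
      by_contra h2
      obtain rfl : m = 1 := by omega
      exact hM.1 (by rw [h, RG_eq_top _ (by rw [hc, pow_one])])
    refine Or.inr (Or.inr (Or.inr ⟨L, c, m, prime_of_no_sub hm2 hc fun L' a b h1 ha hb h4 h5 => ?_,
      Nat.not_even_iff_odd.1 fun he => hMS (h ▸ cjs_RG_le _ hc he c), hL, hc, h⟩))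
    have h6 := card_RG' L'.subtype c
    rcases hM.le_iff.1 (h ▸ cjs_mono c (RG_mono h1)) with e | e
    · have := two_oP_lt (Finite.one_lt_card (α := L')) hb
      rw [e, card_top, hG, h5] at h6; omega
    · have := two_oP_lt (Finite.one_lt_card (α := L)) ha
      rw [e, h, card_RG', h4] at h6; omega
  · exact absurd (h ▸ cjs_RS_le _ c) hMS

theorem card_inf_PS [Fintype F] (hodd : Odd (Fintype.card F)) {M : Subgroup (PGL2 F)} (h : ¬ M ≤ PS F) :
    Nat.card M = 2 * Nat.card (M ⊓ PS F : Subgroup _) := by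
  obtain ⟨w, hw, hw'⟩ := SetLike.not_le_iff_exists.1 h
  rw [inf_comm]
  exact card_eq_two_mul_inf (by rw [index_PS, gcd_odd hodd]) hw hw'

theorem covBy_L [Fintype F] {L : Subfield F} {c : PGL2 F} {m : ℕ} (hm : 2 ≤ m) (hc : Fintype.card F = Nat.card L ^ m)
    (h : cjs c (RS L.subtype) ⋖ PS F) : m.Prime := by
  refine prime_of_no_sub hm hc fun L' a b h1 ha hb h4 h5 => ?_
  rcases covBy_RS h L'.subtype (cjs_mono c (RS_mono h1)) with e | e
  · have := Nat.pow_right_injective (Finite.one_lt_card (α := L')) ((pow_one _).trans (e.trans h5))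
    omega
  · have := two_oP_lt (Finite.one_lt_card (α := L)) ha
    rw [gcd_eq_gcd L'.subtype, ← gcd_eq_gcd L.subtype, card_RS', h4] at e; omega

theorem solvable_of_fix [hp : Fact p.Prime] [CharP F p] {H : Subgroup (PGL2 F)} {x : OnePoint F}
    (h : ∀ g ∈ H, g • x = x) : Group.IsSolvable H := by
  let U : Subgroup H :=
    { carrier := {g | (g : PGL2 F) ^ p = 1}
      one_mem' := one_pow _
      mul_mem' := fun {a b} ha hb => by
        change ((a : PGL2 F) * b) ^ p = 1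
        rw [Commute.mul_pow (comm_of_fix x _ _ (h _ a.2) (h _ b.2) ha hb), ha, hb, mul_one]
      inv_mem' := fun {a} ha => by change ((a : PGL2 F)⁻¹) ^ p = 1; rw [inv_pow, ha, inv_one] }
  refine ⟨2, ?_⟩
  have h1 : derivedSeries H 1 ≤ U := by
    rw [derivedSeries_one, _root_.commutator_def, commutator_le]
    intro a _ b _
    exact comm_pow_of_fix (h _ a.2) (h _ b.2)
  rw [derivedSeries_succ, eq_bot_iff, commutator_le]
  intro a ha b hb
  rw [mem_bot, commutatorElement_eq_one_iff_mul_comm]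
  exact Subtype.ext (comm_of_fix x _ _ (h _ a.2) (h _ b.2) (h1 ha) (h1 hb))

theorem solvable_of_dih {G : Type*} [Group G] {H : Subgroup G} {t s : G} (h1 : s * t * s⁻¹ = t⁻¹) (h2 : s ^ 2 = 1)
    (h : H ≤ closure {t, s}) : Group.IsSolvable H := by
  refine ⟨2, ?_⟩
  have hc : ∀ a ∈ zpowers t, ∀ b ∈ zpowers t, a * b = b * a := by
    rintro _ ⟨i, rfl⟩ _ ⟨j, rfl⟩; exact _root_.zpow_mul_comm _ _ _
  have hs : s⁻¹ = s := inv_eq_of_mul_eq_one_right (by rw [← pow_two, h2])
  have key : ∀ g ∈ H, ∀ a ∈ zpowers t, g * a * g⁻¹ ∈ zpowers t := fun g hg a ha => by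
    rcases (mem_dih h1 h2).1 (h hg) with e | e
    · exact mul_mem (mul_mem e ha) (inv_mem e)
    · have := mul_mem (mul_mem e (inv_mem ha)) (inv_mem e)
      rw [← Transfer.inverts_of_mem_zpowers h1 ha, _root_.mul_inv_rev, hs] at this
      have e2 : s * s = 1 := by rw [← pow_two, h2]
      rwa [show g * s * (s * a * s) * (s * g⁻¹) = g * (s * s) * a * (s * s) * g⁻¹ by group, e2, mul_one, mul_one] at this
  have h3 : derivedSeries H 1 ≤ (zpowers t).subgroupOf H := by
    rw [derivedSeries_one, _root_.commutator_def, commutator_le]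
    intro a _ b _
    change (a : G) * b * a⁻¹ * b⁻¹ ∈ zpowers t
    rcases (mem_dih h1 h2).1 (h a.2) with e | e
    · have := mul_mem e (key b b.2 _ (inv_mem e)); simpa [mul_assoc] using this
    rcases (mem_dih h1 h2).1 (h b.2) with e' | e'
    · exact mul_mem (key a a.2 _ e') (inv_mem e')
    · have e3 := mul_mem e (inv_mem e')
      have := mul_mem e3 (key b b.2 _ (inv_mem e3))
      simpa [mul_assoc] using this
  rw [derivedSeries_succ, eq_bot_iff, commutator_le]
  intro a ha b hb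
  rw [mem_bot, commutatorElement_eq_one_iff_mul_comm]
  exact Subtype.ext (hc _ (h3 ha) _ (h3 hb))

end Cfsg.Agent.Perm.GL2
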