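import Mathlib
import Cfsg.Agent.Lib.Perm.Dick7

/-! Klein four-subgroups of `PSL₂(q)`, `q` odd. -/

namespace Cfsg.Agent.Perm.GL2
open Matrix OnePoint MulAction Cfsg.Agent.Perm Subgroup Cfsg.Agent.Perm.Tri
open Matrix.SpecialLinearGroup (toGL toGL_injective)
open scoped Pointwise

variable {F : Type*} [Field F] {p : ℕ}

section Abstract
variable {G : Type*} [Group G]

theorem klein_gens {V : Subgroup G} (h : IsKleinFour V) : ∃ a b : G, a ∈ V ∧ b ∈ V ∧ a ≠ 1 ∧ b ≠ 1 ∧ a ≠ b ∧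
    a * b = b * a ∧ (∀ g ∈ V, g ^ 2 = 1) ∧ ∀ g, g ∈ V ↔ g = 1 ∨ g = a ∨ g = b ∨ g = a * b := by
  classical
  haveI : Finite V := Nat.finite_of_card_ne_zero (by rw [h.card_four]; norm_num)
  letI := Fintype.ofFinite V
  obtain ⟨x, y, hx, hy, hxy⟩ : ∃ x y : V, x ≠ 1 ∧ y ≠ 1 ∧ x ≠ y := by
    obtain ⟨x, y, z, h1, h2, h3⟩ := Fintype.two_lt_card_iff.1 (show 2 < Fintype.card V by
      rw [← Nat.card_eq_fintype_card, h.card_four]; norm_num)
    by_cases hx : x = 1
    · exact ⟨y, z, fun e => h1 (hx.trans e.symm), fun e => h2 (hx.trans e.symm), h3⟩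
    by_cases hy : y = 1
    · exact ⟨x, z, hx, fun e => h3 (hy.trans e.symm), h2⟩
    · exact ⟨x, y, hx, hy, h1⟩
  refine ⟨x, y, x.2, y.2, fun e => hx (Subtype.ext e), fun e => hy (Subtype.ext e), fun e => hxy (Subtype.ext e),
    congrArg Subtype.val (h.isMulCommutative.is_comm.comm x y), fun g hg => ?_, fun g => ⟨fun hg => ?_, ?_⟩⟩
  · rw [pow_two]; exact congrArg Subtype.val (IsKleinFour.mul_self (⟨g, hg⟩ : V))
  · have := Finset.mem_univ (⟨g, hg⟩ : V)
    rw [← IsKleinFour.eq_finset_univ hx hy hxy] at this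
    simp only [Finset.mem_insert, Finset.mem_singleton, Subtype.ext_iff] at this
    tauto
  · rintro (rfl | rfl | rfl | rfl)
    exacts [one_mem _, x.2, y.2, mul_mem x.2 y.2]

theorem card_mulAut_le {V : Type*} [Group V] (h : Nat.card V = 4) : Nat.card (MulAut V) ≤ 6 := by
  haveI : Finite V := Nat.finite_of_card_ne_zero (by rw [h]; norm_num)
  have h1 := (stabilizer (Equiv.Perm V) (1 : V)).card_mul_index
  rw [index_stabilizer_of_transitive, Nat.card_perm, h] at h1
  have : Nat.card (MulAut V) ≤ Nat.card (stabilizer (Equiv.Perm V) (1 : V)) :=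
    Nat.card_le_card_of_injective (fun σ => ⟨σ.toEquiv, σ.map_one⟩) fun a b e =>
      MulEquiv.toEquiv_injective (congrArg Subtype.val e)
  simp only [Nat.factorial] at h1; omega

theorem card_normalizer_le [Finite G] {V : Subgroup G} (h : Nat.card V = 4) (hc : centralizer (V : Set G) ≤ V) :
    Nat.card (normalizer (V : Set G)) ≤ 24 := by
  have h1 := (normalizerMonoidHom V).ker.card_mul_index
  rw [index_ker, normalizerMonoidHom_ker] at h1
  have h2 := card_le_card_group (normalizerMonoidHom V).range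
  have h3 := card_mulAut_le h
  have h4 := card_le_of_le hc
  rw [Nat.card_congr (subgroupOfEquivOfLe (centralizer_le_normalizer _)).toEquiv] at h1
  rw [← h1]; exact Nat.mul_le_mul (h4.trans h.le) (h2.trans h3)

set_option synthInstance.maxSize 2048 in
theorem mem_of_sq_A4 {X V : Subgroup G} (e : X ≃* alternatingGroup (Fin 4)) (h : IsKleinFour V) (hV : V ≤ X) {g : G}
    (hg : g ∈ X) (h2 : g ^ 2 = 1) : g ∈ V := by
  obtain ⟨a, b, ha, hb, a1, b1, ab, -, hs, hm⟩ := klein_gens h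
  have key : ∀ a b g : alternatingGroup (Fin 4), a ≠ 1 → b ≠ 1 → a ≠ b → a ^ 2 = 1 → b ^ 2 = 1 → g ^ 2 = 1 →
      g = 1 ∨ g = a ∨ g = b ∨ g = a * b := by decide +kernel
  have sq : ∀ x (hx : x ∈ X), x ^ 2 = 1 → e ⟨x, hx⟩ ^ 2 = 1 := fun x hx h => by
    rw [← map_pow, e.map_eq_one_iff]; exact Subtype.ext h
  have := key (e ⟨a, hV ha⟩) (e ⟨b, hV hb⟩) (e ⟨g, hg⟩) (by simpa [Subtype.ext_iff] using a1)
    (by simpa [Subtype.ext_iff] using b1) (by simpa using ab) (sq _ _ (hs a ha)) (sq _ _ (hs b hb)) (sq _ _ h2)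
  rw [hm]
  simpa [← map_mul, Subtype.ext_iff] using this

theorem isKleinFour_cjs {V : Subgroup G} (h : IsKleinFour V) (c : G) : IsKleinFour (cjs c V) :=
  ⟨by rw [card_cjs, h.card_four], by rw [← Monoid.exponent_eq_of_mulEquiv (cjsEquiv c V), h.exponent_two]⟩

theorem isKleinFour_of_equiv {H : Type*} [Group H] (e : G ≃* H) (h : IsKleinFour G) : IsKleinFour H :=
  ⟨by rw [← Nat.card_congr e.toEquiv, h.card_four], by rw [← Monoid.exponent_eq_of_mulEquiv e, h.exponent_two]⟩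

theorem cjs_mul (c d : G) (H : Subgroup G) : cjs (c * d) H = cjs c (cjs d H) := by
  ext g; simp [mem_cjs, mul_assoc]

theorem cjs_eq_iff {c : G} {H : Subgroup G} : cjs c H = H ↔ c ∈ normalizer (H : Set G) := by
  rw [mem_normalizer_iff'', Subgroup.ext_iff]
  simp only [mem_cjs, SetLike.mem_coe]
  exact forall_congr' fun _ => Iff.comm

theorem exists_klein_A4 {X : Subgroup G} (e : X ≃* alternatingGroup (Fin 4)) : ∃ V ≤ X, IsKleinFour V := by
  obtain ⟨V, h, ⟨e'⟩⟩ := exists_sub_iso e (K := alternatingGroup.kleinFour (Fin 4)) ⟨MulEquiv.refl _⟩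
  exact ⟨V, h, isKleinFour_of_equiv e'.symm (alternatingGroup.kleinFour_isKleinFour (by simp))⟩

end Abstract

theorem lift_invol {a : PGL2 F} (ha : a ∈ PS F) (h1 : a ≠ 1) (h2 : a ^ 2 = 1) :
    ∃ i : SL2 F, (i : M2 F).trace = 0 ∧ mkP (toGL i) = a := by
  obtain ⟨i, rfl⟩ := ha
  exact ⟨i, (scal_pow_iff2 fun h => h1 (mkP_eq_one.2 h)).1 (mkP_pow_eq_one.1 h2), rfl⟩

theorem coe_bar_of_trace {g : GL (Fin 2) F} (h : (g : M2 F).trace = 0) : (bar g : M2 F) = -(g : M2 F) := by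
  rw [coe_bar, adj_eq, h]; simp

theorem conj_pm {g a : GL (Fin 2) F} (ha : (a : M2 F).trace = 0) (h : mkP g * mkP a = mkP a * mkP g) :
    (g : M2 F) * a = a * g ∨ (g : M2 F) * a = -(a * g) := by
  rcases conj_eq_or (Or.inl (mul_inv_eq_iff_eq_mul.2 h)) with e | e <;>
    have := congrArg Units.val (mul_inv_eq_iff_eq_mul.1 e)
  · exact Or.inl this
  · right; rwa [Units.val_mul, Units.val_mul, coe_bar_of_trace ha, neg_mul] at this

theorem klein_lift (h2 : (2 : F) ≠ 0) {V : Subgroup (PGL2 F)} (h : IsKleinFour V) (hV : V ≤ PS F) :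
    ∃ i j : SL2 F, (i : M2 F).trace = 0 ∧ (j : M2 F).trace = 0 ∧ (i : M2 F) * j = -(j * i) ∧
      ∀ g, g ∈ V ↔ g = 1 ∨ g = mkP (toGL i) ∨ g = mkP (toGL j) ∨ g = mkP (toGL i) * mkP (toGL j) := by
  obtain ⟨a, b, ha, hb, a1, b1, ab, hc, hs, hm⟩ := klein_gens h
  obtain ⟨i, hi, rfl⟩ := lift_invol (hV ha) a1 (hs _ ha)
  obtain ⟨j, hj, rfl⟩ := lift_invol (hV hb) b1 (hs _ hb)
  refine ⟨i, j, hi, hj, (conj_pm hj hc).resolve_left fun e => ab ?_, hm⟩
  rcases (isReg_of_trace h2 hj).eq_or_eq_adj rfl e (hi.trans hj.symm) (by simp) with e2 | e2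
  · rw [Subtype.ext e2]
  · exact mkP_eq_iff.2 ⟨-1, by rw [e2, adj_eq, hj]; simp⟩

theorem klein_cent (h2 : (2 : F) ≠ 0) {V : Subgroup (PGL2 F)} (h : IsKleinFour V) (hV : V ≤ PS F) :
    centralizer (V : Set (PGL2 F)) ≤ V := by
  obtain ⟨i, j, hi, hj, hij, hm⟩ := klein_lift h2 h hV
  have ha : mkP (toGL i) ∈ V := (hm _).2 (by simp)
  have hb : mkP (toGL j) ∈ V := (hm _).2 (by simp)
  have key : ∀ g : GL (Fin 2) F, (g : M2 F) * i = i * g → (g : M2 F) * j = j * g → mkP g = 1 := fun g h1 h3 => by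
    obtain ⟨α, β, e⟩ := (comm_iff (isReg_of_trace h2 hi).not_scal _).1 h1
    rw [e] at h3
    simp only [add_mul, mul_add, smul_mul_assoc, mul_smul_comm, one_mul, mul_one, add_right_inj, hij] at h3
    have h4 : (2 * β) • ((j : M2 F) * i) = 0 := by rw [mul_smul, two_smul]; linear_combination (norm := module) -h3
    have h5 : β = 0 := by
      have := congrArg det h4
      simpa [h2] using this
    exact mkP_eq_one.2 (by rw [e, h5]; exact isScal_iff.2 ⟨α, by simp⟩)
  intro g hg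
  obtain ⟨g, rfl⟩ := mkP_surj g
  rw [mem_centralizer_iff] at hg
  have hji : (j : M2 F) * i = -(i * j) := by rw [hij, neg_neg]
  rcases conj_pm (a := toGL i) hi (hg _ ha).symm with e1 | e1 <;>
    rcases conj_pm (a := toGL j) hj (hg _ hb).symm with e2 | e2 <;> simp only [coe_toGL] at e1 e2
  · rw [key g e1 e2]; exact one_mem _
  · have := key (g * toGL i) (by simp only [Units.val_mul, coe_toGL]; rw [← mul_assoc (i : M2 F), ← e1]) (by
      simp only [Units.val_mul, coe_toGL]; rw [mul_assoc, hij, mul_neg, ← mul_assoc, e2, ← mul_assoc]; simp)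
    rw [map_mul, mul_eq_one_iff_eq_inv] at this
    rw [this]; exact inv_mem ha
  · have := key (g * toGL j) (by
      simp only [Units.val_mul, coe_toGL]; rw [mul_assoc, hji, mul_neg, ← mul_assoc, e1, ← mul_assoc]; simp)
      (by simp only [Units.val_mul, coe_toGL]; rw [← mul_assoc (j : M2 F), ← e2])
    rw [map_mul, mul_eq_one_iff_eq_inv] at this
    rw [this]; exact inv_mem hb
  · have := key (g * (toGL i * toGL j)) (by
      simp only [Units.val_mul, coe_toGL]
      rw [mul_assoc, mul_assoc, hji, mul_neg, mul_neg, ← mul_assoc, e1]; simp [mul_assoc]) (by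
      simp only [Units.val_mul, coe_toGL]
      have a1 : ∀ x : M2 F, (j : M2 F) * (g * x) = -(g * (j * x)) := fun x => by
        rw [← mul_assoc, ← mul_assoc, e2]; simp
      have a2 : ∀ x : M2 F, (j : M2 F) * (i * x) = -(i * (j * x)) := fun x => by
        rw [← mul_assoc, ← mul_assoc, hij]; simp
      simp only [mul_assoc, a1, a2, mul_neg, neg_neg])
    rw [map_mul, mul_eq_one_iff_eq_inv, map_mul] at this
    rw [this]; exact inv_mem (mul_mem ha hb)

theorem klein_le_A4 [Finite F] (h2 : (2 : F) ≠ 0) {V : Subgroup (PGL2 F)} (h : IsKleinFour V) (hV : V ≤ PS F) :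
    ∃ X, V ≤ X ∧ Nonempty (X ≃* alternatingGroup (Fin 4)) := by
  obtain ⟨i, j, hi, hj, hij, hm⟩ := klein_lift h2 h hV
  have di := det_SL i
  have dj := det_SL j
  have ii : (i : M2 F) * i = -1 := congrArg Subtype.val (mul_self_of_trace hi)
  have jj : (j : M2 F) * j = -1 := congrArg Subtype.val (mul_self_of_trace hj)
  have hk : ((i : M2 F) * j).trace = 0 := by
    have := congrArg trace hij
    rw [trace_neg, trace_mul_comm (j : M2 F)] at this
    exact (mul_eq_zero.1 (show 2 * ((i : M2 F) * j).trace = 0 by linear_combination this)).resolve_left h2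
  have hji : (j : M2 F) * i = -(i * j) := by rw [hij, neg_neg]
  obtain ⟨w, hw⟩ : ∃ w : M2 F, w = (2 : F)⁻¹ • (1 + i + j + i * j) := ⟨_, rfl⟩
  have tw : w.trace = 1 := by simp [hw, hi, hj, hk, h2]
  have w2 : w * w = w - 1 := by
    have e1 : (i : M2 F) * (i * j) = -j := by rw [← mul_assoc, ii]; simp
    have e2 : (j : M2 F) * (i * j) = i := by rw [← mul_assoc, hji, neg_mul, mul_assoc, jj]; simp
    have e3 : (i : M2 F) * j * i = j := by rw [mul_assoc, hji, mul_neg, e1]; simp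
    have e4 : (i : M2 F) * j * j = -i := by rw [mul_assoc, jj]; simp
    have e5 : (i : M2 F) * j * (i * j) = -1 := by rw [← mul_assoc, e3, jj]
    have : (1 + i + j + i * j : M2 F) * (1 + i + j + i * j) = (2 : F) • (1 + i + j + i * j) - (4 : F) • 1 := by
      simp only [add_mul, mul_add, one_mul, mul_one, e1, e2, e3, e4, e5, ii, jj, hji]; module
    rw [hw, smul_mul_smul_comm, this]
    have h4 : (2 : F)⁻¹ * 2⁻¹ * 4 = 1 := by field_simp; norm_num
    rw [smul_sub, smul_smul, smul_smul, h4, one_smul, mul_assoc, inv_mul_cancel₀ h2, mul_one]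
  have dw : w.det = 1 := by
    have := cayley w
    rw [w2, tw, one_smul, sub_right_inj] at this
    simpa using (congrArg (fun m : M2 F => m 0 0) this).symm
  let y : GL (Fin 2) F := GeneralLinearGroup.mkOfDetNeZero w (by rw [dw]; exact one_ne_zero)
  have hy : (y : M2 F) = w := rfl
  have hp : Pair 1 (toGL (-i)) y := ⟨by simp [hi], (-i).det_coe, tw, dw, by
    have e1 : (i : M2 F) * (i * j) = -j := by rw [← mul_assoc, ii]; simp
    simp [hy, hw, mul_add, ii, e1, hi, hj, hk, h2]⟩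
  have hn : mkP (toGL (-i)) = mkP (toGL i) := mkP_eq_iff.2 ⟨-1, by simp⟩
  have hc : y * toGL i = toGL j * y := Units.ext (by
    have e2 : (j : M2 F) * (i * j) = i := by rw [← mul_assoc, hji, neg_mul, mul_assoc, jj]; simp
    have e3 : (i : M2 F) * j * i = j := by rw [mul_assoc, hji, mul_neg, ← mul_assoc, ii]; simp
    simp only [Units.val_mul, coe_toGL, hy, hw, smul_mul_assoc, mul_smul_comm, add_mul, mul_add, one_mul, mul_one,
      ii, jj, e2, e3, hji]
    module)
  refine ⟨_, fun g hg => ?_, hp.iso_A4 (hp.not_scal h2)⟩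
  have h1 : mkP (toGL i) ∈ closure ({mkP (toGL (-i)), mkP y} : Set (PGL2 F)) := hn ▸ subset_closure (by simp)
  have h3 : mkP y ∈ closure ({mkP (toGL (-i)), mkP y} : Set (PGL2 F)) := subset_closure (by simp)
  have h4 : mkP (toGL j) ∈ closure ({mkP (toGL (-i)), mkP y} : Set (PGL2 F)) := by
    rw [← mul_inv_eq_iff_eq_mul.2 hc, map_mul, map_mul, map_inv]; exact mul_mem (mul_mem h3 h1) (inv_mem h3)
  rcases (hm g).1 hg with rfl | rfl | rfl | rfl
  exacts [one_mem _, h1, h4, mul_mem h1 h4]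

theorem eq_of_klein_A4 {G : Type*} [Group G] {X V W : Subgroup G} (e : X ≃* alternatingGroup (Fin 4))
    (hV : IsKleinFour V) (hW : IsKleinFour W) (h1 : V ≤ X) (h2 : W ≤ X) : V = W := by
  obtain ⟨-, -, -, -, -, -, -, -, a, -⟩ := klein_gens hV
  obtain ⟨-, -, -, -, -, -, -, -, b, -⟩ := klein_gens hW
  exact le_antisymm (fun g hg => mem_of_sq_A4 e hW h2 (h1 hg) (a g hg)) fun g hg => mem_of_sq_A4 e hV h1 (h2 hg) (b g hg)

theorem klein_conj [Finite F] (h2 : (2 : F) ≠ 0) {V W : Subgroup (PGL2 F)} (hV : IsKleinFour V) (hW : IsKleinFour W)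
    (h1 : V ≤ PS F) (h3 : W ≤ PS F) : ∃ c, W = cjs c V := by
  obtain ⟨X, a, ⟨e⟩⟩ := klein_le_A4 h2 hV h1
  obtain ⟨Y, b, ⟨e'⟩⟩ := klein_le_A4 h2 hW h3
  obtain ⟨c, rfl⟩ := rigid_A4 h2 e e'
  exact ⟨c, eq_of_klein_A4 e' hW (isKleinFour_cjs hV c) b (cjs_mono c a)⟩

theorem klein_normalizer [Finite F] (h2 : (2 : F) ≠ 0) {V : Subgroup (PGL2 F)} (hV : IsKleinFour V) (h1 : V ≤ PS F) :
    Nonempty (normalizer (V : Set (PGL2 F)) ≃* Equiv.Perm (Fin 4)) := by
  obtain ⟨X, ⟨e⟩⟩ := exists_S4 (F := F) h2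
  obtain ⟨Y, hY, ⟨e'⟩⟩ := exists_sub_iso e A4_le_S4
  obtain ⟨W, hW, hW'⟩ := exists_klein_A4 e'
  obtain ⟨c, rfl⟩ := klein_conj h2 hW' hV (hW.trans (A4_le_PS e')) h1
  have hi : (Y.subgroupOf X).index = 2 := by
    have := (Y.subgroupOf X).card_mul_index
    rw [Nat.card_congr (subgroupOfEquivOfLe hY).toEquiv, Nat.card_congr e'.toEquiv, Nat.card_congr e.toEquiv,
      card_A4, card_S4] at this
    omega
  have hn := (normal_subgroupOf_iff_le_normalizer hY).1 (normal_of_index_eq_two hi)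
  have h3 : X ≤ normalizer (W : Set (PGL2 F)) := fun g hg => cjs_eq_iff.1 (eq_of_klein_A4 e' (isKleinFour_cjs hW' g)
    hW' (cjs_eq_iff.2 (hn hg) ▸ cjs_mono g hW) hW)
  have h4 : X = normalizer (W : Set (PGL2 F)) := eq_of_le_of_card_ge h3 (by
    rw [Nat.card_congr e.toEquiv, card_S4]
    exact card_normalizer_le hW'.card_four (klein_cent h2 hW' (hW.trans (A4_le_PS e'))))
  refine ⟨(MulEquiv.subgroupCongr ?_).trans ((cjsEquiv c X).symm.trans e)⟩
  rw [h4]; exact (map_equiv_normalizer_eq _ (MulAut.conj c)).symm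

theorem exists_klein [Finite F] (h2 : (2 : F) ≠ 0) : ∃ V ≤ PS F, IsKleinFour V := by
  obtain ⟨X, ⟨e⟩⟩ := exists_A4 (F := F) h2
  obtain ⟨W, hW, hW'⟩ := exists_klein_A4 e
  exact ⟨W, hW.trans (A4_le_PS e), hW'⟩

theorem map_io_cjs (g : PSL2 F) (H : Subgroup (PSL2 F)) : (cjs g H).map io = cjs (io g) (H.map io) := by
  rw [cjs, cjs, Subgroup.map_map, Subgroup.map_map]; congr 1; ext x; simp

theorem eq_cjs_iff {g : PSL2 F} {V W : Subgroup (PSL2 F)} : W = cjs g V ↔ W.map io = cjs (io g) (V.map io) := by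
  rw [← map_io_cjs, (Subgroup.map_injective io_injective).eq_iff]

theorem mul_mem_PS [Fintype F] {a b : PGL2 F} (ha : a ∉ PS F) (hb : b ∉ PS F) : a * b ∈ PS F := by
  rcases gcd_two_cases (Fintype.card F - 1) with h | h <;> rw [← index_PS] at h
  · rw [index_eq_one.1 h] at ha; exact absurd trivial ha
  · exact (mul_mem_iff_of_index_two h).2 (iff_of_false ha hb)

end Cfsg.Agent.Perm.GL2
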