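import Mathlib
import Cfsg.Agent.Lib.Perm.Dick8

/-! Subgroups of `SL₂(q)` via their images in `PGL₂(q)`. -/

namespace Cfsg.Agent.Perm.GL2
open Matrix OnePoint MulAction Cfsg.Agent.Perm Subgroup Cfsg.Agent.Perm.Tri
open Matrix.SpecialLinearGroup (toGL toGL_injective)
open scoped Pointwise

variable {F : Type*} [Field F] {p : ℕ}

/-- the map from `SL₂` to `PGL₂` -/
abbrev ph : SL2 F →* PGL2 F := mkP.comp toGL

theorem ph_eq_one {g : SL2 F} : ph g = 1 ↔ g = 1 ∨ g = -1 := mkP_eq_one.trans isScal_SL_iff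

theorem neg_mem_of_even [Finite F] (h2 : (2 : F) ≠ 0) {H : Subgroup (SL2 F)} (h : 2 ∣ Nat.card (H.map ph)) :
    -1 ∈ H := by
  obtain ⟨t, ht, ho⟩ := Transfer.exists_invol_mem (H := H) (even_iff_two_dvd.2 (h.trans (card_map_dvd _ _)))
  rcases isScal_SL_iff.1 (isScal_of_mul_self_eq_one h2 (Transfer.mul_self_of_orderOf ho)) with e | e
  · exact absurd e (Transfer.ne_one_of_orderOf ho)
  · exact e ▸ ht

theorem ker_le {H : Subgroup (SL2 F)} (h : -1 ∈ H) : (ph (F := F)).ker ≤ H := fun g hg => by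
  rcases ph_eq_one.1 hg with rfl | rfl
  exacts [one_mem _, h]

theorem card_eq_two_mul (h2 : (2 : F) ≠ 0) {H : Subgroup (SL2 F)} (h : -1 ∈ H) :
    Nat.card H = 2 * Nat.card (H.map ph) := by
  have h3 : Nat.card (ph (F := F)).ker = 2 := by
    rw [Matrix.SpecialLinearGroup.toPGL_ker, card_center_SL_odd h2]
  have := ((ph (F := F)).ker.subgroupOf H).card_mul_index
  rw [Nat.card_congr (subgroupOfEquivOfLe (ker_le h)).toEquiv, h3] at this
  rw [← relIndex_ker]; exact this.symm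

theorem not_dih {G : Type*} [Group G] [hp : Fact p.Prime] (h2 : p ≠ 2) {g : G} (hg : orderOf g = p) :
    ¬ Klein.IsDih p G := by
  rintro ⟨a, s, h1, h3, h4, -, -, h6⟩
  rcases h6 g with h | h
  · exact h1 (hg ▸ orderOf_dvd_of_mem_zpowers h)
  · have e := Transfer.inverts_of_mem_zpowers h3 h
    have hs : s⁻¹ = s := inv_eq_of_mul_eq_one_right (by rw [← pow_two, h4])
    have : g ^ 2 = 1 := by
      rw [_root_.mul_inv_rev, mul_assoc, mul_inv_cancel_right, hs, mul_left_cancel_iff, eq_inv_iff_mul_eq_one] at e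
      rwa [pow_two]
    rw [← orderOf_dvd_iff_pow_eq_one, hg] at this
    exact h2 ((Nat.prime_dvd_prime_iff_eq hp.out Nat.prime_two).1 this)

theorem tau_mem {K : Type*} [Field K] (f : K →+* F) {c : PGL2 F} {g : GL (Fin 2) F} (h : mkP g ∈ cjs c (RG f)) :
    ∃ a, f a * (g : M2 F).det = (g : M2 F).trace ^ 2 := by
  obtain ⟨c, rfl⟩ := mkP_surj c
  obtain ⟨k, hk⟩ := mem_cjs.1 h
  obtain ⟨k, rfl⟩ := mkP_surj k
  rw [mapP_mk, ← map_inv, ← map_mul, ← map_mul] at hk
  obtain ⟨b, hb⟩ := mkP_eq_iff.1 hk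
  have hc : IsConj g (c⁻¹ * g * c) := isConj_iff.2 ⟨c⁻¹, by rw [inv_inv]⟩
  refine ⟨(k : M2 K).trace ^ 2 / (k : M2 K).det, ?_⟩
  have := (map_ne_zero f).2 (det_ne k)
  rw [trace_eq_of_isConj hc, det_eq_of_isConj hc, hb, det_smul, trace_smul, det_map, trace_map, map_div₀, map_pow]
  simp; field_simp

theorem card_sub_one_dvd [Fintype F] [hp : Fact p.Prime] [CharP F p] {lam : F}
    (hgen : Subfield.closure ({lam} : Set F) = ⊤) {k : ℕ} (h : lam ^ p ^ k = lam) : Fintype.card F - 1 ∣ p ^ k - 1 := by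
  have : ∀ x : F, x ^ p ^ k = x := fun x => by
    have h1 : Subfield.closure ({lam} : Set F) ≤ RingHom.eqLocusField (iterateFrobenius F p k) (RingHom.id F) :=
      Subfield.closure_le.2 (by rintro _ rfl; exact h)
    exact h1 (by rw [hgen]; trivial)
  rw [← FiniteField.forall_pow_eq_one_iff]
  intro x
  apply mul_right_cancel (b := x)
  rw [← pow_succ, Nat.sub_add_cancel (Nat.one_le_pow _ _ hp.out.pos), one_mul]
  exact Units.ext (by simpa using this x)

/-- conjugation of `SL₂` by an element of `GL₂` -/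
def cjSL (c : GL (Fin 2) F) : SL2 F →* SL2 F :=
  MonoidHom.mk' (fun g => ⟨(c : M2 F) * g * (c⁻¹ : GL (Fin 2) F), by rw [det_conj'', g.det_coe]⟩) fun a b =>
    Subtype.ext (by
      change _ = (c : M2 F) * a * (c⁻¹ : GL (Fin 2) F) * ((c : M2 F) * b * (c⁻¹ : GL (Fin 2) F))
      simp [mul_assoc])

theorem toGL_cjSL (c : GL (Fin 2) F) (g : SL2 F) : toGL (cjSL c g) = c * toGL g * c⁻¹ := Units.ext rfl

theorem cjSL_injective (c : GL (Fin 2) F) : Function.Injective (cjSL c) := fun a b h => by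
  have := congrArg toGL h
  rw [toGL_cjSL, toGL_cjSL] at this
  exact toGL_injective (by simpa using this)

theorem exists_SL_sub {K : Type*} [Field K] (f : K →+* F) {c : PGL2 F} {H : Subgroup (SL2 F)} (h1 : -1 ∈ H)
    (h : cjs c (RS f) ≤ H.map ph) : ∃ M ≤ H, Nonempty (M ≃* SL2 K) := by
  obtain ⟨c, rfl⟩ := mkP_surj c
  have hi : Function.Injective (Matrix.SpecialLinearGroup.map (n := Fin 2) f) := fun a b e =>
    Subtype.ext (Matrix.map_injective f.injective (congrArg Subtype.val e))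
  refine ⟨((cjSL c).comp (Matrix.SpecialLinearGroup.map f)).range, ?_,
    ⟨(MonoidHom.ofInjective (f := (cjSL c).comp (Matrix.SpecialLinearGroup.map f))
      fun a b e => hi (cjSL_injective c e)).symm⟩⟩
  rintro _ ⟨g, rfl⟩
  rw [← comap_map_eq_self (ker_le h1), mem_comap]
  refine h ⟨_, ⟨_, ⟨g, rfl⟩, rfl⟩, ?_⟩
  change mkP c * mkP _ * (mkP c)⁻¹ = mkP (toGL (cjSL c _))
  rw [toGL_cjSL, map_mul, map_mul, map_inv]
  congr 3
  exact Units.ext rfl

theorem RS_pf_le [hp : Fact p.Prime] [CharP F p] {K : Type*} [Field K] (f : K →+* F) : RS (pf F p) ≤ RS f := by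
  haveI := f.charP f.injective p
  rw [RingHom.ext_zmod (pf F p) (f.comp (pf K p)), RS_comp]
  exact map_mono (RS_le_PS _)

theorem pow_eq_one_of_pow [Fintype F] [hp : Fact p.Prime] [CharP F p] {g : PGL2 F} {k : ℕ} (h : g ^ p ^ k = 1) :
    g ^ p = 1 := by
  obtain ⟨j, -, hj⟩ := (Nat.dvd_prime_pow hp.out).1 (orderOf_dvd_of_pow_eq_one h)
  rcases j with _ | j
  · rw [orderOf_eq_one_iff.1 hj, one_pow]
  have hd : p ∣ orderOf g := by rw [hj]; exact dvd_pow_self _ j.succ_ne_zero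
  rcases spec_PGL2 p g with h | h | h
  · exact orderOf_dvd_iff_pow_eq_one.1 h
  · exact absurd (hd.trans h) not_dvd_qq.2.2
  · exact absurd (hd.trans h) not_dvd_qq.2.1

theorem two_dvd_card_RS {K : Type*} [Field K] [Finite K] (f : K →+* F) (c : PGL2 F) (h : 2 < Nat.card K) :
    2 ∣ Nat.card (cjs c (RS f)) := by
  have h1 := card_RS' f c
  rcases Nat.even_or_odd (Nat.card K) with ⟨k, hk⟩ | ⟨k, hk⟩
  · rw [gcd_even ⟨k, hk⟩ (by omega), mul_one] at h1
    rw [h1, oP, mul_assoc]; exact Dvd.dvd.mul_right ⟨k, by omega⟩ _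
  · rw [gcd_odd ⟨k, hk⟩, oP, hk, show 2 * k + 1 - 1 = 2 * k by omega] at h1
    exact ⟨(2 * k + 1) * (k + 1) * k, Nat.eq_of_mul_eq_mul_right two_pos (by rw [h1]; ring)⟩

end Cfsg.Agent.Perm.GL2
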