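import Cfsg.Agent.Lib.Perm.Br5

/-! Soundness of the sieve. -/

set_option autoImplicit false

namespace Cfsg.Agent.Perm.Br

open Subgroup
open Cfsg.Agent.Char
open scoped Classical ComplexConjugate

variable {G : Type*} [Group G] [Finite G]

theorem exists_central_invol (h : 2 ∣ Nat.card G) :
    ∃ u : G, orderOf u = 2 ∧ ¬ 2 ∣ (centralizer ({u} : Set G)).index := by
  obtain ⟨Q⟩ : Nonempty (Sylow 2 G) := inferInstance
  have : Nontrivial Q := (Q : Subgroup G).nontrivial_iff_ne_bot.2 (Q.ne_bot_of_dvd_card h)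
  have := Q.2.center_nontrivial
  obtain ⟨k, hk0, hk⟩ := (Q.2.to_subgroup (center Q)).nontrivial_iff_card.1 this
  obtain ⟨u, hu⟩ := exists_prime_orderOf_dvd_card' (G := center Q) 2 (hk ▸ dvd_pow_self 2 hk0.ne')
  refine ⟨u, by rwa [Subgroup.orderOf_coe, Subgroup.orderOf_coe], fun h1 => Q.not_dvd_index (h1.trans
    (index_dvd_of_le fun g hg => mem_centralizer_singleton_iff.2 ?_))⟩
  exact congrArg Subtype.val (mem_center_iff.1 u.2 ⟨g, hg⟩)

namespace BD

variable {p e : ℕ} {P : Subgroup G} {X Y : Finset (IrrCharacter G)} {δ : IrrCharacter G → ℤ} {ε : ℤ}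
  {S : IrrCharacter G → Finset (P →* ℂˣ)} (h : BD p e P X Y δ ε S) {χ θ θ' : IrrCharacter G} {x y : G}
include h

theorem le_cent : P ≤ centralizer (P : Set G) := fun _ ha _ hb => comm_of_card h.prime h.card hb ha

theorem cardY' : Y.card = (p - 1) / e := by
  rw [← h.cardY, Nat.add_sub_cancel, Nat.mul_div_cancel _ h.e_pos]

theorem exists_w : ∃ w, Nat.card (centralizer (P : Set G)) = p * w ∧
    Nat.card G = (normalizer (P : Set G)).index * p * e * w ∧ (w = 1 ↔ centralizer (P : Set G) = P) ∧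
    ∀ r, r.Prime → r ∣ w → r ≠ p ∧ ∃ y ∈ centralizer (P : Set G), orderOf y = r := by
  obtain ⟨w, hw⟩ := h.card ▸ card_dvd_of_le h.le_cent
  have h1 := Solv.card_mul_relIndex (centralizer_le_normalizer (P : Set G))
  have h2 : Nat.card G = (normalizer (P : Set G)).index * p * e * w := by
    rw [← (normalizer (P : Set G)).index_mul_card, ← h1, hw, h.he]; ring
  refine ⟨w, hw, h2, ⟨fun e => (eq_of_le_of_card_ge h.le_cent (by rw [hw, e, h.card, mul_one])).symm, fun e => ?_⟩,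
    fun r hr hd => ⟨?_, ?_⟩⟩
  · rw [e, h.card] at hw
    exact Nat.eq_of_mul_eq_mul_left h.prime.pos (by rw [← hw, mul_one])
  · rintro rfl
    have h3 := P.card_mul_index
    rw [h2, h.card] at h3
    exact h.syl (hd.trans ⟨(normalizer (P : Set G)).index * e,
      Nat.eq_of_mul_eq_mul_left h.prime.pos (by rw [h3]; ring)⟩)
  · have := Fact.mk hr
    obtain ⟨y, hy⟩ := exists_prime_orderOf_dvd_card' (G := centralizer (P : Set G)) r (hw ▸ hd.mul_left _)
    exact ⟨y, y.2, by rwa [Subgroup.orderOf_coe]⟩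

theorem dg_dvd' (h1 : χ ∈ X ∪ Y) : dg χ ∣ Nat.card G / p := by
  have h2 : p ∣ Nat.card G := h.card ▸ card_subgroup_dvd_card P
  have := dg_dvd χ
  rw [← Nat.mul_div_cancel' h2] at this
  exact ((h.prime.coprime_iff_not_dvd).2 (h.not_dvd h1)).symm.dvd_of_dvd_mul_left this

theorem dvd_div (h1 : χ ∈ X ∪ Y) (hy : y ∈ centralizer (P : Set G)) {r : ℕ} (hr : r.Prime) (hrp : r ≠ p)
    (ho : orderOf y = r) : r ∣ Nat.card G / dg χ := by
  by_contra h2
  refine h.not_full h1 hy hr hrp ho (Nat.pow_succ_factorization_not_dvd Nat.card_pos.ne' hr) ?_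
  have := Nat.ordProj_dvd (Nat.card G) r
  rw [← Nat.mul_div_cancel' (dg_dvd χ)] at this
  exact Nat.Coprime.dvd_of_dvd_mul_right (((hr.coprime_iff_not_dvd).2 h2).pow_left _) (by
    rwa [Nat.mul_div_cancel' (dg_dvd χ)] at this ⊢)

theorem sq_lt (h1 : χ ∈ X ∪ Y) : dg χ * dg χ < Nat.card G := by
  obtain ⟨θ, hθ⟩ := h.Y_ne
  have h2 := h.sq_le hθ
  rw [← pow_two]
  rcases Finset.mem_union.1 h1 with h1 | h1
  · have := Finset.single_le_sum (f := fun χ => dg χ ^ 2) (fun _ _ => Nat.zero_le _) h1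
    omega
  · rw [h.dg_eq h1 hθ]
    have := Nat.le_mul_of_pos_left (dg θ ^ 2) h.Y_ne.card_pos
    omega

/-- for `e = 2` there is one class of involutions -/
theorem conj_of_two [IsSimpleGroup G] (hC : centralizer (P : Set G) = P) (h2 : p ≠ 2) (he : e = 2) {u : G}
    (hu : orderOf u = 2) : ∃ t ∈ normalizer (P : Set G), IsConj u t := by
  by_contra h3
  obtain ⟨θ, hθ⟩ := h.Y_ne
  obtain ⟨χ, rfl⟩ := Finset.card_eq_one.1 (show X.card = 1 by have := h.cardX; omega)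
  have h4 := h.count hC h2 hu hθ
  have h5 := h.rel θ hθ u (hu ▸ fun h3 => h2 ((Nat.prime_dvd_prime_iff_eq h.prime Nat.prime_two).1 h3))
  have h6 := h.rel θ hθ 1 h.reg_one
  rw [if_neg h3] at h4
  simp only [Finset.sum_singleton, dg_cast] at h4 h5 h6
  refine faithful (h.ne_one (χ := χ) (by simp)) (g := u) (by rintro rfl; simp at hu) ?_
  have h7 : (dg χ : ℂ) ≠ 0 := by exact_mod_cast (dg_pos χ).ne'
  have h8 : (dg θ : ℂ) ≠ 0 := by exact_mod_cast (dg_pos θ).ne'
  have h9 := (mul_eq_zero.1 (h4.symm.trans (by simp))).resolve_left (card_ne_zero' G)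
  field_simp at h9
  rw [dg_cast, ← sub_eq_zero, ← sq_eq_zero_iff]
  rcases h.esgn with e1 | e1 <;> rcases h.sgn χ (by simp) with e2 | e2 <;> simp only [e1, e2] at h5 h6 h9 <;>
    push_cast at h5 h6 h9
  · linear_combination h9 - (dg χ + χ.1 u ^ 2) * h6 + dg χ * (θ.1 u + 1 + χ.1 u) * h5
  · linear_combination -h9 + (dg χ - χ.1 u ^ 2) * h6 - dg χ * (θ.1 u + 1 - χ.1 u) * h5
  · linear_combination -h9 - (dg χ + χ.1 u ^ 2) * h6 + dg χ * (-θ.1 u + 1 + χ.1 u) * h5
  · linear_combination h9 + (dg χ - χ.1 u ^ 2) * h6 - dg χ * (-θ.1 u + 1 - χ.1 u) * h5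

theorem good_dg [IsSimpleGroup G] (h2 : p ≠ 2) (he : 1 < e) {ps : List ℕ} (hps : ∀ r ∈ ps, r.Prime)
    {w : ℕ} (hw1 : w = 1 ↔ centralizer (P : Set G) = P)
    (hw2 : ∀ r, r.Prime → r ∣ w → r ≠ p ∧ ∃ y ∈ centralizer (P : Set G), orderOf y = r) (h1 : χ ∈ X ∪ Y) :
    good ps (Nat.card G) p e w (dg χ) = true := by
  simp only [good, Bool.and_eq_true, decide_eq_true_eq, List.all_eq_true]
  refine ⟨⟨?_, Nat.mod_eq_zero_of_dvd (h.dg_dvd' h1), h.sq_lt h1, fun ⟨h3, h4, h5⟩ => ?_⟩, fun r hr => ?_⟩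
  · split_ifs with h3
    · exact two_le_dg h.perf (h.ne_one h1)
    · obtain ⟨h4, y, hy, ho⟩ := hw2 _ (Nat.minFac_prime h3) (Nat.minFac_dvd w)
      exact h.big h1 hy (ho ▸ fun h5 => h4 ((Nat.prime_dvd_prime_iff_eq h.prime (Nat.minFac_prime h3)).1 h5).symm)
        (faithful (h.ne_one h1) (by rintro rfl; exact (Nat.minFac_prime h3).ne_one (by simpa using ho.symm)))
  · have := h.even_t (hw1.1 h3) h2 he h1 h5
    rw [h.cardY', Nat.even_iff] at this
    omega
  · refine or_iff_not_imp_left.2 fun h3 => ?_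
    obtain ⟨h4, y, hy, ho⟩ := hw2 r (hps r hr) (Nat.dvd_of_mod_eq_zero (not_not.1 h3))
    exact Nat.mod_eq_zero_of_dvd (h.dvd_div h1 hy (hps r hr) h4 ho)

theorem go_true [IsSimpleGroup G] (h2 : p ≠ 2) (he : 1 < e) {ds ps : List ℕ} (hds : ∀ n, n ∣ Nat.card G → n ∈ ds)
    (hps : ∀ r ∈ ps, r.Prime) {w : ℕ} (hw1 : w = 1 ↔ centralizer (P : Set G) = P)
    (hw2 : ∀ r, r.Prime → r ∣ w → r ≠ p ∧ ∃ y ∈ centralizer (P : Set G), orderOf y = r) :
    go (Nat.card G) (fin ds ps (Nat.card G) p e w) (opts ds ps (Nat.card G) p e w) (e - 1) (0, 0, 0, 0) = true := by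
  obtain ⟨θ, hθ⟩ := h.Y_ne
  have hg := fun χ (h1 : χ ∈ X ∪ Y) => h.good_dg h2 he hps hw1 hw2 h1
  obtain ⟨v, hv1, hv2⟩ : ∃ v : IrrCharacter G → ℤ, (¬ (w = 1 ∧ e % 2 = 0) → ∀ χ, v χ = 0) ∧ (w = 1 ∧ e % 2 = 0 →
      (∀ χ, ∃ k : ℕ, 2 * k ≤ dg χ ∧ v χ = dg χ - 4 * k) ∧ (∀ χ ∈ X, p * |v χ| ≤ dg χ + (p - 1) * δ χ) ∧
      p * |v θ| ≤ dg θ - ε * e ∧ ε * v θ = 1 + ∑ χ ∈ X, δ χ * v χ ∧ ∃ c ∈ ds, (c : ℤ) * c = (Nat.card G / p : ℕ) +
        ∑ χ ∈ X, δ χ * v χ * v χ * (Nat.card G / p / dg χ : ℕ) - ε * v θ ^ 2 * (Nat.card G / p / dg θ : ℕ) ∧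
        (e = 2 → Nat.card G / c % 2 = 1)) := by
    by_cases hi : w = 1 ∧ e % 2 = 0
    swap
    · exact ⟨0, fun _ _ => rfl, fun h => absurd h hi⟩
    have hC := hw1.1 hi.1
    obtain ⟨s, hs, ho, hk, -⟩ := exists_compl_gen h.prime h.card hC h.he
    have ht : orderOf (s ^ (e / 2)) = 2 := by
      rw [orderOf_pow_of_dvd (by omega) (ho.symm ▸ Nat.div_dvd_of_dvd (Nat.dvd_of_mod_eq_zero hi.2)), ho,
        Nat.div_div_self (Nat.dvd_of_mod_eq_zero hi.2) (by omega)]
    obtain ⟨u, hu, ⟨t, htn, hut⟩, hu2⟩ : ∃ u : G, orderOf u = 2 ∧ (∃ t ∈ normalizer (P : Set G), IsConj u t) ∧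
        (e = 2 → ¬ 2 ∣ (centralizer ({u} : Set G)).index) := by
      by_cases h3 : e = 2
      · obtain ⟨u, h4, h5⟩ := exists_central_invol (G := G) (ht ▸ _root_.orderOf_dvd_natCard _)
        exact ⟨u, h4, h.conj_of_two hC h2 h3 h4, fun _ => h5⟩
      · exact ⟨_, ht, ⟨_, pow_mem hs _, IsConj.refl _⟩, fun h4 => absurd h4 h3⟩
    choose k hk1 hk2 using fun χ : IrrCharacter G =>
      invol_val h.perf χ.2.isCharacter (hu ▸ pow_orderOf_eq_one u) (dg_cast χ)
    have hv : ∀ χ : IrrCharacter G, χ.1 u = ((dg χ - 4 * k χ : ℤ) : ℂ) := fun χ => by rw [hk2]; push_cast; rfl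
    have htc : t ∉ centralizer (P : Set G) := by
      rw [hC]
      intro h3
      obtain ⟨c, rfl⟩ := isConj_iff.1 hut
      have h4 : orderOf (c * u * c⁻¹) = 2 := hu ▸ (MulAut.conj c).orderOf_eq u
      exact h2 ((order_eq h.prime h.card h3 (fun e => by simp [e] at h4)).symm.trans h4)
    have hn : ∀ χ : IrrCharacter G, ‖χ.1 t‖ = ((|(dg χ - 4 * k χ : ℤ)| : ℤ) : ℝ) := fun χ => by
      rw [← χ.2.isClassFunction.eq_of_isConj hut, hv, Complex.norm_intCast, Int.cast_abs]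
    refine ⟨fun χ => dg χ - 4 * k χ, fun h => absurd hi h, fun _ => ⟨fun χ => ⟨_, hk1 χ, rfl⟩, fun χ hχ => ?_, ?_, ?_,
      Nat.card (centralizer ({u} : Set G)), hds _ (card_subgroup_dvd_card _), ?_, fun h3 => ?_⟩⟩
    · have := h.boundX hχ htn htc
      rw [hn] at this
      exact_mod_cast this
    · have := h.boundY hθ htn htc
      rw [hn] at this
      exact_mod_cast this
    · have := h.rel θ hθ u (hu ▸ fun h3 => h2 ((Nat.prime_dvd_prime_iff_eq h.prime Nat.prime_two).1 h3))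
      simp only [hv] at this
      exact_mod_cast this
    · have h3 := h.count hC h2 hu hθ
      have hp : (p : ℂ) ≠ 0 := by exact_mod_cast h.prime.ne_zero
      have h4 : ∀ χ ∈ X ∪ Y, ((Nat.card G / p / dg χ : ℕ) : ℂ) = Nat.card G / p / dg χ := fun χ hχ => by
        rw [Nat.cast_div (h.dg_dvd' hχ) (by exact_mod_cast (dg_pos χ).ne'),
          Nat.cast_div (h.card ▸ card_subgroup_dvd_card P) hp]
      rw [if_pos ⟨t, htn, hut⟩] at h3
      apply Int.cast_injective (α := ℂ)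
      simp only [Int.cast_mul, Int.cast_sub, Int.cast_add, Int.cast_sum, Int.cast_pow, Int.cast_natCast, ← hv]
      rw [h4 θ (by simp [hθ]), Nat.cast_div (h.card ▸ card_subgroup_dvd_card P) hp,
        Finset.sum_congr rfl (g := fun χ => Nat.card G / p * (δ χ * χ.1 u ^ 2 / dg χ)) fun χ hχ => by
          rw [h4 χ (by simp [hχ])]; ring, ← Finset.mul_sum]
      apply mul_left_cancel₀ hp
      rw [← pow_two, h3]
      field_simp
    · rw [← (centralizer ({u} : Set G)).index_mul_card, Nat.mul_div_cancel _ Nat.card_pos]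
      have := hu2 h3
      omega
  have hsum : (X.val.map fun χ => opt (Nat.card G) p (dg χ) (δ χ) (v χ)).sum = (∑ χ ∈ X, δ χ * dg χ,
      ∑ χ ∈ X, (dg χ : ℤ) * dg χ, ∑ χ ∈ X, δ χ * v χ, ∑ χ ∈ X, δ χ * v χ * v χ * (Nat.card G / p / dg χ : ℕ)) := by
    rw [← Finset.sum_eq_multiset_sum]
    ext <;> simp [opt, Prod.fst_sum, Prod.snd_sum]
  have hsq : 1 + ∑ χ ∈ X, (dg χ : ℤ) * dg χ + ((p - 1) / e : ℕ) * (dg θ : ℤ) ^ 2 ≤ Nat.card G := by
    have := h.sq_le hθ
    rw [h.cardY'] at this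
    simp only [← pow_two]
    exact_mod_cast this
  have key := go_sound (N := Nat.card G) (fin := fin ds ps (Nat.card G) p e w) (opts ds ps (Nat.card G) p e w)
    (X.val.map fun χ => opt (Nat.card G) p (dg χ) (δ χ) (v χ)) (0, 0, 0, 0) ?_ ?_ ?_ ?_
  · rwa [Multiset.card_map, Finset.card_val, show X.card = e - 1 by have := h.cardX; omega] at key
  · intro o ho
    obtain ⟨χ, hχ, rfl⟩ := Multiset.mem_map.1 ho
    simp only [opts, List.mem_flatMap]
    refine ⟨dg χ, hds _ (dg_dvd χ), δ χ, by simpa using h.sgn χ hχ, ?_⟩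
    rw [if_pos (by simp [hg χ (Finset.mem_union_left _ hχ), Int.emod_eq_zero_of_dvd (h.dvdX hχ)])]
    split_ifs with hi
    · obtain ⟨h3, h4, -⟩ := hv2 hi
      obtain ⟨k, h5, h6⟩ := h3 χ
      refine List.mem_flatMap.2 ⟨k, List.mem_range.2 (by omega), ?_⟩
      rw [← h6, if_pos (h4 χ hχ)]
      simp
    · simp [hv1 hi]
  · intro o ho
    obtain ⟨χ, hχ, rfl⟩ := Multiset.mem_map.1 ho
    exact mul_self_nonneg _
  · rw [hsum]
    have : (0 : ℤ) ≤ ((p - 1) / e : ℕ) * (dg θ : ℤ) ^ 2 := by positivity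
    simp only [Prod.mk_add_mk, zero_add]
    omega
  · have h3 : ε * ε = 1 := by rcases h.esgn with e | e <;> simp [e]
    have h4 : (ε * dg θ).natAbs = dg θ := by rcases h.esgn with e | e <;> simp [e]
    have h5 := dg_pos θ
    rw [hsum]
    simp only [fin, Prod.mk_add_mk, zero_add, ← h.relZ hθ, h4, List.any_eq_true, Bool.and_eq_true, Bool.or_eq_true,
      decide_eq_true_eq]
    refine ⟨ε, by simpa using h.esgn, ⟨⟨by rw [← mul_assoc, h3]; omega, hg θ (by simp [hθ])⟩, by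
      rwa [mul_pow, pow_two ε, h3, one_mul]⟩, or_iff_not_imp_left.2 fun hi => ?_⟩
    obtain ⟨h6, -, h7, h8, c, hc, h9, h10⟩ := hv2 (not_not.1 hi)
    obtain ⟨k, -, hk⟩ := h6 θ
    have h11 := h.relZ hθ
    refine ⟨⟨?_, ?_⟩, c, hc, ?_, h10⟩
    · rw [← h8, abs_mul, mul_sub, ← mul_assoc ε, h3, one_mul]
      rcases h.esgn with e | e <;> simpa [e] using h7
    · refine Int.emod_eq_zero_of_dvd ⟨ε * k, ?_⟩
      linear_combination h8 - h11 - ε * hk
    · rw [← h8, mul_pow, pow_two ε, h3, one_mul, h9]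

end BD

theorem not_chk [IsSimpleGroup G] (hG : ¬ IsMulCommutative G) {B : ℕ} (hB : Nat.card G < B * B) :
    chk B (Nat.card G) ≠ true := by
  have h0 : 0 < Nat.card G := Nat.card_pos
  have hps : ∀ r, r ∈ (dvs B (Nat.card G)).filter (isP B) ↔ r.Prime ∧ r ∣ Nat.card G := fun r => by
    rw [List.mem_filter, mem_dvs h0 hB, and_comm]
    exact and_congr_left fun h => isP_iff ((Nat.le_of_dvd h0 h).trans_lt hB)
  have hds : ∀ n, n ∣ Nat.card G → n ∈ dvs B (Nat.card G) := fun n => (mem_dvs h0 hB).2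
  simp only [chk, chk']
  generalize (dvs B (Nat.card G)).filter (isP B) = ps at *
  generalize dvs B (Nat.card G) = ds at *
  simp only [ne_eq, Bool.or_eq_true, decide_eq_true_eq, List.any_eq_true, List.all_eq_true]
  rintro (h | ⟨p, hp, q, hq, h⟩ | ⟨p, hp, h⟩)
  · obtain ⟨E, hE⟩ := S0204.result (G := G) fun h => hG inferInstance
    exact h (Nat.mod_eq_zero_of_dvd (hE.card_four ▸ card_subgroup_dvd_card E))
  · exact hG ⟨⟨IsSimpleGroup.comm_iff_isSolvable.2 (S0144.aux p q ((hps p).1 hp).1 ((hps q).1 hq).1 _ rfl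
      fun r h1 h2 => h r ((hps r).2 ⟨h1, h2⟩))⟩⟩
  obtain ⟨hpp, hpd⟩ := (hps p).1 hp
  have := Fact.mk hpp
  obtain ⟨P⟩ : Nonempty (Sylow p G) := inferInstance
  have h1 := one_lt_syl hG hpd
  have h2 := SylNum.card_syl P
  have h3 := h _ (hds (Nat.card (Sylow p G)) (by rw [h2]; exact index_dvd_card _))
  have h4 : Nat.card (Sylow p G) % p = 1 := Eq.trans (card_sylow_modEq_one p G) (Nat.mod_eq_of_lt hpp.one_lt)
  simp only [elim, h4, h1, Bool.or_eq_true, Bool.and_eq_true, decide_eq_true_eq, List.all_eq_true, and_self, decide_true,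
    Bool.not_true, Bool.false_eq_true, false_or] at h3
  rcases h3 with ((⟨-, h3⟩ | ⟨h3, h5⟩) | ⟨h3, h5⟩) | ⟨⟨h3, h5⟩, h6⟩
  · exact h3 (Nat.mod_eq_zero_of_dvd (h2 ▸ two_mul_dvd hG _ fun e => by rw [h2, e, index_top] at h1; omega))
  · have h6 := SylNum.card_eq_of_lt_sq (syl_faithful hG hpd) h1 (by rwa [sq]) P
    have h7 := Nat.dvd_of_mod_eq_zero h3
    rw [← (P : Subgroup G).card_mul_index, h6] at h7
    exact P.not_dvd_index (Nat.dvd_of_mul_dvd_mul_left hpp.pos h7)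
  · obtain ⟨N, hN, h6⟩ := S1991.result h3 P (P.ne_bot_of_dvd_card hpd) fun g hg hc => by
      obtain rfl : g = 1 := orderOf_eq_one_iff.1 (by
        by_contra h7
        have h8 := Nat.minFac_prime h7
        have h9 := (Nat.minFac_dvd _).trans ((normalizer ((P : Subgroup G) : Set G)).orderOf_dvd_natCard hg)
        rcases h5 _ ((hps _).2 ⟨h8, h9.trans (card_subgroup_dvd_card _)⟩) with e | e
        · exact (hpp.coprime_iff_not_dvd.1 hc.symm) (e ▸ Nat.minFac_dvd _)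
        · rw [h2, ← (normalizer ((P : Subgroup G) : Set G)).index_mul_card, Nat.mul_div_cancel_left _ (by omega)] at e
          exact e (Nat.mod_eq_zero_of_dvd h9))
      exact one_mem _
    rcases hN.eq_bot_or_eq_top with rfl | rfl
    · rw [index_bot] at h6
      have := isCyclic_of_prime_card h6
      exact hG inferInstance
    · exact hpp.ne_one (by simpa using h6.symm)
  · have hP : Nat.card P = p := by
      have h7 := (hpp.pow_dvd_iff_le_factorization h0.ne' (k := 1)).1 (by simpa)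
      have h8 := (hpp.pow_dvd_iff_le_factorization h0.ne' (k := 2)).not.1 fun e =>
        h3 (Nat.mod_eq_zero_of_dvd (by rwa [← sq]))
      rw [P.card_eq_multiplicity, show (Nat.card G).factorization p = 1 by omega, pow_one]
    obtain ⟨e, X, Y, δ, ε, S, h⟩ := exists_bd (perf_of_simple hG) P hP
    obtain ⟨w, -, hw, hw1, hw2⟩ := h.exists_w
    have he : 1 < e := by
      have := h.e_pos
      by_contra h7
      exact not_burnside hG P hpd (relIndex_eq_one.1 (h.he.trans (by omega)))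
    have h7 := List.all_eq_true.1 h6 e (hds e ⟨(normalizer ((P : Subgroup G) : Set G)).index * p * w, by rw [hw]; ring⟩)
    have h8 : Nat.card G / (Nat.card (Sylow p G) * p * e) = w := by
      rw [hw, ← h2, Nat.mul_div_cancel_left _ (by have := hpp.pos; positivity)]
    rw [h8, h.go_true h5 he hds (fun r hr => ((hps r).1 hr).1) hw1 hw2, decide_eq_true ⟨he, by
      rw [← h.cardY]; simp, by rw [hw, h2]; simp⟩] at h7
    simp at h7

theorem card_ne [IsSimpleGroup G] {B N : ℕ} (hp : ¬ N.Prime) (hB : N < B * B) (h : chk B N = true) :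
    Nat.card G ≠ N := by
  rintro rfl
  exact not_chk (noncomm_of_card hp) hB h

end Cfsg.Agent.Perm.Br
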