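import Mathlib

/-! Counting involutions of `A₆`. -/

set_option autoImplicit false

namespace Cfsg.Agent.Perm.A6c
open Equiv Equiv.Perm

theorem c0 : ∀ t : Perm (Fin 6), t * t = 1 → t ≠ 1 → sign t = 1 → ∃ g, g * t = swap 0 1 * swap 2 3 * g := by
  decide +kernel

theorem c8 (t : Perm (Fin 6)) (h : t = swap 0 1 * swap 2 3) :
    Fintype.card {g : Perm (Fin 6) // g * t = t * g ∧ sign g = 1} = 8 ∧
    Fintype.card {s : Perm (Fin 6) // s * s = 1 ∧ s ≠ 1 ∧ sign s = 1 ∧ t * s * (t * s) * (t * s) * (t * s) * (t * s) = 1} < 32 ∧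
    Fintype.card {s : Perm (Fin 6) // s * s = 1 ∧ s ≠ 1 ∧ sign s = 1 ∧ t * s * (t * s) * (t * s) * (t * s) * (t * s) ≠ 1} < 32 := by
  subst h
  decide +kernel

end Cfsg.Agent.Perm.A6c
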