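import Mathlib

/-! Orders of abelian permutation groups. -/

set_option autoImplicit false

namespace Cfsg.Agent.Perm.AbS
open Equiv Equiv.Perm MulAction Subgroup

theorem index_fix {G Ω : Type*} [Group G] [MulAction G Ω] [Finite Ω] (hG : ∀ a b : G, a * b = b * a)
    (F : ℕ → ℕ) (P : ℕ → Prop) (h0 : 1 ≤ F 0) (hF : ∀ m n, P m → m * F n ≤ F (n + m)) (n : ℕ) :
    ∀ S : Set Ω, S.ncard = n → (∀ g : G, ∀ x ∈ S, g • x ∈ S) → (∀ x ∈ S, P (orbit G x).ncard) →
      (fixingSubgroup G S).index ≤ F n := by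
  induction n using Nat.strong_induction_on with
  | _ n ih =>
    intro S hS hinv hP
    rcases S.eq_empty_or_nonempty with rfl | ⟨x, hx⟩
    · rw [fixingSubgroup_empty, index_top, ← hS, Set.ncard_empty]; exact h0
    have sub : orbit G x ⊆ S := by rintro _ ⟨g, rfl⟩; exact hinv g x hx
    have pos : 0 < (orbit G x).ncard := (Set.ncard_pos (Set.toFinite _)).2 ⟨x, mem_orbit_self x⟩
    have e := Set.ncard_diff_add_ncard_of_subset sub (Set.toFinite _)
    have h1 := ih (S \ orbit G x).ncard (by omega) _ rfl (fun g y hy => ⟨hinv g y hy.1, fun h => hy.2 (by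
      obtain ⟨k, hk⟩ := h
      exact ⟨g⁻¹ * k, by simp only [mul_smul] at hk ⊢; rw [hk, inv_smul_smul]⟩)⟩) fun y hy => hP y hy.1
    have h2 : fixingSubgroup G S = stabilizer G x ⊓ fixingSubgroup G (S \ orbit G x) := by
      ext g
      simp only [mem_inf, mem_fixingSubgroup_iff, mem_stabilizer_iff]
      refine ⟨fun h => ⟨h x hx, fun y hy => h y hy.1⟩, fun h y hy => ?_⟩
      by_cases hy' : y ∈ orbit G x
      · obtain ⟨k, rfl⟩ := hy'
        simp only
        rw [← mul_smul, hG, mul_smul, h.1]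
      · exact h.2 y ⟨hy, hy'⟩
    rw [h2, ← hS, ← e]
    refine index_inf_le.trans (le_trans ?_ (hF _ _ (hP x hx)))
    rw [index_stabilizer]
    exact Nat.mul_le_mul_left _ h1

/-- largest product of a partition -/
def f : ℕ → ℕ
  | 0 => 1
  | 1 => 1
  | 2 => 2
  | 3 => 3
  | 4 => 4
  | n + 5 => 3 * f (n + 2)

/-- bound for products of odd parts -/
def fo : ℕ → ℕ
  | 0 => 1
  | 1 => 1
  | 2 => 1
  | 3 => 3
  | 4 => 3
  | 5 => 5
  | n + 6 => 3 * fo (n + 3)

theorem f_step : ∀ n, f n ≤ f (n + 1) ∧ 2 * f n ≤ f (n + 2) ∧ 3 * f n ≤ f (n + 3)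
  | 0 => by decide
  | 1 => by decide
  | 2 => by decide
  | 3 => by decide
  | 4 => by decide
  | n + 5 => by have := f_step (n + 2); simp only [f, add_assoc, Nat.reduceAdd] at *; omega

theorem f_mul (m : ℕ) : ∀ n, 0 < m → m * f n ≤ f (n + m) := by
  induction m using Nat.strong_induction_on with
  | _ m ih =>
    intro n hm
    have a := f_step n
    by_cases h : m ≤ 4
    · have := f_step (n + 2)
      interval_cases m <;> simp only [add_assoc, Nat.reduceAdd] at * <;> omega
    · obtain ⟨k, rfl⟩ : ∃ k, m = k + 3 := ⟨m - 3, by omega⟩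
      have b := ih k (by omega) n (by omega)
      have c := (f_step (n + k)).2.2
      rw [← add_assoc]
      calc _ ≤ 3 * k * f n := Nat.mul_le_mul_right _ (by omega)
        _ ≤ _ := by rw [mul_assoc]; omega

theorem fo_step : ∀ n, fo n ≤ fo (n + 1) ∧ 5 * fo n ≤ fo (n + 5) ∧ 3 * fo n ≤ fo (n + 3)
  | 0 => by decide
  | 1 => by decide
  | 2 => by decide
  | 3 => by decide
  | 4 => by decide
  | 5 => by decide
  | n + 6 => by have := fo_step (n + 3); simp only [fo, add_assoc, Nat.reduceAdd] at *; omega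

theorem fo_mul (m : ℕ) : ∀ n, Odd m → m * fo n ≤ fo (n + m) := by
  induction m using Nat.strong_induction_on with
  | _ m ih =>
    intro n hm
    have a := fo_step n
    rw [Nat.odd_iff] at hm
    by_cases h : m ≤ 6
    · interval_cases m <;> omega
    · obtain ⟨k, rfl⟩ : ∃ k, m = k + 3 + 3 := ⟨m - 6, by omega⟩
      have b := ih k (by omega) n (by rw [Nat.odd_iff]; omega)
      have c := (fo_step (n + k)).2.2
      have d := (fo_step (n + k + 3)).2.2
      rw [← add_assoc, ← add_assoc]
      calc _ ≤ 9 * k * fo n := Nat.mul_le_mul_right _ (by omega)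
        _ ≤ _ := by rw [mul_assoc]; omega

theorem fe_mul (m n : ℕ) (h : Even m) : m * 2 ^ (n / 2) ≤ 2 ^ ((n + m) / 2) := by
  obtain ⟨k, rfl⟩ := h
  rw [← two_mul, Nat.add_mul_div_left _ _ two_pos, pow_add, mul_comm]
  refine Nat.mul_le_mul_left _ ?_
  cases k with
  | zero => simp
  | succ k => rw [pow_succ, mul_comm]; exact Nat.mul_le_mul_right _ Nat.lt_two_pow_self

theorem f_val (k : ℕ) : f (3 * k + 3) = 3 ^ (k + 1) ∧ f (3 * k + 4) = 4 * 3 ^ k ∧
    f (3 * k + 2) = 2 * 3 ^ k ∧ fo (3 * k + 5) = 5 * 3 ^ k := by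
  induction k with
  | zero => decide
  | succ k ih =>
    simp only [mul_add, mul_one, add_assoc, Nat.reduceAdd, f, fo, pow_succ] at *
    omega

variable {n : ℕ}

theorem fix_univ (A : Subgroup (Perm (Fin n))) {S T : Set (Fin n)} (h : S ∪ T = Set.univ) :
    fixingSubgroup A S ⊓ fixingSubgroup A T = ⊥ := by
  rw [← fixingSubgroup_union, h, eq_bot_iff]
  intro g hg
  exact Subtype.ext (Equiv.ext fun x => (mem_fixingSubgroup_iff _).1 hg x trivial)

theorem le_f (A : Subgroup (Perm (Fin n))) (hA : IsMulCommutative A) : Nat.card A ≤ f n := by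
  have := index_fix (G := A) (Ω := Fin n) hA.is_comm.comm f (0 < ·) le_rfl (fun m n => f_mul m n) n
    Set.univ (by simp [Set.ncard_univ]) (fun _ _ _ => trivial)
    fun x _ => (Set.ncard_pos (Set.toFinite _)).2 ⟨x, mem_orbit_self x⟩
  rwa [← inf_idem (fixingSubgroup A Set.univ), fix_univ A (by simp), index_bot] at this

theorem le_alt (A : Subgroup (Perm (Fin n))) (hA : IsMulCommutative A) (h : A ≤ alternatingGroup _) :
    Nat.card A ≤ fo n ∨ 4 ≤ n ∧ Nat.card A ≤ 4 * f (n - 4) := by
  by_cases h2 : 2 ∣ Nat.card A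
  · right
    obtain ⟨t, ht⟩ := exists_prime_orderOf_dvd_card' 2 h2
    have t2 : t ^ 2 = 1 := ht ▸ pow_orderOf_eq_one t
    have d := two_dvd_card_support (σ := t.1) (congrArg Subtype.val t2)
    have n0 : t.1.support.card ≠ 0 := by
      rw [Ne, Finset.card_eq_zero, support_eq_empty_iff]
      intro e; rw [show t = 1 from Subtype.ext e, orderOf_one] at ht; omega
    have n2 : t.1.support.card ≠ 2 := fun e => by
      have := (card_support_eq_two.1 e).sign_eq
      rw [mem_alternatingGroup.1 (h t.2)] at this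
      exact absurd this (by decide)
    have le := t.1.support.card_le_univ
    rw [Fintype.card_fin] at le
    have iv : ∀ (g : A) (x : Fin n), t • g • x = g • x ↔ t • x = x := fun g x => by
      rw [← mul_smul, hA.is_comm.comm, mul_smul, smul_left_cancel_iff]
    have b1 := index_fix (G := A) hA.is_comm.comm (fun n => 2 ^ (n / 2)) Even le_rfl fe_mul _
      (t.1.support : Set (Fin n)) (Set.ncard_coe_finset _)
      (fun g x hx => mem_support.2 fun e => mem_support.1 hx ((iv g x).1 e)) (fun x hx => by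
        rw [← index_stabilizer, even_iff_two_dvd]
        haveI : (stabilizer A x).Normal := ⟨fun a ha g => by
          rw [hA.is_comm.comm g]; simpa using ha⟩
        have : orderOf (QuotientGroup.mk' (stabilizer A x) t) = 2 :=
          orderOf_eq_prime (by rw [← map_pow, t2, map_one])
            fun e => mem_support.1 hx ((QuotientGroup.eq_one_iff t).1 e)
        rw [← this]
        exact orderOf_dvd_natCard _)
    have b2 := index_fix (G := A) hA.is_comm.comm f (0 < ·) le_rfl (fun m n => f_mul m n) _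
      ((t.1.supportᶜ : Finset _) : Set (Fin n)) (Set.ncard_coe_finset _)
      (fun g x hx => by
        simp only [Finset.coe_compl, Set.mem_compl_iff, Finset.mem_coe, notMem_support] at hx ⊢
        exact (iv g x).2 hx)
      fun x _ => (Set.ncard_pos (Set.toFinite _)).2 ⟨x, mem_orbit_self x⟩
    rw [Finset.card_compl, Fintype.card_fin] at b2
    have b3 := (index_inf_le.trans (Nat.mul_le_mul b1 b2))
    rw [fix_univ A (by simp), index_bot] at b3
    refine ⟨by omega, b3.trans ?_⟩
    obtain ⟨j, hj⟩ : ∃ j, t.1.support.card = 2 * j + 4 := ⟨t.1.support.card / 2 - 2, by omega⟩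
    have k : ∀ j m, 2 ^ j * f m ≤ f (m + 2 * j) := fun j m => by
      induction j with
      | zero => simp
      | succ j ih => have := (f_step (m + 2 * j)).2.1; rw [pow_succ', mul_assoc, mul_add, ← add_assoc, mul_one]; omega
    have := k j (n - (2 * j + 4))
    rw [show n - (2 * j + 4) + 2 * j = n - 4 by omega] at this
    rw [hj, show (2 * j + 4) / 2 = j + 2 by omega, pow_add]
    nlinarith
  · left
    have := index_fix (G := A) (Ω := Fin n) hA.is_comm.comm fo Odd le_rfl (fun m n => fo_mul m n) n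
      Set.univ (by simp [Set.ncard_univ]) (fun _ _ _ => trivial) fun x _ => by
        rw [← index_stabilizer, ← Nat.not_even_iff_odd, even_iff_two_dvd]
        exact fun e => h2 (e.trans (index_dvd_card _))
    rwa [← inf_idem (fixingSubgroup A Set.univ), fix_univ A (by simp), index_bot] at this

/-- an abelian subgroup of order `c`, inside the alternating group if `e` -/
def Ex (e : Prop) (n c : ℕ) : Prop :=
  ∃ A : Subgroup (Perm (Fin n)), IsMulCommutative A ∧ Nat.card A = c ∧ (e → A ≤ alternatingGroup _)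

theorem Ex.add {e : Prop} {a b c d : ℕ} (h : Ex e a c) (h' : Ex e b d) : Ex e (a + b) (c * d) := by
  obtain ⟨A, a1, a2, a3⟩ := h
  obtain ⟨B, b1, b2, b3⟩ := h'
  let φ : Perm (Fin a) × Perm (Fin b) →* Perm (Fin (a + b)) :=
    finSumFinEquiv.permCongrHom.toMonoidHom.comp (sumCongrHom _ _)
  have hφ : Function.Injective φ := finSumFinEquiv.permCongrHom.injective.comp sumCongrHom_injective
  refine ⟨(A.prod B).map φ, ⟨⟨?_⟩⟩, ?_, fun he => ?_⟩
  · rintro ⟨_, x, hx, rfl⟩ ⟨_, y, hy, rfl⟩
    refine Subtype.ext ?_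
    change φ x * φ y = φ y * φ x
    rw [← map_mul, ← map_mul]
    congr 1
    exact Prod.ext (setLike_mul_comm hx.1 hy.1) (setLike_mul_comm hx.2 hy.2)
  · rw [card_map_of_injective hφ, Nat.card_congr (A.prodEquiv B).toEquiv, Nat.card_prod, a2, b2]
  · rintro _ ⟨x, hx, rfl⟩
    rw [mem_alternatingGroup]
    change sign (finSumFinEquiv.permCongr (Perm.sumCongr x.1 x.2)) = 1
    rw [sign_permCongr, sign_sumCongr, mem_alternatingGroup.1 (a3 he hx.1),
      mem_alternatingGroup.1 (b3 he hx.2), one_mul]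

theorem ex0 (e : Prop) : Ex e 0 1 := ⟨⊥, inferInstance, card_bot, fun _ => bot_le⟩

theorem ex2 : Ex False 2 2 :=
  ⟨zpowers (swap 0 1), inferInstance, by
    rw [Nat.card_zpowers]; exact orderOf_eq_prime (by decide) (by decide), False.elim⟩

theorem ex3 (e : Prop) : Ex e 3 3 :=
  ⟨zpowers (swap 0 1 * swap 0 2), inferInstance, by
    rw [Nat.card_zpowers]; exact orderOf_eq_prime (by decide) (by decide),
    fun _ => zpowers_le_of_mem (mem_alternatingGroup.2 (by decide))⟩

theorem ex4 (e : Prop) : Ex e 4 4 := by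
  let V : Subgroup (Perm (Fin 4)) :=
    { carrier := {g | sign g = 1 ∧ g * g = 1}
      one_mem' := by simp
      mul_mem' := by
        have : ∀ a b : Perm (Fin 4), sign a = 1 ∧ a * a = 1 → sign b = 1 ∧ b * b = 1 →
          sign (a * b) = 1 ∧ a * b * (a * b) = 1 := by decide +kernel
        exact fun {a b} => this a b
      inv_mem' := fun {a} h => by rwa [inv_eq_of_mul_eq_one_right h.2] }
  refine ⟨V, ⟨⟨fun a b => Subtype.ext ?_⟩⟩, ?_, fun _ g hg => hg.1⟩
  · have : ∀ a b : Perm (Fin 4), sign a = 1 ∧ a * a = 1 → sign b = 1 ∧ b * b = 1 →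
          a * b = b * a := by decide +kernel
    exact this _ _ a.2 b.2
  · change Nat.card {g : Perm (Fin 4) // sign g = 1 ∧ g * g = 1} = 4
    rw [Nat.card_eq_fintype_card]; decide +kernel

theorem ex3k (e : Prop) (k : ℕ) : Ex e (3 * k) (3 ^ k) := by
  induction k with
  | zero => exact ex0 e
  | succ k ih => exact ih.add (ex3 e)

theorem Ex.alt {n c : ℕ} (h : Ex True n c) :
    ∃ A : Subgroup (alternatingGroup (Fin n)), IsMulCommutative A ∧ Nat.card A = c := by
  obtain ⟨A, a1, a2, a3⟩ := h
  exact ⟨A.subgroupOf _, inferInstance, by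
    rw [Nat.card_congr (subgroupOfEquivOfLe (a3 trivial)).toEquiv, a2]⟩

theorem alt_bound (A : Subgroup (alternatingGroup (Fin n))) (hA : IsMulCommutative A) :
    Nat.card A ≤ f n ∧ (Nat.card A ≤ fo n ∨ 4 ≤ n ∧ Nat.card A ≤ 4 * f (n - 4)) := by
  rw [← card_map_of_injective (K := A) (alternatingGroup (Fin n)).subtype_injective]
  exact ⟨le_f _ inferInstance, le_alt _ inferInstance (map_subtype_le _)⟩

end Cfsg.Agent.Perm.AbS
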