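import Cfsg.Agent.Lib.Transfer.ElemC2
import Cfsg.Agent.Lib.Char.Zass7

/-!
Groups all of whose involution centralizers are abelian, I.
-/

set_option autoImplicit false
set_option linter.unusedSectionVars false
set_option linter.style.haveILetI false

namespace Cfsg.Agent.Perm.Ac

open Subgroup Cfsg.Agent.Transfer Cfsg.Agent.Transfer.ElemC

variable {G : Type*} [Group G] [Finite G]

/-- centralizer of an element -/
abbrev MM (z : G) : Subgroup G := centralizer ({z} : Set G)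
/-- normalizer of the centralizer -/
abbrev HH (z : G) : Subgroup G := normalizer ((centralizer ({z} : Set G) : Subgroup G) : Set G)

theorem mem_MM {z x : G} : x ∈ MM z ↔ Commute x z := mem_centralizer_singleton'

/-- Involution centralizers are abelian, there is a four group and non-commuting involutions. -/
structure AC (G : Type*) [Group G] : Prop where
  hC : ∀ t : G, orderOf t = 2 → ∀ a b : G, Commute a t → Commute b t → Commute a b
  hs : ∃ s t : G, orderOf s = 2 ∧ orderOf t = 2 ∧ s ≠ t ∧ Commute s t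
  hu : ∃ s t : G, orderOf s = 2 ∧ orderOf t = 2 ∧ ¬ Commute s t

namespace AC

variable (h : AC G) {z : G} (hz : orderOf z = 2)
include h hz

theorem comm {a b : G} (ha : a ∈ MM z) (hb : b ∈ MM z) : Commute a b :=
  h.hC z hz a b (mem_MM.1 ha) (mem_MM.1 hb)

theorem MM_eq {t : G} (ht : orderOf t = 2) (hc : t ∈ MM z) : MM t = MM z :=
  le_antisymm (fun _ hx => mem_MM.2 (h.comm ht hx (mem_MM.2 (mem_MM.1 hc).symm)))
    fun _ hx => mem_MM.2 (h.comm hz hx hc)

omit h hz in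
theorem self_mem : z ∈ MM z := mem_MM.2 (Commute.refl z)

theorem mem_of_invol {t : G} (ht : t ∈ HH z) (h2 : t * t = 1) : t ∈ MM z := by
  have h1 : t * z * t⁻¹ ∈ MM z := conj_mem_of_mem_normalizer ht self_mem
  have hi : t⁻¹ = t := inv_eq_of_mul_eq_one_right h2
  by_cases he : t * z * t⁻¹ = z
  · exact mem_MM.2 (commute_iff_conj.2 he)
  have hc := mem_MM.1 h1
  have hw : orderOf (z * (t * z * t⁻¹)) = 2 := orderOf_eq_two (by
    calc _ = z * ((t * z * t⁻¹) * z) * (t * z * t⁻¹) := by group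
      _ = (z * z) * ((t * z * t⁻¹) * (t * z * t⁻¹)) := by rw [hc.eq]; group
      _ = 1 := by rw [mul_self_of_orderOf hz, conj_mul_self (mul_self_of_orderOf hz), one_mul])
    fun h' => he (by
      rw [← inv_eq_of_mul_eq_one_right h', inv_eq_of_mul_eq_one_right (mul_self_of_orderOf hz)])
  rw [← h.MM_eq hz hw (mul_mem self_mem h1), mem_MM, commute_iff_conj, ← hc.eq]
  calc _ = (t * t) * z * (t * t)⁻¹ * (t * z * t⁻¹) := by group
    _ = _ := by rw [h2, hc.eq]; group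

theorem exists_u : ∃ u : G, orderOf u = 2 ∧ u ∉ MM z := by
  by_contra hc
  push Not at hc
  obtain ⟨s, t, hs, ht, hst⟩ := h.hu
  exact hst (h.comm hz (hc s hs) (hc t ht))

theorem se : IsStronglyEmbedded (HH z) := by
  refine stronglyEmbedded_iff.2 ⟨fun he => ?_, even_card_of_invol_mem hz (le_normalizer self_mem),
    fun t ht h2 g hg => ?_⟩
  · obtain ⟨u, hu, hu'⟩ := h.exists_u hz
    exact hu' (h.mem_of_invol hz (he ▸ mem_top u) (mul_self_of_orderOf hu))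
  · have h3 := h.mem_of_invol hz ht (mul_self_of_orderOf h2)
    have h4 := h.mem_of_invol hz hg (conj_mul_self (mul_self_of_orderOf h2) g)
    have h5 := h.MM_eq hz h2 h3
    have h6 := h.MM_eq hz (by rw [orderOf_conj, h2]) h4
    rw [mem_normalizer_iff_cj]
    change cj g (MM z) = MM z
    rw [← h5, cj_centralizer_singleton]
    exact h6.trans h5.symm

theorem exists_s : ∃ s ∈ MM z, orderOf s = 2 ∧ s ≠ z := by
  obtain ⟨s, t, hs, ht, hst, hc⟩ := h.hs
  obtain ⟨g, rfl⟩ := isConj_iff.1 (se_isConj (h.se hz) ht hz)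
  exact ⟨g * s * g⁻¹, mem_MM.2 (hc.conj g), by rw [orderOf_conj, hs], by simpa using hst⟩

theorem notMem_HH {u : G} (hu : orderOf u = 2) (h1 : ¬ Commute u z) : u ∉ HH z := fun h' =>
  h1 (mem_MM.1 (h.mem_of_invol hz h' (mul_self_of_orderOf hu)))

/-- An element commuting with two non-commuting involutions is centralized by `HH z`. -/
theorem HH_le {u x : G} (hu : orderOf u = 2) (h1 : ¬ Commute u z) (hxz : Commute x z)
    (hxu : Commute x u) : HH z ≤ MM x := by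
  have key : ∀ t ∈ MM z, orderOf t = 2 → ∃ c ∈ MM x, c * t * c⁻¹ = u := by
    intro t ht ht2
    obtain ⟨v, hv, -, h2, -⟩ := exists_invol_conj_of_odd ht2 hu
      (se_odd (h.se hz) (le_normalizer ht) ht2 (h.notMem_HH hz hu h1) hu)
    refine ⟨v, (closure_le (MM x)).2 ?_ hv, h2⟩
    rintro y (rfl | rfl)
    · exact mem_MM.2 (h.comm hz ht (mem_MM.2 hxz))
    · exact mem_MM.2 hxu.symm
  intro g hg
  obtain ⟨c, hc, h2⟩ := key z self_mem hz
  obtain ⟨d, hd, h3⟩ := key (g * z * g⁻¹) (conj_mem_of_mem_normalizer hg self_mem)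
    (by rw [orderOf_conj, hz])
  have h4 : c⁻¹ * (d * g) ∈ MM z := mem_MM.2 (conj_eq_conj_iff.1 (by rw [h2, ← h3]; group))
  have h5 : c⁻¹ * (d * g) ∈ MM x := mem_MM.2 (h.comm hz h4 (mem_MM.2 hxz))
  exact (mul_mem_cancel_left hd).1 ((mul_mem_cancel_left (inv_mem hc)).1 h5)

end AC

/-- The trivial intersection case. -/
structure TI (G : Type*) [Group G] : Prop extends AC G where
  ti : ∀ s t : G, orderOf s = 2 → orderOf t = 2 → ¬ Commute s t →
    ∀ x : G, Commute x s → Commute x t → x = 1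

namespace TI

variable (h : TI G) {z : G} (hz : orderOf z = 2)
include h hz

theorem se : IsStronglyEmbedded (HH z) := h.toAC.se hz

theorem eq_one_of_mem' {u a : G} (hu2 : orderOf u = 2) (hu : u ∉ HH z) (ha : a ∈ MM z)
    (ha' : a ∈ cj u (HH z)) : a = 1 := by
  have hi : u⁻¹ = u := inv_eq_of_mul_eq_one_right (mul_self_of_orderOf hu2)
  have hz' : orderOf (u * z * u⁻¹) = 2 := by rw [orderOf_conj, hz]
  have hn : ¬ Commute z (u * z * u⁻¹) := fun hc =>
    hu (se_mem (h.se hz) (le_normalizer AC.self_mem) hz (le_normalizer (mem_MM.2 hc.symm)))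
  have ti' : ∀ x ∈ MM z, x ∈ cj u (MM z) → x = 1 := fun x hx hx' =>
    h.ti z _ hz hz' hn x (mem_MM.1 hx) (by rw [cj_centralizer_singleton] at hx'; exact mem_MM.1 hx')
  have hb : u * a * u⁻¹ ∈ HH z := by rw [mem_cj] at ha'; rwa [hi] at ha' ⊢
  have hb' : u * a * u⁻¹ ∈ cj u (MM z) := by rw [mem_cj]; simpa [mul_assoc] using ha
  have hc : Commute a (u * a * u⁻¹) := by
    rw [← commutatorElement_eq_one_iff_commute]
    refine ti' _ ?_ ?_
    · rw [commutatorElement_def, mul_assoc a, mul_assoc a]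
      exact mul_mem ha (conj_mem_of_mem_normalizer hb (inv_mem ha))
    · rw [commutatorElement_def]
      refine mul_mem (conj_mem_of_mem_normalizer ?_ hb') (inv_mem hb')
      rw [← cj_normalizer]; exact ha'
  have hbu : Commute (a * (u * a * u⁻¹)) u := by
    rw [Commute.symm_iff, commute_iff_conj, hc.eq]
    calc _ = u * a * u⁻¹ * ((u * u) * a * (u * u)⁻¹) := by rw [← hc.eq]; group
      _ = _ := by rw [mul_self_of_orderOf hu2]; group
  by_cases hx : Commute u (a * u * a⁻¹)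
  · have h1 : a * (u * a * u⁻¹)⁻¹ = a * u * a⁻¹ * u := by
      conv_rhs => rw [← hi]
      rw [hi]; group; simp [hi]
    have h2 : a * (u * a * u⁻¹)⁻¹ ∈ HH z ⊓ cj u (HH z) :=
      mul_mem (mem_inf.2 ⟨le_normalizer ha, ha'⟩) (inv_mem (mem_inf.2 ⟨hb, cj_mono u le_normalizer hb'⟩))
    have h3 := eq_one_of_odd_of_mul_self (odd_orderOf_of_mem ((h.se hz).2.2 u hu) h2) (by
      rw [h1]
      calc _ = a * u * a⁻¹ * (u * (a * u * a⁻¹)) * u := by group
        _ = (a * u * a⁻¹ * (a * u * a⁻¹)) * (u * u) := by rw [hx.eq]; group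
        _ = 1 := by rw [conj_mul_self (mul_self_of_orderOf hu2), mul_self_of_orderOf hu2, one_mul])
    exact ti' a ha (mul_inv_eq_one.1 h3 ▸ hb')
  · have h1 := h.ti u _ hu2 (by rw [orderOf_conj, hu2]) hx _ hbu (by
      have : Commute (a * (u * a * u⁻¹)) a := (Commute.refl a).mul_left hc.symm
      exact (this.mul_right hbu).mul_right this.inv_right)
    refine ti' a ha ?_
    rw [eq_inv_of_mul_eq_one_left h1]
    exact inv_mem hb'

theorem eq_one_of_mem {g t : G} (hg : g ∉ HH z) (ht : t ∈ MM z) (ht' : t ∈ cj g (HH z)) : t = 1 := by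
  obtain ⟨v, hv2, hv⟩ := se_exists_invol_mem_coset (h.se hz) hg
  rw [← cj_eq_of_coset hv] at ht'
  exact h.eq_one_of_mem' hz hv2 (fun h' => hg (by simpa using mul_mem h' (inv_mem hv))) ht ht'

theorem exists_conj {u t : G} (hu2 : orderOf u = 2) (hu : u ∉ HH z) (ht : t ∈ MM z)
    (ht2 : orderOf t = 2) : ∃ d ∈ HH z ⊓ cj u (HH z), u * d * u⁻¹ = d⁻¹ ∧ d * z * d⁻¹ = t := by
  obtain ⟨d, hd, h1, h2⟩ := se_exists_inverted_conj (h.se hz) hu hu2 (le_normalizer AC.self_mem) hz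
    (le_normalizer ht) ht2
  exact ⟨d, mem_inf_cj_of_inverts hd h1, h1, h2⟩

theorem eq_of_conj_eq {g d e : G} (hg : g ∉ HH z) (hd : d ∈ cj g (HH z)) (he : e ∈ cj g (HH z))
    (hde : d * z * d⁻¹ = e * z * e⁻¹) : d = e :=
  (inv_mul_eq_one.1 (h.eq_one_of_mem hz hg (mem_MM.2 (conj_eq_conj_iff.1 hde))
    (mul_mem (inv_mem he) hd))).symm

theorem inverts {u d : G} (hu2 : orderOf u = 2) (hu : u ∉ HH z) (hd : d ∈ HH z ⊓ cj u (HH z)) :
    u * d * u⁻¹ = d⁻¹ := by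
  obtain ⟨e, he, h1, h2⟩ := h.exists_conj hz hu2 hu
    (conj_mem_of_mem_normalizer (mem_inf.1 hd).1 AC.self_mem) (by rw [orderOf_conj, hz])
  rwa [← h.eq_of_conj_eq hz hu (mem_inf.1 he).2 (mem_inf.1 hd).2 h2]

theorem card_inf' {u : G} (hu2 : orderOf u = 2) (hu : u ∉ HH z) :
    Nat.card (HH z ⊓ cj u (HH z) : Subgroup G) = Nat.card {t : G // t ∈ MM z ∧ orderOf t = 2} := by
  refine cnt_eq_of_bij (fun d => d * z * d⁻¹)
    (fun d hd => ⟨conj_mem_of_mem_normalizer (mem_inf.1 hd).1 AC.self_mem, by rw [orderOf_conj, hz]⟩)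
    (fun d e hd he hde => h.eq_of_conj_eq hz hu (mem_inf.1 hd).2 (mem_inf.1 he).2 hde)
    fun t ht => ?_
  obtain ⟨d, hd, -, h1⟩ := h.exists_conj hz hu2 hu ht.1 ht.2
  exact ⟨d, hd, h1⟩

theorem exists_mul {u w : G} (hu2 : orderOf u = 2) (hu : u ∉ HH z) (hw : w ∈ HH z) :
    ∃ d ∈ HH z ⊓ cj u (HH z), ∃ t ∈ MM z, w = d * t := by
  obtain ⟨d, hd, -, h1⟩ := h.exists_conj hz hu2 hu (conj_mem_of_mem_normalizer hw AC.self_mem)
    (by rw [orderOf_conj, hz])
  exact ⟨d, hd, d⁻¹ * w, mem_MM.2 (conj_eq_conj_iff.1 h1.symm), by group⟩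

theorem card_normalizer : Nat.card (HH z) =
    Nat.card {t : G // t ∈ MM z ∧ orderOf t = 2} * Nat.card (MM z) := by
  obtain ⟨u, hu2, hu⟩ := se_exists_invol_notMem (h.se hz)
  rw [← card_class_mul _ z, inf_eq_right.2 le_normalizer]
  congr 1
  refine cnt_congr fun y => ⟨?_, fun hy => ?_⟩
  · rintro ⟨g, hg, rfl⟩
    exact ⟨conj_mem_of_mem_normalizer hg AC.self_mem, by rw [orderOf_conj, hz]⟩
  · obtain ⟨d, hd, -, h1⟩ := h.exists_conj hz hu2 hu hy.1 hy.2
    exact ⟨d, (mem_inf.1 hd).1, h1⟩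

theorem commute_of_mem {u d e : G} (hu2 : orderOf u = 2) (hu : u ∉ HH z)
    (hd : d ∈ HH z ⊓ cj u (HH z)) (he : e ∈ HH z ⊓ cj u (HH z)) : Commute d e := by
  have := h.inverts hz hu2 hu (mul_mem hd he)
  rw [← conj_mul, h.inverts hz hu2 hu hd, h.inverts hz hu2 hu he, ← mul_inv_rev, inv_inj] at this
  exact this.symm

theorem card_inf {g : G} (hg : g ∉ HH z) :
    Nat.card (HH z ⊓ cj g (HH z) : Subgroup G) = Nat.card {t : G // t ∈ MM z ∧ orderOf t = 2} := by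
  obtain ⟨v, hv2, hv⟩ := se_exists_invol_mem_coset (h.se hz) hg
  rw [← cj_eq_of_coset hv]
  exact h.card_inf' hz hv2 fun h' => hg (by simpa using mul_mem h' (inv_mem hv))

theorem eq_one_of_inverts {g w d : G} (hg : g ∉ HH z) (hw : w ∈ HH z)
    (hd : d ∈ HH z ⊓ cj g (HH z)) (hinv : w * d * w⁻¹ = d⁻¹) : d = 1 := by
  obtain ⟨v, hv2, hv⟩ := se_exists_invol_mem_coset (h.se hz) hg
  have hv' : v ∉ HH z := fun h' => hg (by simpa using mul_mem h' (inv_mem hv))
  rw [← cj_eq_of_coset hv] at hd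
  obtain ⟨e, he, t, ht, rfl⟩ := h.exists_mul hz hv2 hv' hw
  have h1 : t * d * t⁻¹ = d⁻¹ := by
    calc t * d * t⁻¹ = e⁻¹ * (e * t * d * (e * t)⁻¹) * e := by group
      _ = d⁻¹ := by
        rw [hinv, mul_assoc, (h.commute_of_mem hz hv2 hv' hd he).inv_left.eq, inv_mul_cancel_left]
  have h2 : d⁻¹ * d⁻¹ ∈ MM z := by
    have := mul_mem ht (conj_mem_of_mem_normalizer (mem_inf.1 hd).1 (inv_mem ht))
    rwa [show t * (d * t⁻¹ * d⁻¹) = t * d * t⁻¹ * d⁻¹ by group, h1] at this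
  have h3 := h.eq_one_of_mem hz hv' h2
    (mul_mem (inv_mem (mem_inf.1 hd).2) (inv_mem (mem_inf.1 hd).2))
  rw [← mul_inv_rev, inv_eq_one] at h3
  exact eq_one_of_odd_of_mul_self (odd_orderOf_of_mem ((h.se hz).2.2 v hv') hd) h3

theorem exists_swap {x y : G ⧸ HH z} (hxy : x ≠ y) :
    ∃ v : G, v • x = y ∧ ∀ d : G, d • x = x → d • y = y → v * d * v⁻¹ = d⁻¹ := by
  obtain ⟨a, rfl⟩ := QuotientGroup.mk_surjective x
  obtain ⟨b, rfl⟩ := QuotientGroup.mk_surjective y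
  have hab : a⁻¹ * b ∉ HH z := fun h' => hxy (QuotientGroup.eq.2 h')
  obtain ⟨v, hv2, hv⟩ := se_exists_invol_mem_coset (h.se hz) hab
  have hv' : v ∉ HH z := fun h' => hab (by simpa using mul_mem h' (inv_mem hv))
  refine ⟨a * v * a⁻¹, (smul_mk_eq_iff _ _ _).2 (by simpa [mul_assoc] using hv), fun d h1 h2 => ?_⟩
  rw [smul_mk_eq_iff] at h1 h2
  have := h.inverts hz hv2 hv' (d := a⁻¹ * d * a) (mem_inf.2 ⟨h1, by
    rw [cj_eq_of_coset hv, mem_cj]; simpa [mul_assoc] using h2⟩)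
  calc _ = a * (v * (a⁻¹ * d * a) * v⁻¹) * a⁻¹ := by group
    _ = _ := by rw [this]; group

theorem eq_one_of_fix {d : G} {x y w : G ⧸ HH z}
    (hxy : x ≠ y) (hxz : x ≠ w) (hyz : y ≠ w) (hx : d • x = x) (hy : d • y = y) (hw : d • w = w) :
    d = 1 := by
  obtain ⟨v₁, h1, h1'⟩ := h.exists_swap hz hxy
  obtain ⟨v₂, h2, h2'⟩ := h.exists_swap hz hyz
  obtain ⟨v₃, h3, h3'⟩ := h.exists_swap hz hxz.symm
  have h4 : (v₃ * v₂ * v₁) • x = x := by rw [mul_smul, mul_smul, h1, h2, h3]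
  have h5 : v₃ * v₂ * v₁ * d * (v₃ * v₂ * v₁)⁻¹ = d⁻¹ := by
    calc _ = v₃ * (v₂ * (v₁ * d * v₁⁻¹) * v₂⁻¹) * v₃⁻¹ := by group
      _ = _ := by rw [h1' d hx hy, ← conj_inv, h2' d hy hw, inv_inv, h3' d hw hx]
  obtain ⟨a, rfl⟩ := QuotientGroup.mk_surjective x
  obtain ⟨b, rfl⟩ := QuotientGroup.mk_surjective y
  rw [smul_mk_eq_iff] at h4 hx hy
  have := h.eq_one_of_inverts hz (g := a⁻¹ * b) (fun h' => hxy (QuotientGroup.eq.2 h')) h4
    (d := a⁻¹ * d * a) (mem_inf.2 ⟨hx, by rw [mem_cj]; simpa [mul_assoc] using hy⟩) (by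
      calc _ = a⁻¹ * (v₃ * v₂ * v₁ * d * (v₃ * v₂ * v₁)⁻¹) * a := by group
        _ = _ := by rw [h5]; group)
  simpa [mul_assoc, inv_mul_eq_one] using this

theorem two_le : 2 ≤ Nat.card {t : G // t ∈ MM z ∧ orderOf t = 2} := by
  obtain ⟨s, hs, hs2, hsz⟩ := h.toAC.exists_s hz
  refine (cnt_eq_two (p := fun t => t = s ∨ t = z) hsz fun _ => Iff.rfl).ge.trans (cnt_mono ?_)
  rintro x (rfl | rfl)
  · exact ⟨hs, hs2⟩
  · exact ⟨AC.self_mem, hz⟩

theorem card_points : Nat.card {y : G ⧸ HH z // y ≠ ((1 : G) : G ⧸ _)} ≤ Nat.card (MM z) := by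
  have h1 := cnt_mul_le (p := fun y : G ⧸ HH z => y ≠ ((1 : G) : G ⧸ _))
    (q := fun d : G => d ∈ HH z ∧ d ∉ MM z)
    (fun y d => d • y = y) (m := Nat.card {t : G // t ∈ MM z ∧ orderOf t = 2} - 1) (n := 1) (by
      intro y hy
      obtain ⟨g, rfl⟩ := QuotientGroup.mk_surjective y
      have hg : g ∉ HH z := fun h' => hy (QuotientGroup.eq.2 (by simpa using h'))
      have h2 := h.card_inf hz hg
      rw [← cnt_erase (p := fun x => x ∈ HH z ⊓ cj g (HH z)) (one_mem _)] at h2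
      refine le_trans (by omega) (cnt_mono (p := fun x => x ∈ HH z ⊓ cj g (HH z) ∧ x ≠ 1)
        fun d hd => ?_)
      exact ⟨⟨(mem_inf.1 hd.1).1, fun h' => hd.2 (h.eq_one_of_mem hz hg h' (mem_inf.1 hd.1).2)⟩,
        (smul_mk_eq_self_iff _ _).2 (mem_inf.1 hd.1).2⟩) (by
      intro d hd
      refine Finite.card_le_one_iff_subsingleton.2 ⟨fun y w => Subtype.ext ?_⟩
      by_contra hne
      refine hd.2 ?_
      rw [h.eq_one_of_fix hz y.2.1.symm w.2.1.symm hne (smul_one_iff.2 hd.1) y.2.2 w.2.2]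
      exact one_mem _)
  have h2 := cnt_split (fun d : G => d ∈ HH z) (fun d => d ∈ MM z)
  rw [cnt_congr (p := fun d => d ∈ HH z ∧ d ∈ MM z)
    (q := fun d => d ∈ MM z) fun d => ⟨And.right, fun h => ⟨le_normalizer h, h⟩⟩,
    h.card_normalizer hz] at h2
  have h3 := h.two_le hz
  obtain ⟨q, hq⟩ : ∃ q, Nat.card {t : G // t ∈ MM z ∧ orderOf t = 2} = q + 1 :=
    ⟨Nat.card {t : G // t ∈ MM z ∧ orderOf t = 2} - 1, by omega⟩
  rw [hq] at h1 h2 h3
  simp only [Nat.add_sub_cancel] at h1 h2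
  refine Nat.le_of_mul_le_mul_right (c := q) ?_ (by omega)
  nlinarith

theorem regular {x y : G ⧸ HH z} (hx : x ≠ ((1 : G) : G ⧸ _)) (hy : y ≠ ((1 : G) : G ⧸ _)) :
    ∃! t : G, t ∈ MM z ∧ t • x = y := by
  have hinj : ∀ s t : G, s ∈ MM z → t ∈ MM z → s • x = t • x → s = t := by
    intro s t hs ht he
    obtain ⟨g, rfl⟩ := QuotientGroup.mk_surjective x
    refine (inv_mul_eq_one.1 (h.eq_one_of_mem hz (g := g) (fun h' => hx (QuotientGroup.eq.2
      (by simpa using h'))) (mul_mem (inv_mem ht) hs) ((smul_mk_eq_self_iff _ _).1 ?_))).symm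
    rw [mul_smul, he, inv_smul_smul]
  obtain ⟨t, ht, h1⟩ := surj_of_card (p := fun t => t ∈ MM z)
    (q := fun y => y ≠ ((1 : G) : G ⧸ _)) (fun t => t • x)
    (fun t ht => smul_ne (smul_one_iff.2 (le_normalizer ht)) hx) hinj (h.card_points hz) y hy
  exact ⟨t, ⟨ht, h1⟩, fun s hs => hinj s t hs.1 ht (hs.2.trans h1.symm)⟩

end TI

end Cfsg.Agent.Perm.Ac
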