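import Cfsg.Agent.Lib.Perm.Ac1

/-!
Groups all of whose involution centralizers are abelian, II.
-/

set_option autoImplicit false
set_option linter.unusedSectionVars false
set_option linter.style.haveILetI false

namespace Cfsg.Agent.Perm.Ac

open Subgroup Cfsg.Agent.Transfer Cfsg.Agent.Transfer.ElemC
open scoped commutatorElement

variable {G : Type*} [Group G] [Finite G]

theorem mk_ne_one {H : Subgroup G} {g : G} : (g : G ⧸ H) ≠ ((1 : G) : G ⧸ H) ↔ g ∉ H := by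
  rw [Ne, QuotientGroup.eq, mul_one, inv_mem_iff]

theorem orderOf_mul_eq_two {a b : G} (ha : orderOf a = 2) (hb : orderOf b = 2) (hab : a ≠ b)
    (hc : Commute a b) : orderOf (a * b) = 2 :=
  orderOf_eq_two (by
    rw [hc.symm.mul_mul_mul_comm, mul_self_of_orderOf ha, mul_self_of_orderOf hb, one_mul])
    fun h' => hab (by
      rw [eq_inv_of_mul_eq_one_left h', inv_eq_of_mul_eq_one_right (mul_self_of_orderOf hb)])

theorem eq_of_isCyclic {T : Subgroup G} (hT : IsCyclic T) {x y : G} (hx : x ∈ T) (hy : y ∈ T)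
    (hx2 : orderOf x = 2) (hy2 : orderOf y = 2) : x = y := by
  classical
  letI := Fintype.ofFinite T
  by_contra h
  have h1 := IsCyclic.card_pow_eq_one_le (α := T) (n := 2) (by norm_num)
  have h2 : ({1, ⟨x, hx⟩, ⟨y, hy⟩} : Finset T) ⊆ Finset.univ.filter fun a => a ^ 2 = 1 := by
    intro z hz
    simp only [Finset.mem_insert, Finset.mem_singleton] at hz
    rcases hz with rfl | rfl | rfl
    · simp
    · simp [Subtype.ext_iff, ← hx2]
    · simp [Subtype.ext_iff, ← hy2]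
  have h3 := Finset.card_le_card h2
  rw [Finset.card_eq_three.2 ⟨1, ⟨x, hx⟩, ⟨y, hy⟩,
    fun e => ne_one_of_orderOf hx2 (congrArg Subtype.val e).symm,
    fun e => ne_one_of_orderOf hy2 (congrArg Subtype.val e).symm,
    fun e => h (congrArg Subtype.val e), rfl⟩] at h3
  omega

namespace TI

variable (h : TI G) {z : G} (hz : orderOf z = 2)
include h hz

theorem zass : IsZassenhausGroup G (G ⧸ HH z) := by
  obtain ⟨u, hu2, hu⟩ := se_exists_invol_notMem (h.se hz)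
  have hu' := mk_ne_one.2 hu
  have hz1 : z • ((1 : G) : G ⧸ HH z) = (1 : G) := smul_one_iff.2 (le_normalizer AC.self_mem)
  refine ⟨⟨fun {a b} hab => ?_⟩, two_trans_iff.2 fun a b c d hab hcd => ?_,
    fun g a b c hab hbc hac => h.eq_one_of_fix hz hab hac hbc, ?_, fun N hN htr => ?_⟩
  · have h1 : ∀ x : G ⧸ HH z, (b⁻¹ * a) • x = x := fun x => by rw [mul_smul, hab, inv_smul_smul]
    refine (inv_mul_eq_one.1 (h.eq_one_of_fix hz hu'.symm (smul_ne hz1 hu').symm (fun e => ?_)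
      (h1 _) (h1 _) (h1 _))).symm
    exact ne_one_of_orderOf hz (h.eq_one_of_mem hz hu AC.self_mem
      ((smul_mk_eq_self_iff _ _).1 e.symm))
  · obtain ⟨g, hg⟩ := MulAction.exists_smul_eq G a ((1 : G) : G ⧸ HH z)
    obtain ⟨k, hk⟩ := MulAction.exists_smul_eq G c ((1 : G) : G ⧸ HH z)
    obtain ⟨t, ⟨ht, h1⟩, -⟩ := h.regular hz (x := g • b) (y := k • d)
      (fun e => hab (smul_left_cancel g (hg.trans e.symm)))
      (fun e => hcd (smul_left_cancel k (hk.trans e.symm)))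
    refine ⟨k⁻¹ * t * g, ?_, ?_⟩
    · rw [mul_smul, mul_smul, hg, smul_one_iff.2 (le_normalizer ht), ← hk, inv_smul_smul]
    · rw [mul_smul, mul_smul, h1, inv_smul_smul]
  · obtain ⟨s, hs, hs2, hsz⟩ := h.toAC.exists_s hz
    obtain ⟨d, hd, -, h1⟩ := h.exists_conj hz hu2 hu hs hs2
    exact ⟨d, fun e => hsz (by rw [← h1, e]; simp), _, _, hu'.symm, smul_one_iff.2 (mem_inf.1 hd).1,
      (smul_mk_eq_self_iff _ _).2 (mem_inf.1 hd).2⟩
  · obtain ⟨s, hs, hs2, hsz⟩ := h.toAC.exists_s hz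
    obtain ⟨n, hn⟩ := htr.1 ((1 : G) : G ⧸ HH z) u
    have hn' : (n : G) ∉ HH z := fun e => hu' (hn.symm.trans (smul_one_iff.2 e))
    have h1 := se_odd (h.se hz) (le_normalizer AC.self_mem) hz (u := n * s * (n : G)⁻¹)
      (fun e => hn' (se_mem (h.se hz) (le_normalizer hs) hs2 e)) (by rw [orderOf_conj, hs2])
    have h2 := orderOf_mul_eq_two hz hs2 hsz.symm (mem_MM.1 hs).symm
    have h3 : ((z * (n * s * (n : G)⁻¹) : G) : G ⧸ N) = (z * s : G) := by
      simp [(QuotientGroup.eq_one_iff (n : G)).2 n.2]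
    have h4 : ((z * s : G) : G ⧸ N) = 1 := by
      refine eq_one_of_odd_of_mul_self ?_ (by
        rw [← QuotientGroup.mk_mul, mul_self_of_orderOf h2, QuotientGroup.mk_one])
      rw [← h3]
      exact h1.of_dvd_nat (orderOf_map_dvd (QuotientGroup.mk' N) _)
    refine ⟨((1 : G) : G ⧸ HH z), fun e => ne_one_of_orderOf h2 ?_⟩
    have h5 : (⟨z * s, (QuotientGroup.eq_one_iff _).1 h4⟩ : N) ∈ (⊥ : Subgroup N) := by
      rw [← e]
      exact smul_one_iff.2 (le_normalizer (mul_mem AC.self_mem hs))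
    exact congrArg Subtype.val (mem_bot.1 h5)

theorem mul_self {x : G} (hx : x ∈ MM z) : x * x = 1 := by
  obtain ⟨u, hu2, hu⟩ := se_exists_invol_notMem (h.se hz)
  have hu' := mk_ne_one.2 hu
  have hK : Zass.ZK G ((1 : G) : G ⧸ HH z) (MM z) := Zass.zk_of_regular (h.zass hz)
    (fun t ht => smul_one_iff.2 (le_normalizer ht)) fun y w hy hw => by
      obtain ⟨t, ⟨ht, h1⟩, h2⟩ := h.regular hz hy hw
      exact ⟨⟨t, ht⟩, h1, fun s hs => Subtype.ext (h2 s ⟨s.2, hs⟩)⟩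
  have h1 := hK.le_of_comm hu'.symm ⟨⟨fun a b => Subtype.ext (h.toAC.comm hz a.2 b.2)⟩⟩
  have h2 : Zass.E G ((1 : G) : G ⧸ HH z) u = HH z ⊓ cj u (HH z) := by
    ext g; rw [Zass.mem_E, smul_one_iff, smul_mk_eq_self_iff, mem_inf]
  rw [h2, h.card_inf hz hu, ← hK.card] at h1
  let W : Subgroup G :=
    { carrier := {y | y ∈ MM z ∧ y * y = 1}
      one_mem' := ⟨one_mem _, mul_one _⟩
      mul_mem' := fun {a b} ha hb => ⟨mul_mem ha.1 hb.1, by
        rw [(h.toAC.comm hz hb.1 ha.1).mul_mul_mul_comm, ha.2, hb.2, mul_one]⟩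
      inv_mem' := fun {a} ha => ⟨inv_mem ha.1, by rw [← mul_inv_rev, ha.2, inv_one]⟩ }
  have h3 : W ≤ MM z := fun y hy => hy.1
  have h4 : Nat.card {t : G // t ∈ MM z ∧ orderOf t = 2} + 1 = Nat.card W := by
    rw [← cnt_erase (p := fun y => y ∈ W) (one_mem _)]
    congr 1
    exact cnt_congr fun y => ⟨fun hy => ⟨⟨hy.1, mul_self_of_orderOf hy.2⟩, ne_one_of_orderOf hy.2⟩,
      fun hy => ⟨hy.1.1, orderOf_eq_two hy.1.2 hy.2⟩⟩
  obtain ⟨k, hk⟩ := card_dvd_of_le h3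
  have h5 : 0 < Nat.card (MM z) := Nat.card_pos
  have h6 : k = 1 := by
    rcases k with _ | _ | k
    · omega
    · rfl
    · exfalso; rw [hk, ← h4] at h1
      have : (Nat.card {t : G // t ∈ MM z ∧ orderOf t = 2} + 1) * (k + 1 + 1) =
        2 * Nat.card {t : G // t ∈ MM z ∧ orderOf t = 2} + 2 +
          (Nat.card {t : G // t ∈ MM z ∧ orderOf t = 2} + 1) * k := by ring
      omega
  have h7 : W = MM z := eq_of_le_of_card_ge h3 (by rw [hk, h6, mul_one])
  exact (show x ∈ W from h7 ▸ hx).2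

omit hz in
theorem exists_psl : ∃ (F : Type) (_ : Field F) (_ : Fintype F), 2 < Fintype.card F ∧ (2 : F) = 0 ∧
    Nonempty (G ≃* Matrix.ProjectiveSpecialLinearGroup (Fin 2) F) := by
  obtain ⟨z, -, hz, -⟩ := h.hu
  obtain ⟨s, hs, hs2, hsz⟩ := h.toAC.exists_s hz
  have hp : ∀ t : G, orderOf t = 2 → IsPGroup 2 (MM t) := fun t ht =>
    isPGroup_of_forall_mem fun x hx => ⟨1, by rw [pow_one, pow_two]; exact h.mul_self ht hx⟩
  obtain ⟨T, hT⟩ := (hp z hz).exists_le_sylow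
  have hE : ElemC T := by
    refine ⟨fun hc => hsz ?_, fun hn => ?_, fun t ht =>
      ⟨⟨⟨fun a b => Subtype.ext (h.toAC.comm ht a.2 b.2)⟩⟩, fun c hc => by
        rw [pow_two]; exact h.mul_self ht hc⟩⟩
    · exact eq_of_isCyclic hc (hT hs) (hT AC.self_mem) hs2 hz
    · obtain ⟨w, hw, hw2, h1⟩ := exists_central_invol T.2 (fun e => ne_one_of_orderOf hz
        (mem_bot.1 (e ▸ hT AC.self_mem)))
      obtain ⟨u, hu2, hu⟩ := h.toAC.exists_u hw2
      exact hu (h1 (mem_of_invol (by rw [normalizer_eq_top_iff.2 hn]; trivial) (mul_self_of_orderOf hu2)))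
  obtain ⟨F, _, _, h1, h2, h3⟩ := hE.exists_psl
  exact ⟨F, _, _, h1 ▸ hE.two_lt, h2, h3⟩

omit hz in
/-- No subgroup of odd order is transitive on the involutions. -/
theorem not_trans {E : Subgroup G} (hE : Odd (Nat.card E))
    (htr : ∀ s t : G, orderOf s = 2 → orderOf t = 2 → ∃ e ∈ E, e * s * e⁻¹ = t) : False := by
  obtain ⟨z, -, hz, -⟩ := h.hu
  obtain ⟨s, hs, hs2, hsz⟩ := h.toAC.exists_s hz
  obtain ⟨u, hu2, hu⟩ := se_exists_invol_notMem (h.se hz)
  have hu' := mk_ne_one.2 hu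
  have hEM : ∀ x ∈ E, x ∈ MM z → x = 1 := fun x hx hx' =>
    eq_one_of_odd_of_mul_self (odd_orderOf_of_mem hE hx) (h.mul_self hz hx')
  have hcomm : ∀ a ∈ E, a ∈ HH z → ∀ b ∈ E, b ∈ HH z → Commute a b := by
    intro a ha ha' b hb hb'
    rw [← commutatorElement_eq_one_iff_commute]
    refine hEM _ (by
      rw [commutatorElement_def]; exact mul_mem (mul_mem (mul_mem ha hb) (inv_mem ha)) (inv_mem hb)) ?_
    obtain ⟨d, hd, t, ht, rfl⟩ := h.exists_mul hz hu2 hu ha'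
    obtain ⟨e, he, r, hr, rfl⟩ := h.exists_mul hz hu2 hu hb'
    have h1 := (h.commute_of_mem hz hu2 hu hd he).eq
    have : ⁅d * t, e * r⁆ = d * t * d⁻¹ * ((d * e) * (r * t⁻¹) * (d * e)⁻¹) * (e * r⁻¹ * e⁻¹) := by
      rw [commutatorElement_def]
      calc _ = d * t * d⁻¹ * ((d * e) * (r * t⁻¹) * (e * d)⁻¹) * (e * r⁻¹ * e⁻¹) := by group
        _ = _ := by rw [← h1]
    rw [this]
    exact mul_mem (mul_mem (conj_mem_of_mem_normalizer (mem_inf.1 hd).1 ht)
      (conj_mem_of_mem_normalizer (mul_mem (mem_inf.1 hd).1 (mem_inf.1 he).1)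
        (mul_mem hr (inv_mem ht)))) (conj_mem_of_mem_normalizer (mem_inf.1 he).1 (inv_mem hr))
  obtain ⟨e, he, h1⟩ := htr z s hz hs2
  have he' : e ∈ HH z := se_mem (h.se hz) (le_normalizer AC.self_mem) hz (h1 ▸ le_normalizer hs)
  have he1 : e ≠ 1 := fun e' => hsz (by rw [← h1, e']; simp)
  have heo := smul_one_iff.2 he'
  obtain ⟨β, hβ, hβe⟩ : ∃ β : G ⧸ HH z, β ≠ ((1 : G) : G ⧸ _) ∧ e • β = β := by
    obtain ⟨m₀, ⟨hm₀, h2⟩, -⟩ := h.regular hz hu' (smul_ne heo hu')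
    obtain ⟨m, hm, h3⟩ := surj_of_card (p := fun t => t ∈ MM z) (q := fun t => t ∈ MM z)
      (fun m => (e * m * e⁻¹)⁻¹ * m)
      (fun m hm => mul_mem (inv_mem (conj_mem_of_mem_normalizer he' hm)) hm) (by
        intro m n hm hn hmn
        by_contra hne
        have h4 : m * n⁻¹ ≠ 1 := fun e' => hne (mul_inv_eq_one.1 e')
        have h5 := mul_mem hm (inv_mem hn)
        refine he1 (hEM e he ?_)
        rw [← h.toAC.MM_eq hz (orderOf_eq_two (h.mul_self hz h5) h4) h5, mem_MM, commute_iff_conj]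
        calc _ = (e * m * e⁻¹) * ((e * n * e⁻¹)⁻¹ * n) * n⁻¹ := by group
          _ = _ := by rw [← hmn]; group) le_rfl m₀ hm₀
    refine ⟨m • (u : G ⧸ HH z), smul_ne (smul_one_iff.2 (le_normalizer hm)) hu', ?_⟩
    calc e • m • (u : G ⧸ HH z) = (e * m * e⁻¹) • e • (u : G ⧸ HH z) := by
          rw [← mul_smul, ← mul_smul]; congr 1; group
      _ = _ := by rw [← h2, ← h3, ← mul_smul]; congr 1; group
  have hfix : ∀ a ∈ E, a ∈ HH z → a • β = β := by
    intro a ha ha'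
    by_contra hne
    exact he1 (h.eq_one_of_fix hz hβ.symm (smul_ne (smul_one_iff.2 ha') hβ).symm (Ne.symm hne) heo hβe
      (by rw [← mul_smul, (hcomm e he he' a ha ha').eq, mul_smul, hβe]))
  obtain ⟨b, rfl⟩ := QuotientGroup.mk_surjective β
  obtain ⟨g, hg, h2⟩ := htr z (b * z * b⁻¹) hz (by rw [orderOf_conj, hz])
  have h3 : g • ((1 : G) : G ⧸ HH z) = b := by
    rw [smul_mk_eq_iff, mul_one]
    exact le_normalizer (mem_MM.2 (conj_eq_conj_iff.1 h2))
  have h4 : (g⁻¹ * e * g) • ((1 : G) : G ⧸ HH z) = (1 : G) := by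
    rw [mul_smul, mul_smul, h3, hβe, ← h3, inv_smul_smul]
  have h5 := hfix _ (mul_mem (mul_mem (inv_mem hg) he) hg) (smul_one_iff.1 h4)
  have h6 : g⁻¹ • ((1 : G) : G ⧸ HH z) = b := by
    by_contra hne
    refine he1 ?_
    have := h.eq_one_of_fix hz hβ.symm (w := g⁻¹ • ((1 : G) : G ⧸ HH z)) (fun e' => hβ (by
      rw [← h3]; nth_rewrite 1 [e']; rw [smul_inv_smul])) (Ne.symm hne) h4 h5 (by
        rw [mul_smul, mul_smul, smul_inv_smul, heo])
    simpa [mul_assoc, inv_mul_eq_one] using this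
  have h7 : (g * g) • ((1 : G) : G ⧸ HH z) = (1 : G) := by
    rw [mul_smul, h3, ← h6, smul_inv_smul]
  obtain ⟨k, hk⟩ := odd_orderOf_of_mem hE hg
  have h8 : g = ((g * g) ^ k)⁻¹ := by
    rw [← pow_two, ← pow_mul]
    exact eq_inv_of_mul_eq_one_right (by rw [← pow_succ, ← hk, pow_orderOf_eq_one])
  refine hβ (h3.symm.trans (smul_one_iff.2 ?_))
  rw [h8]
  exact inv_mem (pow_mem (smul_one_iff.1 h7) k)

end TI

end Cfsg.Agent.Perm.Ac
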