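/-
Doubly transitive groups of degree `2 mod 4`: normal subgroups are doubly transitive.
-/
import Mathlib
import Cfsg.Agent.Lib.Perm.Prim
import Cfsg.Agent.Lib.Comp.SylIn

set_option autoImplicit false

namespace Cfsg.Agent.Perm.Asc

open MulAction Equiv Subgroup Cfsg.Agent.Comp

theorem card_le_two {F : Type*} [Fintype F] [DecidableEq F] (Y M : Subgroup (Perm F))
    (hY : ∀ a b c d : F, a ≠ b → c ≠ d → ∃ g ∈ Y, g a = c ∧ g b = d)
    (hn : ∀ g ∈ Y, ∀ m ∈ M, g * m * g⁻¹ ∈ M) (hM : ∀ x y : F, ∃ m ∈ M, m x = y)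
    (hF : Fintype.card F % 4 = 2) (hinv : ∀ m ∈ M, m ^ 2 = 1 → ∀ x, m x = x → m = 1) :
    Fintype.card F ≤ 2 := by
  have hK : ∀ k ∈ M, Perm.sign k = 1 → k = 1 := by
    intro k hk hs
    by_contra hne
    obtain ⟨x, hx⟩ : ∃ x, k x ≠ x := by
      by_contra h
      push Not at h
      exact hne (Equiv.ext h)
    set K : Subgroup (Perm F) := M ⊓ alternatingGroup F with hKd
    have ht : IsPretransitive K F := by
      have h1 : ∀ y, ∃ g : K, g • x = y := by
        intro y
        by_cases hy : y = x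
        · exact ⟨1, by rw [one_smul, hy]⟩
        obtain ⟨g, hg, h1, h2⟩ := hY x (k x) x y hx.symm (Ne.symm hy)
        refine ⟨⟨g * k * g⁻¹, hn g hg k hk, ?_⟩, ?_⟩
        · show Perm.sign (g * k * g⁻¹) = 1
          simp [hs]
        · show (g * k * g⁻¹) x = y
          have : g⁻¹ x = x := by rw [Perm.inv_eq_iff_eq]; exact h1.symm
          rw [Perm.mul_apply, Perm.mul_apply, this, h2]
      refine ⟨fun a b => ?_⟩
      obtain ⟨g, rfl⟩ := h1 a
      obtain ⟨h, rfl⟩ := h1 b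
      exact ⟨h * g⁻¹, by rw [mul_smul, inv_smul_smul]⟩
    have h2 : 2 ∣ Nat.card K := by
      rw [card_eq_mul_stab (G := K) x, Nat.card_eq_fintype_card]
      exact Dvd.dvd.mul_right (by omega) _
    obtain ⟨s, hs2⟩ := exists_prime_orderOf_dvd_card' 2 h2
    have hs1 : (s : Perm F) ^ 2 = 1 := by
      have := pow_orderOf_eq_one s
      rw [hs2] at this
      exact congrArg Subtype.val this
    have hs0 : (s : Perm F) ≠ 1 := by
      intro h
      have : s = 1 := Subtype.ext h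
      rw [this, orderOf_one] at hs2
      omega
    have h3 := Perm.sign_of_pow_two_eq_one hs1
    have h4 : Fintype.card (Function.fixedPoints (s : Perm F)) = 0 := by
      rw [Fintype.card_eq_zero_iff]
      exact ⟨fun z => hs0 (hinv _ s.2.1 hs1 z.1 z.2)⟩
    have h5 : Perm.sign (s : Perm F) = 1 := s.2.2
    rw [h4, h5, Odd.neg_one_pow (by rw [Nat.odd_iff]; omega)] at h3
    exact absurd h3 (by decide)
  have h1 : Nat.card M ≤ 2 := by
    have : Nat.card M ≤ Nat.card ℤˣ := Nat.card_le_card_of_injective (fun m : M => Perm.sign (m : Perm F)) (by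
      intro a b h
      have h' : Perm.sign (a : Perm F) = Perm.sign (b : Perm F) := h
      have := hK ((a : Perm F) * (b : Perm F)⁻¹) (M.mul_mem a.2 (M.inv_mem b.2)) (by
        rw [Perm.sign_mul, Perm.sign_inv, h', Int.units_mul_self])
      exact Subtype.ext (mul_inv_eq_one.1 this))
    simpa using this
  obtain ⟨x⟩ : Nonempty F := Fintype.card_pos_iff.1 (by omega)
  have h2 : Nat.card F ≤ Nat.card M := Nat.card_le_card_of_surjective (fun m : M => (m : Perm F) x) (by
    intro y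
    obtain ⟨m, hm, e⟩ := hM x y
    exact ⟨⟨m, hm⟩, e⟩)
  rw [Nat.card_eq_fintype_card] at h2
  omega

variable {G : Type*} [Group G] {Ω : Type*} [MulAction G Ω]

/-- The fixed points of `T`, under the normalizer of `T`. -/
def fx (T : Subgroup G) : SubMulAction (normalizer (T : Set G)) Ω where
  carrier := {x | ∀ t ∈ T, t • x = x}
  smul_mem' := by
    intro g x hx t ht
    show t • (g : G) • x = (g : G) • x
    have := hx _ (conj_mem_of_mem_normalizer' g.2 ht)
    rw [mul_smul, mul_smul, inv_smul_eq_iff] at this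
    exact this

theorem cj_le_stab {T N : Subgroup G} [hN : N.Normal] (h : T ≤ N) {x : Ω} (hx : ∀ t ∈ T, t • x = x) (g : G) :
    cj(g, T) ≤ N ⊓ stabilizer G (g • x) := by
  rw [cj_le_iff']
  intro t ht
  refine ⟨hN.conj_mem _ (h ht) _, ?_⟩
  show (g * t * g⁻¹) • g • x = g • x
  rw [mul_smul, mul_smul, inv_smul_smul, hx t ht]

theorem two_of_normal [Finite G] [Fintype Ω]
    (h2 : ∀ a b c d : Ω, a ≠ b → c ≠ d → ∃ g : G, g • a = c ∧ g • b = d)
    (hn : Fintype.card Ω % 4 = 2) (N : Subgroup G) [hN : N.Normal] (ht : ∀ a b : Ω, ∃ n ∈ N, n • a = b) :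
    IsMultiplyPretransitive N Ω 2 := by
  classical
  have : Fact (Nat.Prime 2) := ⟨Nat.prime_two⟩
  obtain ⟨a⟩ : Nonempty Ω := Fintype.card_pos_iff.1 (by omega)
  obtain ⟨T, hT⟩ := exists_sylIn 2 (N ⊓ stabilizer G a)
  have hTN : T ≤ N := hT.le.trans inf_le_left
  have hTa : ∀ t ∈ T, t • a = a := fun t h => (hT.le h).2
  have hpt : IsPretransitive N Ω := ⟨fun x y => by
    obtain ⟨n, h, e⟩ := ht x y
    exact ⟨⟨n, h⟩, e⟩⟩
  -- the fixed points
  have hFe : Nat.card Ω ≡ Nat.card (fx (Ω := Ω) T) [MOD 2] := by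
    have := hT.isP.card_modEq_card_fixedPoints Ω
    refine this.trans ?_
    rw [Nat.card_congr (Equiv.subtypeEquivRight (p := fun x => x ∈ fixedPoints T Ω) (q := fun x => x ∈ fx (Ω := Ω) T)
      (fun x => ⟨fun h t ht => h ⟨t, ht⟩, fun h t => h t.1 t.2⟩))]
  -- conjugates of `T` inside the stabilizer
  have hcj : ∀ (g : G) (x : Ω), (∀ t ∈ T, t • x = x) → g • x = a → SylIn 2 cj(g, T) (N ⊓ stabilizer G a) := by
    intro g x hx hg
    refine hT.of_card_le (isPGroup_cj_iff.2 hT.isP) ?_ (card_cj _ _).ge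
    rw [← hg]
    exact cj_le_stab hTN hx g
  have hM : ∀ x : Ω, (∀ t ∈ T, t • x = x) → ∃ m ∈ N, m ∈ normalizer (T : Set G) ∧ m • x = a := by
    intro x hx
    obtain ⟨n, h, e⟩ := ht x a
    obtain ⟨k, hk, e2⟩ := (hcj n x hx e).exists_cj_eq hT
    refine ⟨k * n, N.mul_mem hk.1 h, cj_eq_self_iff.1 (by rw [cj_mul, e2]), ?_⟩
    rw [mul_smul, e]; exact hk.2
  have hY : ∀ x y c : Ω, (∀ t ∈ T, t • x = x) → (∀ t ∈ T, t • y = y) → (∀ t ∈ T, t • c = c) → x ≠ y → a ≠ c →
      ∃ g ∈ normalizer (T : Set G), g • x = a ∧ g • y = c := by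
    intro x y c hx hy hc hxy hac
    obtain ⟨g, e1, e2⟩ := h2 x y a c hxy hac
    have h1 : SylIn 2 T ((N ⊓ stabilizer G a) ⊓ stabilizer G c) :=
      hT.of_le (le_inf hT.le fun t h => hc t h) inf_le_left
    have h3 : SylIn 2 cj(g, T) ((N ⊓ stabilizer G a) ⊓ stabilizer G c) :=
      (hcj g x hx e1).of_le (le_inf (hcj g x hx e1).le (by
        rw [← e2]; exact (cj_le_stab hTN hy g).trans inf_le_right)) inf_le_left
    obtain ⟨k, hk, e3⟩ := h3.exists_cj_eq h1
    refine ⟨k * g, cj_eq_self_iff.1 (by rw [cj_mul, e3]), ?_, ?_⟩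
    · rw [mul_smul, e1]; exact hk.1.2
    · rw [mul_smul, e2]; exact hk.2
  let φ := toPermHom (normalizer (T : Set G)) (fx (Ω := Ω) T)
  let M : Subgroup (normalizer (T : Set G)) := N.subgroupOf _
  let a' : fx (Ω := Ω) T := ⟨a, hTa⟩
  have hMt : IsPretransitive M (fx (Ω := Ω) T) := ⟨fun x y => by
    obtain ⟨m, h1, h3, e⟩ := hM x.1 x.2
    obtain ⟨k, h4, h5, e'⟩ := hM y.1 y.2
    refine ⟨⟨⟨k⁻¹ * m, mul_mem (inv_mem h5) h3⟩, N.mul_mem (N.inv_mem h4) h1⟩, Subtype.ext ?_⟩
    show (k⁻¹ * m) • x.1 = y.1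
    rw [mul_smul, e, inv_smul_eq_iff, e']⟩
  have hF4 : Fintype.card (fx (Ω := Ω) T) % 4 = 2 := by
    have h1 := card_eq_mul_stab (G := M) a'
    have h3 := card_eq_mul_stab (G := N) a
    have h4 : Nat.card M ∣ Nat.card N := by
      rw [← card_map_subtype M]
      exact card_dvd_of_le (by rw [subgroupOf_map_subtype]; exact inf_le_left)
    have h5 : Nat.card T ∣ Nat.card (stabilizer M a') := by
      refine card_dvd_of_injective (H := stabilizer M a') (
        { toFun := fun t : T => ⟨⟨⟨t.1, le_normalizer t.2⟩, hTN t.2⟩, Subtype.ext (hTa _ t.2)⟩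
          map_one' := rfl
          map_mul' := fun _ _ => rfl }) ?_
      intro s t h
      exact Subtype.ext (congrArg (fun z : stabilizer M a' => (z.1.1 : G)) h)
    have h6 : Nat.card (stabilizer N a) = Nat.card (N ⊓ stabilizer G a : Subgroup G) := by
      rw [← card_map_subtype]
      congr 2
      ext g
      constructor
      · rintro ⟨k, hk, rfl⟩
        exact ⟨k.2, hk⟩
      · rintro ⟨h1, h2⟩
        exact ⟨⟨g, h1⟩, h2, rfl⟩
    have h7 := relIndex_mul_card hT.le
    have h8 := hT.not_dvd_relIndex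
    rw [Nat.card_eq_fintype_card, Nat.card_eq_fintype_card, Nat.ModEq] at hFe
    by_contra h9
    have h10 : 4 ∣ Nat.card (fx (Ω := Ω) T) := by rw [Nat.card_eq_fintype_card]; omega
    have h11 : 4 * Nat.card T ∣ Nat.card N := (h1 ▸ mul_dvd_mul h10 h5).trans h4
    rw [h3, h6, ← h7, ← mul_assoc] at h11
    have h12 := Nat.dvd_of_mul_dvd_mul_right Nat.card_pos h11
    have h13 : Nat.Coprime 4 (T.relIndex (N ⊓ stabilizer G a)) :=
      Nat.Coprime.pow_left 2 ((Nat.Prime.coprime_iff_not_dvd Nat.prime_two).2 h8)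
    have h14 := h13.dvd_of_dvd_mul_right h12
    rw [Nat.card_eq_fintype_card] at h14
    omega
  have hle := card_le_two φ.range (M.map φ) (by
      intro x y c d hxy hcd
      have : ∃ b : fx (Ω := Ω) T, a ≠ b.1 := by
        by_cases h : a = x.1
        · exact ⟨y, fun e => hxy (Subtype.ext (h.symm.trans e))⟩
        · exact ⟨x, h⟩
      obtain ⟨b, hb⟩ := this
      obtain ⟨g, hg, e1, e2⟩ := hY x.1 y.1 b.1 x.2 y.2 b.2 (fun e => hxy (Subtype.ext e)) hb
      obtain ⟨k, hk, e3, e4⟩ := hY c.1 d.1 b.1 c.2 d.2 b.2 (fun e => hcd (Subtype.ext e)) hb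
      refine ⟨φ ⟨k⁻¹ * g, mul_mem (inv_mem hk) hg⟩, ⟨_, rfl⟩, Subtype.ext ?_, Subtype.ext ?_⟩
      · show (k⁻¹ * g) • x.1 = c.1
        rw [mul_smul, e1, inv_smul_eq_iff, e3]
      · show (k⁻¹ * g) • y.1 = d.1
        rw [mul_smul, e2, inv_smul_eq_iff, e4])
    (by
      rintro _ ⟨g, rfl⟩ _ ⟨m, hm, rfl⟩
      exact ⟨g * m * g⁻¹, hN.conj_mem _ hm _, by simp⟩)
    (by
      intro x y
      obtain ⟨m, e⟩ := hMt.exists_smul_eq x y
      exact ⟨φ m, ⟨m, m.2, rfl⟩, e⟩)
    hF4
    (by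
      rintro _ ⟨m, hm, rfl⟩ hm2 x hx
      obtain ⟨k, h1, h3, e⟩ := hM x.1 x.2
      have hx' : (m : G) • x.1 = x.1 := congrArg Subtype.val hx
      -- the conjugate `m'` of `m` fixes `a` and normalizes `T`
      set m' : G := k * m * k⁻¹ with hm'
      have h4 : m' ∈ normalizer (T : Set G) := mul_mem (mul_mem h3 m.2) (inv_mem h3)
      have h5 : m' ∈ N ⊓ stabilizer G a := ⟨hN.conj_mem _ hm _, by
        show (k * m * k⁻¹) • a = a
        rw [mul_smul, mul_smul, inv_smul_eq_iff.2 e.symm, hx', e]⟩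
      set L : Subgroup G := (N ⊓ stabilizer G a) ⊓ normalizer (T : Set G) with hL
      have h6 : SylIn 2 T L := hT.of_le (le_inf hT.le le_normalizer) inf_le_left
      have h7 : (T.subgroupOf L).Normal := (normal_subgroupOf_iff_le_normalizer h6.le).2 inf_le_right
      have h8 : (⟨m', h5, h4⟩ : L) ^ (T.relIndex L) ∈ T.subgroupOf L := Subgroup.pow_index_mem _ _
      have h9 : m' ^ (T.relIndex L) ∈ T := h8
      have h10 : (m : G) ^ (T.relIndex L) ∈ T := by
        have := conj_mem_of_mem_normalizer' h3 h9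
        rwa [hm', conj_pow, show k⁻¹ * (k * (m : G) ^ T.relIndex L * k⁻¹) * k = (m : G) ^ T.relIndex L by group] at this
      have h11 : φ m ^ (T.relIndex L) = 1 := by
        rw [← map_pow]
        ext y
        exact y.2 _ h10
      obtain ⟨j, hj⟩ : Odd (T.relIndex L) := by
        have := h6.not_dvd_relIndex
        rw [Nat.odd_iff]; omega
      rwa [hj, pow_succ, pow_mul, hm2, one_pow, one_mul] at h11)
  -- the second fixed point
  obtain ⟨c, hc⟩ : ∃ c : fx (Ω := Ω) T, c ≠ a' := by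
    by_contra h
    push Not at h
    have : Fintype.card (fx (Ω := Ω) T) ≤ 1 := Fintype.card_le_one_iff.2 fun x y => (h x).trans (h y).symm
    omega
  have hall : ∀ x : fx (Ω := Ω) T, x ≠ a' → x = c := by
    intro x hx
    by_contra h
    have : 2 < Fintype.card (fx (Ω := Ω) T) := Fintype.two_lt_card_iff.2 ⟨x, c, a', h, hx, hc⟩
    omega
  have hca : c.1 ≠ a := fun e => hc (Subtype.ext e)
  have hb : ∀ b, b ≠ a → ∃ k ∈ N, k • a = a ∧ k • b = c.1 := by
    intro b hb
    obtain ⟨g, e1, e2⟩ := h2 a c.1 a b hca.symm hb.symm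
    obtain ⟨k, hk, e3⟩ := (hcj g a hTa e1).exists_cj_eq hT
    refine ⟨k, hk.1, hk.2, ?_⟩
    have h1 : ∀ t ∈ T, t • k • b = k • b := by
      intro t h
      rw [← e3, ← cj_mul] at h
      have := (cj_le_stab hTN c.2 (k * g) h).2
      rwa [mul_smul, e2] at this
    exact congrArg Subtype.val (hall ⟨k • b, h1⟩ fun e => hb (by
      have e' : k • b = a := congrArg Subtype.val e
      rw [← inv_smul_eq_iff.2 e'.symm, inv_smul_eq_iff]
      exact hk.2.symm))
  refine two_trans_of_stab a fun b d h1 h3 => ?_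
  obtain ⟨k, hk, e1, e2⟩ := hb b h1
  obtain ⟨l, hl, e3, e4⟩ := hb d h3
  refine ⟨⟨l⁻¹ * k, N.mul_mem (N.inv_mem hl) hk⟩, ?_, ?_⟩
  · show (l⁻¹ * k) • a = a
    rw [mul_smul, e1, inv_smul_eq_iff, e3]
  · show (l⁻¹ * k) • b = d
    rw [mul_smul, e2, inv_smul_eq_iff, e4]

/-- A doubly transitive subgroup on at least three points has trivial centralizer. -/
theorem cent_eq_bot [Fintype Ω] [FaithfulSMul G Ω] (hn : 2 < Fintype.card Ω) (N : Subgroup G)
    (h2 : IsMultiplyPretransitive N Ω 2) : centralizer (N : Set G) = ⊥ := by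
  classical
  rw [eq_bot_iff]
  intro c hc
  refine mem_bot.2 (eq_one_of_smul_eq (α := Ω) fun a => ?_)
  by_contra h
  obtain ⟨d, hd1, hd2⟩ : ∃ d, d ≠ a ∧ d ≠ c • a := by
    by_contra h'
    push Not at h'
    have : (Finset.univ : Finset Ω) ⊆ {a, c • a} := fun d _ => by
      by_cases e : d = a
      · simp [e]
      · simp [h' d e]
    have h3 := Finset.card_le_card this
    have h4 := Finset.card_le_two (a := a) (b := c • a)
    rw [Finset.card_univ] at h3
    omega
  obtain ⟨g, e1, e2⟩ := two_trans_iff.1 h2 a (c • a) a d (Ne.symm h) hd1.symm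
  have e3 : (g : G) • c • a = d := e2
  have e4 : (g : G) • a = a := e1
  rw [← mul_smul, hc _ g.2, mul_smul, e4] at e3
  exact hd2 e3.symm

end Cfsg.Agent.Perm.Asc
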