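import Mathlib

/-! Semilinear groups and automorphisms of projective quotients of linear groups. -/

set_option autoImplicit false

namespace Cfsg.Agent.Perm.Aut

open Module

/-- invertible semilinear maps -/
@[ext] structure GamL (F V : Type*) [Field F] [AddCommGroup V] [Module F V] where
  g : V ≃+ V
  τ : F ≃+* F
  smul' : ∀ c v, g (c • v) = τ c • g v

section
variable {F V : Type*} [Field F] [AddCommGroup V] [Module F V]

namespace GamL

theorem symm_smul (s : GamL F V) (c : F) (v : V) : s.g.symm (c • v) = s.τ.symm c • s.g.symm v := by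
  apply s.g.injective
  rw [s.smul']; simp

instance instGroupGamL : Group (GamL F V) where
  mul s t := ⟨t.g.trans s.g, t.τ.trans s.τ, fun c v => by simp [t.smul', s.smul']⟩
  one := ⟨AddEquiv.refl V, RingEquiv.refl F, fun _ _ => rfl⟩
  inv s := ⟨s.g.symm, s.τ.symm, s.symm_smul⟩
  mul_assoc _ _ _ := rfl
  one_mul _ := rfl
  mul_one _ := rfl
  inv_mul_cancel s := GamL.ext s.g.self_trans_symm s.τ.self_trans_symm

@[simp] theorem mul_g (s t : GamL F V) (v : V) : (s * t).g v = s.g (t.g v) := rfl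
@[simp] theorem mul_τ (s t : GamL F V) (c : F) : (s * t).τ c = s.τ (t.τ c) := rfl
@[simp] theorem one_g (v : V) : (1 : GamL F V).g v = v := rfl
@[simp] theorem one_τ (c : F) : (1 : GamL F V).τ c = c := rfl
@[simp] theorem inv_g (s : GamL F V) (v : V) : (s⁻¹).g v = s.g.symm v := rfl
@[simp] theorem inv_τ (s : GamL F V) (c : F) : (s⁻¹).τ c = s.τ.symm c := rfl

theorem ext' {s t : GamL F V} (h1 : ∀ v, s.g v = t.g v) (h2 : ∀ c, s.τ c = t.τ c) : s = t :=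
  GamL.ext (AddEquiv.ext h1) (RingEquiv.ext h2)

theorem τ_eq [Nontrivial V] {s t : GamL F V} (h1 : ∀ v, s.g v = t.g v) (c : F) : s.τ c = t.τ c := by
  obtain ⟨v, hv⟩ := exists_ne (0 : V)
  have h := s.smul' c v
  rw [h1, t.smul', h1] at h
  have h0 : t.g v ≠ 0 := by simpa using hv
  exact (smul_left_injective F h0 h).symm

theorem ext_g [Nontrivial V] {s t : GamL F V} (h1 : ∀ v, s.g v = t.g v) : s = t := ext' h1 (τ_eq h1)

/-- the field automorphism -/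
def tau : GamL F V →* (F ≃+* F) where
  toFun s := s.τ
  map_one' := rfl
  map_mul' _ _ := rfl

@[simp] theorem tau_apply (s : GamL F V) : tau s = s.τ := rfl

/-- linear maps as semilinear maps -/
def lin : (V ≃ₗ[F] V) →* GamL F V where
  toFun x := ⟨x.toAddEquiv, RingEquiv.refl F, fun c v => x.map_smul c v⟩
  map_one' := rfl
  map_mul' _ _ := rfl

@[simp] theorem lin_g (x : V ≃ₗ[F] V) (v : V) : (lin x).g v = x v := rfl
@[simp] theorem lin_τ (x : V ≃ₗ[F] V) : (lin x).τ = RingEquiv.refl F := rfl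

theorem lin_injective : Function.Injective (lin : (V ≃ₗ[F] V) →* GamL F V) := fun x y h =>
  LinearEquiv.ext fun v => by rw [← lin_g, h, lin_g]

theorem exists_lin {s : GamL F V} (h : ∀ c, s.τ c = c) : ∃ x, lin x = s :=
  ⟨{ s.g with map_smul' := fun c v => by simp [s.smul', h] }, ext' (fun _ => rfl) fun c => (h c).symm⟩

theorem mem_range_lin {s : GamL F V} : s ∈ (lin : (V ≃ₗ[F] V) →* GamL F V).range ↔ s.τ = 1 :=
  ⟨by rintro ⟨x, rfl⟩; rfl, fun h => exists_lin fun c => by rw [h]; rfl⟩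

/-- conjugation of a linear map -/
def cj (s : GamL F V) (x : V ≃ₗ[F] V) : V ≃ₗ[F] V where
  toFun v := s.g (x (s.g.symm v))
  invFun v := s.g (x.symm (s.g.symm v))
  map_add' u v := by simp
  map_smul' c v := by simp [s.symm_smul, s.smul']
  left_inv v := by simp
  right_inv v := by simp

theorem cj_apply (s : GamL F V) (x : V ≃ₗ[F] V) (v : V) : s.cj x v = s.g (x (s.g.symm v)) := rfl

@[simp] theorem cj_g (s : GamL F V) (x : V ≃ₗ[F] V) (v : V) : s.cj x (s.g v) = s.g (x v) := by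
  simp [cj_apply]

theorem cj_mul (s : GamL F V) (x y : V ≃ₗ[F] V) : s.cj (x * y) = s.cj x * s.cj y :=
  LinearEquiv.ext fun v => by simp [cj_apply]

@[simp] theorem cj_one (s : GamL F V) : s.cj 1 = 1 := LinearEquiv.ext fun v => by simp [cj_apply]

theorem mul_cj (s t : GamL F V) (x : V ≃ₗ[F] V) : (s * t).cj x = s.cj (t.cj x) := rfl

@[simp] theorem one_cj (x : V ≃ₗ[F] V) : (1 : GamL F V).cj x = x := rfl

@[simp] theorem inv_cj_cj (s : GamL F V) (x : V ≃ₗ[F] V) : s⁻¹.cj (s.cj x) = x := by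
  rw [← mul_cj, inv_mul_cancel, one_cj]

@[simp] theorem cj_inv_cj (s : GamL F V) (x : V ≃ₗ[F] V) : s.cj (s⁻¹.cj x) = x := by
  rw [← mul_cj, mul_inv_cancel, one_cj]

theorem lin_cj (g x : V ≃ₗ[F] V) : (lin g).cj x = g * x * g⁻¹ := rfl

theorem lin_cj_eq (s : GamL F V) (x : V ≃ₗ[F] V) : lin (s.cj x) = s * lin x * s⁻¹ :=
  ext' (fun _ => rfl) fun c => by simp

/-- conjugation as an automorphism -/
def cjA (s : GamL F V) : MulAut (V ≃ₗ[F] V) where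
  toFun := s.cj
  invFun := s⁻¹.cj
  left_inv := s.inv_cj_cj
  right_inv := s.cj_inv_cj
  map_mul' := s.cj_mul

theorem cj_inv (s : GamL F V) (x : V ≃ₗ[F] V) : s.cj x⁻¹ = (s.cj x)⁻¹ := map_inv s.cjA x
theorem cj_pow (s : GamL F V) (x : V ≃ₗ[F] V) (n : ℕ) : s.cj (x ^ n) = (s.cj x) ^ n := map_pow s.cjA x n
theorem cj_injective (s : GamL F V) : Function.Injective s.cj := s.cjA.injective

end GamL

/-- scalar maps -/
def IsSc (x : V ≃ₗ[F] V) : Prop := ∃ c : F, ∀ v, x v = c • v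

theorem IsSc.comm {x : V ≃ₗ[F] V} (h : IsSc x) (y : V ≃ₗ[F] V) : x * y = y * x := by
  obtain ⟨c, hc⟩ := h
  ext v; simp [hc]

theorem IsSc.cj {x : V ≃ₗ[F] V} (h : IsSc x) (s : GamL F V) : IsSc (s.cj x) := by
  obtain ⟨c, hc⟩ := h
  exact ⟨s.τ c, fun v => by simp [GamL.cj_apply, hc, s.smul']⟩

theorem isSc_one : IsSc (1 : V ≃ₗ[F] V) := ⟨1, by simp⟩

theorem IsSc.cj_lin {x : V ≃ₗ[F] V} (h : IsSc x) (y : V ≃ₗ[F] V) : (GamL.lin x).cj y = y := by
  rw [GamL.lin_cj, h.comm, mul_inv_cancel_right]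

/-- semilinear normaliser -/
def Nrm (G : Subgroup (V ≃ₗ[F] V)) : Subgroup (GamL F V) where
  carrier := {s | ∀ x, x ∈ G ↔ s.cj x ∈ G}
  one_mem' _ := Iff.rfl
  mul_mem' {s t} hs ht x := by rw [GamL.mul_cj, ← hs, ← ht]
  inv_mem' {s} hs x := by rw [hs (s⁻¹.cj x), GamL.cj_inv_cj]

theorem mem_Nrm_of {G : Subgroup (V ≃ₗ[F] V)} {Γ : Subgroup (GamL F V)}
    (h : ∀ s ∈ Γ, ∀ x ∈ G, s.cj x ∈ G) : Γ ≤ Nrm G := fun s hs x =>
  ⟨h s hs x, fun hx => by simpa using h _ (inv_mem hs) _ hx⟩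

theorem lin_mem_Nrm {G : Subgroup (V ≃ₗ[F] V)} {g : V ≃ₗ[F] V} (hg : g ∈ G) : GamL.lin g ∈ Nrm G :=
  fun x => by
    rw [GamL.lin_cj]
    exact ⟨fun h => mul_mem (mul_mem hg h) (inv_mem hg), fun h => by
      simpa [mul_assoc] using mul_mem (mul_mem (inv_mem hg) h) hg⟩

/-- a projective quotient of a linear group -/
structure Cov (G : Subgroup (V ≃ₗ[F] V)) (P : Type*) [Group P] where
  π : G →* P
  surj : Function.Surjective π
  ker : ∀ x, π x = 1 ↔ IsSc x.1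

namespace Cov
variable {G : Subgroup (V ≃ₗ[F] V)} {P : Type*} [Group P] (C : Cov G P)

theorem eq_iff {x y : G} : C.π x = C.π y ↔ IsSc (x.1⁻¹ * y.1) := by
  refine Iff.trans ?_ (C.ker (x⁻¹ * y))
  rw [map_mul, map_inv, inv_mul_eq_one]

theorem eq_iff' {x y : G} : C.π x = C.π y ↔ ∃ c : F, ∀ v, y.1 v = c • x.1 v := by
  rw [C.eq_iff]
  constructor
  · rintro ⟨c, hc⟩
    refine ⟨c, fun v => ?_⟩
    rw [← map_smul, ← hc]; simp
  · rintro ⟨c, hc⟩
    exact ⟨c, fun v => by simp [hc]⟩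

/-- conjugation on the group -/
def cjG (s : Nrm G) (x : G) : G := ⟨s.1.cj x.1, (s.2 _).1 x.2⟩

theorem π_cjG_congr (s : Nrm G) {x y : G} (h : C.π x = C.π y) : C.π (cjG s x) = C.π (cjG s y) := by
  rw [C.eq_iff] at h ⊢
  have := h.cj s.1
  rwa [GamL.cj_mul, GamL.cj_inv] at this

/-- the underlying function -/
noncomputable def autF (s : Nrm G) (y : P) : P := C.π (cjG s (Function.surjInv C.surj y))

theorem autF_π (s : Nrm G) (x : G) : C.autF s (C.π x) = C.π (cjG s x) :=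
  C.π_cjG_congr s (Function.surjInv_eq C.surj _)

/-- the induced automorphisms -/
noncomputable def aut : Nrm G →* MulAut P where
  toFun s :=
    { toFun := C.autF s
      invFun := C.autF s⁻¹
      left_inv := fun y => by
        obtain ⟨x, rfl⟩ := C.surj y
        rw [autF_π, autF_π]; congr 1; exact Subtype.ext (s.1.inv_cj_cj _)
      right_inv := fun y => by
        obtain ⟨x, rfl⟩ := C.surj y
        rw [autF_π, autF_π]; congr 1; exact Subtype.ext (s.1.cj_inv_cj _)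
      map_mul' := fun y y' => by
        obtain ⟨x, rfl⟩ := C.surj y
        obtain ⟨x', rfl⟩ := C.surj y'
        rw [← map_mul, autF_π, autF_π, autF_π, ← map_mul]; congr 1; exact Subtype.ext (s.1.cj_mul _ _) }
  map_one' := MulEquiv.ext fun y => by
    obtain ⟨x, rfl⟩ := C.surj y
    exact C.autF_π 1 x
  map_mul' s t := MulEquiv.ext fun y => by
    obtain ⟨x, rfl⟩ := C.surj y
    change C.autF (s * t) _ = C.autF s (C.autF t _)
    rw [autF_π, autF_π, autF_π]; rfl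

theorem aut_π (s : Nrm G) (x : G) : C.aut s (C.π x) = C.π (cjG s x) := C.autF_π s x

theorem aut_lin (g : G) : C.aut ⟨GamL.lin g.1, lin_mem_Nrm g.2⟩ = MulAut.conj (C.π g) :=
  MulEquiv.ext fun y => by
    obtain ⟨x, rfl⟩ := C.surj y
    rw [aut_π, MulAut.conj_apply, ← map_inv, ← map_mul, ← map_mul]; rfl

theorem aut_eq_one_iff {s : Nrm G} : C.aut s = 1 ↔ ∀ x ∈ G, ∃ c : F, ∀ v, s.1.cj x v = c • x v := by
  constructor
  · intro h x hx
    have := C.aut_π s ⟨x, hx⟩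
    rw [h] at this
    exact C.eq_iff'.1 this
  · intro h
    refine MulEquiv.ext fun y => ?_
    obtain ⟨x, rfl⟩ := C.surj y
    rw [aut_π]
    exact (C.eq_iff'.2 (h x.1 x.2)).symm

/-- the correspondence defined by an automorphism -/
def T (α : MulAut P) (x y : V ≃ₗ[F] V) : Prop :=
  ∃ (hx : x ∈ G) (hy : y ∈ G), C.π ⟨y, hy⟩ = α (C.π ⟨x, hx⟩)

variable {C} {α β : MulAut P} {x y x' y' z : V ≃ₗ[F] V}

theorem T.left (h : C.T α x y) : x ∈ G := h.1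
theorem T.right (h : C.T α x y) : y ∈ G := h.2.1

theorem T.mul (h : C.T α x y) (h' : C.T α x' y') : C.T α (x * x') (y * y') := by
  obtain ⟨a, b, h⟩ := h
  obtain ⟨a', b', h'⟩ := h'
  refine ⟨mul_mem a a', mul_mem b b', ?_⟩
  change C.π (⟨y, b⟩ * ⟨y', b'⟩) = α (C.π (⟨x, a⟩ * ⟨x', a'⟩))
  rw [map_mul, map_mul, map_mul, h, h']

theorem T.inv (h : C.T α x y) : C.T α x⁻¹ y⁻¹ := by
  obtain ⟨a, b, h⟩ := h
  refine ⟨inv_mem a, inv_mem b, ?_⟩
  change C.π (⟨y, b⟩)⁻¹ = α (C.π (⟨x, a⟩)⁻¹)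
  rw [map_inv, map_inv, map_inv, h]

theorem T_one : C.T α 1 1 := ⟨one_mem _, one_mem _, by
  change C.π 1 = α (C.π 1)
  simp⟩

theorem T.pow (h : C.T α x y) (n : ℕ) : C.T α (x ^ n) (y ^ n) := by
  induction n with
  | zero => simpa using T_one
  | succ n ih => rw [pow_succ, pow_succ]; exact ih.mul h

theorem T.conj (h : C.T α x y) (h' : C.T α x' y') : C.T α (x * x' * x⁻¹) (y * y' * y⁻¹) :=
  (h.mul h').mul h.inv

theorem T.symm (h : C.T α x y) : C.T α⁻¹ y x := by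
  obtain ⟨a, b, h⟩ := h
  exact ⟨b, a, by rw [h]; simp⟩

theorem T.symm' (h : C.T α⁻¹ x y) : C.T α y x := by simpa using h.symm

theorem T.trans (h : C.T α x y) (h' : C.T β y z) : C.T (β * α) x z := by
  obtain ⟨a, b, h⟩ := h
  obtain ⟨a', b', h'⟩ := h'
  exact ⟨a, b', by rw [h', MulAut.mul_apply, ← h]⟩

theorem exists_T (C : Cov G P) (α : MulAut P) (hx : x ∈ G) : ∃ y, C.T α x y := by
  obtain ⟨y, hy⟩ := C.surj (α (C.π ⟨x, hx⟩))
  exact ⟨y.1, hx, y.2, hy⟩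

theorem exists_T' (C : Cov G P) (α : MulAut P) (hy : y ∈ G) : ∃ x, C.T α x y := by
  obtain ⟨x, hx⟩ := C.exists_T α⁻¹ hy
  exact ⟨x, hx.symm'⟩

theorem T.uniq (h : C.T α x y) (h' : C.T α x y') : ∃ c : F, ∀ v, y' v = c • y v := by
  obtain ⟨a, b, h⟩ := h
  obtain ⟨a', b', h'⟩ := h'
  exact C.eq_iff'.1 (h.trans h'.symm)

theorem T.sc (h : C.T α x y) (hx : IsSc x) : IsSc y := by
  obtain ⟨a, b, h⟩ := h
  rw [(C.ker ⟨x, a⟩).2 hx, map_one] at h
  exact (C.ker _).1 h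

theorem T_aut (s : Nrm G) (hx : x ∈ G) : C.T (C.aut s) x (s.1.cj x) :=
  ⟨hx, (s.2 _).1 hx, (C.aut_π s ⟨x, hx⟩).symm⟩

theorem T_refl (hx : x ∈ G) : C.T 1 x x := ⟨hx, hx, rfl⟩

theorem T.aut (h : C.T α x y) (s : Nrm G) : C.T (C.aut s * α) x (s.1.cj y) := h.trans (T_aut s h.right)

theorem T.of_sc (h : C.T α x y) (hy : y' ∈ G) {c : F} (hc : ∀ v, y' v = c • y v) : C.T α x y' := by
  obtain ⟨a, b, h⟩ := h
  exact ⟨a, hy, by rw [← h]; exact (C.eq_iff'.2 ⟨c, hc⟩).symm⟩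

theorem eq_one_of_T (h : ∀ x ∈ G, C.T α x x) : α = 1 := MulEquiv.ext fun y => by
  obtain ⟨x, rfl⟩ := C.surj y
  obtain ⟨_, _, h⟩ := h x.1 x.2
  exact h.symm

end Cov

/-- `p`-elements -/
def Uni (p : ℕ) (x : V ≃ₗ[F] V) : Prop := ∃ k, x ^ p ^ k = 1

section P
variable {p : ℕ} [hp : Fact p.Prime] [CharP F p]

omit hp [CharP F p] in
theorem Uni.conj {x : V ≃ₗ[F] V} (h : Uni p x) (g : V ≃ₗ[F] V) : Uni p (g * x * g⁻¹) := by
  obtain ⟨k, hk⟩ := h
  exact ⟨k, by rw [conj_pow, hk]; simp⟩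

omit hp [CharP F p] in
theorem Uni.cj {x : V ≃ₗ[F] V} (h : Uni p x) (s : GamL F V) : Uni p (s.cj x) := by
  obtain ⟨k, hk⟩ := h
  exact ⟨k, by rw [← s.cj_pow, hk, s.cj_one]⟩

omit hp [CharP F p] in
theorem Uni.inv {x : V ≃ₗ[F] V} (h : Uni p x) : Uni p x⁻¹ := by
  obtain ⟨k, hk⟩ := h
  exact ⟨k, by rw [inv_pow, hk, inv_one]⟩

omit hp [CharP F p] in
theorem uni_one : Uni p (1 : V ≃ₗ[F] V) := ⟨0, one_pow _⟩

omit hp [CharP F p] in
theorem uni_of_mem {R : Subgroup (V ≃ₗ[F] V)} (hR : IsPGroup p R) {x : V ≃ₗ[F] V} (hx : x ∈ R) :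
    Uni p x := by
  obtain ⟨k, hk⟩ := hR ⟨x, hx⟩
  exact ⟨k, congrArg Subtype.val hk⟩

omit hp [CharP F p] in
theorem isPGroup_of_uni {R : Subgroup (V ≃ₗ[F] V)} (h : ∀ x ∈ R, Uni p x) : IsPGroup p R := fun x => by
  obtain ⟨k, hk⟩ := h x.1 x.2
  exact ⟨k, Subtype.ext hk⟩

theorem pow_apply_of_eigen {x : V ≃ₗ[F] V} {v : V} {c : F} (h : x v = c • v) (n : ℕ) :
    (x ^ n) v = c ^ n • v := by
  induction n with
  | zero => simp
  | succ n ih => rw [pow_succ, LinearEquiv.mul_apply, h, map_smul, ih, smul_smul, pow_succ']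

theorem eq_one_of_pow_pow {c : F} {k : ℕ} (h : c ^ p ^ k = 1) : c = 1 := by
  have : (c - 1) ^ p ^ k = 0 := by rw [sub_pow_char_pow, h, one_pow, sub_self]
  exact sub_eq_zero.1 (pow_eq_zero_iff (pow_ne_zero _ hp.out.ne_zero) |>.1 this)

theorem Uni.eigen {x : V ≃ₗ[F] V} (h : Uni p x) {v : V} {c : F} (hv : v ≠ 0) (hc : x v = c • v) :
    c = 1 := by
  obtain ⟨k, hk⟩ := h
  have := pow_apply_of_eigen hc (p ^ k)
  rw [hk] at this
  have h1 : (1 : F) • v = c ^ p ^ k • v := by simpa using this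
  exact eq_one_of_pow_pow (p := p) (smul_left_injective F hv h1).symm

theorem Uni.fix {x : V ≃ₗ[F] V} (h : Uni p x) {v : V} (hc : x v ∈ (F ∙ v)) : x v = v := by
  by_cases hv : v = 0
  · simp [hv]
  obtain ⟨c, hc⟩ := Submodule.mem_span_singleton.1 hc
  rw [← hc, h.eigen hv hc.symm, one_smul]

theorem Uni.eq_of_sc {x y : V ≃ₗ[F] V} (hx : Uni p x) (hy : Uni p y) {c : F} (h : ∀ v, y v = c • x v) :
    y = x := by
  obtain ⟨k, hk⟩ := hx
  obtain ⟨l, hl⟩ := hy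
  have key : ∀ n v, (y ^ n) v = c ^ n • (x ^ n) v := by
    intro n
    induction n with
    | zero => simp
    | succ n ih =>
      intro v
      rw [pow_succ', pow_succ', LinearEquiv.mul_apply, h, ih, map_smul, smul_smul, pow_succ']; rfl
  ext v
  by_cases hv : v = 0
  · simp [hv]
  have h1 := key (p ^ (k + l)) v
  rw [show y ^ p ^ (k + l) = 1 by rw [pow_add, mul_comm, pow_mul, hl, one_pow],
    show x ^ p ^ (k + l) = 1 by rw [pow_add, pow_mul, hk, one_pow]] at h1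
  have h2 : (1 : F) • v = c ^ p ^ (k + l) • v := by simpa using h1
  rw [h, eq_one_of_pow_pow (p := p) (smul_left_injective F hv h2).symm, one_smul]

theorem Uni.eq_one_of_sc {x : V ≃ₗ[F] V} (hx : Uni p x) (h : IsSc x) : x = 1 := by
  obtain ⟨c, hc⟩ := h
  exact (uni_one (p := p)).eq_of_sc hx (c := c) (by simpa using hc)

/-- a linear map with `(x - 1)^3 = 0` is a `p`-element -/
theorem uni_of_cube {x : V ≃ₗ[F] V} {A B : Submodule F V} (h1 : ∀ v, x v - v ∈ A)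
    (h2 : ∀ v ∈ A, x v - v ∈ B) (h3 : ∀ v ∈ B, x v = v) : Uni p x := by
  by_cases hV : Subsingleton V
  · exact ⟨0, by ext v; exact Subsingleton.elim _ _⟩
  rw [not_subsingleton_iff_nontrivial] at hV
  haveI : CharP (Module.End F V) p := by
    refine charP_of_injective_algebraMap (R := F) (algebraMap F (Module.End F V)).injective p
  set N : Module.End F V := (x : V →ₗ[F] V) - 1 with hN
  have hN3 : N ^ 3 = 0 := by
    ext v
    have e : ∀ w, N w = x w - w := fun w => rfl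
    simp only [pow_succ, pow_zero, one_mul, Module.End.mul_apply, LinearMap.zero_apply]
    rw [e (N (N v)), h3 _ (by rw [e]; exact h2 _ (by rw [e]; exact h1 v)), sub_self]
  have h4 : 3 ≤ p ^ 2 := by have := hp.out.two_le; nlinarith
  have hx : (x : V →ₗ[F] V) = N + 1 := by simp [hN]
  have : ((x : V →ₗ[F] V) : Module.End F V) ^ p ^ 2 = 1 := by
    rw [hx, add_pow_char_pow_of_commute _ _ (Commute.one_right N), one_pow,
      pow_eq_zero_of_le h4 hN3, zero_add]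
  refine ⟨2, LinearEquiv.ext fun v => ?_⟩
  have h5 := congrArg (fun f : Module.End F V => f v) this
  simpa [LinearEquiv.pow_apply, Module.End.pow_apply] using h5

/-- a `p`-group acting on a finite section fixes a nonzero vector -/
theorem exists_fixed [Finite V] {R : Subgroup (V ≃ₗ[F] V)} (hR : IsPGroup p R) {A B : Submodule F V}
    (hA : ∀ x ∈ R, ∀ v ∈ A, x v ∈ A) (hB : ∀ x ∈ R, ∀ v ∈ B, x v ∈ B) (hAB : ¬ B ≤ A) :
    ∃ v ∈ B, v ∉ A ∧ ∀ x ∈ R, x v - v ∈ A := by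
  classical
  let S := B.map A.mkQ
  have hS : ∀ (x : R) (w : S), Submodule.mapQ A A (x.1 : V →ₗ[F] V) (hA x.1 x.2) w.1 ∈ S := by
    rintro x ⟨_, v, hv, rfl⟩
    exact ⟨x.1 v, hB x.1 x.2 v hv, rfl⟩
  letI : MulAction R S :=
    { smul := fun x w => ⟨_, hS x w⟩
      one_smul := by
        rintro ⟨_, v, hv, rfl⟩
        rfl
      mul_smul := by
        rintro x y ⟨_, v, hv, rfl⟩
        rfl }
  haveI : Finite (V ⧸ A) := Finite.of_surjective _ A.mkQ_surjective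
  have hdvd : p ∣ Nat.card S := by
    obtain ⟨v, hv, hvA⟩ := SetLike.not_le_iff_exists.1 hAB
    have h0 : (⟨A.mkQ v, v, hv, rfl⟩ : S) ≠ 0 := fun h =>
      hvA ((Submodule.Quotient.mk_eq_zero A).1 (congrArg Subtype.val h))
    have h1 : addOrderOf (⟨A.mkQ v, v, hv, rfl⟩ : S) = p := by
      refine addOrderOf_eq_prime ?_ h0
      rw [← Nat.cast_smul_eq_nsmul F, CharP.cast_eq_zero, zero_smul]
    rw [← h1]; exact addOrderOf_dvd_natCard _
  obtain ⟨⟨_, v, hv, rfl⟩, hb, hne⟩ := hR.exists_fixed_point_of_prime_dvd_card_of_fixed_point S hdvd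
    (a := 0) (fun x => Subtype.ext (map_zero _))
  refine ⟨v, hv, fun h => hne (Subtype.ext ((Submodule.Quotient.mk_eq_zero A).2 h).symm), fun x hx => ?_⟩
  have := congrArg Subtype.val (hb ⟨x, hx⟩)
  exact (Submodule.Quotient.eq A).1 this

namespace Cov
variable {G : Subgroup (V ≃ₗ[F] V)} {P : Type*} [Group P] {C : Cov G P}
variable {α β : MulAut P} {x y x' y' z : V ≃ₗ[F] V}

theorem T.uniq_uni (h : C.T α x y) (h' : C.T α x y') (hy : Uni p y) (hy' : Uni p y') : y' = y := by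
  obtain ⟨c, hc⟩ := h.uniq h'
  exact hy.eq_of_sc hy' hc

theorem T.eq_one (h : C.T α 1 y) (hy : Uni p y) : y = 1 := h.uniq_uni T_one hy uni_one |>.symm

theorem T.comm (h : C.T α x y) (h' : C.T α x' y') (hy' : Uni p y') (hc : x * x' = x' * x) :
    y * y' = y' * y := by
  have h1 := h.conj h'
  rw [hc, mul_inv_cancel_right] at h1
  have := h'.uniq_uni h1 hy' (hy'.conj y)
  rw [mul_inv_eq_iff_eq_mul] at this
  exact this

variable [Finite V]

omit [CharP F p] in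
theorem exists_T_uni (C : Cov G P) (α : MulAut P) (hx : x ∈ G) (hu : Uni p x) :
    ∃ y, C.T α x y ∧ Uni p y := by
  haveI : Finite (V ≃ₗ[F] V) := Finite.of_injective _ (DFunLike.coe_injective (F := V ≃ₗ[F] V))
  obtain ⟨y, hy⟩ := C.exists_T α hx
  obtain ⟨k, hk⟩ := hu
  have h0 : orderOf y ≠ 0 := (orderOf_pos y).ne'
  obtain ⟨a, n, hn, hd⟩ := Nat.exists_eq_pow_mul_and_not_dvd h0 p hp.out.ne_one
  have hc : Nat.Coprime (p ^ k) n := Nat.Coprime.pow_left _ ((Nat.Prime.coprime_iff_not_dvd hp.out).2 hn)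
  obtain ⟨m, hm1, hm2⟩ := Nat.chineseRemainder hc 1 0
  refine ⟨y ^ m, ?_, a, ?_⟩
  · have := hy.pow m
    rwa [pow_eq_pow_of_modEq hm1 hk, pow_one] at this
  · rw [← pow_mul, ← orderOf_dvd_iff_pow_eq_one, hd, mul_comm]
    exact Nat.mul_dvd_mul_right ((Nat.modEq_zero_iff_dvd).1 hm2) _

omit [CharP F p] in
theorem uni_mul_of_T {R : Subgroup (V ≃ₗ[F] V)} (hR : IsPGroup p R) (hx : x ∈ R) (hx' : x' ∈ R)
    (hRG : R ≤ G) (h : C.T α x y) (h' : C.T α x' y') (hy : Uni p y) (hy' : Uni p y') :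
    Uni p (y * y') := by
  haveI : Finite (V ≃ₗ[F] V) := Finite.of_injective _ (DFunLike.coe_injective (F := V ≃ₗ[F] V))
  let Rb : Subgroup P := ((R.subgroupOf G).map C.π).map α.toMonoidHom
  have hRb : IsPGroup p Rb := (hR.comap_subtype.map _).map _
  let H : Subgroup G := Rb.comap C.π
  let φ : H →* Rb := (C.π.comp H.subtype).codRestrict Rb fun z => z.2
  haveI : Finite P := Finite.of_surjective _ C.surj
  haveI := hRb.isNilpotent
  haveI : Group.IsNilpotent H := by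
    refine Subgroup.isNilpotent_of_ker_le_center φ ?_
    intro z hz
    have h1 : C.π z.1 = 1 := congrArg Subtype.val hz
    rw [Subgroup.mem_center_iff]
    intro w
    exact Subtype.ext (Subtype.ext (((C.ker _).1 h1).comm _).symm)
  have mem : ∀ {x y}, x ∈ R → (h : C.T α x y) → (⟨y, h.right⟩ : G) ∈ H := by
    rintro x y hx ⟨a, b, h⟩
    exact ⟨C.π ⟨x, a⟩, ⟨⟨x, a⟩, hx, rfl⟩, h.symm⟩
  obtain ⟨S⟩ : Nonempty (Sylow p H) := inferInstance
  have key : ∀ w : H, Uni p w.1.1 → w ∈ (S : Subgroup H) := by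
    rintro w ⟨k, hk⟩
    have h1 : IsPGroup p (Subgroup.zpowers w) := by
      have : orderOf w ∣ p ^ k := orderOf_dvd_of_pow_eq_one (Subtype.ext (Subtype.ext hk))
      exact IsPGroup.of_card_dvd_pow (by rw [Nat.card_zpowers]; exact this)
    obtain ⟨S', hS'⟩ := h1.exists_le_sylow
    haveI := Sylow.unique_of_normal S inferInstance
    rw [Subsingleton.elim S S']
    exact hS' (Subgroup.mem_zpowers w)
  obtain ⟨k, hk⟩ := S.isPGroup' ⟨_, mul_mem (key ⟨_, mem hx h⟩ hy) (key ⟨_, mem hx' h'⟩ hy')⟩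
  exact ⟨k, congrArg (fun w => w.1.1.1) hk⟩

/-- transport of a `p`-subgroup -/
def sh (C : Cov G P) (α : MulAut P) (R : Subgroup (V ≃ₗ[F] V)) (hR : IsPGroup p R) (hRG : R ≤ G) :
    Subgroup (V ≃ₗ[F] V) where
  carrier := {y | Uni p y ∧ ∃ x ∈ R, C.T α x y}
  one_mem' := ⟨uni_one, 1, one_mem _, T_one⟩
  mul_mem' := by
    rintro y y' ⟨hy, x, hx, h⟩ ⟨hy', x', hx', h'⟩
    exact ⟨uni_mul_of_T hR hx hx' hRG h h' hy hy', _, mul_mem hx hx', h.mul h'⟩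
  inv_mem' := by
    rintro y ⟨hy, x, hx, h⟩
    exact ⟨hy.inv, _, inv_mem hx, h.inv⟩

omit [CharP F p] in
theorem mem_sh {R : Subgroup (V ≃ₗ[F] V)} {hR : IsPGroup p R} {hRG : R ≤ G} :
    y ∈ C.sh α R hR hRG ↔ Uni p y ∧ ∃ x ∈ R, C.T α x y := Iff.rfl

omit [CharP F p] in
theorem sh_isPGroup {R : Subgroup (V ≃ₗ[F] V)} {hR : IsPGroup p R} {hRG : R ≤ G} :
    IsPGroup p (C.sh α R hR hRG) := isPGroup_of_uni fun _ h => h.1

omit [CharP F p] in
theorem sh_le {R : Subgroup (V ≃ₗ[F] V)} {hR : IsPGroup p R} {hRG : R ≤ G} :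
    C.sh α R hR hRG ≤ G := by
  rintro y ⟨_, x, _, h⟩
  exact h.right

end Cov

/-- the stability group of the chain `0 ≤ B ≤ A ≤ V` -/
def Ur (G : Subgroup (V ≃ₗ[F] V)) (A B : Submodule F V) : Subgroup (V ≃ₗ[F] V) where
  carrier := {g | g ∈ G ∧ (∀ v, g v - v ∈ A) ∧ (∀ v ∈ A, g v - v ∈ B) ∧ ∀ v ∈ B, g v = v}
  one_mem' := ⟨one_mem _, by simp, by simp, by simp⟩
  mul_mem' := by
    rintro g k ⟨h1, h2, h3, h4⟩ ⟨k1, k2, k3, k4⟩
    refine ⟨mul_mem h1 k1, fun v => ?_, fun v hv => ?_, fun v hv => ?_⟩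
    · simpa using add_mem (h2 (k v)) (k2 v)
    · simpa using add_mem (h3 (k v) (by simpa using add_mem (k2 v) hv)) (k3 v hv)
    · rw [LinearEquiv.mul_apply, k4 v hv, h4 v hv]
  inv_mem' := by
    rintro g ⟨h1, h2, h3, h4⟩
    refine ⟨inv_mem h1, fun v => ?_, fun v hv => ?_, fun v hv => ?_⟩
    · simpa using neg_mem (h2 (g⁻¹ v))
    · simpa using neg_mem (h3 (g⁻¹ v) (by simpa using sub_mem hv (h2 (g⁻¹ v))))
    · rw [LinearEquiv.coe_inv, LinearEquiv.symm_apply_eq, h4 v hv]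

omit hp [CharP F p] in
theorem mem_Ur {G : Subgroup (V ≃ₗ[F] V)} {A B : Submodule F V} {g : V ≃ₗ[F] V} :
    g ∈ Ur G A B ↔ g ∈ G ∧ (∀ v, g v - v ∈ A) ∧ (∀ v ∈ A, g v - v ∈ B) ∧ ∀ v ∈ B, g v = v := Iff.rfl

omit hp [CharP F p] in
theorem Ur_le {G : Subgroup (V ≃ₗ[F] V)} {A B : Submodule F V} : Ur G A B ≤ G := fun _ h => h.1

theorem Ur_isPGroup (G : Subgroup (V ≃ₗ[F] V)) (A B : Submodule F V) : IsPGroup p (Ur G A B) :=
  isPGroup_of_uni fun _ h => uni_of_cube h.2.1 h.2.2.1 h.2.2.2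

omit hp [CharP F p] in
theorem Ur_cj {G : Subgroup (V ≃ₗ[F] V)} {A B A' B' : Submodule F V} {s : GamL F V} (hs : s ∈ Nrm G)
    (hA : ∀ v, v ∈ A ↔ s.g v ∈ A') (hB : ∀ v, v ∈ B ↔ s.g v ∈ B') (x : V ≃ₗ[F] V) :
    x ∈ Ur G A B ↔ s.cj x ∈ Ur G A' B' := by
  rw [mem_Ur, mem_Ur, ← hs x]
  refine and_congr_right fun _ => and_congr ?_ (and_congr ?_ ?_)
  · symm
    rw [s.g.surjective.forall]
    simp only [GamL.cj_g, ← map_sub, ← hA]
  · symm
    rw [s.g.surjective.forall]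
    simp only [GamL.cj_g, ← map_sub, ← hA, ← hB]
  · symm
    rw [s.g.surjective.forall]
    simp only [GamL.cj_g, ← hB, EmbeddingLike.apply_eq_iff_eq]

omit hp [CharP F p] in
theorem Ur_conj {G : Subgroup (V ≃ₗ[F] V)} {A B A' B' : Submodule F V} {g : V ≃ₗ[F] V} (hg : g ∈ G)
    (hA : ∀ v, v ∈ A ↔ g v ∈ A') (hB : ∀ v, v ∈ B ↔ g v ∈ B') (x : V ≃ₗ[F] V) :
    x ∈ Ur G A B ↔ g * x * g⁻¹ ∈ Ur G A' B' := Ur_cj (lin_mem_Nrm hg) hA hB x

/-- two subgroups correspond under `α` -/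
def Cov.Cor {G : Subgroup (V ≃ₗ[F] V)} {P : Type*} [Group P] (C : Cov G P) (α : MulAut P)
    (R S : Subgroup (V ≃ₗ[F] V)) : Prop :=
  (∀ x ∈ R, ∃ y ∈ S, C.T α x y) ∧ ∀ y ∈ S, ∃ x ∈ R, C.T α x y

/-- maximal `p`-subgroups -/
def IsSyl (p : ℕ) (G U : Subgroup (V ≃ₗ[F] V)) : Prop :=
  U ≤ G ∧ IsPGroup p U ∧ ∀ R ≤ G, IsPGroup p R → U ≤ R → R ≤ U

omit [CharP F p] in
theorem exists_isSyl [Finite V] {G R : Subgroup (V ≃ₗ[F] V)} (hR : IsPGroup p R) (hRG : R ≤ G) :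
    ∃ U, IsSyl p G U ∧ R ≤ U := by
  obtain ⟨S, hS⟩ := (hR.comap_subtype (K := G)).exists_le_sylow
  refine ⟨(S : Subgroup G).map G.subtype, ⟨Subgroup.map_subtype_le _, S.isPGroup'.map _, ?_⟩, ?_⟩
  · intro R' hR' hp' hle x hx
    have := S.is_maximal' (hp'.comap_subtype (K := G)) (fun z hz => hle ⟨z, hz, rfl⟩)
    exact ⟨⟨x, hR' hx⟩, by rw [SetLike.mem_coe, ← this]; exact hx, rfl⟩
  · intro x hx
    exact ⟨⟨x, hRG hx⟩, hS hx, rfl⟩

omit [CharP F p] in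
theorem IsSyl.conj [Finite V] {G U U' : Subgroup (V ≃ₗ[F] V)} (h : IsSyl p G U) (h' : IsSyl p G U') :
    ∃ g ∈ G, ∀ x, x ∈ U ↔ g * x * g⁻¹ ∈ U' := by
  haveI : Finite (V ≃ₗ[F] V) := Finite.of_injective _ (DFunLike.coe_injective (F := V ≃ₗ[F] V))
  have mk : ∀ {U}, IsSyl p G U → ∃ S : Sylow p G, (S : Subgroup G) = U.subgroupOf G := by
    intro U h
    refine ⟨⟨U.subgroupOf G, h.2.1.comap_subtype, fun {Q} hQ hle => le_antisymm (fun z hz => ?_) hle⟩, rfl⟩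
    refine h.2.2 (Q.map G.subtype) (Subgroup.map_subtype_le _) (hQ.map _) (fun x hx => ?_) ⟨z, hz, rfl⟩
    exact ⟨⟨x, h.1 hx⟩, hle hx, rfl⟩
  obtain ⟨S, hS⟩ := mk h
  obtain ⟨S', hS'⟩ := mk h'
  obtain ⟨g, hg⟩ := MulAction.exists_smul_eq G S S'
  refine ⟨g.1, g.2, fun x => ⟨fun hx => ?_, fun hx => ?_⟩⟩
  · have : g * ⟨x, h.1 hx⟩ * g⁻¹ ∈ (S' : Subgroup G) := by
      rw [← hg, Sylow.coe_subgroup_smul]
      exact Subgroup.smul_mem_pointwise_smul _ _ _ (by rw [hS]; exact hx)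
    rw [hS'] at this; exact this
  · have hxG : x ∈ G := by simpa [mul_assoc] using mul_mem (mul_mem (inv_mem g.2) (h'.1 hx)) g.2
    have : g * ⟨x, hxG⟩ * g⁻¹ ∈ (S' : Subgroup G) := by rw [hS']; exact hx
    rw [← hg, Sylow.coe_subgroup_smul] at this
    have h2 := (Subgroup.smul_mem_pointwise_smul_iff (a := MulAut.conj g) (x := (⟨x, hxG⟩ : G))).1 this
    rw [hS] at h2; exact h2

omit [CharP F p] in
theorem IsSyl.le_of_norm {G U R : Subgroup (V ≃ₗ[F] V)} (h : IsSyl p G U) (hR : IsPGroup p R)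
    (hRG : R ≤ G) (hn : ∀ g ∈ U, ∀ x ∈ R, g * x * g⁻¹ ∈ R) : R ≤ U := by
  have h1 : U ≤ Subgroup.normalizer (R : Set _) := fun g hg => by
    rw [Subgroup.mem_normalizer_iff]
    refine fun x => ⟨hn g hg x, fun hx => ?_⟩
    simpa [mul_assoc] using hn _ (inv_mem hg) _ hx
  exact le_sup_right.trans (h.2.2 _ (sup_le h.1 hRG) (h.2.1.to_sup_of_normal_right' hR h1) le_sup_left)

namespace Cov
variable {G : Subgroup (V ≃ₗ[F] V)} {P : Type*} [Group P] {C : Cov G P}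
variable {α β : MulAut P} {R S U : Subgroup (V ≃ₗ[F] V)}

omit hp [CharP F p] in
theorem Cor.symm (h : C.Cor α R S) : C.Cor α⁻¹ S R :=
  ⟨fun y hy => by obtain ⟨x, hx, h⟩ := h.2 y hy; exact ⟨x, hx, h.symm⟩,
    fun x hx => by obtain ⟨y, hy, h⟩ := h.1 x hx; exact ⟨y, hy, h.symm⟩⟩

omit hp [CharP F p] in
theorem Cor.trans (h : C.Cor α R S) (h' : C.Cor β S U) : C.Cor (β * α) R U :=
  ⟨fun x hx => by
    obtain ⟨y, hy, h1⟩ := h.1 x hx
    obtain ⟨z, hz, h2⟩ := h'.1 y hy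
    exact ⟨z, hz, h1.trans h2⟩, fun z hz => by
    obtain ⟨y, hy, h2⟩ := h'.2 z hz
    obtain ⟨x, hx, h1⟩ := h.2 y hy
    exact ⟨x, hx, h1.trans h2⟩⟩

omit hp [CharP F p] in
theorem cor_aut (s : Nrm G) (hR : R ≤ G) (h : ∀ x, x ∈ R ↔ s.1.cj x ∈ S) : C.Cor (C.aut s) R S :=
  ⟨fun x hx => ⟨_, (h x).1 hx, T_aut s (hR hx)⟩, fun y hy => by
    have h1 : s.1⁻¹.cj y ∈ R := by rw [h]; simpa using hy
    refine ⟨_, h1, ?_⟩
    simpa using T_aut (C := C) s (hR h1)⟩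

omit hp [CharP F p] in
theorem Cor.conj {g h : V ≃ₗ[F] V} (hc : C.Cor α R S) (hT : C.T α g h) {R' S' : Subgroup (V ≃ₗ[F] V)}
    (h1 : ∀ x, x ∈ R ↔ g * x * g⁻¹ ∈ R') (h2 : ∀ x, x ∈ S ↔ h * x * h⁻¹ ∈ S') : C.Cor α R' S' := by
  constructor
  · intro x hx
    obtain ⟨y, hy, h3⟩ := hc.1 (g⁻¹ * x * g) (by rw [h1]; simpa [mul_assoc] using hx)
    refine ⟨_, (h2 y).1 hy, ?_⟩
    simpa [mul_assoc] using hT.conj h3
  · intro y hy
    obtain ⟨x, hx, h3⟩ := hc.2 (h⁻¹ * y * h) (by rw [h2]; simpa [mul_assoc] using hy)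
    refine ⟨_, (h1 x).1 hx, ?_⟩
    simpa [mul_assoc] using hT.conj h3

theorem Cor.mem (h : C.Cor α R S) (hS : IsPGroup p S) {x y : V ≃ₗ[F] V} (hx : x ∈ R) (hT : C.T α x y)
    (hy : Uni p y) : y ∈ S := by
  obtain ⟨y', hy', h1⟩ := h.1 x hx
  rwa [h1.uniq_uni hT (uni_of_mem hS hy') hy]

theorem Cor.unique (h : C.Cor α R S) (h' : C.Cor α R U) (hS : IsPGroup p S) (hU : IsPGroup p U) :
    S = U := by
  ext y
  constructor
  · intro hy
    obtain ⟨x, hx, h1⟩ := h.2 y hy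
    exact h'.mem hU hx h1 (uni_of_mem hS hy)
  · intro hy
    obtain ⟨x, hx, h1⟩ := h'.2 y hy
    exact h.mem hS hx h1 (uni_of_mem hU hy)

theorem card_le_of_T [Finite V] (hR : IsPGroup p R) (h : ∀ x ∈ R, ∃ y ∈ S, C.T α x y) :
    Nat.card R ≤ Nat.card S := by
  haveI : Finite (V ≃ₗ[F] V) := Finite.of_injective _ (DFunLike.coe_injective (F := V ≃ₗ[F] V))
  choose φ h1 h2 using h
  refine Nat.card_le_card_of_injective (fun x : R => (⟨φ x.1 x.2, h1 _ _⟩ : S)) fun x x' e => ?_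
  have e' : φ x.1 x.2 = φ x'.1 x'.2 := congrArg Subtype.val e
  have h3 := (h2 x.1 x.2).symm
  have h4 := (h2 x'.1 x'.2).symm
  rw [e'] at h3
  exact Subtype.ext (h4.uniq_uni h3 (uni_of_mem hR x'.2) (uni_of_mem hR x.2))

theorem cor_of_card [Finite V] (hR : IsPGroup p R) (h : ∀ x ∈ R, ∃ y ∈ S, C.T α x y)
    (hc : Nat.card S ≤ Nat.card R) : C.Cor α R S := by
  haveI : Finite (V ≃ₗ[F] V) := Finite.of_injective _ (DFunLike.coe_injective (F := V ≃ₗ[F] V))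
  refine ⟨h, ?_⟩
  choose φ h1 h2 using h
  have hi : Function.Injective (fun x : R => (⟨φ x.1 x.2, h1 _ _⟩ : S)) := fun x x' e => by
    have e' : φ x.1 x.2 = φ x'.1 x'.2 := congrArg Subtype.val e
    have h3 := (h2 x.1 x.2).symm
    have h4 := (h2 x'.1 x'.2).symm
    rw [e'] at h3
    exact Subtype.ext (h4.uniq_uni h3 (uni_of_mem hR x'.2) (uni_of_mem hR x.2))
  have hb := (Nat.bijective_iff_injective_and_card _).2
    ⟨hi, le_antisymm (Nat.card_le_card_of_injective _ hi) hc⟩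
  intro y hy
  obtain ⟨x, hx⟩ := hb.2 ⟨y, hy⟩
  have e : φ x.1 x.2 = y := congrArg Subtype.val hx
  exact ⟨x.1, x.2, e ▸ h2 x.1 x.2⟩

omit [CharP F p] in
theorem cor_sh [Finite V] (hR : IsPGroup p R) (hRG : R ≤ G) : C.Cor α R (C.sh α R hR hRG) :=
  ⟨fun x hx => by
    obtain ⟨y, h1, h2⟩ := C.exists_T_uni α (hRG hx) (uni_of_mem hR hx)
    exact ⟨y, ⟨h2, x, hx, h1⟩, h1⟩, fun _ hy => hy.2⟩

omit [CharP F p] in
theorem exists_cor [Finite V] (C : Cov G P) (α : MulAut P) (hR : IsPGroup p R) (hRG : R ≤ G) :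
    ∃ S, S ≤ G ∧ IsPGroup p S ∧ C.Cor α R S := ⟨_, sh_le, sh_isPGroup, cor_sh hR hRG⟩

theorem Cor.le {R' S' : Subgroup (V ≃ₗ[F] V)} (h : C.Cor α R S) (h' : C.Cor α R' S')
    (hS : IsPGroup p S) (hS' : IsPGroup p S') (hle : R ≤ R') : S ≤ S' := fun y hy => by
  obtain ⟨x, hx, h1⟩ := h.2 y hy
  exact h'.mem hS' (hle hx) h1 (uni_of_mem hS hy)

theorem Cor.norm (h : C.Cor α R S) (hS : IsPGroup p S) {g k : V ≃ₗ[F] V} (hT : C.T α g k)
    (hn : ∀ x ∈ R, g * x * g⁻¹ ∈ R) : ∀ y ∈ S, k * y * k⁻¹ ∈ S := fun y hy => by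
  obtain ⟨x, hx, h1⟩ := h.2 y hy
  exact h.mem hS (hn x hx) (hT.conj h1) ((uni_of_mem hS hy).conj k)

/-- up to an inner automorphism a maximal `p`-subgroup is preserved -/
theorem exists_cor_syl [Finite V] (C : Cov G P) (α : MulAut P) (hU : IsSyl p G U) :
    ∃ g, ∃ hg : g ∈ G, C.Cor (C.aut ⟨GamL.lin g, lin_mem_Nrm hg⟩ * α) U U := by
  obtain ⟨S, h1, h2, h3⟩ := C.exists_cor α hU.2.1 hU.1
  have hS : IsSyl p G S := by
    refine ⟨h1, h2, fun R hRG hR hle => ?_⟩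
    obtain ⟨R', h4, h5, h6⟩ := C.exists_cor α⁻¹ hR hRG
    have h7 : U ≤ R' := h3.symm.le h6 hU.2.1 h5 hle
    have h8 : R' ≤ U := hU.2.2 R' h4 h5 h7
    have h9 := h6.symm
    rw [inv_inv] at h9
    exact h9.le h3 hR h2 h8
  obtain ⟨g, hg, h⟩ := hS.conj hU
  exact ⟨g, hg, h3.trans (cor_aut _ h1 h)⟩

end Cov

end P

end

end Cfsg.Agent.Perm.Aut
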