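import Cfsg.Agent.Lib.Perm.Aut9

/-! Orthogonal similarities and semisimilarities. -/

set_option autoImplicit false

namespace Cfsg.Agent.Perm.Aut

open Module Matrix Cfsg.Agent.Classical Cfsg.Agent.Classical.Form

universe u

section
variable {F V : Type*} [Field F] [AddCommGroup V] [Module F V]

/-- conjugation of isometries -/
def cjI {K : Kind F} [Cmp K] {Φ : Form K V} (s : Semi Φ) : Φ.Isom →* Φ.Isom :=
  MonoidHom.mk' (fun g => ⟨s.1.cj g.1, (Semi_le_Nrm_Isom s.2 _).1 g.2⟩) fun g k =>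
    Subtype.ext (s.1.cj_mul _ _)

@[simp] theorem cjI_coe {K : Kind F} [Cmp K] {Φ : Form K V} (s : Semi Φ) (g : Φ.Isom) :
    (cjI s g).1 = s.1.cj g.1 := rfl

variable {Φ : Form (Kind.orth F) V}

theorem IsSemi.N_ne {s : GamL F V} {l : F} (hs : IsSemi Φ s l) {v : V} (h : Φ.N v ≠ 0) : Φ.N (s.g v) ≠ 0 := by
  rw [hs.N]; exact mul_ne_zero hs.ne (by simpa using h)

theorem IsSemi.cj_refl {s : GamL F V} {l : F} (hs : IsSemi Φ s l) (v : V) (h : Φ.N v ≠ 0) :
    s.cj (Φ.refl v h) = Φ.refl (s.g v) (hs.N_ne h) := by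
  ext x
  obtain ⟨x, rfl⟩ := s.g.surjective x
  rw [GamL.cj_g, refl_apply, refl_apply, map_sub, s.smul', hs.N, hs.B]
  have := hs.ne
  simp only [map_mul, map_inv₀]
  congr 2
  by_cases h1 : s.τ (Φ.N v) = 0
  · simp [h1]
  field_simp

theorem cgl_refl {W : Type*} [AddCommGroup W] [Module F W] {Ψ : Form (Kind.orth F) W} {e : V ≃ₗ[F] W}
    (hB : ∀ u v, Ψ.B (e u) (e v) = Φ.B u v) (hN : ∀ v, Ψ.N (e v) = Φ.N v) (v : V) (h : Φ.N v ≠ 0) :
    cgl e (Φ.refl v h) = Ψ.refl (e v) (by rwa [hN]) := by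
  ext x
  obtain ⟨x, rfl⟩ := e.surjective x
  simp [refl_apply, hB, hN]

theorem sqSign_map [Finite F] (τ : F ≃+* F) (c : Fˣ) (d : Fˣ) (h : (d : F) = τ c) : sqSign F d = sqSign F c := by
  have key : IsSquare (d : F) ↔ IsSquare (c : F) := by
    rw [h]
    exact ⟨fun h => by simpa using h.map τ.symm, fun h => h.map τ⟩
  rcases Int.units_eq_one_or (sqSign F c) with h1 | h1
  · rw [h1, sqSign_eq_one_iff, key, ← sqSign_eq_one_iff, h1]
  · rw [h1, sqSign_eq_neg_one_iff, key, ← sqSign_eq_neg_one_iff, h1]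

variable [FiniteDimensional F V]

theorem det_sq_sim (hΦ : Φ.Nondeg) {g : V ≃ₗ[F] V} {l : F} (h : IsSemi Φ (GamL.lin g) l) :
    (LinearEquiv.det g : F) ^ 2 = l ^ finrank F V := by
  let b := Module.finBasis F V
  let B : V →ₗ[F] V →ₗ[F] F := Φ.B
  have h1 : (LinearMap.toMatrix₂ b b B).det ≠ 0 :=
    (LinearMap.separatingLeft_iff_det_ne_zero b).1 fun x hx => hΦ.left hx
  have h2 := LinearMap.toMatrix₂_compl₁₂ b b b b B (g : V →ₗ[F] V) (g : V →ₗ[F] V)
  have h3 : B.compl₁₂ (g : V →ₗ[F] V) (g : V →ₗ[F] V) = l • B := by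
    ext u v; exact h.B u v
  rw [h3, map_smul] at h2
  have h4 := congrArg Matrix.det h2
  rw [Matrix.det_smul, Matrix.det_mul, Matrix.det_mul, Matrix.det_transpose, LinearMap.det_toMatrix,
    Fintype.card_fin] at h4
  rw [LinearEquiv.coe_det]
  apply mul_right_cancel₀ h1
  rw [h4]; ring

theorem dick_cj (hG : Φ.Good) (hΦ : Φ.Nondeg) (s : Semi Φ) (g : Φ.Isom) :
    hG.dick hΦ (cjI s g) = hG.dick hΦ g := by
  have := hG.hom_extI hΦ (χ := (hG.dick hΦ).comp (cjI s)) (χ' := hG.dick hΦ) fun v h => by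
    have : cjI s (Φ.reflI v h) = Φ.reflI _ ((mu_spec s).N_ne h) := Subtype.ext ((mu_spec s).cj_refl v h)
    simp [this]
  exact DFunLike.congr_fun this g

variable [Finite F]

theorem spin_cj (hG : Φ.Good) (hΦ : Φ.Nondeg) (s : Semi Φ) (g : Φ.Isom) :
    hG.spin hΦ (cjI s g) = hG.spin hΦ g * if sqSign F (mu s) = 1 then 1 else hG.dick hΦ g := by
  have := hG.hom_extI hΦ (χ := (hG.spin hΦ).comp (cjI s))
    (χ' := hG.spin hΦ * if sqSign F (mu s) = 1 then 1 else hG.dick hΦ) fun v h => by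
    have h1 : cjI s (Φ.reflI v h) = Φ.reflI _ ((mu_spec s).N_ne h) := Subtype.ext ((mu_spec s).cj_refl v h)
    have h2 : Units.mk0 _ ((mu_spec s).N_ne h) = mu s * Units.mk0 (s.1.τ (Φ.N v)) (by simpa using h) :=
      Units.ext ((mu_spec s).N v)
    rw [MonoidHom.comp_apply, h1, hG.spin_reflI, h2, map_mul,
      sqSign_map s.1.τ (Units.mk0 _ h) (Units.mk0 (s.1.τ (Φ.N v)) _) rfl,
      MonoidHom.mul_apply, hG.spin_reflI, mul_comm]
    congr 1
    split_ifs with h3
    · simp [h3]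
    · simpa using Int.units_ne_iff_eq_neg.1 h3
  have h1 := DFunLike.congr_fun this g
  rw [MonoidHom.comp_apply, MonoidHom.mul_apply] at h1
  rw [h1]; split_ifs <;> rfl

theorem mem_E_iff (hG : Φ.Good) (hΦ : Φ.Nondeg) (hn : 3 ≤ finrank F V) {g : Φ.Isom} :
    g.1 ∈ Φ.E ↔ hG.dick hΦ g = 1 ∧ hG.spin hΦ g = 1 := by
  rw [hG.mem_E_iff hΦ hn, hG.mem_commutator_iff]

/-- minus one -/
def negI (Φ : Form (Kind.orth F) V) : Φ.Isom := ⟨LinearEquiv.neg F, neg_mem_Isom Φ⟩

omit [FiniteDimensional F V] [Finite F] in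
theorem negI_eq (Φ : Form (Kind.orth F) V) : (negI Φ).1 = scal V (-1) := by ext v; simp [negI]

omit [Finite F] in
theorem mem_ZG_iff (hΦ : Φ.Nondeg) (hn : 1 ≤ finrank F V) {H : Subgroup (V ≃ₗ[F] V)} (hH : H ≤ Φ.Isom)
    {g : Φ.Isom} : g.1 ∈ ZG H ↔ g.1 ∈ H ∨ (negI Φ * g).1 ∈ H := by
  haveI := Module.nontrivial_of_finrank_pos (R := F) (M := V) hn
  constructor
  · rintro ⟨c, k, hk, e⟩
    have h1 : scal V c ∈ Φ.Isom := by
      have := mul_mem g.2 (inv_mem (hH hk))
      rwa [e, mul_inv_cancel_right] at this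
    rcases orth_scalar hΦ h1 (c := c) (fun _ => rfl) with h | h
    · left; rwa [e, h, one_mul]
    · right
      have : (negI Φ * g).1 = k := by rw [Subgroup.coe_mul, e, h]; ext v; simp [negI]
      rwa [this]
  · rintro (h | h)
    · exact le_ZG _ h
    · exact ⟨-1, _, h, by ext v; simp [negI]⟩

end

section Plane
variable {F K : Type*} [Field F] [Field K] [Algebra F K] [Finite K]

theorem normForm_refl (h : finrank F K = 2) :
    ∃ δ hδ, (normForm h).refl δ hδ = (frobA F K).toLinearEquiv := by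
  obtain ⟨δ, h0, hδ⟩ := exists_skew (frobA F K).toRingEquiv.toRingHom
    (fun e => frobA_ne_one h (AlgEquiv.ext fun x => DFunLike.congr_fun e x)) (frobA_frobA h)
  replace hδ : frobA F K δ = -δ := hδ
  refine ⟨δ, fun e => h0 (normForm_aniso h _ e), LinearEquiv.ext fun x => ?_⟩
  rw [refl_apply, Algebra.smul_def, map_mul, map_inv₀, normForm_N, normForm_B, hδ]
  change _ = frobA F K x
  field_simp
  ring

end Plane

section Ex
variable {F : Type*} [Field F] [Finite F]

theorem exists_sim_aniso {V : Type*} [AddCommGroup V] [Module F V] [FiniteDimensional F V]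
    {Φ : Form (Kind.orth F) V} (hA : ∀ v, Φ.N v = 0 → v = 0) (hn : finrank F V = 2) (l : Fˣ) :
    ∃ d : V ≃ₗ[F] V, IsSemi Φ (GamL.lin d) l ∧ LinearEquiv.det d = l ∧
      ∃ v hv, d * Φ.refl v hv * d * Φ.refl v hv = scal V l := by
  obtain ⟨K, _, _, _, hK⟩ := exists_quad_ext F
  obtain ⟨e, hB, hN⟩ := (aniso_iso_normForm hK Φ hA hn).symm
  obtain ⟨δ, hδ, hr⟩ := normForm_refl hK
  obtain ⟨u, hu⟩ := orth_represents (normForm_nondeg hK) hK.ge (l : F)
  have hu0 : u ≠ 0 := by rintro rfl; exact l.ne_zero (by simpa using hu.symm)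
  have hu1 := normForm_N hK u
  rw [hu] at hu1
  have h1 : IsSemi (normForm hK) (GamL.lin (mulLin F (Units.mk0 u hu0))) l :=
    isSemi_orth l.ne_zero fun v => (algebraMap F K).injective (by
      simp only [GamL.lin_g, mulLin_apply, GamL.lin_τ, RingEquiv.refl_apply, map_mul, normForm_N, hu1,
        Units.val_mk0]
      ring)
  refine ⟨cgl e (mulLin F (Units.mk0 u hu0)), h1.cg hB hN, ?_, e δ, by rwa [hN], ?_⟩
  · rw [det_cgl]
    ext
    rw [LinearEquiv.coe_det, ← hu]
    change _ = Algebra.norm F u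
    rw [Algebra.norm_apply]
    congr 1
  · rw [← cgl_refl hB hN δ hδ, ← map_mul, ← map_mul, ← map_mul, hr, ← cgl_scal e]
    congr 1
    ext x
    simp only [LinearEquiv.mul_apply, mulLin_apply, Units.val_mk0, AlgEquiv.toLinearEquiv_apply, map_mul,
      frobA_frobA hK, scal_apply, Algebra.smul_def, hu1]
    ring

theorem exists_sim (h2 : (2 : F) ≠ 0) (l : Fˣ) (m : ℕ) :
    ∀ {V : Type u} [AddCommGroup V] [Module F V] [FiniteDimensional F V] (Φ : Form (Kind.orth F) V)
    (hΦ : Φ.Nondeg), finrank F V = 2 * m → ∃ d : V ≃ₗ[F] V, IsSemi Φ (GamL.lin d) l ∧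
      LinearEquiv.det d = l ^ m ∧ ∃ k : Φ.Isom, d * d = scal V l * k.1 ∧
        (good_of_two hΦ h2).spin hΦ k = sqSign F l ^ m := by
  induction m with
  | zero =>
    intro V _ _ _ Φ hΦ h
    have : Subsingleton V := Module.finrank_zero_iff.1 h
    exact ⟨1, isSemi_orth l.ne_zero fun v => by simp [Subsingleton.elim v 0], by simp, 1,
      LinearEquiv.ext fun v => Subsingleton.elim _ _, by simp⟩
  | succ m ih =>
    intro V _ _ _ Φ hΦ h
    rcases hyp_or_aniso hΦ with ⟨e, f, hh⟩ | hA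
    · obtain ⟨d', h1, h3, k', h4, h5⟩ := ih _ (hh.nondeg_hperp hΦ) (by have := hh.finrank_hperp; omega)
      obtain ⟨s, hs, hτ, he, hf, hw⟩ := exists_semi_ext hh d'.toAddEquiv (RingEquiv.refl F)
        (fun c w => d'.map_smul c w) l.ne_zero rfl h1.B h1.N
      obtain ⟨d, rfl⟩ := GamL.exists_lin (s := s) fun c => by rw [hτ]; rfl
      replace he : d e = (l : F) • e := he
      replace hf : d f = f := hf
      replace hw : ∀ w : Φ.hperp e f, d w = d' w := hw
      refine ⟨d, hs, ?_, ⟨Φ.dil e f hh l, Φ.dil_mem _ _ _ _⟩ * hh.extI k', ?_, ?_⟩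
      · have : (d : V →ₗ[F] V) = LinearMap.transvection (((l : F) - 1) • Φ.B.flip f) e ∘ₗ
            (hh.ext d' : V →ₗ[F] V) := by
          ext x
          obtain ⟨α, β, z, hz, rfl⟩ := hh.decomp x
          simp only [LinearEquiv.coe_coe, LinearMap.comp_apply, map_add, map_smul, hh.ext_e, hh.ext_f,
            hh.ext_perp _ ⟨z, hz⟩, he, hf, hw ⟨z, hz⟩, LinearMap.transvection.apply, LinearMap.smul_apply,
            LinearMap.flip_apply, hh.hef, hh.Bff, (Φ.mem_hperp.1 (d' ⟨z, hz⟩).2).2, smul_eq_mul]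
          module
        ext
        rw [LinearEquiv.coe_det, this, LinearMap.det_comp, LinearMap.transvection.det, ← LinearEquiv.coe_det,
          hh.det_ext, h3]
        simp [hh.hef, pow_succ']
      · ext x
        obtain ⟨α, β, z, hz, rfl⟩ := hh.decomp x
        have h6 := congrArg Subtype.val (DFunLike.congr_fun h4 ⟨z, hz⟩)
        simp only [LinearEquiv.mul_apply, scal_apply, Submodule.coe_smul] at h6
        change d (d _) = (l : F) • Φ.dil e f hh l (hh.ext k'.1 _)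
        simp only [map_add, map_smul, hh.ext_e, hh.ext_f, hh.ext_perp _ ⟨z, hz⟩, Φ.dil_e, Φ.dil_f, he, hf,
          hw ⟨z, hz⟩, hw, h6]
        rw [Φ.dil_of_perp _ _ _ _ (Φ.mem_hperp.1 (Subtype.prop _)).1 (Φ.mem_hperp.1 (Subtype.prop _)).2]
        have := l.ne_zero
        match_scalars <;> simp [this, mul_comm, mul_left_comm]
      · rw [map_mul, hh.spin_ext _ hΦ (good_of_two (hh.nondeg_hperp hΦ) h2), h5, Good.spin_dil, pow_succ']
    · have := aniso_finrank_le hA
      obtain rfl : m = 0 := by omega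
      obtain ⟨d, h1, h3, v, hv, h4⟩ := exists_sim_aniso hA h l
      refine ⟨d, h1, by simpa using h3, Φ.reflI _ (h1.N_ne hv) * Φ.reflI v hv, ?_, ?_⟩
      · rw [Subgroup.coe_mul, reflI_coe, reflI_coe, ← h1.cj_refl v hv, GamL.lin_cj]
        have h5 := Φ.refl_mul_self v hv
        have h6 := scal_comm (V := V) l
        generalize Φ.refl v hv = r at *
        generalize scal V l = c at *
        calc d * d = d * (r * r) * d * (r * r) := by simp [h5]
          _ = d * r * d⁻¹ * (d * r * d * r) * r := by group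
          _ = _ := by rw [h4, ← h6]; group
      · have h5 : Units.mk0 _ (h1.N_ne hv) = l * Units.mk0 _ hv := Units.ext (h1.N v)
        rw [map_mul, Good.spin_reflI, Good.spin_reflI, h5, map_mul, mul_assoc, Int.units_mul_self]
        simp

theorem exists_semi_minus {p f : ℕ} [Fact p.Prime] [Fintype F] [CharP F p] (hF : Fintype.card F = p ^ f)
    (m : ℕ) : ∀ {V : Type u} [AddCommGroup V] [Module F V] [FiniteDimensional F V]
    (Φ : Form (Kind.orth F) V), Φ.Nondeg → Φ.IsType (m + 1) (-1) →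
    ∃ s : GamL F V, IsSemi Φ s 1 ∧ s.τ = frob F p ∧ ∃ v hv, s ^ f = GamL.lin (Φ.refl v hv) := by
  induction m with
  | zero =>
    intro V _ _ _ Φ hΦ h
    obtain ⟨K, _, _, _, hK⟩ := exists_quad_ext F
    obtain ⟨e, hB, hN⟩ := (aniso_iso_normForm hK Φ (h.aniso hΦ) h.1).symm
    obtain ⟨δ, hδ, hr⟩ := normForm_refl hK
    haveI : CharP K p := charP_of_injective_algebraMap (algebraMap F K).injective p
    letI := Fintype.ofFinite K
    let s : GamL F K := ⟨(frob K p).toAddEquiv, frob F p, fun c v => by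
      change (c • v) ^ p = c ^ p • v ^ p
      exact smul_pow _ _ _⟩
    have hs : ∀ k v, (s ^ k).g v = v ^ p ^ k := by
      intro k
      induction k with
      | zero => simp
      | succ k ih =>
        intro v
        rw [pow_succ, GamL.mul_g, ih, pow_succ', pow_mul]; rfl
    have h1 : IsSemi (normForm hK) s 1 := isSemi_orth one_ne_zero fun v => (algebraMap F K).injective (by
      change algebraMap F K ((normForm hK).N (v ^ p)) = algebraMap F K (1 * ((normForm hK).N v) ^ p)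
      rw [one_mul, map_pow, normForm_N, normForm_N, map_pow, mul_pow])
    refine ⟨cg e s, h1.cg hB hN, rfl, e δ, by rwa [hN], ?_⟩
    rw [← map_pow, ← cgl_refl hB hN δ hδ, ← cg_lin, hr]
    congr 1
    refine GamL.ext_g fun v => ?_
    rw [hs, ← hF, ← Nat.card_eq_fintype_card]
    exact (frobA_apply v).symm
  | succ m ih =>
    intro V _ _ _ Φ hΦ h
    obtain ⟨e, f', hh⟩ := h.exists_hyp hΦ (by omega)
    obtain ⟨s', h1, h2, v, hv, h3⟩ := ih _ (hh.nondeg_hperp hΦ) ((hh.isType_iff _ _).1 h)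
    obtain ⟨s, hs, hτ, he, hf, hw⟩ := exists_semi_ext hh s'.g s'.τ s'.smul' one_ne_zero rfl h1.B h1.N
    rw [one_smul] at he
    refine ⟨s, hs, hτ.trans h2, v, hv, ?_⟩
    have key : ∀ k, (s ^ k).g e = e ∧ (s ^ k).g f' = f' ∧ ∀ w : Φ.hperp e f', (s ^ k).g w = (s' ^ k).g w := by
      intro k
      induction k with
      | zero => simp
      | succ k ih => simp [pow_succ, he, hf, hw, ih]
    have hτf : (s ^ f).τ = 1 := by
      rw [← GamL.tau_apply, map_pow, GamL.tau_apply, hτ, h2, ← (frob_spec F p hF).1, pow_orderOf_eq_one]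
    refine GamL.ext' (fun x => ?_) fun c => by rw [hτf]; rfl
    obtain ⟨α, β, z, hz, rfl⟩ := hh.decomp x
    rw [← hh.ext_refl (v := v) hv]
    simp only [map_add, GamL.smul', hτf, (key f).1, (key f).2.1, (key f).2.2 ⟨z, hz⟩, h3, GamL.lin_g, map_smul,
      hh.ext_e, hh.ext_f, hh.ext_perp _ ⟨z, hz⟩]
    rfl

end Ex

end Cfsg.Agent.Perm.Aut
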