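import Cfsg.Agent.Lib.Perm.Aut10

/-! Outer automorphisms of orthogonal groups. -/

set_option autoImplicit false

namespace Cfsg.Agent.Perm.Aut

open Module Matrix Cfsg.Agent.Classical Cfsg.Agent.Classical.Form

section Grp
variable {G O A : Type*} [Group G] [Group O] [Group A]

theorem sign_cast_inj {F : Type*} [Field F] (h2 : (2 : F) ≠ 0) {a b : ℤˣ} (h : ((a : ℤ) : F) = ((b : ℤ) : F)) :
    a = b := by
  have h3 : (1 : F) ≠ -1 := fun e => h2 (by linear_combination e)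
  rcases Int.units_eq_one_or a with rfl | rfl <;> rcases Int.units_eq_one_or b with rfl | rfl <;>
    simp_all [eq_comm]

theorem exists_sign_hom {F : Type*} [Field F] (h2 : (2 : F) ≠ 0) (ε : G →* Fˣ) (h : ∀ g, (ε g : F) ^ 2 = 1) :
    ∃ d : G →* ℤˣ, ∀ g, ((d g : ℤ) : F) = ε g := by
  have : ∀ g, ∃ a : ℤˣ, ((a : ℤ) : F) = ε g := fun g => by
    rcases mul_self_eq_one_iff.1 ((sq _).symm.trans (h g)) with h | h
    · exact ⟨1, by simp [h]⟩
    · exact ⟨-1, by simp [h]⟩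
  choose d hd using this
  exact ⟨MonoidHom.mk' d fun a b => sign_cast_inj h2 (by simp [hd]), hd⟩

theorem orderOf_eq_two_mul (τ : O →* A) {t : O} {f : ℕ} (hf : 1 ≤ f) (h1 : orderOf (τ t) = f) (h2 : t ^ f ≠ 1)
    (h3 : t ^ f * t ^ f = 1) : orderOf t = 2 * f := by
  have h4 : orderOf t ∣ 2 * f := by rw [orderOf_dvd_iff_pow_eq_one, two_mul, pow_add, h3]
  obtain ⟨k, hk⟩ : f ∣ orderOf t := h1 ▸ orderOf_map_dvd τ t
  rw [hk, mul_comm 2] at h4
  rcases (Nat.dvd_prime Nat.prime_two).1 (Nat.dvd_of_mul_dvd_mul_left hf h4) with rfl | rfl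
  · exact absurd (by rw [← mul_one f, ← hk, pow_orderOf_eq_one]) h2
  · rw [hk, mul_comm]

theorem nonempty_zmod_of_order {t : O} {n : ℕ} [Finite O] (h1 : orderOf t = n) (h2 : Nat.card O = n) :
    Nonempty (O ≃* Multiplicative (ZMod n)) := by
  have := isCyclic_of_orderOf_eq_card t (h1.trans h2.symm)
  rw [← h2]
  exact ⟨(zmodCyclicMulEquiv this).symm⟩

end Grp

section
variable {F V : Type*} [Field F] [Finite F] [AddCommGroup V] [Module F V] {Φ : Form (Kind.orth F) V}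

/-- isometries as similarities -/
abbrev inI (Φ : Form (Kind.orth F) V) : Φ.Isom →* Sim Φ := Subgroup.inclusion Isom_le_Sim

/-- scalars as similarities -/
def scS (Φ : Form (Kind.orth F) V) : Fˣ →* Sim Φ := (scal V).codRestrict _ scal_mem_Semi

/-- conjugation of similarities -/
def cjS (s : Semi Φ) (g : Sim Φ) : Sim Φ := ⟨s.1.cj g.1, ORep.cj_mem s g⟩

omit [Finite F] in
theorem cjS_inI (s : Semi Φ) (g : Φ.Isom) : cjS s (inI Φ g) = inI Φ (cjI s g) := rfl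

omit [Finite F] in
theorem cjS_mul (s : Semi Φ) (g k : Sim Φ) : cjS s (g * k) = cjS s g * cjS s k := Subtype.ext (s.1.cj_mul _ _)

omit [Finite F] in
theorem cjS_scS (s : Semi Φ) (c : Fˣ) : cjS s (scS Φ c) = scS Φ (Units.map s.1.τ.toMonoidHom c) :=
  Subtype.ext (cj_scal _ _)

theorem exists_decomp {g : Sim Φ} {l : Fˣ} (h : IsSemi Φ (GamL.lin g.1) l) (hl : sqSign F l = 1) :
    ∃ c k, g = scS Φ c * inI Φ k := by
  obtain ⟨c, hc⟩ := sqSign_eq_one_iff.1 hl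
  obtain ⟨d, -, k, hk, e⟩ := exists_isom_of_norm h (c := c) hc.symm
  exact ⟨d, ⟨k, hk⟩, Subtype.ext e⟩

variable [FiniteDimensional F V]

/-- the sign of the multiplier -/
noncomputable def sqM (hΦ : Φ.Nondeg) [Nontrivial V] : Semi Φ →* ℤˣ :=
  MonoidHom.mk' (fun s => sqSign F (mu s)) fun s t => by
    have : mu (s * t) = mu s * Units.map s.1.τ.toMonoidHom (mu t) :=
      Units.ext (mu_eq hΦ ((mu_spec s).mul (mu_spec t)))
    rw [this, map_mul, sqSign_map s.1.τ (mu t) (Units.map _ _) rfl]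

omit [FiniteDimensional F V] in
theorem sqM_eq (hΦ : Φ.Nondeg) [Nontrivial V] {s : Semi Φ} {l : Fˣ} (h : IsSemi Φ s.1 l) :
    sqM hΦ s = sqSign F l := congrArg (sqSign F) (Units.ext (mu_eq hΦ h))

/-- even-dimensional spaces -/
structure Ev (Φ : Form (Kind.orth F) V) (m : ℕ) : Prop where
  nd : Φ.Nondeg
  good : Φ.Good
  rk : finrank F V = 2 * m
  le : 2 ≤ m

namespace Ev
variable {m : ℕ} (H : Ev Φ m)
include H

omit [Finite F] [FiniteDimensional F V] in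
theorem nt : Nontrivial V := Module.nontrivial_of_finrank_pos (R := F) (by have := H.rk; have := H.le; omega)

omit [Finite F] [FiniteDimensional F V] in
theorem three : 3 ≤ finrank F V := by have := H.rk; have := H.le; omega

/-- Dickson invariant -/
noncomputable abbrev dk : Φ.Isom →* ℤˣ := H.good.dick H.nd
/-- spinor norm -/
noncomputable abbrev sp : Φ.Isom →* ℤˣ := H.good.spin H.nd
/-- multiplier -/
noncomputable def ml : Sim Φ →* Fˣ := haveI := H.nt; muL H.nd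
/-- sign of the multiplier -/
noncomputable def sq : Semi Φ →* ℤˣ := haveI := H.nt; sqM H.nd

omit [Finite F] [FiniteDimensional F V] in
theorem ml_spec (g : Sim Φ) : IsSemi Φ (GamL.lin g.1) (H.ml g) := haveI := H.nt; muL_spec H.nd g

omit [Finite F] [FiniteDimensional F V] in
theorem ml_eq {g : Sim Φ} {l : F} (h : IsSemi Φ (GamL.lin g.1) l) : (H.ml g : F) = l :=
  haveI := H.nt; muL_eq H.nd h

omit [FiniteDimensional F V] in
theorem sq_eq {s : Semi Φ} {l : Fˣ} (h : IsSemi Φ s.1 l) : H.sq s = sqSign F l := haveI := H.nt; sqM_eq H.nd h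

omit [FiniteDimensional F V] in
theorem sq_linI (g : Sim Φ) : H.sq (linI _ g) = sqSign F (H.ml g) := H.sq_eq (H.ml_spec g)

omit [Finite F] [FiniteDimensional F V] in
@[simp] theorem ml_inI (g : Φ.Isom) : H.ml (inI Φ g) = 1 := Units.ext (H.ml_eq (isSemi_lin g.2))

omit [Finite F] [FiniteDimensional F V] in
@[simp] theorem ml_scS (c : Fˣ) : H.ml (scS Φ c) = c ^ 2 :=
  Units.ext ((H.ml_eq (isSemi_scal c)).trans (by simp [_root_.sq]))

omit [Finite F] [FiniteDimensional F V] in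
theorem ml_cjS (s : Semi Φ) (g : Sim Φ) : (H.ml (cjS s g) : F) = s.1.τ (H.ml g) :=
  H.ml_eq ((mu_spec s).cj_sim (H.ml_spec g))

theorem exists_dS : ∃ d : Sim Φ →* ℤˣ, (∀ g, d (inI Φ g) = H.dk g) ∧ (∀ c, d (scS Φ c) = 1) ∧
    ((2 : F) ≠ 0 → ∀ g, ((d g : ℤ) : F) * H.ml g ^ m = LinearEquiv.det g.1) := by
  haveI := H.nt
  by_cases h2 : (2 : F) = 0
  · let φ : Fˣ × Φ.Isom →* Sim Φ := (scS Φ).noncommCoprod (inI Φ) fun c k => Subtype.ext (scal_comm c k.1)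
    have hφ : Function.Surjective φ := fun g => by
      obtain ⟨c, k, e⟩ := exists_decomp (H.ml_spec g) (sqSign_of_two h2 _)
      exact ⟨(c, k), e.symm⟩
    obtain ⟨d, hd⟩ := exists_lift φ hφ (H.dk.comp (MonoidHom.snd _ _)) fun ⟨c, k⟩ h => by
      have h1 : scal V c * k.1 = 1 := congrArg Subtype.val h
      have h3 : k = 1 := by
        rcases orth_scalar H.nd k.2 (c := ((c⁻¹ : Fˣ) : F)) (fun v => by
          rw [eq_inv_of_mul_eq_one_right h1, ← map_inv]; rfl) with h | h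
        · exact Subtype.ext h
        · refine Subtype.ext (h.trans (LinearEquiv.ext fun v => ?_))
          change -v = v
          linear_combination (norm := module) h2 • (-v)
      simp [h3]
    refine ⟨d, fun g => ?_, fun c => ?_, fun h => absurd h2 h⟩
    · have : φ (1, g) = inI Φ g := by change scS Φ 1 * _ = _; simp
      rw [← this, hd]; rfl
    · have : φ (c, 1) = scS Φ c := by change _ * inI Φ 1 = _; simp
      rw [← this, hd]; simp
  · let ε : Sim Φ →* Fˣ := (LinearEquiv.det.comp (Sim Φ).subtype) / ((powMonoidHom m).comp H.ml)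
    have hε : ∀ g, (ε g : F) * H.ml g ^ m = LinearEquiv.det g.1 := fun g => by simp [ε]
    obtain ⟨d, hd⟩ := exists_sign_hom h2 ε fun g => by
      have h1 := det_sq_sim H.nd (H.ml_spec g)
      rw [← hε, H.rk, mul_pow, ← pow_mul, mul_comm m] at h1
      exact mul_right_cancel₀ (pow_ne_zero _ (H.ml g).ne_zero) (h1.trans (one_mul _).symm)
    refine ⟨d, fun g => sign_cast_inj h2 ?_, fun c => sign_cast_inj h2 ?_, fun _ g => by rw [hd, hε]⟩
    · rw [hd, ← H.good.det_eq_dick]; simpa using hε (inI Φ g)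
    · have := hε (scS Φ c)
      rw [ml_scS, show (scS Φ c).1 = scal V c from rfl, det_scal, H.rk] at this
      rw [hd]
      refine mul_right_cancel₀ (pow_ne_zero (2 * m) c.ne_zero) ?_
      simpa [pow_mul] using this

/-- the Dickson invariant of a similarity -/
noncomputable def dS : Sim Φ →* ℤˣ := H.exists_dS.choose

@[simp] theorem dS_inI (g : Φ.Isom) : H.dS (inI Φ g) = H.dk g := H.exists_dS.choose_spec.1 g
@[simp] theorem dS_scS (c : Fˣ) : H.dS (scS Φ c) = 1 := H.exists_dS.choose_spec.2.1 c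
theorem dS_det (h2 : (2 : F) ≠ 0) (g : Sim Φ) : ((H.dS g : ℤ) : F) * H.ml g ^ m = LinearEquiv.det g.1 :=
  H.exists_dS.choose_spec.2.2 h2 g

theorem dS_eq_one (h2 : (2 : F) ≠ 0) {g : Sim Φ} : H.dS g = 1 ↔ LinearEquiv.det g.1 = H.ml g ^ m := by
  have := H.dS_det h2 g
  constructor
  · intro h
    ext; rw [← this, h]; simp
  · intro h
    rw [h] at this
    exact sign_cast_inj h2 (mul_right_cancel₀ (pow_ne_zero m (H.ml g).ne_zero) (by simpa using this))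

theorem dS_cjS (s : Semi Φ) (g : Sim Φ) : H.dS (cjS s g) = H.dS g := by
  by_cases h2 : (2 : F) = 0
  · obtain ⟨c, k, rfl⟩ := exists_decomp (H.ml_spec g) (sqSign_of_two h2 _)
    simp [cjS_mul, cjS_scS, cjS_inI, dick_cj]
  · have h1 := H.dS_det h2 (cjS s g)
    rw [ml_cjS, show (cjS s g).1 = s.1.cj g.1 from rfl, det_cj, ← H.dS_det h2 g, map_mul, map_pow,
      map_intCast] at h1
    exact sign_cast_inj h2 (mul_right_cancel₀ (pow_ne_zero m (by simp)) h1)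

theorem dk_neg : H.dk (negI Φ) = 1 := by
  rw [← H.dS_inI, show inI Φ (negI Φ) = scS Φ (-1) from Subtype.ext (negI_eq Φ), dS_scS]

theorem mem_E {g : Φ.Isom} : g.1 ∈ Φ.E ↔ H.dk g = 1 ∧ H.sp g = 1 := mem_E_iff H.good H.nd H.three

theorem mem_ZE {g : Φ.Isom} : g.1 ∈ ZG Φ.E ↔ H.dk g = 1 ∧ (H.sp g = 1 ∨ H.sp (negI Φ) = -1) := by
  rw [mem_ZG_iff H.nd (by have := H.three; omega) (E_le _), H.mem_E, H.mem_E, map_mul, map_mul, dk_neg, one_mul]
  rcases Int.units_eq_one_or (H.sp g) with h | h <;> rcases Int.units_eq_one_or (H.sp (negI Φ)) with h' | h' <;>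
    simp [h, h']

/-- the two sign invariants of a similarity -/
noncomputable def chi : Sim Φ →* ℤˣ × ℤˣ := H.dS.prod ((sqSign F).comp H.ml)

theorem chi_apply (g : Sim Φ) : H.chi g = (H.dS g, sqSign F (H.ml g)) := rfl

theorem chi_cjS (s : Semi Φ) (g : Sim Φ) : H.chi (cjS s g) = H.chi g := by
  rw [chi_apply, chi_apply, dS_cjS, sqSign_map s.1.τ _ _ (H.ml_cjS s g)]

theorem chi_scS (c : Fˣ) : H.chi (scS Φ c) = 1 := by simp [chi_apply, Prod.ext_iff, Int.units_sq]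

theorem chi_inI (g : Φ.Isom) : H.chi (inI Φ g) = (H.dk g, 1) := by simp [chi_apply]

theorem chi_eq_one {g : Sim Φ} : H.chi g = 1 ↔ ∃ c k, H.dk k = 1 ∧ g = scS Φ c * inI Φ k := by
  constructor
  · intro h
    obtain ⟨c, k, rfl⟩ := exists_decomp (H.ml_spec g) (congrArg Prod.snd h)
    rw [map_mul, chi_scS, chi_inI, one_mul] at h
    exact ⟨c, k, congrArg Prod.fst h, rfl⟩
  · rintro ⟨c, k, h, rfl⟩
    rw [map_mul, chi_scS, chi_inI, h]; rfl

theorem chi_of_ZE {g : Sim Φ} (h : g.1 ∈ ZG Φ.E) : H.chi g = 1 := by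
  obtain ⟨c, k, hk, e⟩ := h
  exact H.chi_eq_one.2 ⟨c, ⟨k, E_le _ hk⟩, (H.mem_E.1 hk).1, Subtype.ext e⟩

theorem scS_mul_mem {G : Subgroup (V ≃ₗ[F] V)} {c : Fˣ} {g : Sim Φ} :
    (scS Φ c * g).1 ∈ ZG G ↔ g.1 ∈ ZG G :=
  (ZG G).mul_mem_cancel_left (scal_mem_ZG G c)

theorem chi_eq_one_iff (h : H.sp (negI Φ) = -1) {g : Sim Φ} : H.chi g = 1 ↔ g.1 ∈ ZG Φ.E := by
  refine ⟨fun h1 => ?_, H.chi_of_ZE⟩
  obtain ⟨c, k, hk, rfl⟩ := H.chi_eq_one.1 h1
  exact H.scS_mul_mem.2 (H.mem_ZE.2 ⟨hk, Or.inr h⟩)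

theorem exists_d (h2 : (2 : F) ≠ 0) : ∃ d : Sim Φ, H.chi d = (1, -1) ∧ ∃ c k, d * d = scS Φ c * inI Φ k ∧
    H.dk k = 1 ∧ H.sp k = (-1) ^ m := by
  obtain ⟨a, ha⟩ := exists_not_isSquare h2
  have ha0 : a ≠ 0 := by rintro rfl; simp at ha
  obtain ⟨d, h1, h3, k, h4, h5⟩ := exists_sim h2 (Units.mk0 a ha0) m Φ H.nd H.rk
  have h6 : H.ml ⟨d, _, h1⟩ = Units.mk0 a ha0 := Units.ext (H.ml_eq h1)
  have h7 : sqSign F (Units.mk0 a ha0) = -1 := sqSign_eq_neg_one_iff.2 ha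
  have h8 : H.dS ⟨d, _, h1⟩ = 1 := (H.dS_eq_one h2).2 (by rw [h6, ← h3])
  have h9 : (⟨d, _, h1⟩ * ⟨d, _, h1⟩ : Sim Φ) = scS Φ (Units.mk0 a ha0) * inI Φ k := Subtype.ext h4
  refine ⟨⟨d, _, h1⟩, by rw [chi_apply, h6, h7, h8], _, k, h9, ?_, by rw [← h7]; exact h5⟩
  simpa [h8] using (congrArg H.dS h9).symm

theorem exists_refl : ∃ v hv, H.sp (Φ.reflI v hv) = 1 := by
  obtain ⟨v, hv⟩ := orth_represents H.nd (by have := H.three; omega) 1
  exact ⟨v, by simp [hv], by rw [H.good.spin_reflI, sqSign_eq_one_iff]; simp [hv]⟩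

theorem chi_surj (h2 : (2 : F) ≠ 0) : Function.Surjective H.chi := by
  obtain ⟨d, hd, -⟩ := H.exists_d h2
  obtain ⟨v, hv, -⟩ := H.exists_refl
  have hr : H.chi (inI Φ (Φ.reflI v hv)) = (-1, 1) := by simp [chi_inI]
  rintro ⟨a, b⟩
  rcases Int.units_eq_one_or a with rfl | rfl <;> rcases Int.units_eq_one_or b with rfl | rfl
  · exact ⟨1, map_one _⟩
  · exact ⟨d, hd⟩
  · exact ⟨_, hr⟩
  · exact ⟨d * inI Φ (Φ.reflI v hv), by rw [map_mul, hd, hr]; rfl⟩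

variable {O : Type*} [Group O] (R : ORep (Semi Φ) Φ.E O)

omit H [Finite F] [FiniteDimensional F V] in
theorem ρl_scS (c : Fˣ) : R.ρl (scS Φ c) = 1 := R.ρl_eq_one.2 (scal_mem_ZG _ c)

omit H [Finite F] [FiniteDimensional F V] in
theorem ρ_cjS (s : Semi Φ) (g : Sim Φ) : R.ρ s * R.ρl g * (R.ρ s)⁻¹ = R.ρl (cjS s g) := R.ρ_conj s g _

theorem ker_two (h2 : (2 : F) = 0) : Nonempty (R.tau.ker ≃* ℤˣ) := by
  obtain ⟨v, hv, -⟩ := H.exists_refl
  refine R.nonempty_ker Isom_le_Sim (fun g hg => ?_) H.dk (fun a => ?_) fun g => ?_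
  · obtain ⟨c, k, e⟩ := exists_decomp (H.ml_spec ⟨g, hg⟩) (sqSign_of_two h2 _)
    exact ⟨c, k.1, k.2, congrArg Subtype.val e⟩
  · rcases Int.units_eq_one_or a with rfl | rfl
    · exact ⟨1, map_one _⟩
    · exact ⟨Φ.reflI v hv, by simp⟩
  · simp [H.mem_ZE, H.good.spin_of_two H.nd h2]

theorem ker_A (h2 : (2 : F) ≠ 0) (h : H.sp (negI Φ) = -1) : Nonempty (R.tau.ker ≃* ℤˣ × ℤˣ) :=
  R.nonempty_ker le_rfl (le_ZG _) H.chi (H.chi_surj h2) fun _ => H.chi_eq_one_iff h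

theorem comm_A (h : H.sp (negI Φ) = -1) {x : O} (hx : x ∈ R.tau.ker) (t : O) : x * t = t * x := by
  obtain ⟨g, rfl⟩ := R.exists_ρl hx
  obtain ⟨s, rfl⟩ := R.surj t
  have : R.ρl (cjS s g) = R.ρl g := R.ρl_eq_iff.2 ((H.chi_eq_one_iff h (g := cjS s g * g⁻¹)).1 (by
    rw [map_mul, map_inv, chi_cjS, mul_inv_cancel]))
  rw [← ρ_cjS, mul_inv_eq_iff_eq_mul] at this
  exact this.symm

theorem ρl_inI_eq {g k : Φ.Isom} (h1 : H.dk g = H.dk k) (h2 : H.sp g = H.sp k) :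
    R.ρl (inI Φ g) = R.ρl (inI Φ k) :=
  R.ρl_eq_iff.2 (le_ZG _ ((H.mem_E (g := g * k⁻¹)).2 (by simp [h1, h2])))

theorem comm_isom {s : Semi Φ} (hs : H.sq s = 1) (g : Φ.Isom) :
    R.ρ s * R.ρl (inI Φ g) = R.ρl (inI Φ g) * R.ρ s := by
  rw [← mul_inv_eq_iff_eq_mul, ρ_cjS, cjS_inI]
  refine H.ρl_inI_eq R (dick_cj _ _ _ _) ?_
  rw [spin_cj, if_pos (by rw [← H.sq_eq (mu_spec s), hs]), mul_one]

/-- generators in the dihedral case -/
structure Gens (z r d : O) : Prop where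
  z1 : z ≠ 1
  zz : z * z = 1
  rr : r * r = 1
  zc : ∀ t, z * t = t * z
  dr : d * r = z * r * d
  dd : d * d = z ^ m
  hr : ∃ v hv, r = R.ρl (inI Φ (Φ.reflI v hv))
  hd : ∃ g, d = R.ρl g ∧ H.chi g = (1, -1)
  hz : ∀ g, H.chi g = 1 ↔ R.ρl g = 1 ∨ R.ρl g = z

theorem exists_gens (h2 : (2 : F) ≠ 0) (h : H.sp (negI Φ) = 1) : ∃ z r d, H.Gens R z r d := by
  obtain ⟨v, hv, w, hw, h1, h3⟩ := H.good.exists_refl_pair H.nd h2 (by have := H.three; omega)
  obtain ⟨d, hd, c, k, h4, h5, h6⟩ := H.exists_d h2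
  have hz1 : H.dk (Φ.reflI v hv * Φ.reflI w hw) = 1 := by simp
  have hz2 : H.sp (Φ.reflI v hv * Φ.reflI w hw) = -1 := by rw [map_mul, h1, h3]; rfl
  generalize Φ.reflI v hv * Φ.reflI w hw = z at hz1 hz2
  have hz : ∀ g, H.chi g = 1 ↔ R.ρl g = 1 ∨ R.ρl g = R.ρl (inI Φ z) := by
    intro g
    constructor
    · intro h1
      obtain ⟨c, k, hk, rfl⟩ := H.chi_eq_one.1 h1
      rw [map_mul, ρl_scS, one_mul]
      rcases Int.units_eq_one_or (H.sp k) with h | h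
      · left; rw [H.ρl_inI_eq R (k := 1) (by simp [hk]) (by simp [h])]; simp
      · right; exact H.ρl_inI_eq R (by rw [hk, hz1]) (by rw [h, hz2])
    · rintro (h1 | h1)
      · exact H.chi_of_ZE (R.ρl_eq_one.1 h1)
      · have := H.chi_of_ZE (g := g * (inI Φ z)⁻¹) (R.ρl_eq_iff.1 h1)
        rw [map_mul, map_inv, chi_inI, hz1] at this
        exact mul_inv_eq_one.1 this
  have z1 : R.ρl (inI Φ z) ≠ 1 := fun e => by
    have := (H.mem_ZE.1 (R.ρl_eq_one.1 e)).2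
    rw [hz2, h] at this
    revert this; decide
  refine ⟨R.ρl (inI Φ z), R.ρl (inI Φ (Φ.reflI v hv)), R.ρl d, z1, ?_, ?_, fun t => ?_, ?_, ?_,
    ⟨v, hv, rfl⟩, ⟨d, rfl, hd⟩, hz⟩
  · rw [← map_mul, ← map_mul, H.ρl_inI_eq R (k := 1) (by simp [hz1]) (by simp [hz2])]; simp
  · rw [← map_mul, ← map_mul, H.ρl_inI_eq R (k := 1) (by simp) (by simp)]; simp
  · obtain ⟨s, rfl⟩ := R.surj t
    rcases (hz (cjS s (inI Φ z))).1 (by rw [chi_cjS, chi_inI, hz1]; rfl) with h7 | h7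
    · rw [← ρ_cjS] at h7
      exact absurd (by simpa using h7) z1
    · rw [← ρ_cjS, mul_inv_eq_iff_eq_mul] at h7
      exact h7.symm
  · rw [← mul_inv_eq_iff_eq_mul, ← map_mul _ (inI Φ z), ← map_mul (inI Φ)]
    refine (ρ_cjS R (linI _ d) _).trans ?_
    rw [cjS_inI]
    refine H.ρl_inI_eq R (by rw [dick_cj, map_mul, hz1, one_mul]) ?_
    rw [spin_cj, if_neg (by
      rw [← H.sq_eq (mu_spec _), sq_linI, show sqSign F (H.ml d) = -1 from congrArg Prod.snd hd]; decide),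
      map_mul, hz2, mul_comm]
    simp
  · rw [← map_mul, h4, map_mul, ρl_scS, one_mul, ← map_pow, ← map_pow]
    exact H.ρl_inI_eq R (by simp [h5, hz1]) (by simp [h6, hz2])

variable {H R} {z r d : O}

theorem Gens.exists_chi : ∃ φ : R.tau.ker →* ℤˣ × ℤˣ, ∀ g, φ ⟨R.ρl g, R.ρl_mem g⟩ = H.chi g :=
  exists_lift (R.ρl.codRestrict _ R.ρl_mem) (fun x => by
    obtain ⟨g, hg⟩ := R.exists_ρl x.2
    exact ⟨g, Subtype.ext hg⟩) H.chi fun g hg => H.chi_of_ZE (R.ρl_eq_one.1 (congrArg Subtype.val hg))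

theorem Gens.chi_r (J : H.Gens R z r d) : ∃ g, r = R.ρl g ∧ H.chi g = (-1, 1) := by
  obtain ⟨v, hv, e⟩ := J.hr
  exact ⟨_, e, by simp [chi_inI]⟩

theorem Gens.chi_z (J : H.Gens R z r d) : ∃ g, z = R.ρl g ∧ H.chi g = 1 := by
  obtain ⟨g, rfl, h1⟩ := J.chi_r
  obtain ⟨k, rfl, h2⟩ := J.hd
  refine ⟨k * g * k⁻¹ * g⁻¹, ?_, by simp only [map_mul, map_inv, h1, h2]; decide⟩
  simp only [map_mul, map_inv, J.dr]; group

theorem Gens.card_ker (J : H.Gens R z r d) (h2 : (2 : F) ≠ 0) : Nat.card R.tau.ker = 8 := by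
  obtain ⟨φ, hφ⟩ := Gens.exists_chi (H := H) (R := R)
  rw [card_eq_of_surj φ fun a => by
    obtain ⟨g, rfl⟩ := H.chi_surj h2 a
    exact ⟨_, hφ g⟩]
  obtain ⟨g, rfl, h1⟩ := J.chi_z
  have : Nat.card φ.ker = 2 := by
    rw [Nat.card_eq_two_iff' 1]
    refine ⟨⟨⟨_, R.ρl_mem g⟩, (hφ g).trans h1⟩, fun e => J.z1 (congrArg (·.1.1) e), ?_⟩
    rintro ⟨⟨x, hx⟩, hx'⟩ hne
    obtain ⟨k, rfl⟩ := R.exists_ρl hx
    rcases (J.hz k).1 ((hφ k).symm.trans hx') with h | h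
    · exact absurd (Subtype.ext (Subtype.ext h)) hne
    · exact Subtype.ext (Subtype.ext h)
  rw [this]; simp

theorem Gens.dihedral (J : H.Gens R z r d) (h2 : (2 : F) ≠ 0) : Nonempty (R.tau.ker ≃* DihedralGroup 4) := by
  obtain ⟨φ, hφ⟩ := Gens.exists_chi (H := H) (R := R)
  have key : ∀ a : Sim Φ, R.ρl a * R.ρl a = z → R.ρl a * r = r * (R.ρl a)⁻¹ → (H.chi a).2 = -1 →
      Nonempty (R.tau.ker ≃* DihedralGroup 4) := by
    intro a h3 h4 h5
    obtain ⟨g, rfl, h1⟩ := J.chi_r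
    have ho : orderOf (⟨_, R.ρl_mem a⟩ : R.tau.ker) = 4 := by
      refine orderOf_eq_prime_pow (p := 2) (n := 1) (fun e => J.z1 ?_) (Subtype.ext ?_)
      · rw [← h3]; simpa [_root_.sq] using congrArg Subtype.val e
      · have := J.zz
        rw [← h3] at this
        simpa [pow_succ, mul_assoc] using this
    refine nonempty_dihedral_of_card ⟨_, R.ρl_mem a⟩ ⟨_, R.ρl_mem g⟩ ho (Subtype.ext J.rr) (Subtype.ext h4)
      ?_ (J.card_ker h2)
    rintro ⟨k, hk⟩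
    have h6 := congrArg φ hk
    rw [map_zpow, hφ, hφ, h1] at h6
    generalize H.chi a = x at h5 h6
    obtain ⟨x, y⟩ := x
    obtain rfl : y = -1 := h5
    rcases Int.even_or_odd k with hk | hk
    · obtain ⟨l, rfl⟩ := hk
      have := congrArg Prod.fst h6
      rw [_root_.zpow_add, ← mul_zpow] at this
      simp at this
    · have := congrArg Prod.snd h6
      simp [hk.neg_one_zpow] at this
  obtain ⟨a, rfl, h1⟩ := J.hd
  rcases Nat.even_or_odd m with hm | hm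
  · obtain ⟨g, e, h3⟩ := J.chi_r
    have h4 : R.ρl a * R.ρl a = 1 := by
      obtain ⟨l, rfl⟩ := hm
      rw [J.dd, ← two_mul, pow_mul, _root_.sq, J.zz, one_pow]
    refine key (a * g) ?_ ?_ (by rw [map_mul, h1, h3]; rfl)
    · rw [map_mul, ← e, ← mul_assoc, J.dr, mul_assoc _ _ (R.ρl a), h4, mul_one, mul_assoc, J.rr, mul_one]
    · rw [map_mul, ← e, mul_assoc, J.rr, mul_one, _root_.mul_inv_rev, inv_eq_of_mul_eq_one_right J.rr,
        ← mul_assoc, J.rr, one_mul, inv_eq_of_mul_eq_one_right h4]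
  · have h4 : R.ρl a * R.ρl a = z := by
      obtain ⟨l, rfl⟩ := hm
      rw [J.dd, pow_succ, pow_mul, _root_.sq, J.zz, one_pow, one_mul]
    refine key a h4 ?_ (by rw [h1])
    rw [J.dr, J.zc, mul_assoc]
    congr 1
    rw [eq_inv_iff_mul_eq_one, mul_assoc, h4, J.zz]

theorem Gens.exists_comm (J : H.Gens R z r d) {s : Semi Φ} (hs : H.sq s = 1) {k : ℕ} (hk : R.ρ s ^ k = 1) :
    ∃ t, R.tau t = s.1.τ ∧ t ^ k = 1 ∧ ∀ x ∈ R.tau.ker, x * t = t * x := by
  obtain ⟨a, rfl, h1⟩ := J.hd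
  obtain ⟨v, hv, hr⟩ := J.hr
  have key : ∀ s : Semi Φ, H.sq s = 1 → R.ρ s * R.ρl a = R.ρl a * R.ρ s →
      ∀ x ∈ R.tau.ker, x * R.ρ s = R.ρ s * x := by
    intro s hs h x hx
    obtain ⟨g, rfl⟩ := R.exists_ρl hx
    have h3 : ∀ g : Sim Φ, sqSign F (H.ml g) = 1 → Commute (R.ρ s) (R.ρl g) := fun g hg => by
      obtain ⟨c, k, rfl⟩ := exists_decomp (H.ml_spec g) hg
      rw [map_mul, ρl_scS, one_mul]; exact H.comm_isom R hs k
    rcases Int.units_eq_one_or (sqSign F (H.ml g)) with h4 | h4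
    · exact (h3 g h4).eq.symm
    · have := (h3 (g * a⁻¹) (by
        rw [map_mul, map_mul, map_inv, map_inv, h4, show sqSign F (H.ml a) = -1 from congrArg Prod.snd h1]
        rfl)).mul_right h
      rw [← map_mul, inv_mul_cancel_right] at this
      exact this.eq.symm
  rcases (J.hz (cjS s a * a⁻¹)).1 (by rw [map_mul, map_inv, chi_cjS, mul_inv_cancel]) with h | h
  · rw [map_mul, map_inv, ← ρ_cjS, mul_inv_eq_one, mul_inv_eq_iff_eq_mul] at h
    exact ⟨_, R.tau_ρ s, hk, key s hs h⟩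
  rw [map_mul, map_inv, ← ρ_cjS, mul_inv_eq_iff_eq_mul, mul_inv_eq_iff_eq_mul] at h
  have hc : Commute (R.ρ s) r := hr ▸ H.comm_isom R hs _
  have hke : Even k := by
    by_contra hk'
    have : ∀ n : ℕ, R.ρ s ^ n * R.ρl a = z ^ n * R.ρl a * R.ρ s ^ n := by
      intro n
      induction n with
      | zero => simp
      | succ n ih =>
        rw [pow_succ', mul_assoc, ih, ← mul_assoc, ← mul_assoc, ← (Commute.pow_left (J.zc _) n).eq,
          mul_assoc (z ^ n), h, pow_succ]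
        simp only [mul_assoc]
    have h5 := this k
    obtain ⟨l, rfl⟩ := Nat.not_even_iff_odd.1 hk'
    rw [hk, pow_succ, pow_mul, _root_.sq, J.zz] at h5
    exact J.z1 (by simpa using h5)
  have hsr : R.ρ (s * linI _ (inI Φ (Φ.reflI v hv))) = R.ρ s * r := by rw [map_mul, hr]; rfl
  refine ⟨_, R.tau_ρ (s * linI _ (inI Φ (Φ.reflI v hv))), ?_, key _ (by simp [hs, sq_linI]) ?_⟩
  · obtain ⟨l, rfl⟩ := hke
    rw [hsr, hc.mul_pow, hk, ← two_mul, pow_mul, _root_.sq, J.rr]; simp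
  · rw [hsr, ← mul_assoc, hc.eq, mul_assoc, h, mul_assoc (R.ρl a), hc.eq, ← mul_assoc (R.ρl a), J.dr, J.zc r]
    simp only [mul_assoc]

end Ev

end

end Cfsg.Agent.Perm.Aut
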