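import Cfsg.Agent.Lib.Perm.Aut11

/-! Outer automorphism groups of the orthogonal groups: structure theorems. -/

set_option autoImplicit false

namespace Cfsg.Agent.Perm.Aut

open Module Matrix Cfsg.Agent.Classical Cfsg.Agent.Classical.Form

section Odd
variable {F V : Type*} [Field F] [Finite F] [AddCommGroup V] [Module F V] {Φ : Form (Kind.orth F) V}
  [FiniteDimensional F V]

omit [Finite F] in
theorem odd_Sim_le (hΦ : Φ.Nondeg) (ho : Odd (finrank F V)) : Sim Φ ≤ ZG Φ.SIsom := by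
  rintro g ⟨l, hl⟩
  obtain ⟨k, hk⟩ := ho
  have h1 := det_sq_sim hΦ hl
  have h0 := hl.ne
  obtain ⟨d, hd, x, hx, e⟩ := exists_isom_of_norm hl (c := LinearEquiv.det g / l ^ k) (by
    rw [Kind.orth_σ, ← sq, div_pow, h1, hk]; field_simp; ring)
  refine ⟨d, x, Form.mem_SIsom.2 ⟨hx, Units.ext ?_⟩, e⟩
  have h2 := congrArg (fun y => (LinearEquiv.det y : F)) e
  simp only [map_mul, det_scal, Units.val_mul, Units.val_pow_eq_pow_val, hd, hk] at h2
  rw [hk] at h1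
  have h3 := (LinearEquiv.det g).ne_zero
  generalize (LinearEquiv.det g : F) = D at *
  have h4 : (D / l ^ k) ^ (2 * k + 1) = D := by
    have h5 : (D / l ^ k) ^ 2 = l := by rw [div_pow, h1]; field_simp; ring
    rw [pow_succ, pow_mul, h5]; field_simp
  rw [h4] at h2
  exact mul_left_cancel₀ h3 (h2.symm.trans (mul_one _).symm)

theorem odd_mem_ZE (hΦ : Φ.Nondeg) (ho : Odd (finrank F V)) (hn : 3 ≤ finrank F V) (hG : Φ.Good)
    {g : Φ.Isom} (hg : g.1 ∈ Φ.SIsom) : g.1 ∈ ZG Φ.E ↔ hG.spin hΦ g = 1 := by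
  have h2 := two_ne_of_odd hΦ ho
  have h1 := (hG.dick_eq_one_iff hΦ h2).2 (Form.mem_SIsom.1 hg).2
  have h3 : hG.dick hΦ (negI Φ) ≠ 1 := fun e => by
    have := (hG.dick_eq_one_iff hΦ h2).1 e
    rw [negI_eq, det_scal, ho.neg_one_pow] at this
    have h4 : (-1 : F) = 1 := by simpa using congrArg Units.val this
    exact h2 (by linear_combination -h4)
  rw [mem_ZG_iff hΦ (by omega) (E_le _), mem_E_iff hG hΦ hn, mem_E_iff hG hΦ hn, map_mul, h1]
  simp [h3]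

theorem odd_ker (hΦ : Φ.Nondeg) (ho : Odd (finrank F V)) (hn : 3 ≤ finrank F V) {O : Type*} [Group O]
    (R : ORep (Semi Φ) Φ.E O) : Nonempty (R.tau.ker ≃* ℤˣ) := by
  have h2 := two_ne_of_odd hΦ ho
  have hG := good_of_two hΦ h2
  have hle : Φ.SIsom ≤ Φ.Isom := inf_le_left
  refine R.nonempty_ker (hle.trans Isom_le_Sim) (odd_Sim_le hΦ ho)
    ((hG.spin hΦ).comp (Subgroup.inclusion hle)) (fun a => ?_) fun g =>
      (odd_mem_ZE hΦ ho hn hG (g := Subgroup.inclusion hle g) g.2).symm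
  obtain ⟨g, hg⟩ := hG.chi_surjective hΦ h2 (by omega) (1, a)
  exact ⟨⟨g.1, Form.mem_SIsom.2 ⟨g.2, (hG.dick_eq_one_iff hΦ h2).1 (congrArg Prod.fst hg)⟩⟩,
    congrArg Prod.snd hg⟩

end Odd

section Struct
variable {F : Type*} [Field F] [Fintype F] {p f : ℕ} [Fact p.Prime]

theorem two_eq_zero_iff (hF : Fintype.card F = p ^ f) : (2 : F) = 0 ↔ p = 2 := by
  haveI := charP_of_card' F p hF
  rw [show (2 : F) = (2 : ℕ) by simp, CharP.cast_eq_zero_iff F p, Nat.prime_dvd_prime_iff_eq Fact.out Nat.prime_two]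

theorem ORep.prod_fld {ι : Type} [Fintype ι] [DecidableEq ι] {Γ : Subgroup (GamL F (ι → F))} {G}
    {O : Type*} [Group O] (R : ORep Γ G O) (h : ∀ σ, fld ι σ ∈ Γ) (hF : Fintype.card F = p ^ f)
    (hc : ∀ x ∈ R.tau.ker, ∀ t, x * t = t * x) : Nonempty (O ≃* R.tau.ker × Multiplicative (ZMod f)) := by
  obtain ⟨e⟩ := nonempty_prod R.tau (R.ρ.comp ((fld ι).codRestrict _ h)) (fun a => R.tau_ρ _)
    fun x hx a => hc x hx _
  obtain ⟨a⟩ := nonempty_autF F p hF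
  exact ⟨e.trans ((MulEquiv.refl _).prodCongr a)⟩

theorem ORep.prod_two {ι : Type} [Fintype ι] [DecidableEq ι] {Γ : Subgroup (GamL F (ι → F))} {G}
    {O : Type*} [Group O] (R : ORep Γ G O) (h : ∀ σ, fld ι σ ∈ Γ) (hF : Fintype.card F = p ^ f)
    (e : R.tau.ker ≃* ℤˣ) : Nonempty (O ≃* Multiplicative (ZMod 2 × ZMod f)) := by
  obtain ⟨a⟩ := R.prod_fld h hF fun x hx t => comm_of_card_two (by rw [Nat.card_congr e.toEquiv]; simp) hx t
  exact ⟨a.trans (((e.trans signEquiv).prodCongr (MulEquiv.refl _)).trans (MulEquiv.prodMultiplicative _ _).symm)⟩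

variable {V : Type*} [AddCommGroup V] [Module F V] [FiniteDimensional F V] {Φ : Form (Kind.orth F) V} {m : ℕ}

theorem Ev.sp_neg (H : Ev Φ m) (h2 : (2 : F) ≠ 0) {η : ℤˣ} (h : Φ.IsType m η) :
    H.sp (negI Φ) = η * if Fintype.card F % 4 = 3 ∧ Odd m then -1 else 1 := by
  refine (spin_neg h2 m Φ H.nd h).trans ?_
  congr 1
  by_cases h1 : Fintype.card F % 4 = 3
  · rw [sqSign_neg_one.2 h1]
    rcases Nat.even_or_odd m with hm | hm
    · simp [hm.neg_one_pow, Nat.not_odd_iff_even.2 hm]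
    · simp [hm.neg_one_pow, h1, hm]
  · have : sqSign F (-1) = 1 := by
      rcases Int.units_eq_one_or (sqSign F (-1)) with h | h
      · exact h
      · exact absurd (sqSign_neg_one.1 h) h1
    simp [this, h1]

open _root_.Classical in
theorem Ev.card_ker (H : Ev Φ m) {O : Type*} [Group O] (R : ORep (Semi Φ) Φ.E O) :
    Nat.card R.tau.ker = if (2 : F) = 0 then 2 else if H.sp (negI Φ) = 1 then 8 else 4 := by
  split_ifs with h2 h
  · obtain ⟨e⟩ := H.ker_two R h2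
    rw [Nat.card_congr e.toEquiv]; simp
  · obtain ⟨z, r, d, J⟩ := H.exists_gens R h2 h
    exact J.card_ker h2
  · obtain ⟨e⟩ := H.ker_A R h2 (Int.units_ne_iff_eq_neg.1 h)
    rw [Nat.card_congr e.toEquiv]; simp

theorem Ev.prod_B (H : Ev Φ m) {O : Type*} [Group O] (R : ORep (Semi Φ) Φ.E O) (h2 : (2 : F) ≠ 0)
    (h : H.sp (negI Φ) = 1) (hF : Fintype.card F = p ^ f) [CharP F p] {s : Semi Φ} (hs : H.sq s = 1)
    (h1 : s.1.τ = frob F p) (hk : R.ρ s ^ f = 1) : Nonempty (O ≃* DihedralGroup 4 × Multiplicative (ZMod f)) := by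
  obtain ⟨z, r, d, J⟩ := H.exists_gens R h2 h
  obtain ⟨t, h3, h4, h5⟩ := J.exists_comm hs hk
  obtain ⟨h6, h7⟩ := frob_spec F p hF
  obtain ⟨e⟩ := nonempty_prod_cyc R.tau h7 (h3.trans h1) (by rwa [h6]) h5
  obtain ⟨a⟩ := nonempty_autF F p hF
  obtain ⟨b⟩ := J.dihedral h2
  exact ⟨e.trans (b.prodCongr a)⟩

theorem Ev.minus_gen (H : Ev Φ m) (ht : Φ.IsType m (-1)) {O : Type*} [Group O] (R : ORep (Semi Φ) Φ.E O)
    (hF : Fintype.card F = p ^ f) [CharP F p] : ∃ s : Semi Φ, H.sq s = 1 ∧ s.1.τ = frob F p ∧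
      orderOf (R.ρ s) = 2 * f := by
  obtain ⟨m, rfl⟩ : ∃ k, m = k + 1 := ⟨m - 1, by have := H.le; omega⟩
  obtain ⟨s, h1, h2, v, hv, h3⟩ := exists_semi_minus hF m Φ H.nd ht
  have hf : 1 ≤ f := by
    rcases f with _ | f
    · exact absurd hF (by simpa using Fintype.one_lt_card.ne')
    · omega
  have h4 : R.ρ ⟨s, 1, h1⟩ ^ f = R.ρl (inI Φ (Φ.reflI v hv)) := by
    rw [← map_pow]; exact congrArg R.ρ (Subtype.ext h3)
  refine ⟨⟨s, 1, h1⟩, (H.sq_eq (l := 1) h1).trans (map_one _), h2, orderOf_eq_two_mul R.tau hf ?_ ?_ ?_⟩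
  · rw [R.tau_ρ]; exact h2 ▸ (frob_spec F p hF).1
  · rw [h4]
    intro e
    simpa using (H.mem_ZE.1 (R.ρl_eq_one.1 e)).1
  · rw [h4, ← map_mul, ← map_mul, H.ρl_inI_eq R (k := 1) (by simp) (by simp)]; simp

theorem Ev.minus_surj (H : Ev Φ m) (ht : Φ.IsType m (-1)) {O : Type*} [Group O] (R : ORep (Semi Φ) Φ.E O)
    (hF : Fintype.card F = p ^ f) : Function.Surjective R.tau := fun σ => by
  haveI := charP_of_card' F p hF
  obtain ⟨s, -, h1, -⟩ := H.minus_gen ht R hF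
  obtain ⟨k, rfl⟩ := (frob_spec F p hF).2 σ
  exact ⟨R.ρ s ^ k, by rw [map_zpow, R.tau_ρ, h1]⟩

theorem one_le_of_card (hF : Fintype.card F = p ^ f) : 1 ≤ f := by
  rcases f with _ | f
  · exact absurd hF (by simpa using Fintype.one_lt_card.ne')
  · omega

theorem Ev.minus_two (H : Ev Φ m) (ht : Φ.IsType m (-1)) {O : Type*} [Group O] (R : ORep (Semi Φ) Φ.E O)
    (hF : Fintype.card F = p ^ f) (h2 : (2 : F) = 0) : IsCyclic O ∧ Nat.card O = 2 * f := by
  haveI := charP_of_card' F p hF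
  have h1 := R.card_eq hF (H.minus_surj ht R hF)
  rw [H.card_ker, if_pos h2] at h1
  obtain ⟨s, -, -, h3⟩ := H.minus_gen ht R hF
  haveI : Finite O := Nat.finite_of_card_ne_zero (by have := one_le_of_card hF; omega)
  exact ⟨isCyclic_of_orderOf_eq_card _ (h3.trans h1.symm), h1⟩

theorem Ev.minus_B (H : Ev Φ m) (ht : Φ.IsType m (-1)) {O : Type*} [Group O] (R : ORep (Semi Φ) Φ.E O)
    (hF : Fintype.card F = p ^ f) (h2 : (2 : F) ≠ 0) (h : p ^ f % 4 = 3 ∧ Odd m) :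
    Nonempty (O ≃* DihedralGroup 4 × Multiplicative (ZMod f)) := by
  haveI := charP_of_card' F p hF
  obtain ⟨s, h3, h4, h5⟩ := H.minus_gen ht R hF
  have hf : Odd f := by
    by_contra hf
    obtain ⟨k, rfl⟩ := Nat.not_odd_iff_even.1 hf
    have := h.1
    rw [pow_add, Nat.mul_mod] at this
    have h6 : p ^ k % 4 < 4 := Nat.mod_lt _ (by omega)
    generalize p ^ k % 4 = x at *
    interval_cases x <;> omega
  refine H.prod_B R h2 (by rw [H.sp_neg h2 (η := -1) ht, if_pos (hF ▸ h)]; rfl) hF (s := s ^ (f + 1))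
    (by rw [map_pow, h3, one_pow]) ?_ ?_
  · change GamL.tau (s.1 ^ (f + 1)) = _
    rw [map_pow, GamL.tau_apply, h4, pow_succ, ← (frob_spec F p hF).1, pow_orderOf_eq_one, one_mul]
  · obtain ⟨k, rfl⟩ := hf
    rw [map_pow, ← pow_mul, ← orderOf_dvd_iff_pow_eq_one, h5]
    exact ⟨k + 1, by ring⟩

theorem Ev.minus_A (H : Ev Φ m) (ht : Φ.IsType m (-1)) {O : Type*} [Group O] (R : ORep (Semi Φ) Φ.E O)
    (hF : Fintype.card F = p ^ f) (h2 : (2 : F) ≠ 0) (h : ¬ (p ^ f % 4 = 3 ∧ Odd m)) :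
    Nonempty (O ≃* Multiplicative (ZMod 2 × ZMod (2 * f))) := by
  haveI := charP_of_card' F p hF
  have hn : H.sp (negI Φ) = -1 := by rw [H.sp_neg h2 (η := -1) ht, if_neg (hF ▸ h)]; rfl
  have h1 := R.card_eq hF (H.minus_surj ht R hF)
  rw [H.card_ker, if_neg h2, if_neg (by rw [hn]; decide)] at h1
  obtain ⟨s, h3, -, h5⟩ := H.minus_gen ht R hF
  have hf := one_le_of_card hF
  haveI : Finite O := Nat.finite_of_card_ne_zero (by omega)
  obtain ⟨μ, hμ⟩ := exists_lift R.ρ R.surj H.sq fun t ht => by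
    obtain ⟨x, hx, e⟩ := (R.ker t).1 ht
    have h6 := H.chi_of_ZE (g := ⟨x, ZG_le_Sim ((E_le _).trans Isom_le_Sim) hx⟩) hx
    rw [show t = linI _ ⟨x, ZG_le_Sim ((E_le _).trans Isom_le_Sim) hx⟩ from Subtype.ext e, H.sq_linI]
    exact congrArg Prod.snd h6
  obtain ⟨d, hd, -⟩ := H.exists_d h2
  have hc : ∀ a : ℤˣ, a ∈ Subgroup.zpowers (-1 : ℤˣ) := fun a => by
    rcases Int.units_eq_one_or a with rfl | rfl
    exacts [one_mem _, Subgroup.mem_zpowers _]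
  obtain ⟨e⟩ := nonempty_prod_cyc μ hc (t := R.ρl d)
    ((hμ _).trans ((H.sq_linI d).trans (congrArg Prod.snd hd)))
    (by
      rw [show orderOf (-1 : ℤˣ) = 2 from orderOf_eq_prime (by decide) (by decide), ← map_pow, R.ρl_eq_one,
        ← H.chi_eq_one_iff hn, map_pow, hd]; decide)
    fun x _ => (H.comm_A R hn (R.ρl_mem d) x).symm
  have h7 := Nat.card_congr e.toEquiv
  rw [h1, Nat.card_prod, Nat.card_eq_fintype_card (α := ℤˣ), Fintype.card_units_int] at h7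
  obtain ⟨a⟩ := nonempty_zmod_of_order (t := (⟨R.ρ s, (hμ s).trans h3⟩ : μ.ker)) (n := 2 * f)
    (by rw [← Subgroup.orderOf_coe, h5]) (by omega)
  exact ⟨e.trans (MulEquiv.prodComm.trans ((signEquiv.prodCongr a).trans
    (MulEquiv.prodMultiplicative _ _).symm))⟩

theorem ev_plus (m : ℕ) (hm : 3 ≤ m) : Ev (plusForm m F) m :=
  ⟨plusForm_nondeg m, good_of_finrank (plusForm_nondeg m) (by rw [finrank_sum]; omega), finrank_sum m, by omega⟩

theorem ev_minus (m : ℕ) (hm : 2 ≤ m) {a b : F}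
    (hab : ∀ z₁ z₂ : F, z₁ ^ 2 + a * z₁ * z₂ + b * z₂ ^ 2 = 0 → z₁ = 0 ∧ z₂ = 0) :
    Ev (minusForm m F a b) (m + 1) :=
  ⟨minusForm_nondeg m hab, good_of_finrank (minusForm_nondeg m hab) (by rw [finrank_minus]; omega),
    finrank_minus m, by omega⟩

theorem plus_fld_mem (m : ℕ) (σ : F ≃+* F) : fld _ σ ∈ Semi (plusForm m F) := ⟨_, plus_fld m σ⟩

variable {O : Type*} [Group O]

theorem plus_two (hm : 3 ≤ m) (R : ORep (Semi (plusForm m F)) (plusForm m F).E O)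
    (hF : Fintype.card F = p ^ f) (h2 : (2 : F) = 0) : Nonempty (O ≃* Multiplicative (ZMod 2 × ZMod f)) := by
  obtain ⟨e⟩ := (ev_plus m hm).ker_two R h2
  exact R.prod_two (plus_fld_mem m) hF e

theorem plus_A (hm : 3 ≤ m) (R : ORep (Semi (plusForm m F)) (plusForm m F).E O)
    (hF : Fintype.card F = p ^ f) (h2 : (2 : F) ≠ 0) (h : p ^ f % 4 = 3 ∧ Odd m) :
    Nonempty (O ≃* Multiplicative (ZMod 2 × ZMod 2 × ZMod f)) := by
  have hn : (ev_plus m hm).sp (negI (plusForm m F)) = -1 := by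
    rw [(ev_plus m hm).sp_neg h2 (η := 1) (plusForm_isType m), if_pos (hF ▸ h)]; rfl
  obtain ⟨e⟩ := (ev_plus m hm).ker_A R h2 hn
  obtain ⟨a⟩ := R.prod_fld (plus_fld_mem m) hF fun x hx t => (ev_plus m hm).comm_A R hn hx t
  exact ⟨a.trans (((e.trans signEquiv2).prodCongr (MulEquiv.refl _)).trans
    ((MulEquiv.prodMultiplicative _ _).symm.trans (AddEquiv.toMultiplicative AddEquiv.prodAssoc)))⟩

theorem plus_B (hm : 3 ≤ m) (R : ORep (Semi (plusForm m F)) (plusForm m F).E O)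
    (hF : Fintype.card F = p ^ f) (h2 : (2 : F) ≠ 0) (h : ¬ (p ^ f % 4 = 3 ∧ Odd m)) :
    Nonempty (O ≃* DihedralGroup 4 × Multiplicative (ZMod f)) := by
  haveI := charP_of_card' F p hF
  refine (ev_plus m hm).prod_B R h2 (by
    rw [(ev_plus m hm).sp_neg h2 (η := 1) (plusForm_isType m), if_neg (hF ▸ h)]; rfl) hF
    (s := ⟨_, plus_fld_mem m (frob F p)⟩) (((ev_plus m hm).sq_eq (l := 1) (plus_fld m _)).trans (map_one _)) rfl ?_
  rw [← map_pow, ← map_one R.ρ]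
  congr 1
  refine Subtype.ext ?_
  change fld _ _ ^ f = 1
  rw [← map_pow, ← (frob_spec F p hF).1, pow_orderOf_eq_one, map_one]

theorem even_half_iff {q m : ℕ} (hq : q % 2 = 1) : Even (m * (q - 1) / 2) ↔ ¬ (q % 4 = 3 ∧ Odd m) := by
  obtain ⟨k, rfl⟩ : ∃ k, q = 2 * k + 1 := ⟨q / 2, by omega⟩
  rw [Nat.add_sub_cancel, mul_left_comm, Nat.mul_div_cancel_left _ two_pos, Nat.even_mul, Nat.even_iff,
    Nat.even_iff, Nat.odd_iff]
  omega

/-- the outer automorphism group of an orthogonal group -/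
noncomputable def orepO {ι : Type} [Fintype ι] [DecidableEq ι] (Φ : Form (Kind.orth F) (ι → F)) (hΦ : Φ.Nondeg)
    (hn : 5 ≤ finrank F (ι → F)) (h : (semiAut (repO Φ hΦ hn).cov).range = ⊤) :
    ORep (Semi Φ) Φ.E (Cfsg.Out (Cfsg.POmega F Φ.N)) :=
  (fth_orth hΦ (by omega) (repO Φ hΦ hn).cov).orep Semi_le_Nrm_E h

theorem card_autO {ι : Type} [Fintype ι] [DecidableEq ι] (Φ : Form (Kind.orth F) (ι → F)) (hΦ : Φ.Nondeg)
    (hn : 5 ≤ finrank F (ι → F)) : Nat.card (MulAut (Cfsg.POmega F Φ.N)) =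
      Nat.card (Cfsg.Out (Cfsg.POmega F Φ.N)) * Nat.card (Cfsg.POmega F Φ.N) :=
  haveI := Module.nontrivial_of_finrank_pos (R := F) (M := ι → F) (by omega)
  (fth_orth hΦ (by omega) (repO Φ hΦ hn).cov).card_aut

end Struct

end Cfsg.Agent.Perm.Aut
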