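import Cfsg.Agent.Lib.Perm.Aut12

/-! Parity of maximal singular subspaces, base change, and the named subgroups of automorphisms. -/

set_option autoImplicit false

namespace Cfsg.Agent.Perm.Aut

open Module Matrix Cfsg.Agent.Classical Cfsg.Agent.Classical.Form

section Par
variable {F V : Type*} [Field F] [AddCommGroup V] [Module F V] [FiniteDimensional F V]

theorem finrank_inf_ker (S : Submodule F V) (φ : V →ₗ[F] F) {u : V} (hu : u ∈ S) (h : φ u ≠ 0) :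
    finrank F (S ⊓ LinearMap.ker φ : Submodule F V) + 1 = finrank F S := by
  have h1 : φ.domRestrict S ≠ 0 := fun e => h (DFunLike.congr_fun e ⟨u, hu⟩)
  rw [← Module.Dual.finrank_ker_add_one_of_ne_zero h1, LinearMap.ker_domRestrict,
    ← Submodule.finrank_map_subtype_eq, Submodule.map_comap_subtype]

variable {Φ : Form (Kind.orth F) V}

theorem perp_eq_of_TS {K : Kind F} {Φ : Form K V} (hΦ : Φ.Nondeg) {U : Submodule F V} (hU : Φ.TS U)
    (h : finrank F V = 2 * finrank F U) : Φ.perp U = U :=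
  (Submodule.eq_of_le_of_finrank_eq hU.le_perp (by have := hΦ.finrank_perp U; omega)).symm

theorem par_refl (hΦ : Φ.Nondeg) {U W : Submodule F V} (hU : Φ.TS U) (hW : Φ.TS W) (h1 : Φ.perp U = U)
    (v : V) (hv : Φ.N v ≠ 0) :
    (-1 : ℤˣ) ^ finrank F (U ⊓ W.map (Φ.refl v hv : V →ₗ[F] V) : Submodule F V) =
      -(-1) ^ finrank F (U ⊓ W : Submodule F V) ∨ Φ.perp W ≠ W := by
  by_cases h2 : Φ.perp W = W
  swap
  · exact Or.inr h2
  left
  let φ : V →ₗ[F] F := Φ.B.flip v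
  have hφ : ∀ x, φ x = Φ.B x v := fun _ => rfl
  have hm : ∀ x, x ∈ W.map (Φ.refl v hv : V →ₗ[F] V) ↔ Φ.refl v hv x ∈ W := fun x =>
    ⟨by rintro ⟨y, hy, rfl⟩; simpa [refl_refl] using hy, fun h => ⟨_, h, Φ.refl_refl v hv x⟩⟩
  have hr : ∀ x, Φ.B (Φ.refl v hv x) v = -Φ.B x v := fun x => by
    have := (Φ.refl_mem v hv).1 x v
    rw [refl_self, map_neg] at this
    linear_combination -this
  have e1 : U ⊓ W.map (Φ.refl v hv : V →ₗ[F] V) ⊓ LinearMap.ker φ = U ⊓ W ⊓ LinearMap.ker φ := by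
    ext x
    simp only [Submodule.mem_inf, hm, LinearMap.mem_ker, hφ]
    exact and_congr_left fun h => by rw [Φ.refl_of_perp _ _ h]
  have both : ∀ a ∈ U ⊓ W, ∀ b ∈ U ⊓ W.map (Φ.refl v hv : V →ₗ[F] V), φ a = 0 ∨ φ b = 0 := by
    rintro a ⟨ha, ha'⟩ b ⟨hb, hb'⟩
    have h3 := hW.2 a ha' _ ((hm b).1 hb')
    rw [refl_apply, map_sub, Φ.orth_B_smul, hU.2 a ha b hb] at h3
    simpa [hv, hφ, or_comm] using h3
  obtain ⟨u, hu, hu', hn⟩ : ∃ u ∈ U, u ∈ Φ.perp (W ⊓ LinearMap.ker φ) ∧ u ∉ W ⊓ LinearMap.ker φ := by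
    by_contra hc
    push Not at hc
    have h3 : U ⊓ Φ.perp (W ⊓ LinearMap.ker φ) ≤ W ⊓ LinearMap.ker φ := fun x hx => hc x hx.1 hx.2
    have h4 := Φ.perp_anti h3
    rw [hΦ.perp_inf U, hΦ.perp_perp, h1] at h4
    have h5 : v ∈ Φ.perp (W ⊓ LinearMap.ker φ) := Φ.mem_perp'.2 fun x hx => hx.2
    obtain ⟨a, ha, b, hb, e⟩ := Submodule.mem_sup.1 (h4 h5)
    apply hv
    have h6 : Φ.B v b = 0 := Φ.mem_perp.1 h5 b hb
    rw [← e, map_add, LinearMap.add_apply, hW.2 b hb.1 b hb.1, add_zero] at h6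
    rw [← e, Φ.orth_N_add, hU.1 a ha, hW.1 b hb.1, h6]; simp
  have hk : LinearMap.ker φ = Φ.perp (F ∙ v) := by ext x; rw [Φ.mem_perp_singleton]; rfl
  rw [hk, hΦ.perp_inf, hΦ.perp_perp, h2] at hu'
  obtain ⟨w, hw, b, hb, rfl⟩ := Submodule.mem_sup.1 hu'
  obtain ⟨c, rfl⟩ := Submodule.mem_span_singleton.1 hb
  have h3 := hU.1 _ hu
  rw [Φ.orth_N_add, hW.1 w hw, Φ.orth_N_smul, Φ.orth_B_smul] at h3
  have h4 : c = 0 ∨ c * Φ.N v + Φ.B w v = 0 := mul_eq_zero.1 (by linear_combination h3)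
  rcases h4 with rfl | h4
  · rw [zero_smul, add_zero] at hu hn
    have h5 : φ w ≠ 0 := fun e => hn ⟨hw, e⟩
    have h6 : U ⊓ W.map (Φ.refl v hv : V →ₗ[F] V) ≤ LinearMap.ker φ := fun b hb =>
      (both w ⟨hu, hw⟩ b hb).resolve_left h5
    rw [← finrank_inf_ker (U ⊓ W) φ ⟨hu, hw⟩ h5, ← e1, inf_eq_left.2 h6, pow_succ]; simp
  · have h7 : w + c • v = Φ.refl v hv w := by
      rw [refl_apply, show (Φ.N v)⁻¹ * Φ.B w v = -c by field_simp; linear_combination h4]; simp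
    rw [h7] at hu hn
    have h8 : Φ.refl v hv w ∈ W.map (Φ.refl v hv : V →ₗ[F] V) := ⟨w, hw, rfl⟩
    have h5 : φ (Φ.refl v hv w) ≠ 0 := fun e => hn ⟨by
      rwa [Φ.refl_of_perp _ _ (neg_eq_zero.1 ((hr w).symm.trans e))], e⟩
    have h6 : U ⊓ W ≤ LinearMap.ker φ := fun a ha => (both a ha _ ⟨hu, h8⟩).resolve_right h5
    rw [← finrank_inf_ker _ φ (Submodule.mem_inf.2 ⟨hu, h8⟩) h5, e1, inf_eq_left.2 h6, pow_succ]; simp

theorem par_isom (hG : Φ.Good) (hΦ : Φ.Nondeg) {U W : Submodule F V} (hU : Φ.TS U) (hW : Φ.TS W)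
    (h1 : finrank F V = 2 * finrank F U) (h2 : finrank F V = 2 * finrank F W) (g : Φ.Isom) :
    (-1 : ℤˣ) ^ finrank F (U ⊓ W.map (g.1 : V →ₗ[F] V) : Submodule F V) =
      hG.dick hΦ g * (-1) ^ finrank F (U ⊓ W : Submodule F V) := by
  obtain ⟨g, hg⟩ := g
  refine hG.induction hΦ (P := fun g => ∀ hg : g ∈ Φ.Isom,
    (-1 : ℤˣ) ^ finrank F (U ⊓ W.map (g : V →ₗ[F] V) : Submodule F V) =
      hG.dick hΦ ⟨g, hg⟩ * (-1) ^ finrank F (U ⊓ W : Submodule F V)) (fun _ => ?_) (fun v h g hg ih _ => ?_) g hg hg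
  · rw [show (⟨1, _⟩ : Φ.Isom) = 1 from rfl, map_one, one_mul,
      show ((1 : V ≃ₗ[F] V) : V →ₗ[F] V) = LinearMap.id from rfl, Submodule.map_id]
  · have h3 := (par_refl hΦ hU (hW.map hg) (perp_eq_of_TS hΦ hU h1) v h).resolve_right
      (not_not.2 (perp_eq_of_TS hΦ (hW.map hg) (by rwa [LinearEquiv.finrank_map_eq])))
    rw [← Submodule.map_comp, ih hg] at h3
    rw [show (⟨Φ.refl v h * g, _⟩ : Φ.Isom) = Φ.reflI v h * ⟨g, hg⟩ from rfl, map_mul, hG.dick_reflI]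
    exact h3.trans (by simp)

variable [Finite F] {m : ℕ}

theorem exists_sim_plus (m : ℕ) (l : Fˣ) : ∃ g, IsSemi (plusForm m F) (GamL.lin g) l ∧
    LinearEquiv.det g = l ^ m ∧ (plusTS m F).map (g : _ →ₗ[F] _) = plusTS m F := by
  let D : (Fin m ⊕ Fin m → F)ˣ := ⟨Sum.elim (fun _ => l) fun _ => 1, Sum.elim (fun _ => (l⁻¹ : Fˣ)) fun _ => 1,
    by ext (i | i) <;> simp, by ext (i | i) <;> simp⟩
  let g : GL (Fin m ⊕ Fin m) F := Units.map (Matrix.diagonalRingHom _ F).toMonoidHom D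
  have hg : ∀ v i, glEquiv g v i = D.1 i * v i := fun v i => Matrix.mulVec_diagonal D.1 v i
  refine ⟨glEquiv g, isSemi_orth l.ne_zero fun v => ?_, ?_, ?_⟩
  · simp only [plusForm_N, Cfsg.quadFormPlus, GamL.lin_g, hg, GamL.lin_τ, RingEquiv.refl_apply, Finset.mul_sum]
    exact Finset.sum_congr rfl fun i _ => by simp [D]; ring
  · ext
    rw [det_glEquiv]
    change (Matrix.diagonal D.1).det = _
    simp [D, Matrix.det_diagonal]
  · refine stab_iff_map_eq.1 fun v => ?_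
    simp only [mem_plusTS, hg]; simp [D]

theorem Ev.par_dS (H : Ev Φ m) {U : Submodule F V} (hU : Φ.TS U) (h1 : finrank F U = m) (g : Sim Φ) :
    Even (finrank F U - finrank F (U ⊓ U.map (g.1 : V →ₗ[F] V) : Submodule F V)) ↔ H.dS g = 1 := by
  suffices h : (-1 : ℤˣ) ^ finrank F (U ⊓ U.map (g.1 : V →ₗ[F] V) : Submodule F V) =
      H.dS g * (-1) ^ finrank F U by
    have h2 : finrank F (U ⊓ U.map (g.1 : V →ₗ[F] V) : Submodule F V) ≤ finrank F U :=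
      Submodule.finrank_mono inf_le_left
    rw [← Nat.add_sub_cancel' h2, pow_add, ← mul_assoc, mul_comm (H.dS g), mul_assoc, left_eq_mul,
      mul_eq_one_iff_eq_inv, Int.units_inv_eq_self] at h
    rw [h, neg_one_pow_eq_one_iff_even (by decide)]
  have hsc : ∀ (c : Fˣ) (W : Submodule F V), W.map (scal V c : V →ₗ[F] V) = W := fun c W =>
    stab_iff_map_eq.1 fun v => (W.smul_mem_iff c.ne_zero).symm
  have h2 : finrank F V = 2 * finrank F U := by rw [h1, H.rk]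
  have key : ∀ g : Sim Φ, sqSign F (H.ml g) = 1 → ∀ W : Submodule F V, Φ.TS W → finrank F W = m →
      (-1 : ℤˣ) ^ finrank F (U ⊓ W.map (g.1 : V →ₗ[F] V) : Submodule F V) =
        H.dS g * (-1) ^ finrank F (U ⊓ W : Submodule F V) := by
    intro g hg W hW h3
    obtain ⟨c, k, rfl⟩ := exists_decomp (H.ml_spec g) hg
    rw [map_mul, H.dS_scS, H.dS_inI, one_mul, ← par_isom H.good H.nd hU hW h2 (by rw [h3, H.rk]) k,
      ← hsc c (W.map (k.1 : V →ₗ[F] V)), ← Submodule.map_comp]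
    rfl
  rcases Int.units_eq_one_or (sqSign F (H.ml g)) with h3 | h3
  · have := key g h3 U hU h1
    rwa [inf_idem] at this
  have h4 : (2 : F) ≠ 0 := fun e => by rw [sqSign_of_two e] at h3; revert h3; decide
  obtain ⟨e, hB, hN⟩ := orth_iso_even 1 m _ Φ (plusForm_nondeg m) H.nd (plusForm_isType m)
    (isType_of_TS m Φ U H.nd H.rk h1 hU)
  obtain ⟨d, h5, h6, h7⟩ := exists_sim_plus m (H.ml g)
  let d' : Sim Φ := ⟨cgl e d, _, h5.cg hB hN⟩
  have h8 : H.ml d' = H.ml g := Units.ext (H.ml_eq (h5.cg hB hN))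
  have h9 : H.dS d' = 1 := (H.dS_eq_one h4).2 (by rw [h8, ← h6]; exact det_cgl e d)
  let W := (plusTS m F).map (e : _ →ₗ[F] V)
  have hW : Φ.TS W := TS_orth (by rintro _ ⟨w, hw, rfl⟩; exact (hN w).trans ((plusTS_TS m).1 w hw))
  have hW1 : finrank F W = m := (LinearEquiv.finrank_map_eq e _).trans (finrank_plusTS m)
  have hW2 : W.map (d'.1 : V →ₗ[F] V) = W := by
    refine Eq.trans ?_ (congrArg (Submodule.map (e : (Fin m ⊕ Fin m → F) →ₗ[F] V)) h7)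
    rw [← Submodule.map_comp, ← Submodule.map_comp]
    congr 1; ext; simp [d']
  obtain ⟨k, hk, hk'⟩ := TS.exists_map_eq H.nd hW hU (hW1.trans h1.symm)
  have e1 := key (inI Φ ⟨k, hk⟩) (by simp) W hW hW1
  have e2 := key (g * inI Φ ⟨k, hk⟩ * d'⁻¹) (by simp [h8]) W hW hW1
  have e3 : W.map ((g * inI Φ ⟨k, hk⟩ * d'⁻¹).1 : V →ₗ[F] V) = U.map (g.1 : V →ₗ[F] V) := by
    refine (congrArg (Submodule.map ((g * inI Φ ⟨k, hk⟩ * d'⁻¹).1 : V →ₗ[F] V)) hW2.symm).trans ?_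
    rw [← hk', ← Submodule.map_comp, ← Submodule.map_comp (k : V →ₗ[F] V)]
    congr 1; ext; simp
  rw [e3, map_mul, map_mul, map_inv, h9, inv_one, mul_one, mul_assoc, ← e1] at e2
  rw [e2, show (inI Φ ⟨k, hk⟩).1 = k from rfl, hk', inf_idem]

end Par

section PS
variable {F : Type*} [Field F] [Finite F] {ι : Type} [Fintype ι] [DecidableEq ι] {Φ : Form (Kind.orth F) (ι → F)}
  {m : ℕ}

theorem Ev.ps_iff (H : Ev Φ m) (ht : Φ.IsType m 1) {g : GL ι F} (hg : glEquiv g ∈ Sim Φ) :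
    Cfsg.PreservesSingularClasses Φ.N (g : Matrix ι ι F) ↔ H.dS ⟨_, hg⟩ = 1 := by
  obtain ⟨W, h1, hW⟩ := (isType_one_iff H.nd H.rk).1 ht
  have h2 : ∀ U : Submodule F (ι → F), Cfsg.imageSubmodule (g : Matrix ι ι F) U =
      U.map (glEquiv g : (ι → F) →ₗ[F] (ι → F)) := fun U => rfl
  constructor
  · intro h
    refine (H.par_dS hW h1 ⟨_, hg⟩).1 (h W ⟨hW.1, fun U hU hle => ?_⟩)
    refine (Submodule.eq_of_le_of_finrank_le hle ?_).symm
    have := (TS_orth hU).two_finrank_le H.nd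
    rw [H.rk] at this; omega
  · intro h U hU
    have h3 := (TS_orth hU.1).two_finrank_le H.nd
    rw [H.rk] at h3
    obtain ⟨k, hk, h4⟩ := TS.exists_map_le H.nd (TS_orth hU.1) hW (by omega)
    have h5 := hU.2 (W.map (k⁻¹ : _ ≃ₗ[F] _).toLinearMap) (hW.map (inv_mem hk)).1 fun x hx =>
      ⟨k x, h4 ⟨x, hx, rfl⟩, by simp⟩
    exact (H.par_dS (TS_orth hU.1) (by rw [← h5, LinearEquiv.finrank_map_eq, h1]) ⟨_, hg⟩).2 h

end PS

section BC
variable {F V : Type*} [Field F] [AddCommGroup V] [Module F V]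

theorem isSemi_of_basis {K : Kind F} [hK : Cmp K] {Φ : Form K V} {ι : Type*} (b : Basis ι F V) {s : GamL F V}
    {l : F} (hl : l ≠ 0) (hl' : K.σ l = l) (hB : ∀ i j, Φ.B (s.g (b i)) (s.g (b j)) = l * s.τ (Φ.B (b i) (b j)))
    (hN : ∀ i, Φ.N (s.g (b i)) = l * s.τ (Φ.N (b i))) : IsSemi Φ s l := by
  have h0 : ∀ v, v ∈ Submodule.span F (Set.range b) := by simp
  have hB' : ∀ u v, Φ.B (s.g u) (s.g v) = l * s.τ (Φ.B u v) := by
    intro u v
    induction h0 u using Submodule.span_induction with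
    | mem x hx =>
      obtain ⟨i, rfl⟩ := hx
      induction h0 v using Submodule.span_induction with
      | mem x hx => obtain ⟨j, rfl⟩ := hx; exact hB i j
      | zero => simp
      | add x y _ _ hx hy => simp [hx, hy, mul_add]
      | smul c x _ hx => simp [s.smul', hx, hK.σ, mul_left_comm]
    | zero => simp
    | add x y _ _ hx hy => simp [hx, hy, mul_add]
    | smul c x _ hx => simp [s.smul', hx, mul_left_comm]
  refine ⟨hl, hl', hB', fun v => ?_⟩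
  induction h0 v using Submodule.span_induction with
  | mem x hx => obtain ⟨i, rfl⟩ := hx; exact hN i
  | zero => simp
  | add x y _ _ hx hy => simp [Φ.N_add, hx, hy, hB', hK.Tl _ _ hl', hK.T, mul_add]
  | smul c x _ hx => simp [s.smul', Φ.N_smul, hx, hK.σ, mul_left_comm]

variable {F₀ : Type*} [Field F₀] (φ : F₀ →+* F) {ι : Type} [Fintype ι] [DecidableEq ι]

/-- base change of vectors -/
def jv (v : ι → F₀) : ι → F := fun i => φ (v i)

omit [Fintype ι] [DecidableEq ι] in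
theorem jv_add (u v : ι → F₀) : jv φ (u + v) = jv φ u + jv φ v := by ext; simp [jv]
omit [Fintype ι] [DecidableEq ι] in
theorem jv_sub (u v : ι → F₀) : jv φ (u - v) = jv φ u - jv φ v := by ext; simp [jv]
omit [Fintype ι] [DecidableEq ι] in
theorem jv_smul (c : F₀) (v : ι → F₀) : jv φ (c • v) = φ c • jv φ v := by ext; simp [jv]
omit [Fintype ι] [DecidableEq ι] in
theorem jv_inj : Function.Injective (jv φ : (ι → F₀) → ι → F) := fun _ _ h =>
  funext fun i => φ.injective (congrFun h i)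
omit [DecidableEq ι] in
theorem jv_basis (i : ι) : jv φ (Pi.basisFun F₀ ι i) = Pi.basisFun F ι i := by
  classical
  ext j; simp [jv, Pi.single_apply]

/-- base change of linear maps -/
noncomputable def bc : ((ι → F₀) ≃ₗ[F₀] (ι → F₀)) →* ((ι → F) ≃ₗ[F] (ι → F)) :=
  (glEquiv.toMonoidHom.comp (Matrix.GeneralLinearGroup.map φ)).comp glEquiv.symm.toMonoidHom

theorem bc_gl (g : GL ι F₀) : bc φ (glEquiv g) = glEquiv (Matrix.GeneralLinearGroup.map φ g) := by simp [bc]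

@[simp] theorem bc_jv (x : (ι → F₀) ≃ₗ[F₀] (ι → F₀)) (v : ι → F₀) : bc φ x (jv φ v) = jv φ (x v) := by
  obtain ⟨g, rfl⟩ := glEquiv.surjective x
  rw [bc_gl]
  ext i
  simp [jv, Matrix.mulVec, dotProduct, map_sum]

theorem ext_jv {x y : (ι → F) ≃ₗ[F] (ι → F)} (h : ∀ v, x (jv φ v) = y (jv φ v)) : x = y :=
  (Pi.basisFun F ι).ext' fun i => by rw [← jv_basis φ, h]

theorem bc_inj : Function.Injective (bc φ (ι := ι)) := fun x y h => LinearEquiv.ext fun v =>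
  jv_inj φ (by rw [← bc_jv, h, bc_jv])

theorem bc_scal (c : F₀ˣ) : bc φ (scal (ι → F₀) c) = scal _ (Units.map φ.toMonoidHom c) :=
  ext_jv φ fun v => by simp [jv_smul]

theorem det_bc (x : (ι → F₀) ≃ₗ[F₀] (ι → F₀)) :
    (LinearEquiv.det (bc φ x) : F) = φ (LinearEquiv.det x) := by
  obtain ⟨g, rfl⟩ := glEquiv.surjective x
  rw [bc_gl, det_glEquiv, det_glEquiv]
  exact (φ.map_det g.1).symm

/-- a form obtained by base change -/
structure BC {K₀ : Kind F₀} {K : Kind F} (Φ₀ : Form K₀ (ι → F₀)) (Φ : Form K (ι → F)) : Prop where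
  σ : ∀ a, φ (K₀.σ a) = K.σ (φ a)
  B : ∀ u v, Φ.B (jv φ u) (jv φ v) = φ (Φ₀.B u v)
  N : ∀ v, Φ.N (jv φ v) = φ (Φ₀.N v)

variable {φ} {K₀ : Kind F₀} {K : Kind F} {Φ₀ : Form K₀ (ι → F₀)} {Φ : Form K (ι → F)}

theorem BC.isSemi [Cmp K] (h : BC φ Φ₀ Φ) {x} {l : F₀} (hx : IsSemi Φ₀ (GamL.lin x) l) :
    IsSemi Φ (GamL.lin (bc φ x)) (φ l) :=
  isSemi_of_basis (Pi.basisFun F ι) (by simpa using hx.ne) (by rw [← h.σ, hx.σl])
    (fun i j => by simpa [← jv_basis φ, h.B] using congrArg φ (hx.B _ _))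
    (fun i => by simpa [← jv_basis φ, h.N] using congrArg φ (hx.N _))

theorem BC.isSemi' (h : BC φ Φ₀ Φ) {x} {l : F₀} (hx : IsSemi Φ (GamL.lin (bc φ x)) (φ l)) :
    IsSemi Φ₀ (GamL.lin x) l :=
  ⟨by simpa using hx.ne, φ.injective (by rw [h.σ, hx.σl]),
    fun u v => φ.injective (by simpa [h.B] using hx.B (jv φ u) (jv φ v)),
    fun v => φ.injective (by simpa [h.N] using hx.N (jv φ v))⟩

theorem BC.isom [Cmp K] (h : BC φ Φ₀ Φ) {x} : bc φ x ∈ Φ.Isom ↔ x ∈ Φ₀.Isom :=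
  ⟨fun hx => isSemi_lin_one (h.isSemi' (by simpa using isSemi_lin hx)),
    fun hx => isSemi_lin_one (by simpa using h.isSemi (isSemi_lin hx))⟩

theorem BC.nondeg (h : BC φ Φ₀ Φ) (hΦ : Φ.Nondeg) : Φ₀.Nondeg := fun v hv => jv_inj φ (by
  refine (hΦ _ fun u => ?_).trans (by ext; simp [jv])
  have : Φ.B.flip (jv φ v) = 0 := (Pi.basisFun F ι).ext fun i => by
    rw [← jv_basis φ]; simp [h.B, hv]
  exact DFunLike.congr_fun this u)

theorem BC.sim [Cmp K] [Cmp K₀] [Nontrivial (ι → F₀)] (h : BC φ Φ₀ Φ) (hΦ : Φ₀.Nondeg) {x} :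
    bc φ x ∈ Sim Φ ↔ x ∈ Sim Φ₀ := by
  refine ⟨fun ⟨l, hl⟩ => ?_, fun ⟨l, hl⟩ => ⟨_, h.isSemi hl⟩⟩
  obtain ⟨v, hv⟩ := exists_ne (0 : ι → F₀)
  obtain ⟨u, hu⟩ := hΦ.exists_ne hv
  have h1 := hl.B (jv φ u) (jv φ v)
  simp only [GamL.lin_g, bc_jv, h.B, GamL.lin_τ, RingEquiv.refl_apply] at h1
  refine ⟨Φ₀.B (x u) (x v) / Φ₀.B u v, h.isSemi' ?_⟩
  rwa [map_div₀, h1, mul_div_cancel_right₀ _ (by simpa using hu)]

theorem bc_orth {Φ₀ : Form (Kind.orth F₀) (ι → F₀)} {Φ : Form (Kind.orth F) (ι → F)}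
    (h : ∀ v, Φ.N (jv φ v) = φ (Φ₀.N v)) : BC φ Φ₀ Φ :=
  ⟨fun _ => rfl, fun u v => by rw [Φ.orth_B, Φ₀.orth_B, ← jv_add, h, h, h, map_sub, map_sub], h⟩

theorem bc_plus (m : ℕ) : BC φ (plusForm m F₀) (plusForm m F) :=
  bc_orth fun v => by simp [plusForm_N, Cfsg.quadFormPlus, jv]

theorem bc_odd (m : ℕ) : BC φ (oddForm m F₀) (oddForm m F) :=
  bc_orth fun v => by simp [oddForm_N, Cfsg.quadFormOdd, jv]

theorem bc_minus (m : ℕ) (a b : F₀) : BC φ (minusForm m F₀ a b) (minusForm m F (φ a) (φ b)) :=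
  bc_orth fun v => by simp [minusForm_N, Cfsg.quadFormMinus, jv]

theorem bc_sp (m : ℕ) : BC φ (spForm m F₀) (spForm m F) :=
  ⟨fun _ => rfl, fun u v => by simp [spForm_B, sympForm_eq, jv], fun v => by simp [symp_N]⟩

section Orth
variable {Φ₀ : Form (Kind.orth F₀) (ι → F₀)} {Φ : Form (Kind.orth F) (ι → F)}

theorem BC.refl (h : BC φ Φ₀ Φ) (v) (hv : Φ₀.N v ≠ 0) :
    bc φ (Φ₀.refl v hv) = Φ.refl (jv φ v) (by simpa [h.N] using hv) :=
  ext_jv φ fun u => by simp [refl_apply, jv_sub, jv_smul, h.N, h.B]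

/-- base change of isometries -/
noncomputable def BC.bcI (h : BC φ Φ₀ Φ) : Φ₀.Isom →* Φ.Isom :=
  ((bc φ).comp Φ₀.Isom.subtype).codRestrict _ fun g => h.isom.2 g.2

theorem BC.dick (h : BC φ Φ₀ Φ) (hG₀ : Φ₀.Good) (h₀ : Φ₀.Nondeg) (hG : Φ.Good) (hΦ : Φ.Nondeg) (g : Φ₀.Isom) :
    hG.dick hΦ (h.bcI g) = hG₀.dick h₀ g := by
  have := hG₀.hom_extI h₀ (χ := (hG.dick hΦ).comp h.bcI) (χ' := hG₀.dick h₀) fun v hv => by
    have : h.bcI (Φ₀.reflI v hv) = Φ.reflI (jv φ v) (by simpa [h.N] using hv) := Subtype.ext (h.refl v hv)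
    simp [this]
  exact DFunLike.congr_fun this g

variable [Finite F] [Finite F₀] {m : ℕ}

theorem BC.dS (h : BC φ Φ₀ Φ) (H₀ : Ev Φ₀ m) (H : Ev Φ m) (g : Sim Φ₀) (hg : bc φ g.1 ∈ Sim Φ) :
    H.dS ⟨_, hg⟩ = H₀.dS g := by
  by_cases h2 : (2 : F₀) = 0
  · obtain ⟨c, k, rfl⟩ := exists_decomp (H₀.ml_spec g) (sqSign_of_two h2 _)
    have : (⟨_, hg⟩ : Sim Φ) = scS Φ (Units.map φ.toMonoidHom c) * inI Φ (h.bcI k) := Subtype.ext (by
      change bc φ (scal _ c * k.1) = scal _ _ * _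
      rw [map_mul, bc_scal]; rfl)
    rw [this]; simp [h.dick H₀.good H₀.nd]
  · have h3 : (2 : F) ≠ 0 := fun e => h2 (φ.injective (by rw [map_ofNat, e, map_zero]))
    have h4 := H.dS_det h3 ⟨_, hg⟩
    rw [H.ml_eq (h.isSemi (H₀.ml_spec g)), det_bc, ← H₀.dS_det h2, map_mul, map_pow, map_intCast] at h4
    exact sign_cast_inj h3 (mul_right_cancel₀ (pow_ne_zero m (by simp)) h4)

end Orth

end BC

end Cfsg.Agent.Perm.Aut
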