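import Cfsg.Agent.Lib.Perm.Aut13

/-! The named subgroups of the automorphism groups. -/

set_option autoImplicit false

namespace Cfsg.Agent.Perm.Aut

open Module Matrix Cfsg.Agent.Classical Cfsg.Agent.Classical.Form

section
variable {F V : Type*} [Field F] [AddCommGroup V] [Module F V]

/-- linear normaliser -/
abbrev NrmL (G : Subgroup (V ≃ₗ[F] V)) : Subgroup (V ≃ₗ[F] V) := (Nrm G).comap GamL.lin

theorem le_NrmL (G : Subgroup (V ≃ₗ[F] V)) : G ≤ NrmL G := fun _ => lin_mem_Nrm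

theorem Sim_le_NrmL {K : Kind F} [Cmp K] {Φ : Form K V} : Sim Φ ≤ NrmL Φ.E := fun _ h => Semi_le_Nrm_E h

theorem ZG_mono {G H : Subgroup (V ≃ₗ[F] V)} (h : G ≤ H) : ZG G ≤ ZG H :=
  ZG_le (h.trans (le_ZG H)) (scal_mem_ZG H)

namespace Cov
variable {G : Subgroup (V ≃ₗ[F] V)} {P : Type*} [Group P] (C : Cov G P) {H K : Subgroup (V ≃ₗ[F] V)}

/-- automorphisms induced by linear maps -/
noncomputable def linAut (hH : H ≤ NrmL G) : H →* MulAut P :=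
  C.aut.comp ((linI (Nrm G)).comp (Subgroup.inclusion hH))

theorem linAut_apply (hH : H ≤ NrmL G) (g : H) : C.linAut hH g = C.aut ⟨GamL.lin g.1, hH g.2⟩ := rfl

theorem range_mono (hH : H ≤ NrmL G) (hK : K ≤ NrmL G) (h : H ≤ K) :
    (C.linAut hH).range ≤ (C.linAut hK).range := by
  rintro _ ⟨g, rfl⟩; exact ⟨⟨g.1, h g.2⟩, rfl⟩

theorem Inn_eq : Cfsg.Inn P = (C.linAut (le_NrmL G)).range := by
  ext β
  constructor
  · rintro ⟨y, rfl⟩
    obtain ⟨g, rfl⟩ := C.surj y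
    exact ⟨g, C.aut_lin g⟩
  · rintro ⟨g, rfl⟩
    exact ⟨_, (C.aut_lin g).symm⟩

theorem aut_mem_range (hK : K ≤ NrmL G) {s : Nrm G} {x} (hx : x ∈ ZG K) (h : s.1 = GamL.lin x) :
    C.aut s ∈ (C.linAut hK).range := by
  obtain ⟨c, g, hg, rfl⟩ := hx
  have : s = ⟨_, scal_mem_Nrm G c⟩ * ⟨_, hK hg⟩ := Subtype.ext (by rw [h, map_mul]; rfl)
  rw [this, map_mul, aut_scal, one_mul]
  exact ⟨⟨g, hg⟩, rfl⟩

theorem range_eq_of_le (hH : H ≤ NrmL G) (hK : K ≤ NrmL G) (h : H ≤ ZG K) (h' : K ≤ ZG H) :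
    (C.linAut hH).range = (C.linAut hK).range :=
  le_antisymm (by rintro _ ⟨g, rfl⟩; exact C.aut_mem_range hK (h g.2) rfl)
    (by rintro _ ⟨g, rfl⟩; exact C.aut_mem_range hH (h' g.2) rfl)

variable {C}

theorem Fth.mem_range_iff (hC : C.Fth) (hK : K ≤ NrmL G) {s : Nrm G} :
    C.aut s ∈ (C.linAut hK).range ↔ ∃ x ∈ ZG K, s.1 = GamL.lin x := by
  refine ⟨?_, fun ⟨x, hx, h⟩ => C.aut_mem_range hK hx h⟩
  rintro ⟨g, hg⟩
  obtain ⟨c, hc⟩ := hC.aut_eq_iff.1 hg.symm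
  exact ⟨_, ⟨c, g.1, g.2, rfl⟩, by rw [hc, map_mul]; rfl⟩

theorem Fth.lin_mem_range_iff (hC : C.Fth) (hH : H ≤ NrmL G) (hK : K ≤ NrmL G) {g : H} :
    C.linAut hH g ∈ (C.linAut hK).range ↔ g.1 ∈ ZG K :=
  (hC.mem_range_iff hK).trans ⟨fun ⟨x, hx, h⟩ => by rwa [show g.1 = x from GamL.lin_injective h],
    fun hg => ⟨_, hg, rfl⟩⟩

theorem Fth.lin_mem_Inn_iff (hC : C.Fth) (hH : H ≤ NrmL G) {g : H} :
    C.linAut hH g ∈ Cfsg.Inn P ↔ g.1 ∈ ZG G := by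
  rw [C.Inn_eq, hC.lin_mem_range_iff]

theorem Fth.linAut_eq_one [Nontrivial V] (hC : C.Fth) (hH : H ≤ NrmL G) {g : H} :
    C.linAut hH g = 1 ↔ IsSc g.1 := hC.aut_eq_one_iff.trans isScG_lin

theorem Fth.exists_hom (hC : C.Fth) (hH : H ≤ NrmL G) {A : Type*} [Group A] (χ : H →* A)
    (hχ : Function.Surjective χ) (h : ∀ g, χ g = 1 ↔ g.1 ∈ ZG G) :
    ∃ φ : (C.linAut hH).range →* A, Function.Surjective φ ∧ φ.ker = (Cfsg.Inn P).subgroupOf _ :=
  exists_hom_sub _ _ rfl χ hχ fun g => by rw [h, hC.lin_mem_Inn_iff]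

theorem Fth.relIndex (hC : C.Fth) (hH : H ≤ NrmL G) {A : Type*} [Group A] (χ : H →* A)
    (hχ : Function.Surjective χ) (h : ∀ g, χ g = 1 ↔ g.1 ∈ ZG G) :
    (Cfsg.Inn P).relIndex (C.linAut hH).range = Nat.card A := by
  obtain ⟨φ, h1, h2⟩ := hC.exists_hom hH χ hχ h
  rw [Subgroup.relIndex, ← h2, Subgroup.index_ker, MonoidHom.range_eq_top.2 h1, Subgroup.card_top]

end Cov

end

section
variable {F : Type*} [Field F] {ι : Type} [Fintype ι] [DecidableEq ι]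
  {X : Type*} [Group X] {G H : Subgroup ((ι → F) ≃ₗ[F] (ι → F))} (R : MRep X G)

theorem MRep.exists_ind_iff (hH : H ≤ NrmL G) {S : GL ι F → Prop} (hS : ∀ g, S g ↔ glEquiv g ∈ H)
    {β : X ⧸ Subgroup.center X ≃* X ⧸ Subgroup.center X} :
    (∃ g, S g ∧ ∀ s s' : X, R.mat s' = (g : Matrix ι ι F) * R.mat s * ((g⁻¹ : GL ι F) : Matrix ι ι F) →
      β (QuotientGroup.mk s) = QuotientGroup.mk s') ↔ β ∈ (R.cov.linAut hH).range := by
  constructor
  · rintro ⟨g, hg, h⟩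
    exact ⟨⟨_, (hS g).1 hg⟩, ((R.ind_lin_iff (hH ((hS g).1 hg))).1 h).symm⟩
  · rintro ⟨⟨x, hx⟩, rfl⟩
    obtain ⟨g, rfl⟩ := glEquiv.surjective x
    exact ⟨g, (hS g).2 hx, (R.ind_lin_iff (hH hx)).2 rfl⟩

theorem autSub_eq {Y : Type*} [Group Y] {p : (Y ≃* Y) → Prop} {K : Subgroup (MulAut Y)} (h : ∀ β, p β ↔ β ∈ K) :
    Cfsg.autSubgroupOf p = K := by
  rw [Cfsg.autSubgroupOf, show {β : MulAut Y | p β} = K from Set.ext h, Subgroup.closure_eq]

end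

theorem hom_congr {X A : Type*} [Group X] [Group A] {H H' K K' : Subgroup X} (e : H' = H) (e' : K' = K)
    (h : ∃ φ : H →* A, Function.Surjective φ ∧ φ.ker = K.subgroupOf H) :
    ∃ φ : H' →* A, Function.Surjective φ ∧ φ.ker = K'.subgroupOf H' := by
  subst e e'; exact h

section Orth
universe u
variable {F : Type u} [Field F] [Finite F] {ι : Type} [Fintype ι] [DecidableEq ι]
  (Φ : Form (Kind.orth F) (ι → F)) (hΦ : Φ.Nondeg) (hn : 5 ≤ finrank F (ι → F))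

theorem sim_ind_iff {β} : Cfsg.IsSimilarityInducedAutPOmega Φ.N β ↔
    β ∈ ((repO Φ hΦ hn).cov.linAut Sim_le_NrmL).range :=
  (repO Φ hΦ hn).exists_ind_iff _ (mem_quadSim_iff Φ)

theorem pgoAut_eq : Cfsg.pgoAut F Φ.N = ((repO Φ hΦ hn).cov.linAut Sim_le_NrmL).range :=
  autSub_eq fun _ => sim_ind_iff Φ hΦ hn

theorem poAut_eq : Cfsg.poAut F Φ.N = ((repO Φ hΦ hn).cov.linAut (Isom_le_Sim.trans Sim_le_NrmL)).range :=
  autSub_eq fun _ => (repO Φ hΦ hn).exists_ind_iff _ fun _ => mem_isometryGroup_iff Φ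

omit [Finite F] in
theorem SIsom_le {K : Kind F} {V : Type*} [AddCommGroup V] [Module F V] {Φ : Form K V} : Φ.SIsom ≤ Φ.Isom :=
  inf_le_left

theorem psoAut_eq : Cfsg.psoAut F Φ.N =
    ((repO Φ hΦ hn).cov.linAut (SIsom_le.trans (Isom_le_Sim.trans Sim_le_NrmL))).range :=
  autSub_eq fun _ => (repO Φ hΦ hn).exists_ind_iff _ fun g => by
    rw [Form.mem_SIsom, ← mem_isometryGroup_iff, det_glEquiv]; rfl

/-- proper similarities -/
noncomputable def Ev.Sim0 {V : Type*} [AddCommGroup V] [Module F V] [FiniteDimensional F V]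
    {Φ : Form (Kind.orth F) V} {m : ℕ} (H : Ev Φ m) : Subgroup (V ≃ₗ[F] V) := H.dS.ker.map (Sim Φ).subtype

theorem Ev.mem_Sim0 {V : Type*} [AddCommGroup V] [Module F V] [FiniteDimensional F V]
    {Φ : Form (Kind.orth F) V} {m : ℕ} (H : Ev Φ m) {g} : g ∈ H.Sim0 ↔ ∃ h : g ∈ Sim Φ, H.dS ⟨g, h⟩ = 1 :=
  ⟨by rintro ⟨x, hx, rfl⟩; exact ⟨x.2, hx⟩, fun ⟨h, h'⟩ => ⟨⟨g, h⟩, h', rfl⟩⟩

theorem Ev.Sim0_le {V : Type*} [AddCommGroup V] [Module F V] [FiniteDimensional F V]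
    {Φ : Form (Kind.orth F) V} {m : ℕ} (H : Ev Φ m) : H.Sim0 ≤ Sim Φ := Subgroup.map_subtype_le _

theorem Ev.ps_iff' {Φ : Form (Kind.orth F) (ι → F)} {m : ℕ} (H : Ev Φ m) (ht : Φ.IsType m 1) (g : GL ι F) :
    (g ∈ Cfsg.Geo.quadSimilarityGroup (F := F) Φ.N ∧ Cfsg.PreservesSingularClasses Φ.N (g : Matrix ι ι F)) ↔
      glEquiv g ∈ H.Sim0 := by
  rw [H.mem_Sim0, mem_quadSim_iff]
  exact ⟨fun ⟨h, h'⟩ => ⟨h, (H.ps_iff ht h).1 h'⟩, fun ⟨h, h'⟩ => ⟨h, (H.ps_iff ht h).2 h'⟩⟩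

theorem plus_ind_iff {m : ℕ} (H : Ev (plusForm m F) m) (hn) {β} : Cfsg.IsInnerDiagonalAutPOmegaPlus m β ↔
    β ∈ ((repO (plusForm m F) H.nd hn).cov.linAut (H.Sim0_le.trans Sim_le_NrmL)).range := by
  refine Iff.trans ?_ ((repO (plusForm m F) H.nd hn).exists_ind_iff _ (H.ps_iff' (plusForm_isType m)))
  exact exists_congr fun g => and_assoc.symm

theorem inndiagPlus_eq {m : ℕ} (H : Ev (plusForm m F) m) (hn) : Cfsg.inndiagPOmegaPlus m F =
    ((repO (plusForm m F) H.nd hn).cov.linAut (H.Sim0_le.trans Sim_le_NrmL)).range :=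
  autSub_eq fun _ => plus_ind_iff H hn

omit [Finite F] in
theorem BC.nondeg' {F₀ : Type*} [Field F₀] {φ : F₀ →+* F} {Φ₀ : Form (Kind.orth F₀) (ι → F₀)}
    {Φ : Form (Kind.orth F) (ι → F)} (h : BC φ Φ₀ Φ) (h₀ : Φ₀.Nondeg) : Φ.Nondeg := by
  let B : (ι → F) →ₗ[F] (ι → F) →ₗ[F] F := Φ.B
  let B₀ : (ι → F₀) →ₗ[F₀] (ι → F₀) →ₗ[F₀] F₀ := Φ₀.B
  have h1 := (LinearMap.separatingLeft_iff_det_ne_zero (B := B₀) (Pi.basisFun F₀ ι)).1 fun x hx => h₀.left hx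
  have h2 : LinearMap.toMatrix₂ (Pi.basisFun F ι) (Pi.basisFun F ι) B =
      φ.mapMatrix (LinearMap.toMatrix₂ (Pi.basisFun F₀ ι) (Pi.basisFun F₀ ι) B₀) := by
    ext i j
    simp only [LinearMap.toMatrix₂_apply, RingHom.mapMatrix_apply, Matrix.map_apply, ← jv_basis φ]
    exact h.B _ _
  have h3 := (LinearMap.separatingLeft_iff_det_ne_zero (B := B) (Pi.basisFun F ι)).2 (by
    rw [h2, ← RingHom.map_det]; simpa using h1)
  exact fun v hv => h3 v fun u => Φ.B_symm_zero (hv u)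

theorem minus_isType_of_root {m : ℕ} {a b θ : F} (h : θ ^ 2 + a * θ + b = 0) (hΦ : (minusForm m F a b).Nondeg) :
    (minusForm m F a b).IsType (m + 1) 1 := by
  let L : ((Fin m → F) × F) →ₗ[F] ((Fin m ⊕ Fin m) ⊕ Fin 2 → F) :=
    { toFun := fun x => Sum.elim (Sum.elim x.1 0) ![θ * x.2, x.2]
      map_add' := fun x y => by
        ext ((i | i) | i)
        · simp
        · simp
        · fin_cases i <;> simp [mul_add]
      map_smul' := fun c x => by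
        ext ((i | i) | i)
        · simp
        · simp
        · fin_cases i <;> simp [mul_left_comm] }
  letI := Fintype.ofFinite F
  have hL : Function.Injective L := fun x y e =>
    Prod.ext (funext fun i => congrFun e (.inl (.inl i))) (congrFun e (.inr 1))
  refine isType_of_TS _ _ L.range hΦ (finrank_minus m) (by rw [LinearMap.finrank_range_of_inj hL]; simp)
    (TS_orth ?_)
  rintro _ ⟨x, rfl⟩
  simp [minusForm_N, Cfsg.quadFormMinus, L]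
  linear_combination x.2 ^ 2 * h

theorem psMinus_iff {m : ℕ} {a b : F}
    (hab : ∀ z₁ z₂ : F, z₁ ^ 2 + a * z₁ * z₂ + b * z₂ ^ 2 = 0 → z₁ = 0 ∧ z₂ = 0)
    (H : Ev (minusForm m F a b) (m + 1)) (hm : 2 ≤ m) (g : GL _ F) :
    (g ∈ Cfsg.Geo.quadSimilarityGroup (F := F) (Cfsg.quadFormMinus m F a b) ∧
      Cfsg.PreservesSingularClassesMinus m a b g.1) ↔ glEquiv g ∈ H.Sim0 := by
  rw [H.mem_Sim0, ← minusForm_N, mem_quadSim_iff]
  have key : ∀ (K : Type u) [Field K] [Algebra F K], finrank F K = 2 → ∀ h : glEquiv g ∈ Sim (minusForm m F a b),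
      (Cfsg.PreservesSingularClasses (Cfsg.quadFormMinus m K (algebraMap F K a) (algebraMap F K b))
        (g.1.map (algebraMap F K)) ↔ H.dS ⟨_, h⟩ = 1) := by
    intro K _ _ hK h
    haveI : FiniteDimensional F K := Module.finite_of_finrank_pos (by omega)
    haveI : Finite K := Module.finite_of_finite F
    letI := Fintype.ofFinite K
    have hb := bc_minus (φ := algebraMap F K) m a b
    have h1 := hb.nondeg' H.nd
    have H' : Ev (minusForm m K (algebraMap F K a) (algebraMap F K b)) (m + 1) :=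
      ⟨h1, good_of_finrank h1 (by rw [finrank_minus]; omega), finrank_minus m, by omega⟩
    obtain ⟨θ, hθ⟩ := exists_root_quad hK a b fun x hx => one_ne_zero (hab x 1 (by simpa using hx)).2
    obtain ⟨l, hl⟩ := id h
    have h2 : bc (algebraMap F K) (glEquiv g) ∈ Sim _ := ⟨_, hb.isSemi hl⟩
    rw [← hb.dS H H' ⟨_, h⟩ h2]
    have h3 := h2
    rw [bc_gl] at h3
    refine (H'.ps_iff (minus_isType_of_root hθ h1) h3).trans ?_
    simp only [bc_gl]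
  constructor
  · rintro ⟨h, K, _, _, hK, h'⟩
    exact ⟨h, (key K hK h).1 h'⟩
  · rintro ⟨h, h'⟩
    obtain ⟨K, _, _, _, hK⟩ := exists_quad_ext F
    have h1 : finrank F (ULift.{u} K) = 2 := (ULift.moduleEquiv.finrank_eq).trans hK
    exact ⟨h, ULift.{u} K, inferInstance, inferInstance, h1, (key _ h1 h).2 h'⟩

theorem minus_ind_iff {m : ℕ} {a b : F}
    (hab : ∀ z₁ z₂ : F, z₁ ^ 2 + a * z₁ * z₂ + b * z₂ ^ 2 = 0 → z₁ = 0 ∧ z₂ = 0)
    (H : Ev (minusForm m F a b) (m + 1)) (hm : 2 ≤ m) (hn) {β} : Cfsg.IsInnerDiagonalAutPOmegaMinus m a b β ↔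
    β ∈ ((repO (minusForm m F a b) H.nd hn).cov.linAut (H.Sim0_le.trans Sim_le_NrmL)).range := by
  refine Iff.trans ?_ ((repO (minusForm m F a b) H.nd hn).exists_ind_iff _ (psMinus_iff hab H hm))
  exact exists_congr fun g => and_assoc.symm

theorem inndiagMinus_eq {m : ℕ} {a b : F}
    (hab : ∀ z₁ z₂ : F, z₁ ^ 2 + a * z₁ * z₂ + b * z₂ ^ 2 = 0 → z₁ = 0 ∧ z₂ = 0)
    (H : Ev (minusForm m F a b) (m + 1)) (hm : 2 ≤ m) (hn) : Cfsg.inndiagPOmegaMinus m F a b =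
    ((repO (minusForm m F a b) H.nd hn).cov.linAut (H.Sim0_le.trans Sim_le_NrmL)).range :=
  autSub_eq fun _ => minus_ind_iff hab H hm hn

theorem inndiagOdd_eq {m : ℕ} (hΦ : (oddForm m F).Nondeg) (hn) : Cfsg.inndiagPOmegaOdd m F =
    ((repO (oddForm m F) hΦ hn).cov.linAut Sim_le_NrmL).range :=
  autSub_eq fun _ => sim_ind_iff _ hΦ hn

end Orth

section EvQ
variable {F V : Type*} [Field F] [Fintype F] [AddCommGroup V] [Module F V] [FiniteDimensional F V]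
  {Φ : Form (Kind.orth F) V} {m : ℕ} (H : Ev Φ m) {P : Type*} [Group P] (C : Cov Φ.E P)
include H

theorem Ev.chi_eq_one_SO (h2 : (2 : F) ≠ 0) {g : Sim Φ} : H.chi g = 1 ↔ g.1 ∈ ZG Φ.SIsom := by
  rw [H.chi_eq_one]
  constructor
  · rintro ⟨c, k, hk, rfl⟩
    exact ⟨c, k.1, Form.mem_SIsom.2 ⟨k.2, (H.good.dick_eq_one_iff H.nd h2).1 hk⟩, rfl⟩
  · rintro ⟨c, k, hk, e⟩
    exact ⟨c, ⟨k, hk.1⟩, (H.good.dick_eq_one_iff H.nd h2).2 (Form.mem_SIsom.1 hk).2, Subtype.ext e⟩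

theorem Ev.pgo_pso (h2 : (2 : F) ≠ 0) : ∃ φ : (C.linAut Sim_le_NrmL).range →* Multiplicative (ZMod 2 × ZMod 2),
    Function.Surjective φ ∧ φ.ker =
      (C.linAut (SIsom_le.trans (Isom_le_Sim.trans Sim_le_NrmL))).range.subgroupOf _ :=
  exists_hom_sub _ _ rfl (signEquiv2.toMonoidHom.comp H.chi) (signEquiv2.surjective.comp (H.chi_surj h2))
    fun g => by
      rw [(fth_orth H.nd H.three C).lin_mem_range_iff, ← H.chi_eq_one_SO h2]; simp

theorem Ev.pso_index (h2 : (2 : F) ≠ 0) :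
    (Cfsg.Inn P).relIndex (C.linAut (SIsom_le.trans (Isom_le_Sim.trans Sim_le_NrmL))).range =
      if H.sp (negI Φ) = 1 then 2 else 1 := by
  have hd : ∀ g : Φ.SIsom, H.dk (Subgroup.inclusion SIsom_le g) = 1 := fun g =>
    (H.good.dick_eq_one_iff H.nd h2).2 (Form.mem_SIsom.1 g.2).2
  split_ifs with h
  · rw [(fth_orth H.nd H.three C).relIndex _ (H.sp.comp (Subgroup.inclusion SIsom_le)) (fun a => ?_) fun g => ?_]
    · simp
    · obtain ⟨g, hg⟩ := H.good.chi_surjective H.nd h2 (by have := H.three; omega) (1, a)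
      exact ⟨⟨g.1, Form.mem_SIsom.2 ⟨g.2, (H.good.dick_eq_one_iff H.nd h2).1 (congrArg Prod.fst hg)⟩⟩,
        congrArg Prod.snd hg⟩
    · refine Iff.trans ?_ (H.mem_ZE (g := Subgroup.inclusion SIsom_le g)).symm
      simp [hd, h]
  · rw [(fth_orth H.nd H.three C).relIndex _ (1 : _ →* Unit) (fun a => ⟨1, rfl⟩) fun g => ?_]
    · simp
    · refine Iff.trans ?_ (H.mem_ZE (g := Subgroup.inclusion SIsom_le g)).symm
      simp [hd, Int.units_ne_iff_eq_neg.1 h]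

theorem Ev.pgo_A (h2 : (2 : F) ≠ 0) (h : H.sp (negI Φ) = -1) :
    ∃ φ : (C.linAut Sim_le_NrmL).range →* Multiplicative (ZMod 2 × ZMod 2),
    Function.Surjective φ ∧ φ.ker = (Cfsg.Inn P).subgroupOf _ :=
  (fth_orth H.nd H.three C).exists_hom _ (signEquiv2.toMonoidHom.comp H.chi)
    (signEquiv2.surjective.comp (H.chi_surj h2)) fun g => by rw [← H.chi_eq_one_iff h]; simp

theorem Ev.pgo_B (h2 : (2 : F) ≠ 0) (h : H.sp (negI Φ) = 1) :
    ∃ φ : (C.linAut Sim_le_NrmL).range →* DihedralGroup 4,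
    Function.Surjective φ ∧ φ.ker = (Cfsg.Inn P).subgroupOf _ := by
  let R := (fth_orth H.nd H.three C).orepR (Γ := Semi Φ) Semi_le_Nrm_E
  obtain ⟨z, r, d, J⟩ := H.exists_gens R h2 h
  obtain ⟨e⟩ := J.dihedral h2
  refine (fth_orth H.nd H.three C).exists_hom _ (e.toMonoidHom.comp (R.ρl.codRestrict _ R.ρl_mem))
    (e.surjective.comp fun x => ?_) fun g => ?_
  · obtain ⟨g, hg⟩ := R.exists_ρl x.2
    exact ⟨g, Subtype.ext hg⟩
  · rw [← R.ρl_eq_one]; exact e.map_eq_one_iff.trans Subtype.ext_iff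

theorem Ev.inn_A (h2 : (2 : F) ≠ 0) (h : H.sp (negI Φ) = -1) :
    ∃ φ : (C.linAut (H.Sim0_le.trans Sim_le_NrmL)).range →* Multiplicative (ZMod 2),
    Function.Surjective φ ∧ φ.ker = (Cfsg.Inn P).subgroupOf _ := by
  refine (fth_orth H.nd H.three C).exists_hom _ (signEquiv.toMonoidHom.comp
    (((sqSign F).comp H.ml).comp (Subgroup.inclusion H.Sim0_le))) (signEquiv.surjective.comp fun a => ?_)
    fun g => ?_
  · obtain ⟨g, hg⟩ := H.chi_surj h2 (1, a)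
    exact ⟨⟨g.1, H.mem_Sim0.2 ⟨g.2, congrArg Prod.fst hg⟩⟩, congrArg Prod.snd hg⟩
  · obtain ⟨h3, h4⟩ := H.mem_Sim0.1 g.2
    refine Iff.trans ?_ (H.chi_eq_one_iff h (g := ⟨g.1, h3⟩))
    rw [H.chi_apply, h4]
    simp [Prod.ext_iff, Subgroup.inclusion]

theorem Ev.inn_B (h2 : (2 : F) ≠ 0) (h : H.sp (negI Φ) = 1) {O : Type*} [Group O] (R : ORep (Semi Φ) Φ.E O) :
    Nat.card (R.ρl.comp (Subgroup.inclusion H.Sim0_le)).range = 4 ∧
    (Odd m → ∃ x : (R.ρl.comp (Subgroup.inclusion H.Sim0_le)).range, orderOf x = 4) ∧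
    (Even m → ∀ x : (R.ρl.comp (Subgroup.inclusion H.Sim0_le)).range, x ^ 2 = 1) := by
  obtain ⟨z, r, d, J⟩ := H.exists_gens R h2 h
  obtain ⟨φ, hφ⟩ := Ev.Gens.exists_chi (H := H) (R := R)
  obtain ⟨a, rfl, ha⟩ := J.hd
  have e : (R.ρl.comp (Subgroup.inclusion H.Sim0_le)).range =
      ((MonoidHom.fst _ _).comp φ).ker.map R.tau.ker.subtype := by
    ext x
    constructor
    · rintro ⟨g, rfl⟩
      obtain ⟨h3, h4⟩ := H.mem_Sim0.1 g.2
      exact ⟨⟨_, R.ρl_mem ⟨g.1, h3⟩⟩, (congrArg Prod.fst (hφ _)).trans h4, rfl⟩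
    · rintro ⟨⟨x, hx⟩, h3, rfl⟩
      obtain ⟨g, rfl⟩ := R.exists_ρl hx
      exact ⟨⟨g.1, H.mem_Sim0.2 ⟨g.2, (congrArg Prod.fst (hφ _)).symm.trans h3⟩⟩, rfl⟩
  refine ⟨?_, fun hm => ?_, fun hm => ?_⟩
  · rw [e, Subgroup.card_map_of_injective (Subgroup.subtype_injective _)]
    have := card_eq_of_surj ((MonoidHom.fst _ _).comp φ) fun b => by
      obtain ⟨g, hg⟩ := H.chi_surj h2 (b, 1)
      exact ⟨_, congrArg Prod.fst ((hφ g).trans hg)⟩
    rw [J.card_ker h2, Nat.card_eq_fintype_card (α := ℤˣ), Fintype.card_units_int] at this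
    omega
  · have h4 : R.ρl a * R.ρl a = z := by
      obtain ⟨l, rfl⟩ := hm
      rw [J.dd, pow_succ, pow_mul, _root_.sq, J.zz, one_pow, one_mul]
    refine ⟨⟨R.ρl a, ⟨a.1, H.mem_Sim0.2 ⟨a.2, congrArg Prod.fst ha⟩⟩, rfl⟩, ?_⟩
    refine orderOf_eq_prime_pow (p := 2) (n := 1) (fun e => J.z1 ?_) (Subtype.ext ?_)
    · rw [← h4]; simpa [_root_.sq] using congrArg Subtype.val e
    · have := J.zz
      rw [← h4] at this
      simpa [pow_succ, mul_assoc] using this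
  · have h4 : R.ρl a * R.ρl a = 1 := by
      obtain ⟨l, rfl⟩ := hm
      rw [J.dd, ← two_mul, pow_mul, _root_.sq, J.zz, one_pow]
    rintro ⟨_, g, rfl⟩
    obtain ⟨h3, h5⟩ := H.mem_Sim0.1 g.2
    refine Subtype.ext ?_
    change R.ρl ⟨g.1, h3⟩ ^ 2 = 1
    generalize (⟨g.1, h3⟩ : Sim Φ) = k at h5
    rcases Int.units_eq_one_or (sqSign F (H.ml k)) with h6 | h6
    · rcases (J.hz k).1 (by rw [H.chi_apply, h5, h6]; rfl) with h7 | h7 <;> simp [h7, _root_.sq, J.zz]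
    · rcases (J.hz (k * a⁻¹)).1 (by rw [map_mul, map_inv, ha, H.chi_apply, h5, h6]; rfl) with h7 | h7
      · rw [map_mul, map_inv, mul_inv_eq_one] at h7
        rw [h7, _root_.sq, h4]
      · rw [map_mul, map_inv, mul_inv_eq_iff_eq_mul] at h7
        rw [h7, (Commute.mul_pow (J.zc _)), _root_.sq, _root_.sq, J.zz, h4, one_mul]

theorem Ev.inn_of_equiv {A : Type*} [Group A] (e : (((fth_orth H.nd H.three C).orepR (Γ := Semi Φ)
    Semi_le_Nrm_E).ρl.comp (Subgroup.inclusion H.Sim0_le)).range ≃* A) :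
    ∃ φ : (C.linAut (H.Sim0_le.trans Sim_le_NrmL)).range →* A,
    Function.Surjective φ ∧ φ.ker = (Cfsg.Inn P).subgroupOf _ :=
  (fth_orth H.nd H.three C).exists_hom _ (e.toMonoidHom.comp (MonoidHom.rangeRestrict _))
    (e.surjective.comp (MonoidHom.rangeRestrict_surjective _)) fun g => by
      refine Iff.trans ?_ (((fth_orth H.nd H.three C).orepR (Γ := Semi Φ) Semi_le_Nrm_E).ρl_eq_one
        (g := Subgroup.inclusion H.Sim0_le g))
      exact e.map_eq_one_iff.trans Subtype.ext_iff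

theorem Ev.inn_B4 (h2 : (2 : F) ≠ 0) (h : H.sp (negI Φ) = 1) (hm : Odd m) :
    ∃ φ : (C.linAut (H.Sim0_le.trans Sim_le_NrmL)).range →* Multiplicative (ZMod 4),
    Function.Surjective φ ∧ φ.ker = (Cfsg.Inn P).subgroupOf _ := by
  obtain ⟨h3, h4, -⟩ := H.inn_B h2 h ((fth_orth H.nd H.three C).orepR (Γ := Semi Φ) Semi_le_Nrm_E)
  obtain ⟨x, hx⟩ := h4 hm
  haveI := Nat.finite_of_card_ne_zero (h3.trans_ne (by omega))
  obtain ⟨e⟩ := nonempty_zmod_of_order hx h3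
  exact H.inn_of_equiv C e

theorem Ev.inn_B2 (h2 : (2 : F) ≠ 0) (h : H.sp (negI Φ) = 1) (hm : Even m) :
    ∃ φ : (C.linAut (H.Sim0_le.trans Sim_le_NrmL)).range →* Multiplicative (ZMod 2 × ZMod 2),
    Function.Surjective φ ∧ φ.ker = (Cfsg.Inn P).subgroupOf _ := by
  obtain ⟨h3, -, h4⟩ := H.inn_B h2 h ((fth_orth H.nd H.three C).orepR (Γ := Semi Φ) Semi_le_Nrm_E)
  haveI := Nat.finite_of_card_ne_zero (h3.trans_ne (by omega))
  haveI := Finite.one_lt_card_iff_nontrivial.1 (h3.symm ▸ (by omega : 1 < 4))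
  haveI : IsKleinFour _ := ⟨h3, (Monoid.exponent_eq_prime_iff Nat.prime_two).2 fun g hg =>
    orderOf_eq_prime (h4 hm g) hg⟩
  obtain ⟨e⟩ := IsKleinFour.nonempty_mulEquiv (G₁ := (((fth_orth H.nd H.three C).orepR (Γ := Semi Φ)
    Semi_le_Nrm_E).ρl.comp (Subgroup.inclusion H.Sim0_le)).range) (G₂ := Multiplicative (ZMod 2 × ZMod 2))
  exact H.inn_of_equiv C e

end EvQ

end Cfsg.Agent.Perm.Aut
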