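import Mathlib
import Cfsg.Agent.Lib.Perm.Aut14

/-! Automorphisms of projective special linear groups: transvection subgroups. -/

set_option autoImplicit false

namespace Cfsg.Agent.Perm.Aut
open Module Cfsg.Agent.Classical

section LA
variable {F V : Type*} [Field F] [AddCommGroup V] [Module F V]

theorem exists_dual_sep {w w' : V} (h : w' ∉ (F ∙ w)) : ∃ c : Dual F V, c w = 0 ∧ c w' = 1 := by
  obtain ⟨f, h1, h2⟩ := Submodule.exists_dual_map_eq_bot_of_notMem h inferInstance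
  have h3 : f w = 0 := by
    have : f w ∈ Submodule.map f (F ∙ w) := Submodule.mem_map_of_mem (Submodule.mem_span_singleton_self w)
    rwa [h2, Submodule.mem_bot] at this
  exact ⟨(f w')⁻¹ • f, by simp [h3], by simp [h1]⟩

theorem exists_dual_one {w : V} (hw : w ≠ 0) : ∃ c : Dual F V, c w = 1 := by
  obtain ⟨c, -, h⟩ := exists_dual_sep (F := F) (w := 0) (w' := w) (by simpa using hw)
  exact ⟨c, h⟩

theorem exists_dual_two {w w' : V} (hw : w ≠ 0) (h : w' ∉ (F ∙ w)) :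
    ∃ c : Dual F V, c w = 1 ∧ c w' = 1 := by
  obtain ⟨c, h1, h2⟩ := exists_dual_sep h
  obtain ⟨d, h3⟩ := exists_dual_one (F := F) hw
  exact ⟨d + (1 - d w') • c, by simp [h1, h3], by simp [h2]⟩

theorem exists_vec_one {b : Dual F V} (hb : b ≠ 0) : ∃ e, b e = 1 := by
  obtain ⟨x, hx⟩ := DFunLike.ne_iff.1 hb
  exact ⟨(b x)⁻¹ • x, by simp [show b x ≠ 0 from hx]⟩

theorem mem_span_of_ker {b b' : Dual F V} (h : ∀ y, b y = 0 → b' y = 0) : b' ∈ (F ∙ b) := by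
  by_cases hb : b = 0
  · have : b' = 0 := LinearMap.ext fun y => h y (by simp [hb])
    simp [this]
  obtain ⟨e, he⟩ := exists_vec_one hb
  refine Submodule.mem_span_singleton.2 ⟨b' e, LinearMap.ext fun y => ?_⟩
  have := h (y - b y • e) (by simp [he])
  simp only [map_sub, map_smul, smul_eq_mul] at this
  simp only [LinearMap.smul_apply, smul_eq_mul]
  linear_combination -this

theorem exists_vec_sep {b b' : Dual F V} (h : b' ∉ (F ∙ b)) : ∃ y, b y = 0 ∧ b' y = 1 := by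
  by_contra h1
  refine h (mem_span_of_ker fun y hy => ?_)
  by_contra h2
  exact h1 ⟨(b' y)⁻¹ • y, by simp [hy], by simp [h2]⟩

theorem exists_vec_two {b b' : Dual F V} (hb : b ≠ 0) (h : b' ∉ (F ∙ b)) :
    ∃ y, b y = 1 ∧ b' y = 1 := by
  obtain ⟨c, h1, h2⟩ := exists_vec_sep h
  obtain ⟨d, h3⟩ := exists_vec_one hb
  exact ⟨d + (1 - b' d) • c, by simp [h1, h3], by simp [h2]⟩

theorem mem_span_of_ann {w w' : V} (h : ∀ c : Dual F V, c w = 0 → c w' = 0) : w' ∈ (F ∙ w) := by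
  by_contra h1
  obtain ⟨c, h2, h3⟩ := exists_dual_sep h1
  simp [h c h2] at h3

theorem mem_span_symm {w w' : V} (h : w' ∈ (F ∙ w)) (h0 : w' ≠ 0) : w ∈ (F ∙ w') := by
  obtain ⟨c, rfl⟩ := Submodule.mem_span_singleton.1 h
  have hc : c ≠ 0 := by rintro rfl; simp at h0
  exact Submodule.mem_span_singleton.2 ⟨c⁻¹, by simp [smul_smul, hc]⟩

theorem mem_span_trans {w w' w'' : V} (h : w' ∈ (F ∙ w)) (h' : w'' ∈ (F ∙ w')) : w'' ∈ (F ∙ w) :=
  (Submodule.span_singleton_le_iff_mem _ _).2 h h'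

theorem exists_unit_of_mem {w w' : V} (h : w' ∈ (F ∙ w)) (h0 : w' ≠ 0) : ∃ c : F, c ≠ 0 ∧ w' = c • w := by
  obtain ⟨c, rfl⟩ := Submodule.mem_span_singleton.1 h
  exact ⟨c, by rintro rfl; simp at h0, rfl⟩

/-- an additive map fixing all points is a scalar -/
theorem scalar_of_mem_span (hn : ∀ v : V, ∃ w, w ∉ (F ∙ v)) (θ : V →+ V) (h : ∀ v, θ v ∈ (F ∙ v)) :
    ∃ c : F, ∀ v, θ v = c • v := by
  choose l hl using fun v => Submodule.mem_span_singleton.1 (h v)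
  have key : ∀ v w, v ≠ 0 → w ∉ (F ∙ v) → l v = l w := by
    intro v w hv hw
    obtain ⟨c, h1, h2⟩ := exists_dual_sep hw
    obtain ⟨d, h3, h4⟩ := exists_dual_two hv hw
    have e := hl (v + w)
    rw [map_add, ← hl v, ← hl w] at e
    have e1 := congrArg c e
    have e2 := congrArg d e
    simp only [map_add, map_smul, smul_eq_mul, h1, h2, h3, h4] at e1 e2
    linear_combination 2 * e1 - e2
  obtain ⟨v₀, hv₀⟩ := hn 0
  have h0 : v₀ ≠ 0 := by rintro rfl; simp at hv₀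
  refine ⟨l v₀, fun v => ?_⟩
  by_cases hv : v = 0
  · simp [hv]
  rw [← hl v]
  congr 1
  by_cases h1 : v ∈ (F ∙ v₀)
  · obtain ⟨w, hw⟩ := hn v₀
    rw [key v₀ w h0 hw, key v w hv fun h2 => hw (mem_span_trans h1 h2)]
  · exact (key v₀ v h0 h1).symm

variable [FiniteDimensional F V]

theorem finrank_ker_ge (b : Dual F V) : finrank F V ≤ finrank F (LinearMap.ker b) + 1 := by
  by_cases hb : b = 0
  · subst hb; rw [LinearMap.ker_zero, finrank_top]; omega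
  · exact (Module.Dual.finrank_ker_add_one_of_ne_zero hb).ge

theorem finrank_span_le (w : V) : finrank F (F ∙ w) ≤ 1 := by
  by_cases h : w = 0
  · subst h; rw [Submodule.span_zero_singleton, finrank_bot]; omega
  · exact (finrank_span_singleton h).le

theorem exists_notMem_span (hn : 2 ≤ finrank F V) (v : V) : ∃ w, w ∉ (F ∙ v) := by
  by_contra h
  push Not at h
  have h1 : (F ∙ v) = ⊤ := eq_top_iff.2 fun w _ => h w
  have := finrank_span_le (F := F) v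
  rw [h1, finrank_top] at this
  omega

theorem exists_ker_ne (hn : 2 ≤ finrank F V) (b : Dual F V) : ∃ y, y ≠ 0 ∧ b y = 0 := by
  have := finrank_ker_ge b
  have h1 : LinearMap.ker b ≠ ⊥ := by
    intro h; rw [h, finrank_bot] at this; omega
  obtain ⟨y, h2, h3⟩ := Submodule.exists_mem_ne_zero_of_ne_bot h1
  exact ⟨y, h3, h2⟩

theorem exists_ker_notMem (hn : 3 ≤ finrank F V) (b : Dual F V) (w : V) : ∃ y, b y = 0 ∧ y ∉ (F ∙ w) := by
  by_contra h
  push Not at h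
  have h1 : LinearMap.ker b ≤ (F ∙ w) := fun y hy => h y hy
  have := Submodule.finrank_mono h1
  have := finrank_ker_ge b
  have := finrank_span_le (F := F) w
  omega

theorem exists_ann_ne (hn : 2 ≤ finrank F V) (w : V) : ∃ c : Dual F V, c ≠ 0 ∧ c w = 0 :=
  exists_ker_ne (V := Dual F V) (by rwa [Subspace.dual_finrank_eq]) (Dual.eval F V w)

theorem exists_ann_notMem (hn : 3 ≤ finrank F V) (w : V) (b : Dual F V) :
    ∃ c : Dual F V, c w = 0 ∧ c ∉ (F ∙ b) :=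
  exists_ker_notMem (V := Dual F V) (by rwa [Subspace.dual_finrank_eq]) (Dual.eval F V w) b

theorem exists_ker_two (hn : 3 ≤ finrank F V) (b b' : Dual F V) : ∃ y, y ≠ 0 ∧ b y = 0 ∧ b' y = 0 := by
  obtain ⟨y, h0, h1⟩ := exists_ker_ne (by omega) b
  obtain ⟨z, h2, h3⟩ := exists_ker_notMem hn b y
  by_cases h4 : b' y = 0
  · exact ⟨y, h0, h1, h4⟩
  refine ⟨z - (b' z / b' y) • y, fun h5 => h3 ?_, by simp [h1, h2], by simp [h4]⟩
  rw [sub_eq_zero.1 h5]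
  exact Submodule.smul_mem _ _ (Submodule.mem_span_singleton_self _)

end LA

section TV
variable {F V : Type*} [Field F] [AddCommGroup V] [Module F V]

variable (F V) in
/-- the special linear group of `V` -/
noncomputable def SLV : Subgroup (V ≃ₗ[F] V) := (LinearEquiv.det : (V ≃ₗ[F] V) →* Fˣ).ker

theorem mem_SLV {g : V ≃ₗ[F] V} : g ∈ SLV F V ↔ LinearEquiv.det g = 1 := Iff.rfl

/-- transvections -/
def tv (φ : Dual F V) (w : V) (h : φ w = 0) : V ≃ₗ[F] V := LinearEquiv.transvection h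

theorem tv_apply (φ : Dual F V) (w : V) (h : φ w = 0) (x : V) : tv φ w h x = x + φ x • w := rfl

theorem tv_mem (φ : Dual F V) (w : V) (h : φ w = 0) : tv φ w h ∈ SLV F V :=
  LinearEquiv.transvection.det_eq_one h

theorem tv_eq_iff {φ φ' : Dual F V} {w w' : V} {h h'} :
    tv φ w h = tv φ' w' h' ↔ ∀ x, φ x • w = φ' x • w' := by
  simp [LinearEquiv.ext_iff, tv_apply]

theorem tv_congr {φ φ' : Dual F V} {w w' : V} (h) (e : φ = φ') (e' : w = w') :
    tv φ w h = tv φ' w' (e ▸ e' ▸ h) := by subst e e'; rfl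

theorem tv_eq_one {φ : Dual F V} {w : V} {h} : tv φ w h = 1 ↔ φ = 0 ∨ w = 0 := by
  simp only [LinearEquiv.ext_iff, tv_apply, LinearEquiv.coe_one, id_eq, add_eq_left, smul_eq_zero]
  constructor
  · intro h
    by_cases hw : w = 0
    · exact Or.inr hw
    · exact Or.inl (LinearMap.ext fun x => (h x).resolve_right hw)
  · rintro (rfl | rfl) <;> simp

theorem tv_mul (φ : Dual F V) {w w' : V} (h h') :
    tv φ w h * tv φ w' h' = tv φ (w + w') (by simp [h, h']) := by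
  ext x; simp [tv_apply, h']; abel

theorem tv_mul' {φ φ' : Dual F V} (w : V) (h h') :
    tv φ w h * tv φ' w h' = tv (φ + φ') w (by simp [h, h']) := by
  ext x; simp [tv_apply, h, add_smul]; abel

theorem tv_inv (φ : Dual F V) {w : V} (h) : (tv φ w h)⁻¹ = tv φ (-w) (by simp [h]) := by
  rw [inv_eq_iff_mul_eq_one, tv_mul, tv_eq_one]; simp

theorem tv_inv' (φ : Dual F V) {w : V} (h) : (tv φ w h)⁻¹ = tv (-φ) w (by simp [h]) := by
  rw [inv_eq_iff_mul_eq_one, tv_mul', tv_eq_one]; simp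

theorem tv_smul (φ : Dual F V) (w : V) (c : F) (h h') : tv (c • φ) w h = tv φ (c • w) h' := by
  rw [tv_eq_iff]; simp [smul_smul, mul_comm]

theorem tv_inj {φ : Dual F V} (hφ : φ ≠ 0) {w w' : V} {h h'} (e : tv φ w h = tv φ w' h') : w = w' := by
  obtain ⟨x, hx⟩ := exists_vec_one hφ
  simpa [hx] using tv_eq_iff.1 e x

theorem tv_inj' {φ φ' : Dual F V} {w : V} (hw : w ≠ 0) {h h'} (e : tv φ w h = tv φ' w h') : φ = φ' :=
  LinearMap.ext fun x => smul_left_injective F hw (tv_eq_iff.1 e x)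

theorem tv_par {φ φ' : Dual F V} {w w' : V} {h h'} (hφ : φ ≠ 0) (hw : w ≠ 0)
    (e : tv φ w h = tv φ' w' h') : w ∈ (F ∙ w') ∧ φ ∈ (F ∙ φ') := by
  rw [tv_eq_iff] at e
  obtain ⟨x, hx⟩ := exists_vec_one hφ
  refine ⟨Submodule.mem_span_singleton.2 ⟨φ' x, by simpa [hx] using (e x).symm⟩,
    mem_span_of_ker fun y hy => ?_⟩
  simpa [hy, hw] using e y

/-- the action of semilinear maps on the dual -/
def dl (s : GamL F V) (b : Dual F V) : Dual F V where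
  toFun x := s.τ (b (s.g.symm x))
  map_add' x y := by simp
  map_smul' c x := by simp [s.symm_smul]

@[simp] theorem dl_g (s : GamL F V) (b : Dual F V) (x : V) : dl s b (s.g x) = s.τ (b x) := by
  simp [dl]

theorem dl_ne (s : GamL F V) {b : Dual F V} (hb : b ≠ 0) : dl s b ≠ 0 := by
  obtain ⟨x, hx⟩ := exists_vec_one hb
  intro h
  simpa [h, hx] using dl_g s b x

theorem dl_eq (s : GamL F V) {b b' : Dual F V} (h : ∀ x, b' (s.g x) = s.τ (b x)) : dl s b = b' :=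
  LinearMap.ext fun x => by
    obtain ⟨x, rfl⟩ := s.g.surjective x
    rw [dl_g, h]

theorem dl_surj (s : GamL F V) (b : Dual F V) : dl s (dl s⁻¹ b) = b :=
  dl_eq s fun x => by
    conv_rhs => rw [show x = s⁻¹.g (s.g x) by simp, dl_g]
    simp

theorem cj_tv (s : GamL F V) (b : Dual F V) (w : V) (h) :
    s.cj (tv b w h) = tv (dl s b) (s.g w) (by simp [h]) := by
  ext x
  obtain ⟨x, rfl⟩ := s.g.surjective x
  simp [tv_apply, s.smul']

theorem conj_tv (g : V ≃ₗ[F] V) {b b' : Dual F V} (hb : ∀ x, b' (g x) = b x) (w : V) (h) :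
    g * tv b w h * g⁻¹ = tv b' (g w) (by rw [hb, h]) := by
  rw [← GamL.lin_cj, cj_tv]
  exact tv_congr _ (dl_eq _ hb) rfl

/-- transvections with given axis -/
def QH (φ : Dual F V) : Subgroup (V ≃ₗ[F] V) where
  carrier := {x | ∃ w h, x = tv φ w h}
  one_mem' := ⟨0, by simp, by rw [eq_comm, tv_eq_one]; simp⟩
  mul_mem' := by rintro _ _ ⟨w, h, rfl⟩ ⟨w', h', rfl⟩; exact ⟨_, _, tv_mul φ h h'⟩
  inv_mem' := by rintro _ ⟨w, h, rfl⟩; exact ⟨_, _, tv_inv φ h⟩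

/-- transvections with given centre -/
def QP (u : V) : Subgroup (V ≃ₗ[F] V) where
  carrier := {x | ∃ b h, x = tv b u h}
  one_mem' := ⟨0, by simp, by rw [eq_comm, tv_eq_one]; simp⟩
  mul_mem' := by rintro _ _ ⟨w, h, rfl⟩ ⟨w', h', rfl⟩; exact ⟨_, _, tv_mul' u h h'⟩
  inv_mem' := by rintro _ ⟨w, h, rfl⟩; exact ⟨_, _, tv_inv' w h⟩

theorem tv_mem_QH (φ : Dual F V) (w : V) (h) : tv φ w h ∈ QH φ := ⟨w, h, rfl⟩
theorem tv_mem_QP (φ : Dual F V) (w : V) (h) : tv φ w h ∈ (QP w : Subgroup (V ≃ₗ[F] V)) := ⟨φ, h, rfl⟩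

theorem QH_le (φ : Dual F V) : QH φ ≤ SLV F V := by rintro _ ⟨w, h, rfl⟩; exact tv_mem _ _ _
theorem QP_le (u : V) : QP u ≤ SLV F V := by rintro _ ⟨w, h, rfl⟩; exact tv_mem _ _ _

theorem QH_mono {φ φ' : Dual F V} (h : φ ∈ (F ∙ φ')) (h0 : φ ≠ 0) : QH φ ≤ QH φ' := by
  obtain ⟨c, hc, rfl⟩ := exists_unit_of_mem h h0
  rintro _ ⟨w, h, rfl⟩
  exact ⟨c • w, by simpa using h, tv_smul _ _ _ _ _⟩

theorem QP_mono {u u' : V} (h : u ∈ (F ∙ u')) (h0 : u ≠ 0) : (QP u : Subgroup (V ≃ₗ[F] V)) ≤ QP u' := by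
  obtain ⟨c, hc, rfl⟩ := exists_unit_of_mem h h0
  rintro _ ⟨w, h, rfl⟩
  exact ⟨c • w, by simpa using h, (tv_smul _ _ _ _ _).symm⟩

theorem QH_eq {φ φ' : Dual F V} (h : φ ∈ (F ∙ φ')) (h0 : φ ≠ 0) : QH φ = QH φ' :=
  le_antisymm (QH_mono h h0) (QH_mono (mem_span_symm h h0) (by rintro rfl; simp_all))

theorem QP_eq {u u' : V} (h : u ∈ (F ∙ u')) (h0 : u ≠ 0) : (QP u : Subgroup (V ≃ₗ[F] V)) = QP u' :=
  le_antisymm (QP_mono h h0) (QP_mono (mem_span_symm h h0) (by rintro rfl; simp_all))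

theorem QH_cj (s : GamL F V) (φ : Dual F V) (x : V ≃ₗ[F] V) : x ∈ QH φ ↔ s.cj x ∈ QH (dl s φ) := by
  constructor
  · rintro ⟨w, h, rfl⟩; exact ⟨_, _, cj_tv s φ w h⟩
  · rintro ⟨w, h, e⟩
    obtain ⟨w, rfl⟩ := s.g.surjective w
    exact ⟨w, by simpa using h, s.cj_injective (by rw [e, cj_tv])⟩

theorem QP_cj (s : GamL F V) (u : V) (x : V ≃ₗ[F] V) :
    x ∈ (QP u : Subgroup (V ≃ₗ[F] V)) ↔ s.cj x ∈ (QP (s.g u) : Subgroup (V ≃ₗ[F] V)) := by
  constructor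
  · rintro ⟨w, h, rfl⟩; exact ⟨_, _, cj_tv s w u h⟩
  · rintro ⟨b, h, e⟩
    obtain ⟨b, rfl⟩ : ∃ b', dl s b' = b := ⟨_, dl_surj s b⟩
    exact ⟨b, by simpa using h, s.cj_injective (by rw [e, cj_tv])⟩

theorem QP_conj (g : V ≃ₗ[F] V) (u : V) (x : V ≃ₗ[F] V) :
    x ∈ (QP u : Subgroup (V ≃ₗ[F] V)) ↔ g * x * g⁻¹ ∈ (QP (g u) : Subgroup (V ≃ₗ[F] V)) := by
  rw [← GamL.lin_cj]; exact QP_cj (GamL.lin g) u x

theorem QH_conj (g : V ≃ₗ[F] V) {φ φ' : Dual F V} (h : ∀ x, φ' (g x) = φ x) (x : V ≃ₗ[F] V) :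
    x ∈ QH φ ↔ g * x * g⁻¹ ∈ QH φ' := by
  rw [← GamL.lin_cj, QH_cj (GamL.lin g), dl_eq _ h]

theorem QH_comm {φ : Dual F V} {x y : V ≃ₗ[F] V} (hx : x ∈ QH φ) (hy : y ∈ QH φ) : x * y = y * x := by
  obtain ⟨w, h, rfl⟩ := hx
  obtain ⟨w', h', rfl⟩ := hy
  rw [tv_mul, tv_mul]; exact tv_congr _ rfl (add_comm _ _)

theorem tv_uni (p : ℕ) [Fact p.Prime] [CharP F p] (φ : Dual F V) (w : V) (h) : Uni p (tv φ w h) :=
  uni_of_cube (A := LinearMap.ker φ) (B := LinearMap.ker φ) (fun v => by simp [tv_apply, h])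
    (fun v _ => by simp [tv_apply, h]) fun v hv => by simp [tv_apply, LinearMap.mem_ker.1 hv]

theorem QH_isPGroup (p : ℕ) [Fact p.Prime] [CharP F p] (φ : Dual F V) : IsPGroup p (QH φ) :=
  isPGroup_of_uni (by rintro _ ⟨w, h, rfl⟩; exact tv_uni p _ _ _)

theorem QP_isPGroup (p : ℕ) [Fact p.Prime] [CharP F p] (u : V) :
    IsPGroup p (QP u : Subgroup (V ≃ₗ[F] V)) :=
  isPGroup_of_uni (by rintro _ ⟨w, h, rfl⟩; exact tv_uni p _ _ _)

/-- being a transvection -/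
def IsTv (x : V ≃ₗ[F] V) : Prop := ∃ φ w h, x = tv φ w h

theorem par_of_mul {a b : Dual F V} {v w : V} {h h'} (hv : v ≠ 0) (hb : b ≠ 0)
    (e : IsTv (tv a v h * tv b w h')) : a ∈ (F ∙ b) ∨ w ∈ (F ∙ v) := by
  obtain ⟨c, y, h'', e⟩ := e
  by_cases h1 : a ∈ (F ∙ b)
  · exact Or.inl h1
  right
  obtain ⟨x, hx, hx'⟩ := exists_vec_sep h1
  obtain ⟨z, hz, hz'⟩ := exists_vec_sep (b := a) (b' := b) fun h2 => h1 (mem_span_symm h2 hb)
  have e1 := DFunLike.congr_fun e x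
  have e2 := DFunLike.congr_fun e z
  simp only [LinearEquiv.mul_apply, tv_apply, hx, hx', hz, hz', zero_smul, add_zero, one_smul, map_add,
    zero_add, add_right_inj, add_assoc] at e1 e2
  have h3 : y ∈ (F ∙ v) := mem_span_symm (Submodule.mem_span_singleton.2 ⟨_, e1.symm⟩) hv
  rw [eq_sub_of_add_eq e2]
  exact sub_mem (Submodule.smul_mem _ _ h3) (Submodule.smul_mem _ _ (Submodule.mem_span_singleton_self _))

theorem le_of_isTv {S : Subgroup (V ≃ₗ[F] V)} (h : ∀ x ∈ S, IsTv x) {t} (ht : t ∈ S) (ht1 : t ≠ 1) :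
    (∃ φ : Dual F V, φ ≠ 0 ∧ S ≤ QH φ) ∨ ∃ u : V, u ≠ 0 ∧ S ≤ QP u := by
  obtain ⟨a, v, hav, rfl⟩ := h t ht
  rw [Ne, tv_eq_one, not_or] at ht1
  by_cases h1 : S ≤ QH a
  · exact Or.inl ⟨a, ht1.1, h1⟩
  refine Or.inr ⟨v, ht1.2, fun x hx => ?_⟩
  obtain ⟨t₁, ht₁, h2⟩ := SetLike.not_le_iff_exists.1 h1
  obtain ⟨b, w, hbw, rfl⟩ := h t₁ ht₁
  have h3 : b ≠ 0 ∧ w ≠ 0 := by
    rw [← not_or, ← tv_eq_one (h := hbw)]
    intro h0; exact h2 (h0 ▸ one_mem _)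
  have h4 : b ∉ (F ∙ a) := fun h4 => h2 (QH_mono h4 h3.1 (tv_mem_QH _ _ _))
  have h5 : v ∈ (F ∙ w) := (par_of_mul h3.2 ht1.1 (h _ (mul_mem ht₁ ht))).resolve_left h4
  obtain ⟨c, y, hcy, rfl⟩ := h x hx
  by_cases h6 : c = 0 ∨ y = 0
  · rw [tv_eq_one.2 h6]; exact one_mem _
  rw [not_or] at h6
  refine QP_mono ?_ h6.2 (tv_mem_QP _ _ _)
  rcases par_of_mul ht1.2 h6.1 (h _ (mul_mem ht hx)) with h7 | h7
  · rcases par_of_mul h3.2 h6.1 (h _ (mul_mem ht₁ hx)) with h8 | h8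
    · exact absurd (mem_span_trans (mem_span_symm h7 ht1.1) h8) h4
    · exact mem_span_trans (mem_span_symm h5 ht1.2) h8
  · exact h7

theorem mem_QH_of_comm {p : ℕ} [Fact p.Prime] [CharP F p] {φ : Dual F V} (hφ : φ ≠ 0) {u : V} (hu : u ≠ 0)
    (hφu : φ u = 0) {z : V ≃ₗ[F] V} (hz : Uni p z) (h : ∀ x ∈ QH φ, z * x = x * z) : z ∈ QH φ := by
  obtain ⟨e, he⟩ := exists_vec_one hφ
  have h1 : ∀ w, φ w = 0 → ∀ x, φ x • z w = φ (z x) • w := fun w hw x => by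
    simpa [tv_apply] using DFunLike.congr_fun (h _ (tv_mem_QH φ w hw)) x
  have h2 : ∀ w, φ w = 0 → z w = w := fun w hw =>
    hz.fix (Submodule.mem_span_singleton.2 ⟨_, by simpa [he] using (h1 w hw e).symm⟩)
  have h3 : φ (z e) = 1 := by
    have := h1 u hφu e
    rw [h2 u hφu, he] at this
    exact (smul_left_injective F hu this).symm
  refine ⟨z e - e, by simp [h3, he], LinearEquiv.ext fun x => ?_⟩
  have := h2 (x - φ x • e) (by simp [he])
  rw [map_sub, map_smul] at this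
  rw [tv_apply]
  linear_combination (norm := module) this

variable [FiniteDimensional F V]

theorem mem_Nrm_SLV (s : GamL F V) : s ∈ Nrm (SLV F V) := fun x => by
  rw [mem_SLV, mem_SLV, Units.ext_iff, Units.ext_iff, det_cj]; simp

theorem par_of_QP_le (hn : 2 ≤ finrank F V) {u u' : V} (hu : u ≠ 0)
    (h : (QP u : Subgroup (V ≃ₗ[F] V)) ≤ QP u') : u ∈ (F ∙ u') := by
  obtain ⟨c, hc, h1⟩ := exists_ann_ne hn u
  obtain ⟨b, h2, e⟩ := h (tv_mem_QP c u h1)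
  exact (tv_par hc hu e).1

theorem par_of_QH_le (hn : 2 ≤ finrank F V) {φ φ' : Dual F V} (hφ : φ ≠ 0) (h : QH φ ≤ QH φ') :
    φ ∈ (F ∙ φ') := by
  obtain ⟨c, hc, h1⟩ := exists_ker_ne hn φ
  obtain ⟨b, h2, e⟩ := h (tv_mem_QH φ c h1)
  exact (tv_par hφ hc e).2

theorem not_QH_le_QP (hn : 3 ≤ finrank F V) {φ : Dual F V} (hφ : φ ≠ 0) (u : V) : ¬ QH φ ≤ QP u := by
  intro h
  obtain ⟨y, h1, h2⟩ := exists_ker_notMem hn φ u
  obtain ⟨b, h3, e⟩ := h (tv_mem_QH φ y h1)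
  exact h2 (tv_par hφ (by rintro rfl; simp at h2) e).1

theorem card_QH [Finite F] {φ : Dual F V} (hφ : φ ≠ 0) : Nat.card (QH φ) = Nat.card F ^ (finrank F V - 1) := by
  rw [← Module.Dual.finrank_ker_add_one_of_ne_zero hφ, Nat.add_sub_cancel, ← Module.natCard_eq_pow_finrank]
  refine (Nat.card_congr (Equiv.ofBijective (fun w : LinearMap.ker φ => (⟨tv φ w w.2, tv_mem_QH _ _ _⟩ : QH φ))
    ⟨fun a b h => Subtype.ext (tv_inj hφ (h := a.2) (h' := b.2) (congrArg Subtype.val h)), ?_⟩)).symm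
  rintro ⟨_, w, h, rfl⟩
  exact ⟨⟨w, h⟩, rfl⟩

theorem card_QP [Finite F] {u : V} (hu : u ≠ 0) :
    Nat.card (QP u : Subgroup (V ≃ₗ[F] V)) = Nat.card F ^ (finrank F V - 1) := by
  have h0 : Dual.eval F V u ≠ 0 := by rwa [Ne, Module.eval_apply_eq_zero_iff]
  rw [← Subspace.dual_finrank_eq, ← Module.Dual.finrank_ker_add_one_of_ne_zero h0, Nat.add_sub_cancel,
    ← Module.natCard_eq_pow_finrank (K := F) (V := LinearMap.ker (Dual.eval F V u))]
  refine (Nat.card_congr (Equiv.ofBijective (fun w : LinearMap.ker (Dual.eval F V u) =>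
    (⟨tv w.1 u w.2, tv_mem_QP _ _ _⟩ : (QP u : Subgroup (V ≃ₗ[F] V))))
    ⟨fun a b h => Subtype.ext (tv_inj' hu (h := a.2) (h' := b.2) (congrArg Subtype.val h)), ?_⟩)).symm
  rintro ⟨_, w, h, rfl⟩
  exact ⟨⟨w, h⟩, rfl⟩

/-- conjugacy of flags -/
def Fl (w : V) (b : Dual F V) (w' : V) (b' : Dual F V) : Prop :=
  ∃ g ∈ SLV F V, g w = w' ∧ ∀ x, b' (g x) = b x

omit [FiniteDimensional F V] in
theorem Fl.trans {w w' w'' : V} {b b' b'' : Dual F V} (h : Fl w b w' b') (h' : Fl w' b' w'' b'') :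
    Fl w b w'' b'' := by
  obtain ⟨g, hg, h1, h2⟩ := h
  obtain ⟨k, hk, h3, h4⟩ := h'
  exact ⟨k * g, mul_mem hk hg, by simp [h1, h3], fun x => by simp [h4, h2]⟩

omit [FiniteDimensional F V] in
theorem fl_vec {w w' : V} {b : Dual F V} (hw : w ≠ 0) (h : w' ∉ (F ∙ w)) (hb : b w = b w') :
    Fl w b w' b := by
  obtain ⟨c, h1, h2⟩ := exists_dual_two hw h
  exact ⟨tv c (w' - w) (by simp [h1, h2]), tv_mem _ _ _, by simp [tv_apply, h1],
    fun x => by simp [tv_apply, hb]⟩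

omit [FiniteDimensional F V] in
theorem fl_dual {w : V} {b b' : Dual F V} (hb : b ≠ 0) (h : b' ∉ (F ∙ b)) (hw : b w = b' w) :
    Fl w b w b' := by
  obtain ⟨c, h1, h2⟩ := exists_vec_two hb h
  exact ⟨tv (b - b') c (by simp [h1, h2]), tv_mem _ _ _, by simp [tv_apply, hw],
    fun x => by simp [tv_apply, h2]⟩

theorem fl_vec' (hn : 3 ≤ finrank F V) {w w' : V} {b : Dual F V} (hw : w ≠ 0) (hw' : w' ≠ 0)
    (hb : b w = 0) (hb' : b w' = 0) : Fl w b w' b := by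
  by_cases h : w' ∈ (F ∙ w)
  · obtain ⟨y, h1, h2⟩ := exists_ker_notMem hn b w
    have hy : y ≠ 0 := by rintro rfl; simp at h2
    exact (fl_vec hw h2 (by rw [hb, h1])).trans (fl_vec hy
      (fun h3 => h2 (mem_span_trans h (mem_span_symm h3 hw'))) (by rw [hb', h1]))
  · exact fl_vec hw h (by rw [hb, hb'])

theorem fl_dual' (hn : 3 ≤ finrank F V) {w : V} {b b' : Dual F V} (hb : b ≠ 0) (hb' : b' ≠ 0)
    (hw : b w = 0) (hw' : b' w = 0) : Fl w b w b' := by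
  by_cases h : b' ∈ (F ∙ b)
  · obtain ⟨y, h1, h2⟩ := exists_ann_notMem hn w b
    have hy : y ≠ 0 := by rintro rfl; simp at h2
    exact (fl_dual hb h2 (by rw [hw, h1])).trans (fl_dual hy
      (fun h3 => h2 (mem_span_trans h (mem_span_symm h3 hb'))) (by rw [hw', h1]))
  · exact fl_dual hb h (by rw [hw, hw'])

theorem fl_all (hn : 3 ≤ finrank F V) {w w' : V} {b b' : Dual F V} (hw : w ≠ 0) (hw' : w' ≠ 0)
    (hb : b ≠ 0) (hb' : b' ≠ 0) (h : b w = 0) (h' : b' w' = 0) : Fl w b w' b' := by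
  obtain ⟨y, h0, h1, h2⟩ := exists_ker_two hn b b'
  exact ((fl_vec' hn hw h0 h h1).trans (fl_dual' hn hb hb' h1 h2)).trans (fl_vec' hn h0 hw' h2 h')

end TV

section Main
variable {F V : Type*} [Field F] [AddCommGroup V] [Module F V] [FiniteDimensional F V] [Finite F]
variable (p : ℕ) [Fact p.Prime] [CharP F p]
variable {P : Type*} [Group P] {C : Cov (SLV F V) P} {α β : MulAut P}

/-- the automorphism induced by a semilinear map -/
noncomputable def Cov.gam (C : Cov (SLV F V) P) : GamL F V →* MulAut P :=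
  C.aut.comp ((MonoidHom.id _).codRestrict _ mem_Nrm_SLV)

omit [Finite F] in
theorem Cov.gam_apply (s : GamL F V) : C.gam s = C.aut ⟨s, mem_Nrm_SLV s⟩ := rfl

omit [Finite F] in
theorem T_gam (s : GamL F V) {x} (hx : x ∈ SLV F V) : C.T (C.gam s) x (s.cj x) := Cov.T_aut _ hx

omit [Finite F] in
theorem cor_gam_QH (s : GamL F V) (φ : Dual F V) : C.Cor (C.gam s) (QH φ) (QH (dl s φ)) :=
  Cov.cor_aut _ (QH_le _) (QH_cj s φ)

omit [Finite F] in
theorem cor_gam_QP (s : GamL F V) (u : V) : C.Cor (C.gam s) (QP u) (QP (s.g u)) :=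
  Cov.cor_aut _ (QP_le _) (QP_cj s u)

include p

theorem exists_central (hn : 2 ≤ finrank F V) (α : MulAut P) {φ : Dual F V} (hφ : φ ≠ 0) :
    ∃ γ ∈ C.gam.range, ∃ U, IsSyl p (SLV F V) U ∧ QH φ ≤ U ∧ C.Cor (γ * α) U U ∧
      ∃ z ∈ QH φ, ∃ z' ∈ QH φ, z ≠ 1 ∧ C.T (γ * α) z z' := by
  haveI : Finite V := Module.finite_of_finite F
  haveI : Finite (V ≃ₗ[F] V) := Finite.of_injective _ (DFunLike.coe_injective (F := V ≃ₗ[F] V))
  obtain ⟨U, hU, hQ⟩ := exists_isSyl (QH_isPGroup p φ) (QH_le φ)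
  obtain ⟨g, hg, h⟩ := C.exists_cor_syl α hU
  obtain ⟨u, hu, hφu⟩ := exists_ker_ne hn φ
  refine ⟨_, ⟨GamL.lin g, rfl⟩, U, hU, hQ, h, ?_⟩
  haveI : Nontrivial U := ⟨⟨⟨_, hQ (tv_mem_QH φ u hφu)⟩, 1, fun h => by
    have := congrArg Subtype.val h
    simp [tv_eq_one, hφ, hu] at this⟩⟩
  obtain ⟨z, hz⟩ := (Subgroup.nontrivial_iff_exists_ne_one _).1 hU.2.1.center_nontrivial
  have hzc : ∀ x ∈ U, z.1 * x = x * z.1 := fun x hx =>
    (congrArg Subtype.val (Subgroup.mem_center_iff.1 hz.1 ⟨x, hx⟩)).symm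
  obtain ⟨z', hz', hT⟩ := h.1 z.1 z.2
  have hzc' : ∀ y ∈ U, z' * y = y * z' := fun y hy => by
    obtain ⟨x, hx, h1⟩ := h.2 y hy
    exact hT.comm h1 (uni_of_mem hU.2.1 hy) (hzc x hx)
  exact ⟨z.1, mem_QH_of_comm hφ hu hφu (uni_of_mem hU.2.1 z.2) fun x hx => hzc x (hQ hx), z',
    mem_QH_of_comm hφ hu hφu (uni_of_mem hU.2.1 hz') fun x hx => hzc' x (hQ hx),
    fun h => hz.2 (Subtype.ext h), hT⟩

theorem exists_T_tv (hn : 3 ≤ finrank F V) (α : MulAut P) {x} (hx : IsTv x) : ∃ y, IsTv y ∧ C.T α x y := by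
  obtain ⟨b, w, hbw, rfl⟩ := hx
  by_cases h0 : b = 0 ∨ w = 0
  · rw [tv_eq_one.2 h0]
    exact ⟨1, ⟨0, 0, rfl, by rw [eq_comm, tv_eq_one]; simp⟩, Cov.T_one⟩
  rw [not_or] at h0
  obtain ⟨γ, ⟨s, rfl⟩, U, -, -, -, _, ⟨u, hu, rfl⟩, _, ⟨u', hu', rfl⟩, h1, h2⟩ :=
    exists_central p (C := C) (by omega) α h0.1
  rw [Ne, tv_eq_one, not_or] at h1
  obtain ⟨g, hg, h3, h4⟩ := fl_all hn h1.2 h0.2 h0.1 h0.1 hu hbw
  have h5 := h2.trans (T_gam s⁻¹ h2.right)
  rw [map_inv, inv_mul_cancel_left, cj_tv] at h5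
  obtain ⟨k, hk⟩ := C.exists_T α hg
  have h6 := hk.conj h5
  rw [conj_tv g h4, tv_congr _ rfl h3, ← GamL.lin_cj, cj_tv] at h6
  exact ⟨_, ⟨_, _, _, rfl⟩, h6⟩

theorem cor_dich (hn : 3 ≤ finrank F V) (α : MulAut P) {R : Subgroup (V ≃ₗ[F] V)}
    (hR : (∃ φ : Dual F V, φ ≠ 0 ∧ R = QH φ) ∨ ∃ u : V, u ≠ 0 ∧ R = QP u) :
    (∃ φ : Dual F V, φ ≠ 0 ∧ C.Cor α R (QH φ)) ∨ ∃ u : V, u ≠ 0 ∧ C.Cor α R (QP u) := by
  haveI : Finite V := Module.finite_of_finite F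
  have h1 : IsPGroup p R ∧ R ≤ SLV F V ∧ (∀ x ∈ R, IsTv x) ∧ (∃ x ∈ R, x ≠ 1) ∧
      Nat.card R = Nat.card F ^ (finrank F V - 1) := by
    rcases hR with ⟨φ, h, rfl⟩ | ⟨u, h, rfl⟩
    · obtain ⟨u, hu, h1⟩ := exists_ker_ne (by omega) φ
      exact ⟨QH_isPGroup p φ, QH_le φ, by rintro _ ⟨w, h, rfl⟩; exact ⟨_, _, _, rfl⟩,
        ⟨_, tv_mem_QH φ u h1, by simp [tv_eq_one, h, hu]⟩, card_QH h⟩
    · obtain ⟨φ, hu, h1⟩ := exists_ann_ne (F := F) (by omega) u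
      exact ⟨QP_isPGroup p u, QP_le u, by rintro _ ⟨w, h, rfl⟩; exact ⟨_, _, _, rfl⟩,
        ⟨_, tv_mem_QP φ u h1, by simp [tv_eq_one, h, hu]⟩, card_QP h⟩
  obtain ⟨h1, h2, h3, ⟨x, hx, hx1⟩, h4⟩ := h1
  obtain ⟨S, -, hS, h5⟩ := C.exists_cor α h1 h2
  have h6 : ∀ y ∈ S, IsTv y := fun y hy => by
    obtain ⟨x, hx, h6⟩ := h5.2 y hy
    obtain ⟨y', ⟨b, w, h, rfl⟩, h7⟩ := exists_T_tv p (C := C) hn α (h3 x hx)
    exact ⟨b, w, h, h7.uniq_uni h6 (tv_uni p _ _ _) (uni_of_mem hS hy)⟩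
  obtain ⟨y, hy, h7⟩ := h5.1 x hx
  have hy1 : y ≠ 1 := by
    rintro rfl
    exact hx1 (h7.symm.eq_one (uni_of_mem h1 hx))
  have h8 : ∀ X, S ≤ X → Nat.card X = Nat.card R → C.Cor α R X := fun X hX hc =>
    Cov.cor_of_card h1 (fun x hx => by
      obtain ⟨y, hy, h⟩ := h5.1 x hx
      exact ⟨y, hX hy, h⟩) hc.le
  rcases le_of_isTv h6 hy hy1 with ⟨φ, h, h'⟩ | ⟨u, h, h'⟩
  · exact Or.inl ⟨φ, h, h8 _ h' (by rw [h4, card_QH h])⟩
  · exact Or.inr ⟨u, h, h8 _ h' (by rw [h4, card_QP h])⟩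

theorem cor_two (hn : finrank F V = 2) (α : MulAut P) {φ : Dual F V} (hφ : φ ≠ 0) :
    ∃ γ ∈ C.gam.range, C.Cor (γ * α) (QH φ) (QH φ) := by
  haveI : Finite V := Module.finite_of_finite F
  obtain ⟨γ, hγ, U, hU, hQ, h, -⟩ := exists_central p (C := C) hn.ge α hφ
  have : U = QH φ := le_antisymm (fun x hx => ?_) hQ
  · exact ⟨γ, hγ, this ▸ h⟩
  obtain ⟨u, hu, hφu⟩ := exists_ker_ne hn.ge φ
  obtain ⟨v, -, hv, h1⟩ := exists_fixed hU.2.1 (A := ⊥) (B := ⊤) (by simp +contextual) (by simp)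
    (fun h => hu (h (Submodule.mem_top (x := u))))
  simp only [Submodule.mem_bot, sub_eq_zero] at hv h1
  have h2 : φ v = 0 := by simpa [tv_apply, hu] using h1 _ (hQ (tv_mem_QH φ u hφu))
  have h3 : ∀ w, φ w = 0 → w ∈ (F ∙ v) := fun w hw => by
    have e1 : (F ∙ v) ≤ LinearMap.ker φ := (Submodule.span_singleton_le_iff_mem _ _).2 h2
    have e2 := Module.Dual.finrank_ker_add_one_of_ne_zero hφ
    rw [Submodule.eq_of_le_of_finrank_eq e1 (by rw [finrank_span_singleton hv]; omega)]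
    exact hw
  have h4 : ∀ x ∈ U, ∀ w, φ w = 0 → x w = w := fun x hx w hw => by
    obtain ⟨c, rfl⟩ := Submodule.mem_span_singleton.1 (h3 w hw)
    rw [map_smul, h1 x hx]
  obtain ⟨e, -, he, h5⟩ := exists_fixed hU.2.1 (A := LinearMap.ker φ) (B := ⊤)
    (fun x hx v hv => by rw [h4 x hx v hv]; exact hv) (by simp)
    (fun h => hφ (LinearMap.ker_eq_top.1 (top_le_iff.1 h)))
  rw [LinearMap.mem_ker] at he
  have h6 := h5 x hx
  rw [LinearMap.mem_ker] at h6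
  refine ⟨(φ e)⁻¹ • (x e - e), by rw [map_smul, h6, smul_zero], LinearEquiv.ext fun y => ?_⟩
  have := h4 x hx (y - (φ y * (φ e)⁻¹) • e) (by simp [he])
  rw [map_sub, map_smul] at this
  rw [tv_apply]
  linear_combination (norm := module) this

/-- the induced correspondence of points -/
def Pnt (C : Cov (SLV F V) P) (α : MulAut P) (u u' : V) : Prop :=
  u ≠ 0 ∧ u' ≠ 0 ∧ C.Cor α (QP u) (QP u')

omit p [FiniteDimensional F V] [Finite F] in
theorem Pnt.map {u u' : V} (h : Pnt C α u u') {g k} (hT : C.T α g k) : Pnt C α (g u) (k u') :=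
  ⟨by simpa using h.1, by simpa using h.2.1, h.2.2.conj hT (QP_conj g u) (QP_conj k u')⟩

omit [Finite F] in
theorem Pnt.uniq (hn : 2 ≤ finrank F V) {u u' u'' : V} (h : Pnt C α u u') (h' : Pnt C α u u'') :
    u' ∈ (F ∙ u'') :=
  par_of_QP_le hn h.2.1 (h.2.2.unique h'.2.2 (QP_isPGroup p _) (QP_isPGroup p _)).le

omit p [FiniteDimensional F V] [Finite F] in
theorem Pnt.symm {u u' : V} (h : Pnt C α u u') : Pnt C α⁻¹ u' u := ⟨h.2.1, h.1, h.2.2.symm⟩

omit p [FiniteDimensional F V] [Finite F] in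
theorem Pnt.of_mem {u u' v v' : V} (h : Pnt C α u u') (hv : v ∈ (F ∙ u)) (hv0 : v ≠ 0)
    (hv' : v' ∈ (F ∙ u')) (hv0' : v' ≠ 0) : Pnt C α v v' :=
  ⟨hv0, hv0', by rw [QP_eq hv hv0, QP_eq hv' hv0']; exact h.2.2⟩

omit p [Finite F] in
theorem pnt_gam (s : GamL F V) {u : V} (hu : u ≠ 0) : Pnt C (C.gam s) u (s.g u) :=
  ⟨hu, by simpa using hu, cor_gam_QP s u⟩

omit [Finite F] in
theorem eq_one_of_pnt (hn : 2 ≤ finrank F V) (h : ∀ v, v ≠ 0 → Pnt C α v v) : α = 1 := by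
  refine Cov.eq_one_of_T (C := C) fun g hg => ?_
  obtain ⟨k, hk⟩ := C.exists_T α hg
  obtain ⟨c, hc⟩ := scalar_of_mem_span (exists_notMem_span hn) (k⁻¹ * g).toLinearMap.toAddMonoidHom
    fun v => by
      by_cases hv : v = 0
      · simp [hv]
      have := (h (g v) (by simpa using hv)).uniq p hn ((h v hv).map hk)
      obtain ⟨c, hc⟩ := Submodule.mem_span_singleton.1 this
      refine Submodule.mem_span_singleton.2 ⟨c, ?_⟩
      simp [← hc]
  refine hk.of_sc hg (c := c) fun v => ?_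
  have := hc v
  simp only [LinearMap.toAddMonoidHom_coe, LinearEquiv.coe_coe, LinearEquiv.mul_apply, LinearEquiv.coe_inv,
    LinearEquiv.symm_apply_eq, map_smul] at this
  exact this

omit [Finite F] in
theorem fth_SLV (hn : 2 ≤ finrank F V) (C : Cov (SLV F V) P) : C.Fth := by
  intro s hs
  haveI : Nontrivial V := Module.nontrivial_of_finrank_pos (R := F) (by omega)
  obtain ⟨c, hc⟩ := scalar_of_mem_span (exists_notMem_span hn) s.1.g.toAddMonoidHom fun v => by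
    by_cases hv : v = 0
    · simp [hv]
    have h1 := pnt_gam (C := C) s.1 hv
    have h2 := pnt_gam (C := C) 1 hv
    rw [map_one] at h2
    rw [show C.gam s.1 = 1 from hs] at h1
    exact h1.uniq p hn h2
  exact isScG_of hc

theorem pnt_of_fix (hn : 2 ≤ finrank F V) {φ : Dual F V} (hφ : φ ≠ 0) (h : ∀ x ∈ QH φ, C.T α x x)
    {u : V} (hu : u ≠ 0) (hφu : φ u = 0) : Pnt C α u u := by
  have h0 : C.Cor α (QH φ) (QH φ) := ⟨fun x hx => ⟨x, hx, h x hx⟩, fun x hx => ⟨x, hx, h x hx⟩⟩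
  refine ⟨hu, hu, ?_⟩
  have h1 : ∀ {S : Subgroup (V ≃ₗ[F] V)}, IsPGroup p S → C.Cor α (QP u) S → tv φ u hφu ∈ S := fun hS hc =>
    hc.mem hS (tv_mem_QP _ _ _) (h _ (tv_mem_QH _ _ _)) (tv_uni p _ _ _)
  by_cases h3 : 3 ≤ finrank F V
  · rcases cor_dich p (C := C) h3 α (Or.inr ⟨u, hu, rfl⟩) with ⟨φ', h4, h5⟩ | ⟨u', h4, h5⟩
    · obtain ⟨w, hw, e⟩ := h1 (QH_isPGroup p _) h5
      rw [← QH_eq (tv_par hφ hu e).2 hφ] at h5
      have := h5.symm.unique h0.symm (QP_isPGroup p _) (QH_isPGroup p _)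
      rwa [this]
    · obtain ⟨w, hw, e⟩ := h1 (QP_isPGroup p _) h5
      rwa [← QP_eq (tv_par hφ hu e).1 hu] at h5
  · have h4 : ∀ w, φ w = 0 → w ∈ (F ∙ u) := fun w hw => by
      have e1 : (F ∙ u) ≤ LinearMap.ker φ := (Submodule.span_singleton_le_iff_mem _ _).2 hφu
      have e2 := Module.Dual.finrank_ker_add_one_of_ne_zero hφ
      rw [Submodule.eq_of_le_of_finrank_eq e1 (by rw [finrank_span_singleton hu]; omega)]
      exact hw
    have : (QP u : Subgroup (V ≃ₗ[F] V)) = QH φ := by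
      refine le_antisymm ?_ ?_
      · rintro _ ⟨b, hb, rfl⟩
        obtain ⟨c, rfl⟩ := Submodule.mem_span_singleton.1 (mem_span_of_ker (b := φ) (b' := b) fun y hy => by
          obtain ⟨c, rfl⟩ := Submodule.mem_span_singleton.1 (h4 y hy)
          simp [hb])
        exact ⟨c • u, by simp [hφu], tv_smul _ _ _ _ _⟩
      · rintro _ ⟨w, hw, rfl⟩
        obtain ⟨c, rfl⟩ := Submodule.mem_span_singleton.1 (h4 w hw)
        exact ⟨c • φ, by simp [hφu], (tv_smul _ _ _ _ _).symm⟩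
    rwa [this]

theorem mem_range_of_fix (hn : 2 ≤ finrank F V) {φ : Dual F V} (hφ : φ ≠ 0) (h : ∀ x ∈ QH φ, C.T α x x) :
    α ∈ C.gam.range := by
  obtain ⟨u, hu, hφu⟩ := exists_ker_ne hn φ
  obtain ⟨e, he⟩ := exists_vec_one hφ
  have h1 := pnt_of_fix p hn hφ h hu hφu
  obtain ⟨c, h2, h3⟩ := exists_dual_two (F := F) (w' := e) hu fun h2 => by
    obtain ⟨c, rfl⟩ := Submodule.mem_span_singleton.1 h2
    simp [hφu] at he
  obtain ⟨k, hk⟩ := C.exists_T α (tv_mem c (e - u) (by simp [h2, h3]))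
  have h4 := h1.map hk
  rw [show tv c (e - u) _ u = e by simp [tv_apply, h2]] at h4
  have h5 : φ (k u) ≠ 0 := fun h5 => by
    obtain ⟨d, hd⟩ := Submodule.mem_span_singleton.1
      (h4.symm.uniq p hn (pnt_of_fix p hn hφ h h4.2.1 h5).symm)
    simp [← hd, h5] at he
  obtain ⟨e', he', h6⟩ : ∃ e', φ e' = 1 ∧ Pnt C α e e' :=
    ⟨(φ (k u))⁻¹ • k u, by simp [h5], h4.of_mem (Submodule.mem_span_singleton_self _) h4.1
      (Submodule.smul_mem _ _ (Submodule.mem_span_singleton_self _)) (smul_ne_zero (inv_ne_zero h5) h4.2.1)⟩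
  set t := tv φ (e - e') (by simp [he, he']) with ht
  have h7 : ∀ x ∈ QH φ, C.T (C.gam (GamL.lin t) * α) x x := fun x hx => by
    have := (h x hx).trans (T_gam (GamL.lin t) (QH_le φ hx))
    rwa [GamL.lin_cj, QH_comm (tv_mem_QH _ _ _) hx, mul_inv_cancel_right] at this
  have h8 : Pnt C (C.gam (GamL.lin t) * α) e e := by
    have := pnt_gam (C := C) (GamL.lin t) h6.2.1
    rw [show (GamL.lin t).g e' = e by simp [ht, tv_apply, he']] at this
    exact ⟨h6.1, h6.1, h6.2.2.trans this.2.2⟩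
  have h9 := eq_one_of_pnt p hn (C := C) (α := C.gam (GamL.lin t) * α) fun v hv => by
    by_cases h9 : φ v = 0
    · exact pnt_of_fix p hn hφ h7 hv h9
    have := h8.map (h7 _ (tv_mem_QH φ ((φ v)⁻¹ • v - e) (by simp [h9, he])))
    have e1 : v ∈ (F ∙ (tv φ ((φ v)⁻¹ • v - e) (by simp [h9, he]) e)) :=
      Submodule.mem_span_singleton.2 ⟨φ v, by simp [tv_apply, he, smul_smul, h9]⟩
    exact this.of_mem e1 hv e1 hv
  rw [eq_inv_of_mul_eq_one_right h9]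
  exact inv_mem ⟨_, rfl⟩

omit p [FiniteDimensional F V] [Finite F] in
theorem additive_sq {W : Type*} [AddCommGroup W] [Module F W] [Finite F] (θ : W →+ W)
    (h : ∀ a : F, a ≠ 0 → ∀ w, θ ((a * a) • w) = (a * a) • θ w) (c : F) (w : W) : θ (c • w) = c • θ w := by
  have h1 : ∀ a : F, ∀ w, θ ((a * a) • w) = (a * a) • θ w := fun a w => by
    by_cases ha : a = 0
    · simp [ha]
    · exact h a ha w
  obtain ⟨a, b, rfl⟩ : ∃ a b : F, c = a * a + b * b := by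
    by_cases h2 : ringChar F = 2
    · obtain ⟨a, ha⟩ := FiniteField.isSquare_of_char_two h2 c
      exact ⟨a, 0, by simp [ha]⟩
    · letI := Fintype.ofFinite F
      obtain ⟨a, b, hab⟩ := FiniteField.exists_root_sum_quadratic (R := F) (f := Polynomial.X ^ 2)
        (g := Polynomial.X ^ 2 - Polynomial.C c) (by simp) (Polynomial.degree_X_pow_sub_C (by norm_num) c)
        (FiniteField.odd_card_of_char_ne_two h2)
      exact ⟨a, b, by simp at hab; linear_combination -hab⟩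
  rw [add_smul, map_add, h1, h1, add_smul]

omit p [Finite F] in
theorem exists_dil (hn : finrank F V = 2) {φ : Dual F V} (hφ : φ ≠ 0) {a : F} (ha : a ≠ 0) :
    ∃ k ∈ SLV F V, (∀ x, φ (k x) = a⁻¹ * φ x) ∧ ∀ w, φ w = 0 → k w = a • w := by
  obtain ⟨u, hu, hφu⟩ := exists_ker_ne hn.ge φ
  obtain ⟨e, he⟩ := exists_vec_one hφ
  obtain ⟨c, h1, h2⟩ := exists_dual_sep (F := F) (w := e) (w' := u) fun h2 => by
    obtain ⟨c, rfl⟩ := Submodule.mem_span_singleton.1 h2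
    simp [he] at hφu
    simp [hφu] at hu
  have h4 : ∀ w, φ w = 0 → w ∈ (F ∙ u) := fun w hw => by
    have e1 : (F ∙ u) ≤ LinearMap.ker φ := (Submodule.span_singleton_le_iff_mem _ _).2 hφu
    have e2 := Module.Dual.finrank_ker_add_one_of_ne_zero hφ
    rw [Submodule.eq_of_le_of_finrank_eq e1 (by rw [finrank_span_singleton hu]; omega)]
    exact hw
  let k1 := LinearEquiv.dilatransvection (f := c) (v := (a - 1) • u) (by simp [h2, ha])
  let k2 := LinearEquiv.dilatransvection (f := φ) (v := (a⁻¹ - 1) • e) (by simp [he, ha])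
  refine ⟨k1 * k2, ?_, fun x => ?_, fun w hw => ?_⟩
  · rw [mem_SLV, map_mul, Units.ext_iff, Units.val_mul, LinearEquiv.coe_det, LinearEquiv.coe_det]
    simp [k1, k2, h2, he, ha]
  · simp [k1, k2, LinearEquiv.dilatransvection.apply, he, hφu]; ring
  · obtain ⟨d, rfl⟩ := Submodule.mem_span_singleton.1 (h4 w hw)
    simp only [k1, k2, LinearEquiv.dilatransvection.apply, LinearEquiv.mul_apply, map_smul, hφu, h2,
      zero_smul, add_zero]
    module

theorem mem_range_of_cor (hn : 2 ≤ finrank F V) {φ : Dual F V} (hφ : φ ≠ 0)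
    (h : C.Cor α (QH φ) (QH φ)) : α ∈ C.gam.range := by
  haveI : Finite V := Module.finite_of_finite F
  set H := LinearMap.ker φ
  have hH : ∀ w : H, φ w = 0 := fun w => w.2
  have h1 : ∀ w : H, ∃ w' : H, C.T α (tv φ w (hH w)) (tv φ w' (hH w')) := fun w => by
    obtain ⟨_, ⟨w', h', rfl⟩, h1⟩ := h.1 _ (tv_mem_QH φ w (hH w))
    exact ⟨⟨w', h'⟩, h1⟩
  choose ψ₀ hψ₀ using h1
  have h2 : ∀ {α : MulAut P} {x} {w w' : H}, C.T α x (tv φ w (hH w)) → C.T α x (tv φ w' (hH w')) → w = w' :=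
    fun h1 h2 => Subtype.ext (tv_inj hφ (h2.uniq_uni h1 (tv_uni p _ _ _) (tv_uni p _ _ _)))
  let ψ₁ : H →+ H := AddMonoidHom.mk' ψ₀ fun a b => h2 (hψ₀ _) (by
    have := (hψ₀ a).mul (hψ₀ b)
    rwa [tv_mul, tv_mul] at this)
  let ψ : H ≃+ H := AddEquiv.ofBijective ψ₁ (Finite.injective_iff_bijective.1 fun a b hab =>
    h2 (hψ₀ a).symm (by rw [show ψ₀ a = ψ₀ b from hab]; exact (hψ₀ b).symm))
  have hψ : ∀ w : H, C.T α (tv φ w (hH w)) (tv φ (ψ w) (hH _)) := hψ₀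
  clear_value ψ
  clear ψ₁ hψ₀ ψ₀
  -- the action of the stabiliser
  have h3 : ∀ k ∈ SLV F V, ∀ c' : F, c' ≠ 0 → (∀ x, φ (k x) = c'⁻¹ * φ x) → ∃ g : H →ₗ[F] H,
      ∀ w, (ψ (g w) : V) = c' • k (ψ w) := by
    intro k hk c' hc' hk'
    obtain ⟨g, hg⟩ := C.exists_T' α hk
    have e1 : ∀ x, (c' • φ) (k x) = φ x := fun x => by simp [hk', hc']
    have e2 : QH (c' • φ) = QH φ := QH_eq (Submodule.smul_mem _ _ (Submodule.mem_span_singleton_self _))
      (smul_ne_zero hc' hφ)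
    have e3 := h.symm.norm (QH_isPGroup p _) hg.symm fun x hx => e2 ▸ (QH_conj k e1 x).1 hx
    obtain ⟨c, hc⟩ := Submodule.mem_span_singleton.1 (par_of_QH_le hn (dl_ne (GamL.lin g) hφ) (φ' := φ)
      fun x hx => by
        have := e3 (g⁻¹ * x * g) ((QH_cj (GamL.lin g) φ _).2 (by rw [GamL.lin_cj]; simpa [mul_assoc]))
        simpa [mul_assoc] using this)
    have e4 : ∀ x, (c • φ) (g x) = φ x := fun x => by rw [hc]; exact dl_g (GamL.lin g) φ x
    have e5 : ∀ w : H, c • g w ∈ H := fun w => by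
      have := e4 w
      rw [hH] at this
      simpa [H] using this
    refine ⟨(c • g.toLinearMap.domRestrict H).codRestrict H e5, fun w => ?_⟩
    have e6 := hg.conj (hψ w)
    rw [conj_tv g e4, conj_tv k e1, tv_smul _ _ _ _ (hH ⟨_, e5 w⟩),
      tv_smul _ _ _ _ (by simp [hk', hH])] at e6
    exact congrArg Subtype.val (h2 (hψ ⟨_, e5 w⟩) (w' := ⟨_, by simp [H, hk', hH]⟩) e6)
  obtain ⟨u, hu, hφu⟩ := exists_ker_ne hn φ
  have hu0' : (⟨u, hφu⟩ : H) ≠ 0 := fun h => hu (congrArg Subtype.val h)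
  have h4 : ∀ s : F, ∃ t : F, ∀ w, ψ (s • w) = t • ψ w := by
    intro s
    let θ : H →+ H :=
      ψ.toAddMonoidHom.comp ((DistribSMul.toAddMonoidHom _ s).comp ψ.symm.toAddMonoidHom)
    have hθ : ∀ w, θ (ψ w) = ψ (s • w) := fun w => by simp [θ]
    have h5 : ∀ k ∈ SLV F V, ∀ c' : F, c' ≠ 0 → (∀ x, φ (k x) = c'⁻¹ * φ x) →
        ∀ w w' : H, (w' : V) = c' • k w → (θ w' : V) = c' • k (θ w) := by
      intro k hk c' hc' hk' w w' hw
      obtain ⟨g, hg⟩ := h3 k hk c' hc' hk'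
      obtain ⟨w, rfl⟩ := ψ.surjective w
      obtain rfl : w' = ψ (g w) := Subtype.ext (by rw [hw, hg])
      rw [hθ, hθ, ← map_smul, hg]
    suffices ∃ t : F, ∀ w, θ w = t • w by
      obtain ⟨t, ht⟩ := this
      exact ⟨t, fun w => by rw [← hθ, ht]⟩
    have e2 := Module.Dual.finrank_ker_add_one_of_ne_zero hφ
    by_cases h6 : 3 ≤ finrank F V
    · refine scalar_of_mem_span (exists_notMem_span (by change 2 ≤ finrank F (LinearMap.ker φ); omega)) θ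
        fun w => ?_
      have : (θ w : V) ∈ (F ∙ (w : V)) := mem_span_of_ann fun b hb => by
        obtain ⟨y, h7, h8, h9⟩ := exists_ker_two h6 b φ
        have := h5 _ (tv_mem b y h8) 1 one_ne_zero (fun x => by simp [tv_apply, h9]) w w
          (by simp [tv_apply, hb])
        simpa [tv_apply, h7] using this
      obtain ⟨c, hc⟩ := Submodule.mem_span_singleton.1 this
      exact Submodule.mem_span_singleton.2 ⟨c, Subtype.ext hc⟩
    · have h7 := additive_sq (F := F) θ fun a ha w => by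
        obtain ⟨k, hk, h7, h8⟩ := exists_dil (by omega) hφ ha
        have := h5 k hk a ha h7 w ((a * a) • w) (by simp [h8 _ w.2, smul_smul])
        rw [h8 _ (θ w).2, smul_smul] at this
        exact Subtype.ext this
      have h8 : ∀ w : H, ∃ c : F, c • (⟨u, hφu⟩ : H) = w :=
        (finrank_eq_one_iff_of_nonzero' _ hu0').1 (by change finrank F (LinearMap.ker φ) = 1; omega)
      obtain ⟨t, ht⟩ := h8 (θ ⟨u, hφu⟩)
      refine ⟨t, fun w => ?_⟩
      obtain ⟨c, rfl⟩ := h8 w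
      rw [h7, ← ht, smul_comm]
  choose τ₀ hτ₀ using h4
  have hψu : ψ ⟨u, hφu⟩ ≠ 0 := by simpa using hu0'
  let τ₁ : F →+* F :=
    { toFun := τ₀
      map_one' := smul_left_injective F hψu (by simp [← hτ₀])
      map_mul' := fun a b => smul_left_injective F hψu (by simp only [← hτ₀, mul_smul])
      map_zero' := smul_left_injective F hψu (by simp [← hτ₀])
      map_add' := fun a b => smul_left_injective F hψu (by simp only [← hτ₀, add_smul, map_add]) }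
  let τ : F ≃+* F := RingEquiv.ofBijective τ₁ (Finite.injective_iff_bijective.1 τ₁.injective)
  have hτ : ∀ s w, ψ (s • w) = τ s • ψ w := hτ₀
  clear_value τ
  clear τ₁ hτ₀ τ₀
  obtain ⟨e, he⟩ := exists_vec_one hφ
  let pr : V →ₗ[F] H := (LinearMap.id - φ.smulRight e).codRestrict H fun x => by simp [H, he]
  let s₀ : V →+ V := AddMonoidHom.mk' (fun x => τ (φ x) • e + ψ (pr x)) fun a b => by
    simp only [map_add, add_smul, Submodule.coe_add]; abel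
  have hs₀ : ∀ x, φ (s₀ x) = τ (φ x) := fun x => by simp [s₀, he, hH]
  have hs₁ : ∀ w : H, s₀ w = ψ w := fun w => by
    have : pr w = w := Subtype.ext (by change (w : V) - φ w • e = w; simp [hH])
    simp [s₀, hH, this]
  let s : GamL F V := ⟨AddEquiv.ofBijective s₀ (Finite.injective_iff_bijective.1
    ((injective_iff_map_eq_zero _).2 fun x hx => by
      have e1 : φ x = 0 := by simpa [hx] using (hs₀ x).symm
      rw [hs₁ ⟨x, e1⟩] at hx
      simpa [Subtype.ext_iff] using hx)), τ, fun c x => by simp [s₀, hτ, smul_smul]⟩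
  have h5 : ∀ x ∈ QH φ, C.T ((C.gam s)⁻¹ * α) x x := by
    rintro _ ⟨w, hw, rfl⟩
    have := T_gam (C := C) s (tv_mem φ w hw)
    rw [cj_tv, tv_congr _ (dl_eq s hs₀) (show s.g w = ψ ⟨w, hw⟩ from hs₁ ⟨w, hw⟩)] at this
    exact (hψ ⟨w, hw⟩).trans this.symm
  have := mul_mem (⟨s, rfl⟩ : C.gam s ∈ C.gam.range) (mem_range_of_fix p hn hφ h5)
  rwa [mul_inv_cancel_left] at this

theorem mem_range_of_cor' (hn : 2 ≤ finrank F V) {φ φ' : Dual F V} (hφ : φ ≠ 0) (hφ' : φ' ≠ 0)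
    (h : C.Cor α (QH φ) (QH φ')) : α ∈ C.gam.range := by
  by_cases h1 : φ ∈ (F ∙ φ')
  · exact mem_range_of_cor p hn hφ (by rwa [← QH_eq h1 hφ] at h)
  obtain ⟨g, -, -, hg⟩ := fl_dual (w := 0) hφ' h1 (by simp)
  have h2 := h.trans (cor_gam_QH (GamL.lin g) φ')
  rw [dl_eq _ hg] at h2
  have := mul_mem (inv_mem (⟨_, rfl⟩ : C.gam (GamL.lin g) ∈ C.gam.range)) (mem_range_of_cor p hn hφ h2)
  rwa [inv_mul_cancel_left] at this

theorem range_gam_two (hn : finrank F V = 2) (C : Cov (SLV F V) P) : C.gam.range = ⊤ := by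
  refine eq_top_iff.2 fun α _ => ?_
  obtain ⟨φ, hφ, -⟩ := exists_ann_ne hn.ge (0 : V)
  obtain ⟨γ, hγ, h⟩ := cor_two p (C := C) hn α hφ
  have := mul_mem (inv_mem hγ) (mem_range_of_cor p hn.ge hφ h)
  rwa [inv_mul_cancel_left] at this

/-- a duality: an automorphism interchanging the two types of transvection groups -/
def IsDuality (C : Cov (SLV F V) P) (j : MulAut P) : Prop :=
  ∀ u : V, u ≠ 0 → ∃ φ : Dual F V, φ ≠ 0 ∧ C.Cor j (QP u) (QH φ)

theorem mem_or_mem (hn : 2 ≤ finrank F V) {j : MulAut P} (hj : IsDuality C j) (α : MulAut P) :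
    α ∈ C.gam.range ∨ j * α ∈ C.gam.range := by
  by_cases h3 : 3 ≤ finrank F V
  · obtain ⟨φ, hφ, -⟩ := exists_ann_ne hn (0 : V)
    rcases cor_dich p (C := C) h3 α (Or.inl ⟨φ, hφ, rfl⟩) with ⟨φ', h4, h5⟩ | ⟨u, h4, h5⟩
    · exact Or.inl (mem_range_of_cor' p hn hφ h4 h5)
    · obtain ⟨φ', h6, h7⟩ := hj u h4
      exact Or.inr (mem_range_of_cor' p hn hφ h6 (h5.trans h7))
  · exact Or.inl (range_gam_two p (by omega) C ▸ Subgroup.mem_top _)

omit [Finite F] in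
theorem IsDuality.notMem (hn : 3 ≤ finrank F V) {j : MulAut P} (hj : IsDuality C j) : j ∉ C.gam.range := by
  rintro ⟨s, rfl⟩
  obtain ⟨u, hu, -⟩ := exists_ker_ne (by omega) (0 : Dual F V)
  obtain ⟨φ, h1, h2⟩ := hj u hu
  exact not_QH_le_QP hn h1 _ (h2.unique (cor_gam_QP s u) (QH_isPGroup p _) (QP_isPGroup p _)).le

end Main

end Cfsg.Agent.Perm.Aut
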