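import Cfsg.Agent.Lib.Perm.Aut15

/-! Automorphisms of projective special linear groups: the matrix model. -/

set_option autoImplicit false

namespace Cfsg.Agent.Perm.Aut
open Module Matrix Cfsg.Agent.Classical Cfsg.Agent.Classical.Form

section Grp
variable {G A : Type*} [Group G] [Group A]

open _root_.Classical in
theorem exists_ext2 (H : Subgroup G) {j : G} (hj : j ∉ H) (h : ∀ a, a ∈ H ∨ j * a ∈ H) (hjj : j * j = 1)
    (χ : H →* A) (hc : ∀ (x : H) (hx : j * x * j ∈ H), χ ⟨_, hx⟩ = χ x) :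
    ∃ ψ : G →* A × ℤˣ, (∀ x : H, ψ x = (χ x, 1)) ∧ ψ j = (1, -1) := by
  have h1 : ∀ {a}, a ∉ H → j * a ∈ H := fun {a} ha => (h a).resolve_left ha
  have h2 : ∀ {a}, a ∈ H → j * a * j ∈ H := fun {a} ha => by
    by_contra h2
    have := h1 h2
    rw [← mul_assoc, ← mul_assoc, hjj, one_mul] at this
    exact hj ((H.mul_mem_cancel_left ha).1 this)
  let ψ : G → A × ℤˣ := fun a => if ha : a ∈ H then (χ ⟨a, ha⟩, 1) else (χ ⟨j * a, h1 ha⟩, -1)
  have e1 : ∀ a (ha : a ∈ H), ψ a = (χ ⟨a, ha⟩, 1) := fun a ha => dif_pos ha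
  have e2 : ∀ a (ha : a ∉ H), ψ a = (χ ⟨j * a, h1 ha⟩, -1) := fun a ha => dif_neg ha
  refine ⟨MonoidHom.mk' ψ fun a b => ?_, fun x => e1 _ x.2, ?_⟩
  · by_cases ha : a ∈ H <;> by_cases hb : b ∈ H
    · rw [e1 _ ha, e1 _ hb, e1 _ (mul_mem ha hb), Prod.mk_mul_mk, ← map_mul]; rfl
    · rw [e1 _ ha, e2 _ hb, e2 _ (by rwa [H.mul_mem_cancel_left ha]), Prod.mk_mul_mk,
        ← hc ⟨a, ha⟩ (h2 ha), ← map_mul, one_mul]
      congr 2
      apply Subtype.ext
      simp only [Subgroup.coe_mul]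
      rw [mul_assoc (j * a), ← mul_assoc j j, hjj, one_mul, mul_assoc]
    · rw [e2 _ ha, e1 _ hb, e2 _ (by rwa [H.mul_mem_cancel_right hb]), Prod.mk_mul_mk, ← map_mul, mul_one]
      congr 2
      exact Subtype.ext (mul_assoc _ _ _).symm
    · have e : a * b = j * (j * a) * j * (j * b) := by
        rw [mul_assoc (j * (j * a)), ← mul_assoc j j b, ← mul_assoc j j a, hjj, one_mul, one_mul]
      rw [e2 _ ha, e2 _ hb, e1 _ (e ▸ mul_mem (h2 (h1 ha)) (h1 hb)), Prod.mk_mul_mk,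
        ← hc ⟨_, h1 ha⟩ (h2 (h1 ha)), ← map_mul]
      congr 2
      exact Subtype.ext e
  · change ψ j = _
    rw [e2 _ hj]
    congr 1
    rw [← map_one χ]
    congr 1
    exact Subtype.ext hjj

end Grp

section
variable {F V : Type*} [Field F] [AddCommGroup V] [Module F V]

theorem Cov.exists_aut {G : Subgroup (V ≃ₗ[F] V)} {P : Type*} [Group P] (C : Cov G P)
    (θ : MulAut (V ≃ₗ[F] V)) (h1 : ∀ x, x ∈ G ↔ θ x ∈ G) (h2 : ∀ x, IsSc x ↔ IsSc (θ x)) :
    ∃ j : MulAut P, ∀ x ∈ G, C.T j x (θ x) := by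
  let θ' : G →* G := (θ.toMonoidHom.comp G.subtype).codRestrict G fun x => (h1 _).1 x.2
  obtain ⟨j, hj⟩ := exists_equiv_of_ker C.π C.surj (C.π.comp θ') (C.surj.comp fun y =>
    ⟨⟨θ.symm y, (h1 _).2 (by simp)⟩, Subtype.ext (by simp [θ'])⟩) fun x => by
      rw [C.ker, MonoidHom.comp_apply, C.ker, h2]; rfl
  exact ⟨j, fun x hx => ⟨hx, (h1 _).1 hx, (hj ⟨x, hx⟩).symm⟩⟩

theorem Cov.ext_T {G : Subgroup (V ≃ₗ[F] V)} {P : Type*} [Group P] {C : Cov G P} {α β : MulAut P}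
    (h : ∀ x ∈ G, ∃ y, C.T α x y ∧ C.T β x y) : α = β := by
  rw [← inv_mul_eq_one]
  refine Cov.eq_one_of_T (C := C) fun x hx => ?_
  obtain ⟨y, h1, h2⟩ := h x hx
  exact h2.trans h1.symm

variable [FiniteDimensional F V]

theorem mem_center_SLV (hn : 2 ≤ finrank F V) (g : SLV F V) : g ∈ Subgroup.center _ ↔ IsSc g.1 := by
  refine ⟨fun h => ?_, fun h => Subgroup.mem_center_iff.2 fun k => Subtype.ext (h.comm _).symm⟩
  refine scalar_of_mem_span (exists_notMem_span hn) g.1.toLinearMap.toAddMonoidHom fun v => ?_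
  by_cases hv : v = 0
  · simp [hv]
  obtain ⟨c, h0, hc⟩ := exists_ann_ne hn v
  have h1 := congrArg Subtype.val (Subgroup.mem_center_iff.1 h ⟨_, tv_mem c v hc⟩)
  obtain ⟨e, he⟩ := exists_vec_one h0
  have h2 := DFunLike.congr_fun h1 e
  simp only [Subgroup.coe_mul, LinearEquiv.mul_apply, tv_apply, he, one_smul, map_add, add_right_inj] at h2
  exact Submodule.mem_span_singleton.2 ⟨_, h2⟩

theorem exists_det (hn : 1 ≤ finrank F V) (c : Fˣ) : ∃ g : V ≃ₗ[F] V, LinearEquiv.det g = c := by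
  haveI : Nontrivial V := Module.nontrivial_of_finrank_pos (R := F) hn
  obtain ⟨v, hv⟩ := exists_ne (0 : V)
  obtain ⟨b, hb⟩ := exists_dual_one (F := F) hv
  refine ⟨LinearEquiv.dilatransvection (f := b) (v := (c - 1 : F) • v) (by simp [hb]), Units.ext ?_⟩
  rw [LinearEquiv.coe_det]
  simp [hb]

theorem mem_ZG_SLV {g : V ≃ₗ[F] V} :
    g ∈ ZG (SLV F V) ↔ LinearEquiv.det g ∈ (powMonoidHom (finrank F V) : Fˣ →* Fˣ).range := by
  constructor
  · rintro ⟨c, k, hk, rfl⟩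
    exact ⟨c, by rw [map_mul, det_scal, mem_SLV.1 hk, mul_one]; rfl⟩
  · rintro ⟨c, hc⟩
    refine ⟨c, (scal V c)⁻¹ * g, ?_, by simp⟩
    rw [mem_SLV, map_mul, map_inv, det_scal, ← hc]; simp

theorem top_le_NrmL : (⊤ : Subgroup (V ≃ₗ[F] V)) ≤ NrmL (SLV F V) := fun _ _ => mem_Nrm_SLV _

variable {P : Type*} [Group P] (C : Cov (SLV F V) P)

/-- the automorphisms induced by linear maps -/
noncomputable def Cov.gl : (V ≃ₗ[F] V) →* MulAut P := C.gam.comp GamL.lin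

theorem Cov.gl_apply (g : V ≃ₗ[F] V) : C.gl g = C.gam (GamL.lin g) := rfl

theorem Cov.range_gl : (C.linAut top_le_NrmL).range = C.gl.range := by
  ext x
  exact ⟨by rintro ⟨g, rfl⟩; exact ⟨g.1, rfl⟩, by rintro ⟨g, rfl⟩; exact ⟨⟨g, trivial⟩, rfl⟩⟩

end

section Dot
variable {F : Type*} [Field F] {ι : Type} [Fintype ι] [DecidableEq ι]

theorem dot_ext {w w' : ι → F} (h : ∀ v, v ⬝ᵥ w = v ⬝ᵥ w') : w = w' :=
  funext fun i => by simpa using h (Pi.single i 1)

/-- inverse transpose of an invertible matrix -/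
def trG (g : GL ι F) : GL ι F where
  val := (g⁻¹ : GL ι F).1ᵀ
  inv := g.1ᵀ
  val_inv := by rw [← transpose_mul]; simp
  inv_val := by rw [← transpose_mul]; simp

theorem trG_dot (g : GL ι F) (v w : ι → F) : (g.1 *ᵥ v) ⬝ᵥ ((trG g).1 *ᵥ w) = v ⬝ᵥ w := by
  change _ ⬝ᵥ ((g⁻¹ : GL ι F).1ᵀ *ᵥ w) = _
  rw [dotProduct_mulVec, vecMul_transpose, mulVec_mulVec]; simp

theorem exists_str (s : GamL F (ι → F)) :
    ∃ t : GamL F (ι → F), t.τ = s.τ ∧ ∀ v w, s.g v ⬝ᵥ t.g w = s.τ (v ⬝ᵥ w) := by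
  obtain ⟨g, hg⟩ := exists_gamOf s
  refine ⟨gamOf (trG g) s.τ, rfl, fun v w => ?_⟩
  conv_lhs => rw [hg]
  rw [gamOf_g, gamOf_g, trG_dot]
  simp [dotProduct]

/-- the dual semilinear map -/
noncomputable def str0 (s : GamL F (ι → F)) : GamL F (ι → F) := (exists_str s).choose

theorem str0_τ (s : GamL F (ι → F)) : (str0 s).τ = s.τ := (exists_str s).choose_spec.1

theorem str0_dot (s : GamL F (ι → F)) (v w) : s.g v ⬝ᵥ (str0 s).g w = s.τ (v ⬝ᵥ w) :=
  (exists_str s).choose_spec.2 v w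

theorem str0_eq {s t : GamL F (ι → F)} (h1 : t.τ = s.τ) (h : ∀ v w, s.g v ⬝ᵥ t.g w = s.τ (v ⬝ᵥ w)) :
    str0 s = t :=
  GamL.ext' (fun w => dot_ext fun v => by
    obtain ⟨v, rfl⟩ := s.g.surjective v
    rw [str0_dot, h]) fun c => by rw [str0_τ, h1]

theorem str0_str0 (s : GamL F (ι → F)) : str0 (str0 s) = s :=
  str0_eq (str0_τ s).symm fun v w => by rw [dotProduct_comm, str0_dot, str0_τ, dotProduct_comm]

/-- the duality automorphism -/
noncomputable def str : MulAut (GamL F (ι → F)) where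
  toFun := str0
  invFun := str0
  left_inv := str0_str0
  right_inv := str0_str0
  map_mul' s t := str0_eq (RingEquiv.ext fun c => by simp [str0_τ]) fun v w => by simp [str0_dot]

@[simp] theorem str_τ (s : GamL F (ι → F)) : (str s).τ = s.τ := str0_τ s

theorem str_dot (s : GamL F (ι → F)) (v w) : s.g v ⬝ᵥ (str s).g w = s.τ (v ⬝ᵥ w) := str0_dot s v w

theorem str_eq {s t : GamL F (ι → F)} (h1 : t.τ = s.τ) (h : ∀ v w, s.g v ⬝ᵥ t.g w = s.τ (v ⬝ᵥ w)) :
    str s = t := str0_eq h1 h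

@[simp] theorem str_str (s : GamL F (ι → F)) : str (str s) = s := str0_str0 s

theorem str_fld (σ : F ≃+* F) : str (fld ι σ) = fld ι σ :=
  str_eq rfl fun v w => by simp [dotProduct]

/-- inverse transpose of a linear map -/
noncomputable def itr0 (x : (ι → F) ≃ₗ[F] (ι → F)) : (ι → F) ≃ₗ[F] (ι → F) := glEquiv (trG (glEquiv.symm x))

theorem itr0_dot (x : (ι → F) ≃ₗ[F] (ι → F)) (v w) : x v ⬝ᵥ itr0 x w = v ⬝ᵥ w := by
  rw [← glEquiv_symm_mulVec, itr0, glEquiv_apply, trG_dot]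

theorem str_lin0 (x : (ι → F) ≃ₗ[F] (ι → F)) : str (GamL.lin x) = GamL.lin (itr0 x) :=
  str_eq rfl (itr0_dot x)

/-- inverse transpose -/
noncomputable def itr : MulAut ((ι → F) ≃ₗ[F] (ι → F)) where
  toFun := itr0
  invFun := itr0
  left_inv x := GamL.lin_injective (by rw [← str_lin0, ← str_lin0, str_str])
  right_inv x := GamL.lin_injective (by rw [← str_lin0, ← str_lin0, str_str])
  map_mul' s t := GamL.lin_injective (by simp only [← str_lin0, map_mul])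

theorem itr_dot (x : (ι → F) ≃ₗ[F] (ι → F)) (v w) : x v ⬝ᵥ itr x w = v ⬝ᵥ w := itr0_dot x v w

theorem str_lin (x : (ι → F) ≃ₗ[F] (ι → F)) : str (GamL.lin x) = GamL.lin (itr x) := str_lin0 x

@[simp] theorem itr_itr (x : (ι → F) ≃ₗ[F] (ι → F)) : itr (itr x) = x :=
  GamL.lin_injective (by rw [← str_lin, ← str_lin, str_str])

theorem itr_eq {x y : (ι → F) ≃ₗ[F] (ι → F)} (h : ∀ v w, x v ⬝ᵥ y w = v ⬝ᵥ w) : itr x = y :=
  GamL.lin_injective (by rw [← str_lin]; exact str_eq rfl h)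

theorem itr_gl (g : GL ι F) : itr (glEquiv g) = glEquiv (trG g) := itr_eq (trG_dot g)

theorem itr_cj (s : GamL F (ι → F)) (x) : itr (s.cj x) = (str s).cj (itr x) :=
  GamL.lin_injective (by rw [← str_lin, GamL.lin_cj_eq, GamL.lin_cj_eq, ← str_lin]; simp)

theorem det_itr (x : (ι → F) ≃ₗ[F] (ι → F)) : LinearEquiv.det (itr x) = (LinearEquiv.det x)⁻¹ := by
  obtain ⟨g, rfl⟩ := glEquiv.surjective x
  rw [itr_gl, det_glEquiv, det_glEquiv, ← map_inv]
  exact Units.ext (det_transpose _)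

theorem itr_scal (c : Fˣ) : itr (scal (ι → F) c) = scal _ c⁻¹ :=
  itr_eq fun v w => by rw [scal_apply, scal_apply]; simp [← mul_assoc]

theorem isSc_iff_scal {V : Type*} [AddCommGroup V] [Module F V] {x : V ≃ₗ[F] V} :
    IsSc x ↔ ∃ c, x = scal V c := by
  refine ⟨fun ⟨c, hc⟩ => ?_, by rintro ⟨c, rfl⟩; exact isSc_scal c⟩
  by_cases h : c = 0
  · refine ⟨1, LinearEquiv.ext fun v => ?_⟩
    have : v = 0 := by simpa [h] using hc v
    simp [this]
  · exact ⟨Units.mk0 c h, LinearEquiv.ext hc⟩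

theorem isSc_itr (x : (ι → F) ≃ₗ[F] (ι → F)) : IsSc x ↔ IsSc (itr x) := by
  have : ∀ x : (ι → F) ≃ₗ[F] (ι → F), IsSc x → IsSc (itr x) := fun x h => by
    obtain ⟨c, rfl⟩ := isSc_iff_scal.1 h
    rw [itr_scal]; exact isSc_scal _
  exact ⟨this x, fun h => by simpa using this _ h⟩

theorem itr_mem (x : (ι → F) ≃ₗ[F] (ι → F)) : x ∈ SLV F (ι → F) ↔ itr x ∈ SLV F (ι → F) := by
  rw [mem_SLV, mem_SLV, det_itr, inv_eq_one]

/-- the functional of a vector -/
def dotL (u : ι → F) : Dual F (ι → F) where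
  toFun v := u ⬝ᵥ v
  map_add' := dotProduct_add u
  map_smul' c v := dotProduct_smul c u v

theorem dotL_apply (u v : ι → F) : dotL u v = u ⬝ᵥ v := rfl

theorem exists_dotL (b : Dual F (ι → F)) : ∃ u, b = dotL u :=
  ⟨fun i => b (Pi.single i 1), (Pi.basisFun F ι).ext fun i => by simp [dotL_apply]⟩

theorem itr_tv (a u : ι → F) (h) : itr (tv (dotL a) u h) = tv (dotL u) (-a)
    (by rw [map_neg, dotL_apply, dotProduct_comm, neg_eq_zero]; exact h) :=
  itr_eq fun v w => by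
    have : u ⬝ᵥ a = 0 := by rw [dotProduct_comm]; exact h
    simp only [tv_apply, dotL_apply, add_dotProduct, dotProduct_add, smul_dotProduct, dotProduct_smul,
      dotProduct_neg, this, smul_eq_mul, dotProduct_comm v a]
    ring

variable {P : Type*} [Group P] (C : Cov (SLV F (ι → F)) P)

/-- the inverse-transpose automorphism -/
noncomputable def Cov.io : MulAut P := (C.exists_aut itr itr_mem isSc_itr).choose

theorem T_io {x} (hx : x ∈ SLV F (ι → F)) : C.T C.io x (itr x) :=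
  (C.exists_aut itr itr_mem isSc_itr).choose_spec x hx

theorem io_mul_io : C.io * C.io = 1 := Cov.eq_one_of_T (C := C) fun x hx => by
  simpa using (T_io C hx).trans (T_io C ((itr_mem x).1 hx))

theorem io_inv : C.io⁻¹ = C.io := inv_eq_of_mul_eq_one_right (io_mul_io C)

theorem io_gam (s : GamL F (ι → F)) : C.io * C.gam s = C.gam (str s) * C.io :=
  Cov.ext_T (C := C) fun x hx => ⟨_, (T_gam s hx).trans (T_io C (T_gam (C := C) s hx).right), by
    rw [itr_cj]; exact (T_io C hx).trans (T_gam _ (T_io C hx).right)⟩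

theorem io_gam' (s : GamL F (ι → F)) : C.io * C.gam s * C.io = C.gam (str s) := by
  rw [io_gam, mul_assoc, io_mul_io, mul_one]

theorem io_gl (g) : C.io * C.gl g * C.io = C.gl (itr g) := by
  rw [Cov.gl_apply, io_gam', str_lin]; rfl

variable [Finite F] (p : ℕ) [Fact p.Prime] [CharP F p]
include p

theorem isDuality_io : IsDuality C C.io := fun u hu => by
  haveI : Finite (ι → F) := Pi.finite
  have h0 : dotL u ≠ 0 := fun h => hu (dot_ext fun v => by
    simpa [dotL_apply, dotProduct_comm] using DFunLike.congr_fun h v)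
  refine ⟨dotL u, h0, Cov.cor_of_card (QP_isPGroup p u) ?_ (by rw [card_QH h0, card_QP hu])⟩
  rintro _ ⟨b, hb, rfl⟩
  obtain ⟨a, rfl⟩ := exists_dotL b
  exact ⟨_, tv_mem_QH _ _ _, itr_tv a u hb ▸ T_io C (tv_mem _ _ _)⟩

theorem exists_gam (hn : 2 ≤ Fintype.card ι) (α : MulAut P) :
    ∃ s, α = C.gam s ∨ α = C.gam s * C.io := by
  rcases mem_or_mem p (by simpa using hn) (isDuality_io C p) α with ⟨s, hs⟩ | ⟨s, hs⟩
  · exact ⟨s, Or.inl hs.symm⟩
  · refine ⟨str s, Or.inr ?_⟩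
    rw [← io_gam, hs, ← mul_assoc, io_mul_io, one_mul]

theorem exists_psi3 (hn : 3 ≤ Fintype.card ι) : ∃ ψ : MulAut P →* (F ≃+* F) × ℤˣ,
    (∀ s, ψ (C.gam s) = (s.τ, 1)) ∧ ψ C.io = (1, -1) := by
  have hC := fth_SLV p (by simp; omega) C
  obtain ⟨χ, hχ⟩ := exists_lift C.gam.rangeRestrict (MonoidHom.rangeRestrict_surjective _) GamL.tau
    fun s hs => by
      obtain ⟨c, hc⟩ := hC ⟨s, mem_Nrm_SLV s⟩ (congrArg Subtype.val hs)
      rw [show s = _ from hc]; rfl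
  obtain ⟨ψ, h1, h2⟩ := exists_ext2 C.gam.range ((isDuality_io C p).notMem p (by simpa using hn))
    (mem_or_mem p (by simp; omega) (isDuality_io C p)) (io_mul_io C) χ (by
      rintro ⟨_, s, rfl⟩ hx
      have : (⟨_, hx⟩ : C.gam.range) = C.gam.rangeRestrict (str s) := Subtype.ext (io_gam' C s)
      rw [this, hχ]
      exact (str_τ s).trans (hχ s).symm)
  exact ⟨ψ, fun s => (h1 (C.gam.rangeRestrict s)).trans (by rw [hχ]; rfl), h2⟩

theorem exists_psi3' (hn : 3 ≤ Fintype.card ι) : ∃ ψ : MulAut P →* (F ≃+* F) × ℤˣ,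
    Function.Surjective ψ ∧ C.gl.range = ψ.ker := by
  obtain ⟨ψ, h1, h2⟩ := exists_psi3 C p hn
  refine ⟨ψ, ?_, le_antisymm ?_ fun α hα => ?_⟩
  · rintro ⟨σ, ε⟩
    rcases Int.units_eq_one_or ε with rfl | rfl
    · exact ⟨_, h1 (fld ι σ)⟩
    · exact ⟨C.gam (fld ι σ) * C.io, by simp [h1, h2]⟩
  · rintro _ ⟨g, rfl⟩
    exact h1 _
  · obtain ⟨s, rfl | rfl⟩ := exists_gam C p (by omega) α
    · rw [MonoidHom.mem_ker, h1] at hα
      obtain ⟨g, rfl⟩ := GamL.mem_range_lin.2 (congrArg Prod.fst hα)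
      exact ⟨g, rfl⟩
    · rw [MonoidHom.mem_ker, map_mul, h1, h2] at hα
      simpa using congrArg Prod.snd hα

theorem exists_psi2 (hn : Fintype.card ι = 2) : ∃ ψ : MulAut P →* (F ≃+* F),
    (∀ s, ψ (C.gam s) = s.τ) ∧ Function.Surjective ψ ∧ C.gl.range = ψ.ker := by
  have hC := fth_SLV p (by simp; omega) C
  have h0 := MonoidHom.range_eq_top.1 (range_gam_two p (by simpa using hn) C)
  obtain ⟨ψ, h1⟩ := exists_lift C.gam h0 GamL.tau fun s hs => by
      obtain ⟨c, hc⟩ := hC ⟨s, mem_Nrm_SLV s⟩ hs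
      rw [show s = _ from hc]; rfl
  refine ⟨ψ, h1, fun σ => ⟨_, h1 (fld ι σ)⟩, le_antisymm ?_ fun α hα => ?_⟩
  · rintro _ ⟨g, rfl⟩
    exact h1 _
  · obtain ⟨s, rfl⟩ := h0 α
    rw [MonoidHom.mem_ker, h1] at hα
    obtain ⟨g, rfl⟩ := GamL.mem_range_lin.2 hα
    exact ⟨g, rfl⟩

theorem normal_gl (hn : 2 ≤ Fintype.card ι) : C.gl.range.Normal := by
  by_cases h : 3 ≤ Fintype.card ι
  · obtain ⟨ψ, -, h1⟩ := exists_psi3' C p h
    rw [h1]; infer_instance
  · obtain ⟨ψ, -, -, h1⟩ := exists_psi2 C p (by omega)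
    rw [h1]; infer_instance

theorem gl_eq_one (hn : 2 ≤ Fintype.card ι) {g} : C.gl g = 1 ↔ IsSc g := by
  haveI : Nontrivial (ι → F) := Module.nontrivial_of_finrank_pos (R := F) (by simp; omega)
  exact ((fth_SLV p (by simpa using hn) C).aut_eq_one_iff (s := ⟨_, mem_Nrm_SLV _⟩)).trans isScG_lin

omit p [Finite F] in
theorem mk_eq_one_iff (g : GL ι F) : ProjGenLinGroup.mk g = 1 ↔ IsSc (glEquiv g) := by
  rw [ProjGenLinGroup.mk_eq_one, GeneralLinearGroup.mem_center_iff_val_mem_range_scalar]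
  constructor
  · rintro ⟨c, hc⟩
    exact ⟨c, fun v => by simp [← hc]⟩
  · rintro ⟨c, hc⟩
    exact ⟨c, matrix_ext_mulVec fun v => by simp [← hc v]⟩

theorem nonempty_PGL (hn : 2 ≤ Fintype.card ι) : Nonempty (C.gl.range ≃* ProjGenLinGroup ι F) :=
  exists_equiv_sub C.gl rfl (ProjGenLinGroup.mk.comp glEquiv.symm.toMonoidHom)
    (ProjGenLinGroup.mk_surjective.comp glEquiv.symm.surjective) fun g => by
      rw [gl_eq_one C p hn, MonoidHom.comp_apply, mk_eq_one_iff]; simp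

theorem exists_out (hn : 2 ≤ Fintype.card ι) {A : Type*} [Group A] (ψ : MulAut P →* A)
    (h1 : Function.Surjective ψ) (h2 : C.gl.range = ψ.ker) :
    ∃ φ : Cfsg.Out P →* A, Function.Surjective φ ∧ IsCyclic φ.ker ∧
      Nat.card φ.ker = Nat.gcd (Fintype.card ι) (Nat.card F - 1) := by
  have hC := fth_SLV p (by simpa using hn) C
  obtain ⟨φ, hφ⟩ := exists_lift (QuotientGroup.mk' (Cfsg.Inn P)) (QuotientGroup.mk'_surjective _) ψ
    fun s hs => by
      have := (QuotientGroup.eq_one_iff _).1 hs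
      rw [C.Inn_eq] at this
      obtain ⟨g, rfl⟩ := this
      exact h2.le ⟨g.1, rfl⟩
  obtain ⟨χ, h3, h4⟩ := exists_hom_zmod_gcd (C := Fˣ) (Fintype.card ι)
  obtain ⟨e⟩ := exists_equiv_sub ((QuotientGroup.mk' (Cfsg.Inn P)).comp C.gl) (H := φ.ker) (by
      refine le_antisymm ?_ fun x hx => ?_
      · rintro _ ⟨g, rfl⟩
        exact (hφ _).trans (h2.le ⟨g, rfl⟩)
      · obtain ⟨x, rfl⟩ := QuotientGroup.mk'_surjective _ x
        obtain ⟨g, rfl⟩ := h2.ge ((hφ x).symm.trans hx)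
        exact ⟨g, rfl⟩) (χ.comp LinearEquiv.det)
    (h3.comp (exists_det (V := ι → F) (by simp; omega))) fun g => by
      refine (hC.out_lin_iff (mem_Nrm_SLV _)).trans ?_
      rw [mem_ZG_SLV, finrank_fintype_fun_eq_card, ← h4]; rfl
  refine ⟨φ, fun a => ?_, isCyclic_of_surjective e.symm.toMonoidHom e.symm.surjective, ?_⟩
  · obtain ⟨x, rfl⟩ := h1 a
    exact ⟨_, hφ x⟩
  · rw [Nat.card_congr e.toEquiv, Nat.card_congr Multiplicative.toAdd, Nat.card_zmod, Nat.card_units]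

end Dot

section Model
variable {F : Type*} [Field F]

/-- the special linear group -/
noncomputable def repSL (n : ℕ) (hn : 2 ≤ n) (F : Type*) [Field F] :
    MRep (SpecialLinearGroup (Fin n) F) (SLV F (Fin n → F)) where
  e := MulEquiv.ofBijective ((glEquiv.toMonoidHom.comp SpecialLinearGroup.toGL).codRestrict (SLV F _)
    fun A => by rw [mem_SLV]; exact (det_glEquiv _).trans (Units.ext A.2)) ⟨fun A B h => by
      apply SpecialLinearGroup.toGL_injective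
      exact glEquiv.injective (congrArg Subtype.val h), fun g =>
      ⟨⟨(glEquiv.symm g.1).1, by
        have := det_glEquiv (glEquiv.symm g.1)
        rw [MulEquiv.apply_symm_apply, mem_SLV.1 g.2] at this
        exact (congrArg Units.val this).symm⟩, Subtype.ext (LinearEquiv.ext (glEquiv_symm_mulVec g.1))⟩⟩
  mat s := s
  hmat _ _ := rfl
  cen := mem_center_SLV (by simpa using hn)

variable {n : ℕ} (hn : 2 ≤ n)

theorem innd_PSL_iff {β} : Cfsg.IsInnerDiagonalAutPSL β ↔ β ∈ (repSL n hn F).cov.gl.range := by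
  rw [← Cov.range_gl, ← (repSL n hn F).exists_ind_iff top_le_NrmL (S := fun _ => True) (by simp)]
  simp only [true_and]
  rfl

theorem inndiagPSL_eq : Cfsg.inndiagPSL n F = (repSL n hn F).cov.gl.range :=
  autSub_eq fun _ => innd_PSL_iff hn

theorem fld_PSL_iff {σ : F ≃+* F} {β} : Cfsg.IsStdFieldAutPSL σ β ↔ β = (repSL n hn F).cov.gam (fld _ σ) :=
  (repSL n hn F).ind_fld_iff (mem_Nrm_SLV _)

theorem semi_PSL_iff {g} {σ : F ≃+* F} {β} :
    Cfsg.IsInducedBySemilinearPSL g σ β ↔ β = (repSL n hn F).cov.gam (gamOf g σ) :=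
  (repSL n hn F).ind_iff (mem_Nrm_SLV _)

theorem gammaPSL_eq : Cfsg.gammaPSL n F = (repSL n hn F).cov.gam.range :=
  autSub_eq fun β => by
    simp only [semi_PSL_iff hn]
    exact ⟨fun ⟨g, σ, h⟩ => ⟨_, h.symm⟩, fun ⟨s, h⟩ => by
      obtain ⟨g, hg⟩ := exists_gamOf s
      exact ⟨g, s.τ, by rw [← hg, h]⟩⟩

theorem io_PSL_iff {β} : Cfsg.IsInverseTransposeAutPSL β ↔ β = (repSL n hn F).cov.io := by
  have key : ∀ s s' : SpecialLinearGroup (Fin n) F, (s' : Matrix _ _ F) = (s⁻¹).1ᵀ ↔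
      ((repSL n hn F).e s').1 = itr ((repSL n hn F).e s).1 := fun s s' => by
    have : itr ((repSL n hn F).e s).1 = glEquiv (trG (SpecialLinearGroup.toGL s)) := itr_gl _
    rw [this]
    exact ⟨fun h => LinearEquiv.ext fun v => congrArg (· *ᵥ v) h,
      fun h => matrix_ext_mulVec fun v => DFunLike.congr_fun h v⟩
  constructor
  · intro h
    refine Cov.ext_T (C := (repSL n hn F).cov) fun x hx => ⟨_, ⟨hx, (itr_mem x).1 hx, ?_⟩, T_io _ hx⟩
    obtain ⟨s, hs⟩ := (repSL n hn F).e.surjective ⟨x, hx⟩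
    obtain ⟨s', hs'⟩ := (repSL n hn F).e.surjective ⟨_, (itr_mem x).1 hx⟩
    rw [← hs, ← hs', MRep.cov_π, MRep.cov_π]
    exact (h s s' ((key s s').2 (by rw [hs, hs']))).symm
  · rintro rfl s s' h
    obtain ⟨h1, h2, h3⟩ := T_io (repSL n hn F).cov ((repSL n hn F).e s).2
    rw [← (repSL n hn F).cov_π, ← (repSL n hn F).cov_π]
    refine h3.symm.trans ?_
    congr 1
    exact Subtype.ext ((key s s').1 h).symm

end Model

end Cfsg.Agent.Perm.Aut
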