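import Cfsg.Agent.Lib.Perm.Aut16

/-! Galois descent for semilinear maps and conjugacy in cosets. -/

set_option autoImplicit false

namespace Cfsg.Agent.Perm.Aut
open Module Matrix Cfsg.Agent.Classical Cfsg.Agent.Classical.Form

section Grp
variable {X Y H A : Type*} [Group X] [Group Y] [Group H] [Group A]

theorem split_relIndex {D K : Subgroup X} (hK : K ≤ D) [K.Normal] (x : X) :
    Cfsg.splitClassCount D K x = (K ⊔ (D ⊓ Subgroup.centralizer {x})).relIndex D := by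
  set B := (K ⊔ (D ⊓ Subgroup.centralizer {x})).subgroupOf D
  have key : ∀ g g' : D, (g : D ⧸ B) = g' ↔
      Cfsg.IsConjUnder K (g.1 * x * g.1⁻¹) (g'.1 * x * g'.1⁻¹) := by
    intro g g'
    rw [QuotientGroup.eq, Subgroup.mem_subgroupOf, Subgroup.mem_sup_of_normal_left]
    constructor
    · rintro ⟨k, hk, c, hc, e⟩
      have hc' : c * x * c⁻¹ = x := by
        rw [mul_inv_eq_iff_eq_mul]; exact (hc.2 x rfl).symm
      have e' : g'.1 = g.1 * k * c := by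
        rw [mul_assoc, e]; simp
      refine ⟨g.1 * k * g.1⁻¹, Subgroup.Normal.conj_mem inferInstance _ hk _, ?_⟩
      rw [e']
      calc _ = g.1 * k * (c * x * c⁻¹) * (g.1 * k)⁻¹ := by group
        _ = _ := by rw [hc']; group
    · rintro ⟨k, hk, e⟩
      refine ⟨g.1⁻¹ * k * g.1⁻¹⁻¹, Subgroup.Normal.conj_mem inferInstance _ hk _,
        g.1⁻¹ * k⁻¹ * g'.1, ⟨D.mul_mem (D.mul_mem (D.inv_mem g.2) (D.inv_mem (hK hk))) g'.2, ?_⟩, by simp [mul_assoc]⟩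
      rintro y rfl
      calc _ = g.1⁻¹ * k⁻¹ * (k * (g.1 * y * g.1⁻¹) * k⁻¹) * g'.1 := by group
        _ = _ := by rw [← e]; group
  refine (Nat.card_congr (Equiv.ofBijective (Quotient.lift (s := QuotientGroup.leftRel B)
    (fun g : D => Quot.mk _ ⟨_, g.1, g.2, rfl⟩)
    fun a b h => Quot.sound ((key a b).1 (Quotient.sound h))) ⟨?_, ?_⟩)).symm
  · rintro ⟨a⟩ ⟨b⟩ h
    refine (key a b).2 ((Equivalence.eqvGen_iff (r := fun y z : {y : X // Cfsg.IsConjUnder D x y} =>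
      Cfsg.IsConjUnder K y.1 z.1) ⟨fun y => ⟨1, one_mem _, by simp⟩, ?_, ?_⟩).1 (Quot.eqvGen_exact h))
    · rintro y z ⟨k, hk, e⟩
      exact ⟨k⁻¹, inv_mem hk, by rw [e]; group⟩
    · rintro y z w ⟨k, hk, e⟩ ⟨k', hk', e'⟩
      exact ⟨k' * k, mul_mem hk' hk, by rw [e', e]; group⟩
  · rintro ⟨_, g, hg, rfl⟩
    exact ⟨Quotient.mk _ (⟨g, hg⟩ : D), rfl⟩

theorem split_of {K : Subgroup X} [K.Normal] (ρ : H →* X) (hK : K ≤ ρ.range) (χ : H →* A)
    (hχ : Function.Surjective χ) (N : Subgroup A) [N.Normal] (hN : ∀ g, χ g ∈ N ↔ ρ g ∈ K) {x : X}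
    {H₀ : Type*} [Group H₀] (β : H₀ →* H) (hβ : (ρ.comp β).range = ρ.range ⊓ Subgroup.centralizer {x}) :
    Cfsg.splitClassCount ρ.range K x = (N ⊔ (χ.comp β).range).index := by
  rw [split_relIndex hK, ← hβ, ← Subgroup.index_comap_of_surjective _ hχ, MonoidHom.range_eq_map ρ,
    ← Subgroup.relIndex_comap, Subgroup.relIndex_top_right]
  congr 1
  ext g
  rw [Subgroup.mem_comap, Subgroup.mem_comap, Subgroup.mem_sup_of_normal_left,
    Subgroup.mem_sup_of_normal_left]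
  constructor
  · rintro ⟨k, hk, _, ⟨y, rfl⟩, e⟩
    refine ⟨χ (g * (β y)⁻¹), (hN _).2 ?_, _, ⟨y, rfl⟩, by simp⟩
    rw [map_mul, ← e]; simpa using hk
  · rintro ⟨k, hk, _, ⟨y, rfl⟩, e⟩
    refine ⟨ρ (g * (β y)⁻¹), (hN _).1 ?_, _, ⟨y, rfl⟩, by simp⟩
    rw [map_mul, ← e]; simpa using hk

theorem map_cent (Θ : X ≃* Y) {D : Subgroup X} {D' : Subgroup Y} (hD : ∀ g, Θ g ∈ D' ↔ g ∈ D) (x g : X) :
    Θ g ∈ D' ⊓ Subgroup.centralizer {Θ x} ↔ g ∈ D ⊓ Subgroup.centralizer {x} := by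
  simp only [Subgroup.mem_inf, hD, Subgroup.mem_centralizer_singleton_iff, ← map_mul,
    EmbeddingLike.apply_eq_iff_eq]

theorem eq_map_of (Θ : X ≃* Y) {D : Subgroup X} {D' : Subgroup Y} (hD : ∀ g, Θ g ∈ D' ↔ g ∈ D) :
    D' = D.map Θ.toMonoidHom := by
  ext y
  obtain ⟨y, rfl⟩ := Θ.surjective y
  rw [hD]
  exact (Subgroup.mem_map_iff_mem (f := Θ.toMonoidHom) Θ.injective).symm

theorem cent_congr (Θ : X ≃* Y) {D : Subgroup X} {D' : Subgroup Y} (hD : ∀ g, Θ g ∈ D' ↔ g ∈ D) (x : X)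
    (h : Nonempty (↥(D' ⊓ Subgroup.centralizer {Θ x}) ≃* A)) :
    Nonempty (↥(D ⊓ Subgroup.centralizer {x}) ≃* A) := by
  rw [eq_map_of Θ (map_cent Θ hD x)] at h
  exact ⟨(Θ.subgroupMap _).trans h.some⟩

theorem split_congr (Θ : X ≃* Y) {D K : Subgroup X} {D' K' : Subgroup Y} (hK : K ≤ D) [K.Normal]
    [K'.Normal] (hD : ∀ g, Θ g ∈ D' ↔ g ∈ D) (hK' : ∀ g, Θ g ∈ K' ↔ g ∈ K) (x : X) :
    Cfsg.splitClassCount D K x = Cfsg.splitClassCount D' K' (Θ x) := by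
  have h1 : K' ≤ D' := fun y hy => by
    obtain ⟨y, rfl⟩ := Θ.surjective y
    exact (hD _).2 (hK ((hK' _).1 hy))
  rw [split_relIndex hK, split_relIndex h1, eq_map_of Θ (map_cent Θ hD x), eq_map_of Θ hD, eq_map_of Θ hK',
    ← Subgroup.map_sup, Subgroup.relIndex_map_map_of_injective _ _ Θ.injective]

/-- the elements of the same order in the coset are conjugate -/
def LangP (D : Subgroup X) (x : X) : Prop :=
  ∀ δ ∈ D, orderOf (δ * x) = orderOf x → Cfsg.IsConjUnder D x (δ * x)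

theorem LangP.congr (Θ : X ≃* Y) {D : Subgroup X} {D' : Subgroup Y} (hD : ∀ g, Θ g ∈ D' ↔ g ∈ D) {x : X}
    (h : LangP D' (Θ x)) : LangP D x := by
  intro δ hδ h1
  obtain ⟨k, hk, e⟩ := h (Θ δ) ((hD _).2 hδ) (by rw [← map_mul, Θ.orderOf_eq, Θ.orderOf_eq, h1])
  obtain ⟨k, rfl⟩ := Θ.surjective k
  exact ⟨k, (hD _).1 hk, Θ.injective (by simpa using e)⟩

theorem LangP.iff {D : Subgroup X} {x δ : X} (h : LangP D x) (hδ : δ ∈ D) {r : ℕ} (hr : orderOf x = r) :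
    orderOf (δ * x) = r ↔ Cfsg.IsConjUnder D x (δ * x) := by
  subst hr
  refine ⟨h δ hδ, ?_⟩
  rintro ⟨k, -, e⟩
  rw [e]
  exact (MulAut.conj k).orderOf_eq x

theorem conj_mem_iff' (D : Subgroup X) [hD : D.Normal] (a g : X) : MulAut.conj a g ∈ D ↔ g ∈ D :=
  ⟨fun h => by simpa [mul_assoc] using hD.conj_mem _ h a⁻¹, fun h => hD.conj_mem _ h a⟩

theorem congr_mem_Inn (ψ : X ≃* Y) (g : MulAut X) : MulAut.congr ψ g ∈ Cfsg.Inn Y ↔ g ∈ Cfsg.Inn X := by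
  constructor
  · rintro ⟨y, h⟩
    refine ⟨ψ.symm y, MulEquiv.ext fun x => ψ.injective ?_⟩
    simpa using DFunLike.congr_fun h (ψ x)
  · rintro ⟨y, rfl⟩
    exact ⟨ψ y, MulEquiv.ext fun x => by simp⟩

theorem index_sup_pow {C : Type*} [CommGroup C] [Finite C] [IsCyclic C] (B : Subgroup C) (n : ℕ) :
    ((powMonoidHom n : C →* C).range ⊔ B).index = Nat.gcd n B.index := by
  haveI : IsCyclic (C ⧸ B) := isCyclic_of_surjective _ (QuotientGroup.mk'_surjective B)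
  have h1 := Subgroup.index_map (powMonoidHom n : C →* C).range (QuotientGroup.mk' B)
  rw [QuotientGroup.ker_mk', QuotientGroup.range_mk', Subgroup.index_top, mul_one] at h1
  rw [← h1, Nat.gcd_comm, B.index_eq_card, ← IsCyclic.index_powMonoidHom_range]
  congr 1
  ext y
  obtain ⟨y, rfl⟩ := QuotientGroup.mk'_surjective B y
  constructor
  · rintro ⟨_, ⟨a, rfl⟩, h⟩
    exact ⟨QuotientGroup.mk' B a, by rw [← h]; simp⟩
  · rintro ⟨a, h⟩
    obtain ⟨a, rfl⟩ := QuotientGroup.mk'_surjective B a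
    exact ⟨_, ⟨a, rfl⟩, by rw [← h]; simp⟩

theorem index_eq_div {C : Type*} [Group C] [Finite C] (B : Subgroup C) : B.index = Nat.card C / Nat.card B := by
  rw [← B.card_mul_index, Nat.mul_div_cancel_left _ Nat.card_pos]

end Grp

section Gal
variable {F V : Type*} [Field F] [AddCommGroup V] [Module F V]

theorem GamL.pow_τ (t : GamL F V) (k : ℕ) : (t ^ k).τ = t.τ ^ k := map_pow GamL.tau t k

theorem GamL.ext_basis {ι : Type*} (b : Basis ι F V) {s t : GamL F V} (h1 : s.τ = t.τ)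
    (h : ∀ i, s.g (b i) = t.g (b i)) : s = t := by
  obtain ⟨x, hx⟩ := GamL.exists_lin (s := t⁻¹ * s) fun c => by simp [h1]
  have : x = 1 := b.ext' fun i => by
    change (GamL.lin x).g _ = _
    rw [hx]; simp [h]
  rw [this, map_one, eq_inv_mul_iff_mul_eq, mul_one] at hx
  exact hx.symm

theorem prod_shift {M : Type*} [CommGroup M] (f : ℕ → M) {r : ℕ} (h : f r = f 0) :
    ∏ i ∈ Finset.range r, f (i + 1) = ∏ i ∈ Finset.range r, f i := by
  have := Finset.prod_range_succ' f r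
  rw [Finset.prod_range_succ, h] at this
  exact (mul_right_cancel this).symm

theorem span_fixed [Finite F] (t : GamL F V) (ht : t ^ orderOf t.τ = 1) :
    Submodule.span F {v | t.g v = v} = ⊤ := by
  haveI : Finite (F ≃+* F) := Finite.of_injective _ (DFunLike.coe_injective (F := F ≃+* F))
  by_contra h
  obtain ⟨b, hb, h1⟩ := Submodule.exists_le_ker_of_lt_top _ (lt_top_iff_ne_top.2 h)
  obtain ⟨v, hv⟩ := exists_vec_one hb
  have h2 : ∀ a : F, ∑ i ∈ Finset.range (orderOf t.τ), b ((t ^ i).g v) * (t.τ ^ i) a = 0 := fun a => by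
    have h3 : t.g (∑ i ∈ Finset.range (orderOf t.τ), (t ^ i).g (a • v)) =
        ∑ i ∈ Finset.range (orderOf t.τ), (t ^ i).g (a • v) := by
      rw [map_sum]
      have := prod_shift (M := Multiplicative V) (fun i => Multiplicative.ofAdd ((t ^ i).g (a • v)))
        (r := orderOf t.τ) (by simp [ht])
      simpa [← ofAdd_sum, pow_succ'] using this
    have h4 := h1 (Submodule.subset_span h3)
    rw [LinearMap.mem_ker, map_sum] at h4
    simpa [GamL.smul', GamL.pow_τ, mul_comm] using h4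
  have h3 := (linearIndependent_monoidHom F F).comp
    (fun i : Fin (orderOf t.τ) => ((t.τ ^ (i : ℕ) : F ≃+* F) : F →* F)) fun i j hij =>
      Fin.ext (pow_injOn_Iio_orderOf i.2 j.2 (RingEquiv.ext fun a => DFunLike.congr_fun hij a))
  have h4 := Fintype.linearIndependent_iff.1 h3 (fun i => b ((t ^ (i : ℕ)).g v)) (funext fun a => by
    rw [Finset.sum_apply, Pi.zero_apply, ← h2 a, Finset.sum_range]; rfl) ⟨0, orderOf_pos _⟩
  simp [hv] at h4

theorem exists_fixed_basis [Finite F] (t : GamL F V) (ht : t ^ orderOf t.τ = 1) [FiniteDimensional F V]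
    {ι : Type*} [Fintype ι] (hn : finrank F V = Fintype.card ι) : ∃ b : Basis ι F V, ∀ i, t.g (b i) = b i := by
  obtain ⟨S, h1, h2, h3⟩ := exists_linearIndependent F {v | t.g v = v}
  rw [span_fixed t ht] at h2
  let b : Basis S F V := Basis.mk h3 (by rw [Subtype.range_coe, h2])
  let b' := Module.finBasisOfFinrankEq F V hn
  refine ⟨b.reindex ((b.indexEquiv b').trans (Fintype.equivFin ι).symm), fun i => ?_⟩
  rw [Basis.reindex_apply, Basis.mk_apply]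
  exact h1 (Subtype.prop _)

/-- the norm map -/
noncomputable def nm (σ : F ≃+* F) : Fˣ →* Fˣ :=
  ∏ i ∈ Finset.range (orderOf σ), Units.map (σ ^ i : F ≃+* F).toMonoidHom

theorem nm_apply (σ : F ≃+* F) (c : Fˣ) :
    nm σ c = ∏ i ∈ Finset.range (orderOf σ), Units.map (σ ^ i : F ≃+* F).toMonoidHom c := by
  simp [nm, MonoidHom.finset_prod_apply]

theorem nm_map (σ : F ≃+* F) (c : Fˣ) : nm σ (Units.map σ.toMonoidHom c) = nm σ c := by
  rw [nm_apply, nm_apply, ← prod_shift (fun i => Units.map (σ ^ i : F ≃+* F).toMonoidHom c)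
    (by simp [pow_orderOf_eq_one])]
  exact Finset.prod_congr rfl fun i _ => Units.ext (by simp [pow_succ])

theorem map_nm (σ : F ≃+* F) (c : Fˣ) : Units.map σ.toMonoidHom (nm σ c) = nm σ c := by
  rw [nm_apply, map_prod, ← prod_shift (fun i => Units.map (σ ^ i : F ≃+* F).toMonoidHom c)
    (by simp [pow_orderOf_eq_one])]
  exact Finset.prod_congr rfl fun i _ => Units.ext (by simp [pow_succ'])

theorem mul_scal (t : GamL F V) (c : Fˣ) :
    t * GamL.lin (scal V c) = GamL.lin (scal V (Units.map t.τ.toMonoidHom c)) * t := by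
  rw [← cj_scal, GamL.lin_cj_eq, inv_mul_cancel_right]

theorem scal_mul_pow (t : GamL F V) (c : Fˣ) (k : ℕ) : (GamL.lin (scal V c) * t) ^ k =
    GamL.lin (scal V (∏ i ∈ Finset.range k, Units.map (t.τ ^ i : F ≃+* F).toMonoidHom c)) * t ^ k := by
  induction k with
  | zero => simp
  | succ k ih =>
    rw [pow_succ, ih, Finset.prod_range_succ, map_mul, map_mul, pow_succ, mul_assoc, mul_assoc, ← mul_assoc (t ^ k),
      mul_scal, GamL.pow_τ, mul_assoc]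

theorem scal_mul_pow' (t : GamL F V) (c : Fˣ) : (GamL.lin (scal V c) * t) ^ orderOf t.τ =
    GamL.lin (scal V (nm t.τ c)) * t ^ orderOf t.τ := by rw [scal_mul_pow, nm_apply]

theorem fld_pow {ι : Type} [Fintype ι] [DecidableEq ι] (σ : F ≃+* F) : fld ι σ ^ orderOf σ = 1 := by
  rw [← map_pow, pow_orderOf_eq_one, map_one]

variable [Finite F]

theorem hilbert90 {σ : F ≃+* F} {l : Fˣ} (h : nm σ l = 1) : ∃ m : Fˣ, Units.map σ.toMonoidHom m = l * m := by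
  have h1 := scal_mul_pow' (fld Unit σ) l⁻¹
  rw [fld_τ, fld_pow, map_inv (nm σ), h, inv_one, map_one, map_one, mul_one] at h1
  obtain ⟨b, hb⟩ := exists_fixed_basis (GamL.lin (scal (Unit → F) l⁻¹) * fld Unit σ) h1 (ι := Unit) (by simp)
  have h2 : b () () ≠ 0 := fun h => b.ne_zero () (funext fun _ => h)
  refine ⟨Units.mk0 _ h2, Units.ext ?_⟩
  have := congrFun (hb ()) ()
  rw [GamL.mul_g, GamL.lin_g, scal_apply] at this
  simp only [Pi.smul_apply, fld_g, smul_eq_mul, Units.val_inv_eq_inv_val] at this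
  exact (inv_mul_eq_iff_eq_mul₀ l.ne_zero).1 this

theorem exists_nm {σ : F ≃+* F} {c : Fˣ} (h : σ c = c) : ∃ d, nm σ d = c := by
  let D : Fˣ →* Fˣ := Units.map σ.toMonoidHom / MonoidHom.id _
  have hD : ∀ m, D m = Units.map σ.toMonoidHom m / m := fun _ => rfl
  have h1 : (nm σ).ker = D.range := by
    ext l
    constructor
    · intro hl
      obtain ⟨m, hm⟩ := hilbert90 hl
      exact ⟨m, by rw [hD, hm, mul_div_cancel_right]⟩
    · rintro ⟨m, rfl⟩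
      rw [MonoidHom.mem_ker, hD, map_div, nm_map, div_self']
  have h2 : (nm σ).range = D.ker := by
    refine Subgroup.eq_of_le_of_card_ge ?_ ?_
    · rintro _ ⟨m, rfl⟩
      rw [MonoidHom.mem_ker, hD, map_nm, div_self']
    · have e1 := D.ker.card_mul_index
      have e2 := (nm σ).ker.card_mul_index
      rw [Subgroup.index_ker] at e1 e2
      rw [h1, mul_comm, ← e1] at e2
      exact (Nat.eq_of_mul_eq_mul_right Nat.card_pos e2).ge
  exact h2.ge (show D c = 1 by simp [D, div_eq_one, Units.ext_iff, h])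

theorem exists_pow_eq_one [Nontrivial V] {t : GamL F V} (h : IsScG (t ^ orderOf t.τ)) :
    ∃ d, (GamL.lin (scal V d) * t) ^ orderOf t.τ = 1 := by
  obtain ⟨c, hc⟩ := h
  have h1 : t.τ c = c := by
    have := mul_scal t c
    rw [← hc, ← pow_succ', pow_succ, mul_left_inj, hc] at this
    obtain ⟨v, hv⟩ := exists_ne (0 : V)
    exact (smul_left_injective F hv (DFunLike.congr_fun (GamL.lin_injective this) v)).symm
  obtain ⟨d, hd⟩ := exists_nm h1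
  exact ⟨d⁻¹, by rw [scal_mul_pow', map_inv (nm t.τ), hd, hc, ← map_mul, ← map_mul]; simp⟩

theorem exists_fix_mul [Nontrivial V] {s : GamL F V} (hs : s ^ orderOf s.τ = 1) {g : V ≃ₗ[F] V} {c : Fˣ}
    (h : s.cj g = scal V c * g) : ∃ m, s.cj (scal V m * g) = scal V m * g := by
  have h1 : GamL.lin g⁻¹ * s * (GamL.lin g⁻¹)⁻¹ = GamL.lin (scal V c) * s := by
    rw [map_inv, inv_inv, mul_assoc, ← inv_mul_cancel_right (s * _) s, inv_mul_cancel_right,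
      ← mul_inv_cancel_right (s * _) s⁻¹, ← GamL.lin_cj_eq, h, scal_comm]
    simp [mul_assoc]
  have h2 := scal_mul_pow' s c
  rw [← h1, conj_pow, hs, mul_one, mul_inv_cancel, mul_one, eq_comm, ← map_one GamL.lin] at h2
  have h3 : nm s.τ c⁻¹ = 1 := by
    obtain ⟨v, hv⟩ := exists_ne (0 : V)
    rw [map_inv, inv_eq_one]
    exact Units.ext (smul_left_injective F hv ((DFunLike.congr_fun (GamL.lin_injective h2) v).trans
      (by simp)))
  obtain ⟨m, hm⟩ := hilbert90 h3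
  exact ⟨m, by rw [GamL.cj_mul, cj_scal, hm, h, ← mul_assoc, ← map_mul]; simp [mul_comm c⁻¹]⟩

variable {F₀ : Type*} [Field F₀]

/-- `φ` identifies `F₀` with the fixed field of `σ` -/
def Desc (φ : F₀ →+* F) (σ : F ≃+* F) : Prop := ∀ a, σ a = a ↔ ∃ b, φ b = a

omit [Finite F] in
theorem Desc.fix {φ : F₀ →+* F} {σ : F ≃+* F} (h : Desc φ σ) (b : F₀) : σ (φ b) = φ b := (h _).2 ⟨b, rfl⟩

theorem exists_fixed_field (σ : F ≃+* F) :
    ∃ E : Subfield F, Desc E.subtype σ ∧ Nat.card F = Nat.card E ^ orderOf σ := by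
  haveI : Finite (F ≃+* F) := Finite.of_injective _ (DFunLike.coe_injective (F := F ≃+* F))
  letI := Fintype.ofFinite (Subgroup.zpowers σ)
  refine ⟨FixedPoints.subfield (Subgroup.zpowers σ) F, fun a => ?_, ?_⟩
  · rw [show (∃ b, (FixedPoints.subfield (Subgroup.zpowers σ) F).subtype b = a) ↔
      a ∈ FixedPoints.subfield (Subgroup.zpowers σ) F by simp]
    refine ⟨fun h g => ?_, fun h => h ⟨σ, Subgroup.mem_zpowers σ⟩⟩
    exact (Subgroup.zpowers_le (H := MulAction.stabilizer (F ≃+* F) a)).2 h g.2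
  · rw [Module.natCard_eq_pow_finrank (K := FixedPoints.subfield (Subgroup.zpowers σ) F),
      FixedPoints.finrank_eq_card, ← Nat.card_eq_fintype_card, Nat.card_zpowers]

theorem Desc.card {φ : F₀ →+* F} {σ : F ≃+* F} (h : Desc φ σ) : Nat.card F = Nat.card F₀ ^ orderOf σ := by
  obtain ⟨E, h1, h2⟩ := exists_fixed_field σ
  rw [h2]
  congr 1
  refine (Nat.card_congr (Equiv.ofBijective (fun b : F₀ => (⟨φ b, ?_⟩ : E)) ⟨fun a b hab => ?_, fun a => ?_⟩)).symm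
  · obtain ⟨a, ha⟩ := (h1 _).1 (h.fix b)
    exact ha ▸ a.2
  · exact φ.injective (congrArg Subtype.val hab)
  · obtain ⟨b, hb⟩ := (h _).1 (h1.fix a)
    exact ⟨b, Subtype.ext hb⟩

theorem exists_desc (σ : F ≃+* F) [Finite F₀] (h : Nat.card F = Nat.card F₀ ^ orderOf σ) :
    ∃ φ : F₀ →+* F, Desc φ σ := by
  haveI : Finite (F ≃+* F) := Finite.of_injective _ (DFunLike.coe_injective (F := F ≃+* F))
  obtain ⟨E, h1, h2⟩ := exists_fixed_field σ
  letI := Fintype.ofFinite F₀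
  letI := Fintype.ofFinite E
  let e : F₀ ≃+* E := FiniteField.ringEquivOfCardEq (by
    rw [← Nat.card_eq_fintype_card, ← Nat.card_eq_fintype_card]
    exact Nat.pow_left_injective (orderOf_pos σ).ne' (h.symm.trans h2))
  refine ⟨E.subtype.comp e.toRingHom, fun a => (h1 a).trans ⟨fun ⟨b, hb⟩ => ⟨e.symm b, by simpa using hb⟩,
    fun ⟨b, hb⟩ => ⟨_, hb⟩⟩⟩

end Gal

section Md
variable {F V : Type*} [Field F] [AddCommGroup V] [Module F V] {F₀ : Type*} [Field F₀]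

/-- a rational structure fixed by `t` -/
structure Md (φ : F₀ →+* F) (ι : Type) (t : GamL F V) where
  h : (ι → F) ≃ₗ[F] V
  fix : ∀ v, t.g (h (jv φ v)) = h (jv φ v)

variable {φ : F₀ →+* F} {ι : Type} [Fintype ι] [DecidableEq ι] {t t' : GamL F V}

theorem nonempty_md [Finite F] [FiniteDimensional F V] (hφ : Desc φ t.τ) (ht : t ^ orderOf t.τ = 1)
    (hn : finrank F V = Fintype.card ι) : Nonempty (Md φ ι t) := by
  obtain ⟨b, hb⟩ := exists_fixed_basis t ht hn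
  refine ⟨⟨b.equivFun.symm, fun v => ?_⟩⟩
  simp [map_sum, GamL.smul', hb, jv, hφ.fix]

/-- the standard structure -/
def mdFld {σ : F ≃+* F} (hφ : Desc φ σ) : Md φ ι (fld ι σ) :=
  ⟨LinearEquiv.refl _ _, fun v => funext fun i => (fld_g σ _ i).trans (hφ.fix (v i))⟩

@[simp] theorem mdFld_h {σ : F ≃+* F} (hφ : Desc φ σ) (v) : (mdFld (ι := ι) hφ).h v = v := rfl

namespace Md
variable (M : Md φ ι t)

/-- rational vectors -/
def j (v : ι → F₀) : V := M.h (jv φ v)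

omit [Fintype ι] [DecidableEq ι] in
@[simp] theorem fix_j (v) : t.g (M.j v) = M.j v := M.fix v
omit [Fintype ι] [DecidableEq ι] in
theorem j_add (u v) : M.j (u + v) = M.j u + M.j v := by simp [j, jv_add]
omit [Fintype ι] [DecidableEq ι] in
theorem j_smul (c : F₀) (v) : M.j (c • v) = φ c • M.j v := by simp [j, jv_smul]
omit [Fintype ι] [DecidableEq ι] in
theorem j_inj : Function.Injective M.j := M.h.injective.comp (jv_inj φ)

/-- the rational basis -/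
noncomputable def bs : Basis ι F V := (Pi.basisFun F ι).map M.h

omit [DecidableEq ι] in
theorem bs_apply (i) : M.bs i = M.j (Pi.basisFun F₀ ι i) := by rw [j, jv_basis]; rfl

/-- base change -/
noncomputable def β : ((ι → F₀) ≃ₗ[F₀] (ι → F₀)) →* (V ≃ₗ[F] V) := (cgl M.h).toMonoidHom.comp (bc φ)

@[simp] theorem β_j (x v) : M.β x (M.j v) = M.j (x v) := by simp [β, j]

omit [DecidableEq ι] in
theorem ext_j {x y : V ≃ₗ[F] V} (h : ∀ v, x (M.j v) = y (M.j v)) : x = y :=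
  M.bs.ext' fun i => by rw [bs_apply, h]

theorem β_inj : Function.Injective M.β := (cgl M.h).injective.comp (bc_inj φ)

theorem β_scal (c : F₀ˣ) : M.β (scal _ c) = scal V (Units.map φ.toMonoidHom c) :=
  M.ext_j fun v => by simp [j_smul]

theorem det_β (x) : (LinearEquiv.det (M.β x) : F) = φ (LinearEquiv.det x) := by
  rw [← det_bc, ← det_cgl M.h]; rfl

theorem cj_β (x) : t.cj (M.β x) = M.β x := M.ext_j fun v => by
  conv_lhs => rw [← fix_j]
  rw [GamL.cj_g, β_j, fix_j]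

theorem eq_cg (hφ : Desc φ t.τ) : t = cg M.h (fld ι t.τ) :=
  GamL.ext_basis M.bs rfl fun i => by
    rw [bs_apply, fix_j, j, cg_g']
    exact congrArg M.h ((mdFld hφ).fix _).symm

theorem exists_j (hφ : Desc φ t.τ) {v : V} (hv : t.g v = v) : ∃ u, M.j u = v := by
  obtain ⟨v, rfl⟩ := M.h.surjective v
  have h1 : (fld ι t.τ).g v = v := M.h.injective (by rw [← cg_g', ← M.eq_cg hφ, hv])
  choose u hu using fun i => (hφ (v i)).1 ((fld_g _ _ i).symm.trans (congrFun h1 i))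
  exact ⟨u, congrArg M.h (funext hu)⟩

theorem exists_β (hφ : Desc φ t.τ) {g : V ≃ₗ[F] V} (hg : t.cj g = g) : ∃ x, M.β x = g := by
  have key : ∀ g : V ≃ₗ[F] V, t.cj g = g → ∃ x : (ι → F₀) →ₗ[F₀] (ι → F₀), ∀ v, M.j (x v) = g (M.j v) := by
    intro g hg
    choose x hx using fun v => M.exists_j hφ (v := g (M.j v)) (by
      rw [← GamL.cj_g, hg, fix_j])
    exact ⟨⟨⟨x, fun a b => M.j_inj (by simp [j_add, hx])⟩, fun a b => M.j_inj (by simp [j_smul, hx])⟩, hx⟩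
  obtain ⟨x, hx⟩ := key g hg
  obtain ⟨y, hy⟩ := key g⁻¹ (by rw [GamL.cj_inv, hg])
  exact ⟨LinearEquiv.ofLinear x y (LinearMap.ext fun v => M.j_inj (by simp [hx, hy]))
    (LinearMap.ext fun v => M.j_inj (by simp [hx, hy])), M.ext_j fun v => by simp [hx]⟩

theorem isSc_β (hφ : Desc φ t.τ) {x} : IsSc (M.β x) ↔ IsSc x := by
  rw [isSc_iff_scal, isSc_iff_scal]
  refine ⟨fun ⟨c, hc⟩ => ?_, by rintro ⟨c, rfl⟩; exact ⟨_, M.β_scal c⟩⟩
  by_cases h : ∃ v : V, v ≠ 0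
  · obtain ⟨v, hv⟩ := h
    have := M.cj_β x
    rw [hc, cj_scal] at this
    obtain ⟨b, hb⟩ := (hφ c).1 (smul_left_injective F hv (DFunLike.congr_fun this v))
    have h0 : b ≠ 0 := by rintro rfl; exact c.ne_zero (by simp [← hb])
    exact ⟨Units.mk0 b h0, M.β_inj (by rw [hc, β_scal]; congr 1; exact Units.ext hb.symm)⟩
  · push Not at h
    exact ⟨1, LinearEquiv.ext fun v => M.j_inj (by rw [h (M.j _), h (M.j _)])⟩

omit [DecidableEq ι] in
theorem conj_eq (M' : Md φ ι t') (h : t'.τ = t.τ) :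
    t' = GamL.lin (M.h.symm.trans M'.h) * t * (GamL.lin (M.h.symm.trans M'.h))⁻¹ := by
  rw [eq_mul_inv_iff_mul_eq]
  refine GamL.ext_basis M.bs (RingEquiv.ext fun c => by simp [h]) fun i => ?_
  simp [bs_apply, M.fix_j, j, M'.fix, M.fix]

omit [Fintype ι] [DecidableEq ι] in
theorem trans_j (M' : Md φ ι t') (v) : (M.h.symm.trans M'.h) (M.j v) = M'.j v := by simp [j]

theorem exists_comp {ι' : Type} [Fintype ι'] [DecidableEq ι'] (e : (ι' → F₀) ≃ₗ[F₀] (ι → F₀)) :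
    ∃ M' : Md φ ι' t, ∀ v, M'.j v = M.j (e v) := by
  have key : ∀ {a b : Type} [Fintype a] [DecidableEq a] [Fintype b] [DecidableEq b]
      (x : (a → F₀) →ₗ[F₀] (b → F₀)) (v), ((LinearMap.toMatrix' x).map φ) *ᵥ jv φ v = jv φ (x v) := by
    intro a b _ _ _ _ x v
    rw [← LinearMap.toMatrix'_mulVec]
    ext i
    simp [jv, Matrix.mulVec, dotProduct, map_sum]
  let k : (ι' → F) ≃ₗ[F] (ι → F) := Matrix.toLin'OfInv (M := (LinearMap.toMatrix' e.symm.toLinearMap).map φ)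
    (M' := (LinearMap.toMatrix' e.toLinearMap).map φ)
    (by rw [← Matrix.map_mul, ← LinearMap.toMatrix'_comp]; simp)
    (by rw [← Matrix.map_mul, ← LinearMap.toMatrix'_comp]; simp)
  have hk : ∀ v, k (jv φ v) = jv φ (e v) := key e.toLinearMap
  exact ⟨⟨k.trans M.h, fun v => by simp [hk, M.fix]⟩, fun v => by simp [j, hk]⟩

variable {K₀ : Kind F₀} {K : Kind F}

/-- the form `Φ` is `m` times the base change of `Φ₀` -/
structure Fm (Φ₀ : Form K₀ (ι → F₀)) (Φ : Form K V) (m : F) : Prop where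
  ne : m ≠ 0
  σm : K.σ m = m
  σ : ∀ a, φ (K₀.σ a) = K.σ (φ a)
  B : ∀ u v, Φ.B (M.j u) (M.j v) = m * φ (Φ₀.B u v)
  N : ∀ v, Φ.N (M.j v) = m * φ (Φ₀.N v)

variable {M} {Φ₀ : Form K₀ (ι → F₀)} {Φ : Form K V} {m : F}

theorem Fm.isSemi [Cmp K] (h : M.Fm Φ₀ Φ m) {x} {l : F₀} (hx : IsSemi Φ₀ (GamL.lin x) l) :
    IsSemi Φ (GamL.lin (M.β x)) (φ l) :=
  isSemi_of_basis M.bs (by simpa using hx.ne) (by rw [← h.σ, hx.σl])
    (fun i j => by
      have := hx.B (Pi.basisFun F₀ ι i) (Pi.basisFun F₀ ι j)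
      simp only [GamL.lin_g, GamL.lin_τ, RingEquiv.refl_apply] at this
      simp only [bs_apply, GamL.lin_g, β_j, h.B, this, GamL.lin_τ, RingEquiv.refl_apply, map_mul]; ring)
    (fun i => by
      have := hx.N (Pi.basisFun F₀ ι i)
      simp only [GamL.lin_g, GamL.lin_τ, RingEquiv.refl_apply] at this
      simp only [bs_apply, GamL.lin_g, β_j, h.N, this, GamL.lin_τ, RingEquiv.refl_apply, map_mul]; ring)

theorem Fm.isSemi' (h : M.Fm Φ₀ Φ m) {x} {l : F₀} (hx : IsSemi Φ (GamL.lin (M.β x)) (φ l)) :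
    IsSemi Φ₀ (GamL.lin x) l :=
  ⟨by simpa using hx.ne, φ.injective (by rw [h.σ, hx.σl]),
    fun u v => φ.injective (mul_left_cancel₀ h.ne (by
      simpa [h.B, mul_left_comm] using hx.B (M.j u) (M.j v))),
    fun v => φ.injective (mul_left_cancel₀ h.ne (by simpa [h.N, mul_left_comm] using hx.N (M.j v)))⟩

theorem Fm.isom [Cmp K] (h : M.Fm Φ₀ Φ m) {x} : M.β x ∈ Φ.Isom ↔ x ∈ Φ₀.Isom :=
  ⟨fun hx => isSemi_lin_one (h.isSemi' (by simpa using isSemi_lin hx)),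
    fun hx => isSemi_lin_one (by simpa using h.isSemi (isSemi_lin hx))⟩

omit [DecidableEq ι] in
theorem Fm.nondeg (h : M.Fm Φ₀ Φ m) (hΦ : Φ.Nondeg) : Φ₀.Nondeg := fun v hv => by
  refine M.j_inj ((hΦ _ fun u => ?_).trans (by simpa using (M.j_smul 0 0).symm))
  have : Φ.B.flip (M.j v) = 0 := M.bs.ext fun i => by simp [bs_apply, h.B, hv]
  exact DFunLike.congr_fun this u

theorem Fm.sim [Cmp K] [Cmp K₀] [Nontrivial (ι → F₀)] (h : M.Fm Φ₀ Φ m) (hΦ : Φ₀.Nondeg) {x} :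
    M.β x ∈ Sim Φ ↔ x ∈ Sim Φ₀ := by
  refine ⟨fun ⟨l, hl⟩ => ?_, fun ⟨l, hl⟩ => ⟨_, h.isSemi hl⟩⟩
  obtain ⟨v, hv⟩ := exists_ne (0 : ι → F₀)
  obtain ⟨u, hu⟩ := hΦ.exists_ne hv
  have := hl.B (M.j u) (M.j v)
  simp only [GamL.lin_g, β_j, h.B, GamL.lin_τ, RingEquiv.refl_apply] at this
  have e : l = φ (Φ₀.B (x u) (x v) / Φ₀.B u v) := by
    rw [map_div₀, eq_div_iff (by simpa using hu)]
    exact mul_left_cancel₀ h.ne (by linear_combination -this)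
  exact ⟨_, h.isSemi' (e ▸ hl)⟩

omit [DecidableEq ι] in
theorem Fm.trans_sim [hK : Cmp K] {M' : Md φ ι t'} {m' : F} (h : M.Fm Φ₀ Φ m) (h' : M'.Fm Φ₀ Φ m') :
    IsSemi Φ (GamL.lin (M.h.symm.trans M'.h)) (m' / m) :=
  isSemi_of_basis M.bs (div_ne_zero h'.ne h.ne) (by rw [map_div₀, h.σm, h'.σm])
    (fun i j => by simp [bs_apply, trans_j, h.B, h'.B, h.ne, ← mul_assoc, -LinearEquiv.trans_apply])
    (fun i => by simp [bs_apply, trans_j, h.N, h'.N, h.ne, ← mul_assoc, -LinearEquiv.trans_apply])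

theorem Fm.conj [Cmp K] {M' : Md φ ι t'} {m' : F} (h : M.Fm Φ₀ Φ m) (h' : M'.Fm Φ₀ Φ m')
    (ht : t'.τ = t.τ) : ∃ k ∈ Sim Φ, t' = GamL.lin k * t * (GamL.lin k)⁻¹ :=
  ⟨_, ⟨_, h.trans_sim h'⟩, M.conj_eq M' ht⟩

theorem Fm.comp (h : M.Fm Φ₀ Φ m) {ι' : Type} [Fintype ι'] [DecidableEq ι'] {Ψ₀ : Form K₀ (ι' → F₀)}
    (e : (ι' → F₀) ≃ₗ[F₀] (ι → F₀)) {c : F₀} (hc : c ≠ 0) (hc' : K₀.σ c = c)
    (hB : ∀ u v, Φ₀.B (e u) (e v) = c * Ψ₀.B u v) (hN : ∀ v, Φ₀.N (e v) = c * Ψ₀.N v) :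
    ∃ M' : Md φ ι' t, M'.Fm Ψ₀ Φ (m * φ c) := by
  obtain ⟨M', h1⟩ := M.exists_comp e
  exact ⟨M', mul_ne_zero h.ne (by simpa using hc), by rw [map_mul, h.σm, ← h.σ, hc'], h.σ,
    fun u v => by simp [h1, h.B, hB, mul_assoc], fun v => by simp [h1, h.N, hN, mul_assoc]⟩

theorem Fm.iso (h : M.Fm Φ₀ Φ m) {ι' : Type} [Fintype ι'] [DecidableEq ι'] {Ψ₀ : Form K₀ (ι' → F₀)}
    (e : Ψ₀.Iso Φ₀) : ∃ M' : Md φ ι' t, M'.Fm Ψ₀ Φ m := by
  obtain ⟨e, h1, h2⟩ := e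
  simpa using h.comp e one_ne_zero (map_one _) (by simpa using h1) (by simpa using h2)

end Md

theorem fm_fld {K₀ : Kind F₀} {K : Kind F} {Φ₀ : Form K₀ (ι → F₀)} {Φ : Form K (ι → F)} {σ : F ≃+* F}
    (hφ : Desc φ σ) (h : BC φ Φ₀ Φ) : (mdFld hφ).Fm Φ₀ Φ 1 :=
  ⟨one_ne_zero, map_one _, h.σ, fun u v => by simpa [Md.j] using h.B u v, fun v => by simpa [Md.j] using h.N v⟩

/-- compatible kinds -/
structure KC (φ : F₀ →+* F) (K₀ : Kind F₀) (K : Kind F) (σ : F ≃+* F) : Prop where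
  σ' : ∀ a, φ (K₀.σ a) = K.σ (φ a)
  ε : φ K₀.ε = K.ε
  κ : φ K₀.κ = K.κ
  T : ∀ a, φ (K₀.T a) = K.T (φ a)
  rng : ∀ b a, K.T a = φ b → ∃ a₀, K₀.T a₀ = b
  h90 : ∀ l m, K.σ l = l → m ≠ 0 → σ m = l * m → ∃ m', m' ≠ 0 ∧ K.σ m' = m' ∧ σ m' = l * m'

theorem kc_symp (σ) : KC φ (Kind.symp F₀) (Kind.symp F) σ :=
  ⟨by simp, by simp, by simp, by simp, fun b a h => ⟨0, φ.injective (by simpa using h)⟩, fun _ m _ h h' => ⟨m, h, rfl, h'⟩⟩

theorem kc_orth (σ) : KC φ (Kind.orth F₀) (Kind.orth F) σ :=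
  ⟨by simp, by simp, map_ofNat φ 2, by simp, fun b _ _ => ⟨b, rfl⟩, fun _ m _ h h' => ⟨m, h, rfl, h'⟩⟩

theorem kc_unit [Finite F] {σ} (hφ : Desc φ σ) {ρ₀ : F₀ →+* F₀} {ρ : F →+* F} {h₀ h} (h1 : ρ₀ ≠ RingHom.id _)
    (h2 : ∀ a, φ (ρ₀ a) = ρ (φ a)) : KC φ (Kind.unit ρ₀ h₀) (Kind.unit ρ h) σ := by
  refine ⟨h2, by simp, by simp, by simp [h2], fun b a e => ?_, fun l m hl hm e => ?_⟩
  · refine trace_surj_fixed ρ₀ h1 h₀ b (φ.injective ?_)
    rw [h2, ← e]; simp [h, add_comm]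
  · have hc : ∀ a, σ (ρ a) = ρ (σ a) := ringHom_comm ρ σ.toRingHom
    replace hl : ρ l = l := hl
    by_cases h3 : m + ρ m = 0
    · obtain ⟨a, ha⟩ := DFunLike.ne_iff.1 h1
      refine ⟨φ a * m + ρ (φ a * m), fun h4 => ?_, by simp [h, add_comm], ?_⟩
      · rw [map_mul, ← h2, eq_neg_of_add_eq_zero_right h3, mul_neg, ← sub_eq_add_neg, ← sub_mul,
          mul_eq_zero, sub_eq_zero] at h4
        exact ha (φ.injective (h4.resolve_right hm)).symm
      · simp only [map_add, hc, map_mul, hφ.fix, e, hl]; ring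
    · exact ⟨m + ρ m, h3, by simp [h, add_comm], by simp only [map_add, hc, map_mul, e, hl]; ring⟩

theorem IsSemi.pow {K : Kind F} [Cmp K] {Φ : Form K V} {l : Fˣ} (h : IsSemi Φ t l) (k : ℕ) :
    IsSemi Φ (t ^ k) (∏ i ∈ Finset.range k, Units.map (t.τ ^ i : F ≃+* F).toMonoidHom l : Fˣ) := by
  induction k with
  | zero => simpa using isSemi_lin (one_mem Φ.Isom)
  | succ k ih =>
    have := ih.mul h
    rw [GamL.pow_τ] at this
    rwa [pow_succ, Finset.prod_range_succ]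

theorem Md.exists_fm [Finite F] [Nontrivial V] (M : Md φ ι t) {K₀ : Kind F₀} {K : Kind F} [hK : Cmp K]
    {Φ : Form K V} (hΦ : Φ.Nondeg) (hφ : Desc φ t.τ) (hc : KC φ K₀ K t.τ) (ht : t ^ orderOf t.τ = 1)
    (hs : t ∈ Semi Φ) : ∃ (Φ₀ : Form K₀ (ι → F₀)) (m : F), M.Fm Φ₀ Φ m := by
  obtain ⟨l, hl⟩ := hs
  lift l to Fˣ using hl.ne.isUnit
  have h1 := hl.pow (orderOf t.τ)
  rw [ht, ← nm_apply] at h1
  have h2 : nm t.τ l⁻¹ = 1 := by
    rw [map_inv, inv_eq_one]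
    exact Units.ext (h1.unique hΦ (by simpa using isSemi_lin (one_mem Φ.Isom)))
  obtain ⟨m₀, hm₀⟩ := hilbert90 h2
  obtain ⟨m, hm, hm', h3⟩ := hc.h90 (l⁻¹ : Fˣ) m₀ (by simp [hl.σl]) m₀.ne_zero (congrArg Units.val hm₀)
  have h4 : ∀ a, a = l * t.τ a → ∃ b, φ b = m⁻¹ * a := fun a ha => (hφ _).1 (by
    rw [map_mul, map_inv₀, h3]
    conv_rhs => rw [ha]
    simp [mul_assoc])
  choose B hB using fun u v => h4 _ (by simpa using hl.B (M.j u) (M.j v))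
  choose N hN using fun v => h4 _ (by simpa using hl.N (M.j v))
  have hm'' : K.σ m⁻¹ = m⁻¹ := by rw [map_inv₀, hm']
  refine ⟨⟨LinearMap.mk₂'ₛₗ _ _ B (fun a b c => φ.injective (by simp [hB, M.j_add, mul_add]))
    (fun a b c => φ.injective (by simp [hB, M.j_smul, mul_left_comm]))
    (fun a b c => φ.injective (by simp [hB, M.j_add, mul_add]))
    (fun a b c => φ.injective (by simp [hB, M.j_smul, mul_left_comm, hc.σ'])), N,
    fun u v => φ.injective ?_, fun u v => φ.injective ?_, fun c v => φ.injective ?_, fun v => ?_,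
    fun v => φ.injective ?_⟩, m, hm, hm', hc.σ', fun u v => by simp [hB, hm], fun v => by simp [hN, hm]⟩
  · simp only [LinearMap.mk₂'ₛₗ_apply, hB, map_mul, hc.σ', hc.ε, hm'']
    rw [Φ.symm]; ring
  · simp only [LinearMap.mk₂'ₛₗ_apply, hB, hN, map_add, hc.T, M.j_add, Φ.N_add, hK.Tl _ _ hm'']; ring
  · simp only [hN, map_mul, hc.σ', M.j_smul, Φ.N_smul]; ring
  · obtain ⟨a, ha⟩ := Φ.N_range (M.j v)
    exact hc.rng _ (m⁻¹ * a) (by rw [hK.Tl _ _ hm'', ha, hN])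
  · simp only [LinearMap.mk₂'ₛₗ_apply, hB, hN, map_mul, hc.κ, Φ.B_self]; ring

end Md

section CovL
variable {F V : Type*} [Field F] [AddCommGroup V] [Module F V] {G H : Subgroup (V ≃ₗ[F] V)}
  {P : Type*} [Group P] {C : Cov G P} [Finite F] [Nontrivial V]

omit [Finite F] [Nontrivial V] in
theorem Cov.aut_conj (s : Nrm G) {g} (hg : GamL.lin g ∈ Nrm G) (hg' : GamL.lin (s.1.cj g) ∈ Nrm G) :
    C.aut s * C.aut ⟨_, hg⟩ * (C.aut s)⁻¹ = C.aut ⟨_, hg'⟩ := by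
  rw [← map_inv, ← map_mul, ← map_mul]
  congr 1
  exact Subtype.ext (GamL.lin_cj_eq _ _).symm

omit [Finite F] [Nontrivial V] in
theorem Cov.Fth.mem_cent (hC : C.Fth) (s : Nrm G) {g} (hg : GamL.lin g ∈ Nrm G) :
    C.aut ⟨_, hg⟩ ∈ Subgroup.centralizer {C.aut s} ↔ ∃ c, s.1.cj g = scal V c * g := by
  have hg' : GamL.lin (s.1.cj g) ∈ Nrm G := by
    rw [GamL.lin_cj_eq]; exact mul_mem (mul_mem s.2 hg) (inv_mem s.2)
  rw [Subgroup.mem_centralizer_singleton_iff, eq_comm, ← mul_inv_eq_iff_eq_mul, Cov.aut_conj s hg hg',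
    hC.aut_eq_iff]
  simp only [← map_mul, GamL.lin_injective.eq_iff]

/-- the centraliser of a field automorphism -/
theorem Cov.Fth.range_cent (hC : C.Fth) (hH : H ≤ NrmL G) (s : Nrm G) (hs : s.1 ^ orderOf s.1.τ = 1)
    {F₀ : Type*} [Field F₀] {φ : F₀ →+* F} {ι : Type} [Fintype ι] [DecidableEq ι] (M : Md φ ι s.1)
    (hφ : Desc φ s.1.τ) {H₀ : Subgroup ((ι → F₀) ≃ₗ[F₀] (ι → F₀))} (h1 : ∀ x ∈ H₀, M.β x ∈ H)
    (h2 : ∀ x, M.β x ∈ ZG H → x ∈ ZG H₀) :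
    ((C.linAut hH).comp ((M.β.comp H₀.subtype).codRestrict H fun x => h1 _ x.2)).range =
      (C.linAut hH).range ⊓ Subgroup.centralizer {C.aut s} := by
  refine le_antisymm ?_ ?_
  · rintro _ ⟨x, rfl⟩
    exact ⟨⟨_, rfl⟩, (hC.mem_cent s _).2 ⟨1, by simpa using M.cj_β x.1⟩⟩
  · rintro _ ⟨⟨g, rfl⟩, h3⟩
    obtain ⟨c, hc⟩ := (hC.mem_cent s (g := g.1) (hH g.2)).1 h3
    obtain ⟨m, hm⟩ := exists_fix_mul hs hc
    obtain ⟨x, hx⟩ := M.exists_β hφ hm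
    obtain ⟨d, y, hy, rfl⟩ := h2 x ⟨m, g.1, g.2, hx⟩
    refine ⟨⟨y, hy⟩, hC.aut_eq_iff.2 ⟨(Units.map φ.toMonoidHom d)⁻¹ * m, ?_⟩⟩
    change GamL.lin (M.β y) = _ * GamL.lin g.1
    rw [← map_mul, map_mul (scal V), mul_assoc, ← hx, map_mul M.β, M.β_scal, map_inv, inv_mul_cancel_left]

theorem Cov.Fth.cent_equiv (hC : C.Fth) (hH : H ≤ NrmL G) (s : Nrm G) (hs : s.1 ^ orderOf s.1.τ = 1)
    {F₀ : Type*} [Field F₀] {φ : F₀ →+* F} {ι : Type} [Fintype ι] [DecidableEq ι] (M : Md φ ι s.1)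
    (hφ : Desc φ s.1.τ) {H₀ : Subgroup ((ι → F₀) ≃ₗ[F₀] (ι → F₀))} (h1 : ∀ x ∈ H₀, M.β x ∈ H)
    (h2 : ∀ x, M.β x ∈ ZG H → x ∈ ZG H₀) {A : Type*} [Group A] (χ : H₀ →* A) (hχ : Function.Surjective χ)
    (h : ∀ x, χ x = 1 ↔ IsSc x.1) :
    Nonempty (↥((C.linAut hH).range ⊓ Subgroup.centralizer {C.aut s}) ≃* A) :=
  exists_equiv_sub _ (hC.range_cent hH s hs M hφ h1 h2) χ hχ fun x => by
    rw [h, ← M.isSc_β hφ]; exact hC.linAut_eq_one hH

theorem Cov.Fth.split (hC : C.Fth) (hH : H ≤ NrmL G) (hG : G ≤ H) (s : Nrm G) (hs : s.1 ^ orderOf s.1.τ = 1)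
    {F₀ : Type*} [Field F₀] {φ : F₀ →+* F} {ι : Type} [Fintype ι] [DecidableEq ι] (M : Md φ ι s.1)
    (hφ : Desc φ s.1.τ) {H₀ : Subgroup ((ι → F₀) ≃ₗ[F₀] (ι → F₀))} (h1 : ∀ x ∈ H₀, M.β x ∈ H)
    (h2 : ∀ x, M.β x ∈ ZG H → x ∈ ZG H₀) {A : Type*} [Group A] (χ : H →* A) (hχ : Function.Surjective χ)
    (N : Subgroup A) [N.Normal] (hN : ∀ g, χ g ∈ N ↔ g.1 ∈ ZG G) :
    Cfsg.splitClassCount (C.linAut hH).range (Cfsg.Inn P) (C.aut s) =
      (N ⊔ (χ.comp ((M.β.comp H₀.subtype).codRestrict H fun x => h1 _ x.2)).range).index :=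
  split_of _ (C.Inn_eq ▸ C.range_mono _ _ hG) χ hχ N (fun g => by rw [hN, hC.lin_mem_Inn_iff]) _
    (hC.range_cent hH s hs M hφ h1 h2)

theorem Cov.Fth.langP (hC : C.Fth) (hH : H ≤ NrmL G) (hZ : ∀ c, scal V c ∈ H) (s : Nrm G)
    (hs : orderOf (C.aut s) = orderOf s.1.τ)
    (h : ∀ g ∈ H, (GamL.lin g * s.1) ^ orderOf s.1.τ = 1 →
      ∃ k ∈ H, GamL.lin g * s.1 = GamL.lin k * s.1 * (GamL.lin k)⁻¹) :
    LangP (C.linAut hH).range (C.aut s) := by
  rintro _ ⟨g, rfl⟩ h1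
  have h2 := pow_orderOf_eq_one (C.linAut hH g * C.aut s)
  rw [h1, hs, Cov.linAut_apply, ← map_mul, ← map_pow] at h2
  obtain ⟨d, hd⟩ := exists_pow_eq_one (t := GamL.lin g.1 * s.1) (hC _ h2)
  rw [← mul_assoc, ← map_mul] at hd
  obtain ⟨k, hk, e⟩ := h _ (mul_mem (hZ d) g.2) hd
  refine ⟨_, ⟨⟨k, hk⟩, rfl⟩, ?_⟩
  rw [Cov.linAut_apply, Cov.linAut_apply, ← map_inv, ← map_mul, ← map_mul, ← map_mul, eq_comm]
  exact hC.aut_eq_iff.2 ⟨d, e.symm.trans (by rw [map_mul, mul_assoc]; rfl)⟩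

omit [Finite F] [Nontrivial V] in
theorem Cov.normal_range (C : Cov G P) (hH : H ≤ NrmL G) {Γ : Subgroup (GamL F V)} (hΓ : Γ ≤ Nrm G)
    (h : (C.aut.comp (Subgroup.inclusion hΓ)).range = ⊤) (h1 : ∀ s ∈ Γ, ∀ g ∈ H, s.cj g ∈ H) :
    (C.linAut hH).range.Normal := by
  constructor
  rintro _ ⟨g, rfl⟩ α
  obtain ⟨s, rfl⟩ := h.ge (Subgroup.mem_top α)
  exact ⟨⟨_, h1 s s.2 g g.2⟩, (Cov.aut_conj (C := C) ⟨s.1, hΓ s.2⟩ (hH g.2) (hH (h1 s s.2 g g.2))).symm⟩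

omit [Nontrivial V] in
theorem Cov.Fth.order_fld {ι : Type} [Fintype ι] [DecidableEq ι] {G : Subgroup ((ι → F) ≃ₗ[F] (ι → F))}
    {C : Cov G P} (hC : C.Fth) {σ : F ≃+* F} (h : fld ι σ ∈ Nrm G) : orderOf (C.aut ⟨_, h⟩) = orderOf σ :=
  hC.orderOf_aut (s := ⟨_, h⟩) (orderOf_injective (fld ι) (fun _ _ e => congrArg GamL.τ e) σ)

end CovL

end Cfsg.Agent.Perm.Aut
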