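import Cfsg.Agent.Lib.Perm.Aut17

/-! Field automorphisms of linear, symplectic, unitary and odd orthogonal groups. -/

set_option autoImplicit false

namespace Cfsg.Agent.Perm.Aut
open Module Matrix Cfsg.Agent.Classical Cfsg.Agent.Classical.Form

section Grp
variable {X A : Type*} [Group X] [Group A] {D K : Subgroup X} {a x y : X}

theorem order_conj (h : a * x * a⁻¹ = y) : orderOf x = orderOf y := by
  rw [← h]; exact ((MulAut.conj a).orderOf_eq x).symm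

theorem split_conj [D.Normal] [K.Normal] (hK : K ≤ D) (h : a * x * a⁻¹ = y) :
    Cfsg.splitClassCount D K x = Cfsg.splitClassCount D K y := by
  rw [← h]; exact split_congr (MulAut.conj a) hK (conj_mem_iff' D a) (conj_mem_iff' K a) x

theorem cent_conj [D.Normal] (h : a * x * a⁻¹ = y) (e : Nonempty (↥(D ⊓ Subgroup.centralizer {y}) ≃* A)) :
    Nonempty (↥(D ⊓ Subgroup.centralizer {x}) ≃* A) := by
  subst h; exact cent_congr (MulAut.conj a) (conj_mem_iff' D a) x e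

theorem LangP.conj [D.Normal] (h : a * x * a⁻¹ = y) (e : LangP D y) : LangP D x := by
  subst h; exact LangP.congr (MulAut.conj a) (conj_mem_iff' D a) e

theorem split_self [K.Normal] (x : X) : Cfsg.splitClassCount K K x = 1 := by
  rw [split_relIndex le_rfl, Subgroup.relIndex_eq_one]; exact le_sup_left

theorem eq_of_sq_eq_one [Finite X] [IsCyclic X] (hx : x ^ 2 = 1) (hy : y ^ 2 = 1) (hx1 : x ≠ 1) (hy1 : y ≠ 1) :
    x = y := by
  classical
  letI := Fintype.ofFinite X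
  by_contra h
  have h1 := IsCyclic.card_pow_eq_one_le (α := X) (n := 2) (by norm_num)
  have h2 : ({1, x, y} : Finset X) ⊆ Finset.univ.filter fun a => a ^ 2 = 1 := by
    intro z hz
    simp only [Finset.mem_insert, Finset.mem_singleton] at hz
    rcases hz with rfl | rfl | rfl <;> simp [*]
  have h3 := Finset.card_le_card h2
  rw [Finset.card_eq_three.2 ⟨1, x, y, hx1.symm, hy1.symm, h, rfl⟩] at h3
  omega

theorem gcd_geom {q r : ℕ} (hq : 2 ≤ q) (hr : 1 ≤ r) :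
    Nat.gcd 2 ((q ^ r - 1) / (q - 1)) = Nat.gcd (Nat.gcd 2 (q ^ r - 1)) r := by
  rw [← Nat.geomSum_eq hq]
  have h0 : 1 ≤ q ^ r := Nat.one_le_pow _ _ (by omega)
  rcases Nat.even_or_odd q with h | h
  · have h1 : (q ^ r) % 2 = 0 := Nat.even_iff.1 (Nat.even_pow.2 ⟨h, by omega⟩)
    have h2 : (∑ k ∈ Finset.range r, q ^ k) % 2 = 1 := by
      obtain ⟨r, rfl⟩ := Nat.exists_eq_add_of_le' hr
      rw [Finset.sum_range_succ', pow_zero]
      have : 2 ∣ ∑ k ∈ Finset.range r, q ^ (k + 1) :=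
        Finset.dvd_sum fun k _ => (Nat.even_pow.2 ⟨h, by omega⟩).two_dvd
      omega
    rw [Nat.gcd_rec 2, h2, Nat.gcd_rec 2 (q ^ r - 1), show (q ^ r - 1) % 2 = 1 by omega]
    simp
  · have h1 : (q ^ r) % 2 = 1 := Nat.odd_iff.1 h.pow
    have h2 : (∑ k ∈ Finset.range r, q ^ k) % 2 = r % 2 := by
      rw [Finset.sum_nat_mod, Finset.sum_congr rfl fun k _ => Nat.odd_iff.1 (h.pow (n := k))]
      simp
    rw [Nat.gcd_rec 2, h2, Nat.gcd_rec 2 (q ^ r - 1), show (q ^ r - 1) % 2 = 0 by omega, Nat.gcd_zero_left,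
      Nat.gcd_rec 2 r]

end Grp

section
variable {F V : Type*} [Field F] [AddCommGroup V] [Module F V] [Finite F]

theorem index_units_map {F₀ : Type*} [Field F₀] (φ : F₀ →+* F) :
    (Units.map φ.toMonoidHom).range.index = (Nat.card F - 1) / (Nat.card F₀ - 1) := by
  rw [index_eq_div, Nat.card_units, ← Nat.card_units F₀]
  congr 1
  exact (Nat.card_congr (MonoidHom.ofInjective (Units.map_injective φ.injective)).toEquiv).symm

theorem exists_conj_GL [FiniteDimensional F V] {s t : GamL F V} (hs : s ^ orderOf s.τ = 1)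
    (ht : t ^ orderOf s.τ = 1) (h : t.τ = s.τ) : ∃ k, t = GamL.lin k * s * (GamL.lin k)⁻¹ := by
  obtain ⟨E, h1, -⟩ := exists_fixed_field s.τ
  obtain ⟨M⟩ := nonempty_md h1 hs (ι := Fin (finrank F V)) (by simp)
  obtain ⟨M'⟩ := nonempty_md (t := t) (h ▸ h1) (h ▸ ht) (ι := Fin (finrank F V)) (by simp)
  exact ⟨_, M.conj_eq M' h⟩

/-- similar forms -/
def Simil {F₀ : Type*} [Field F₀] {K₀ : Kind F₀} {W W' : Type*} [AddCommGroup W] [Module F₀ W]
    [AddCommGroup W'] [Module F₀ W'] (Ψ : Form K₀ W) (Φ : Form K₀ W') : Prop :=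
  ∃ (e : W ≃ₗ[F₀] W') (c : F₀), c ≠ 0 ∧ K₀.σ c = c ∧ (∀ u v, Φ.B (e u) (e v) = c * Ψ.B u v) ∧
    ∀ v, Φ.N (e v) = c * Ψ.N v

omit [Finite F] in
theorem simil_of_iso {K : Kind F} {W : Type*} [AddCommGroup W] [Module F W] {Ψ : Form K W} {Φ : Form K V}
    (h : Ψ.Iso Φ) : Simil Ψ Φ := by
  obtain ⟨e, h1, h2⟩ := h
  exact ⟨e, 1, one_ne_zero, map_one _, by simpa using h1, by simpa using h2⟩

theorem exists_conj_Sim [FiniteDimensional F V] [Nontrivial V] {K : Kind F} [Cmp K] {Φ : Form K V}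
    (hΦ : Φ.Nondeg) {s t : GamL F V} (hs : s ^ orderOf s.τ = 1) (ht : t ^ orderOf s.τ = 1) (h : t.τ = s.τ)
    (hs' : s ∈ Semi Φ) (ht' : t ∈ Semi Φ) {F₀ : Type*} [Field F₀] {φ : F₀ →+* F} (hφ : Desc φ s.τ)
    {K₀ : Kind F₀} (hc : KC φ K₀ K s.τ)
    (hcl : ∀ Φ₀ Ψ₀ : Form K₀ (Fin (finrank F V) → F₀), Φ₀.Nondeg → Ψ₀.Nondeg → Simil Φ₀ Ψ₀) :
    ∃ k ∈ Sim Φ, t = GamL.lin k * s * (GamL.lin k)⁻¹ := by
  obtain ⟨M⟩ := nonempty_md hφ hs (ι := Fin (finrank F V)) (by simp)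
  obtain ⟨M'⟩ := nonempty_md (t := t) (h ▸ hφ) (h ▸ ht) (ι := Fin (finrank F V)) (by simp)
  obtain ⟨Φ₀, m, h1⟩ := M.exists_fm hΦ hφ hc hs hs'
  obtain ⟨Ψ₀, m', h2⟩ := M'.exists_fm hΦ (h ▸ hφ) (h ▸ hc) (h ▸ ht) ht'
  obtain ⟨e, c, h3, h4, h5, h6⟩ := hcl Φ₀ Ψ₀ (h1.nondeg hΦ) (h2.nondeg hΦ)
  obtain ⟨M'', h7⟩ := h2.comp e h3 h4 h5 h6
  exact h1.conj h7 h

theorem langP_Sim [FiniteDimensional F V] [Nontrivial V] {K : Kind F} [Cmp K] {Φ : Form K V}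
    (hΦ : Φ.Nondeg) {P : Type*} [Group P] {C : Cov Φ.E P} (hC : C.Fth) {s : GamL F V} (hs' : s ∈ Semi Φ)
    (hs : s ^ orderOf s.τ = 1) {F₀ : Type*} [Field F₀] {φ : F₀ →+* F} (hφ : Desc φ s.τ)
    {K₀ : Kind F₀} (hc : KC φ K₀ K s.τ)
    (hcl : ∀ Φ₀ Ψ₀ : Form K₀ (Fin (finrank F V) → F₀), Φ₀.Nondeg → Ψ₀.Nondeg → Simil Φ₀ Ψ₀) :
    LangP (C.linAut Sim_le_NrmL).range (C.aut ⟨s, Semi_le_Nrm_E hs'⟩) := by
  haveI : Finite (F ≃+* F) := Finite.of_injective _ (DFunLike.coe_injective (F := F ≃+* F))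
  refine hC.langP _ scal_mem_Semi _ (hC.orderOf_aut (Nat.dvd_antisymm (orderOf_dvd_of_pow_eq_one hs)
    (orderOf_map_dvd GamL.tau s))) fun g hg h1 => ?_
  exact exists_conj_Sim hΦ hs h1 rfl hs' (mul_mem hg hs') hφ hc hcl

omit [Finite F] in
theorem normal_Sim {K : Kind F} [Cmp K] {Φ : Form K V} {P : Type*} [Group P] (C : Cov Φ.E P)
    (h : (semiAut C).range = ⊤) : (C.linAut Sim_le_NrmL).range.Normal :=
  C.normal_range _ Semi_le_Nrm_E h fun s hs g hg => by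
    change GamL.lin _ ∈ Semi Φ
    rw [GamL.lin_cj_eq]
    exact mul_mem (mul_mem hs hg) (inv_mem hs)

omit [Finite F] in
theorem E_le_Sim {K : Kind F} [Cmp K] {Φ : Form K V} : Φ.E ≤ Sim Φ := Φ.E_le.trans Isom_le_Sim

omit [Finite F] in
theorem Inn_le_range {G H : Subgroup (V ≃ₗ[F] V)} {P : Type*} [Group P] (C : Cov G P) (hH : H ≤ NrmL G)
    (h : G ≤ H) : Cfsg.Inn P ≤ (C.linAut hH).range := C.Inn_eq ▸ C.range_mono _ _ h

omit [Finite F] in
theorem exists_projQuot {ι : Type} [Fintype ι] [DecidableEq ι] (S : Subgroup (GL ι F))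
    (T : Subgroup ((ι → F) ≃ₗ[F] (ι → F))) (h : ∀ g, g ∈ S ↔ glEquiv g ∈ T) :
    ∃ χ : T →* Cfsg.projQuot S, Function.Surjective χ ∧ ∀ x, χ x = 1 ↔ IsSc x.1 := by
  refine ⟨(QuotientGroup.mk' _).comp (subEquiv S T h).symm.toMonoidHom,
    (QuotientGroup.mk'_surjective _).comp (subEquiv S T h).symm.surjective, fun x => ?_⟩
  obtain ⟨g, rfl⟩ := (subEquiv S T h).surjective x
  simp only [MonoidHom.comp_apply, MulEquiv.coe_toMonoidHom, MulEquiv.symm_apply_apply, QuotientGroup.mk'_apply,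
    QuotientGroup.eq_one_iff, Subgroup.mem_subgroupOf, Cfsg.Geo.mem_scalars_iff, subEquiv_apply,
    isSc_iff_scal]
  refine exists_congr fun c => ⟨fun h => LinearEquiv.ext fun v => by simp [h, smul_mulVec],
    fun h => matrix_ext_mulVec fun v => ?_⟩
  simpa [smul_mulVec] using DFunLike.congr_fun h v

theorem card_of_order {F : Type*} [Field F] [Fintype F] {p f : ℕ} [Fact p.Prime] (hF : Fintype.card F = p ^ f)
    (σ : F ≃+* F) : orderOf σ ∣ f := by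
  haveI := charP_of_card' F p hF
  rw [← card_autF F p hF]; exact orderOf_dvd_natCard σ

theorem exists_desc' {F : Type*} [Field F] [Fintype F] {p f : ℕ} [Fact p.Prime] (hF : Fintype.card F = p ^ f)
    (σ : F ≃+* F) {F₀ : Type*} [Field F₀] [Fintype F₀] (h : Fintype.card F₀ = p ^ (f / orderOf σ)) :
    ∃ φ : F₀ →+* F, Desc φ σ :=
  exists_desc σ (by rw [Nat.card_eq_fintype_card, Nat.card_eq_fintype_card, h, hF, ← pow_mul,
    Nat.div_mul_cancel (card_of_order hF σ)])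

end

section SL
variable {F : Type*} [Field F] [Finite F] {ι : Type} [Fintype ι] [DecidableEq ι]
variable {P : Type*} [Group P] (C : Cov (SLV F (ι → F)) P) (p : ℕ) [Fact p.Prime] [CharP F p]
  (hn : 2 ≤ Fintype.card ι)

omit [Finite F] [DecidableEq ι] in
theorem nt_fun {F : Type*} [Field F] (hn : 1 ≤ Fintype.card ι) : Nontrivial (ι → F) :=
  Module.nontrivial_of_finrank_pos (R := F) (by simp; omega)

omit [Finite F] [DecidableEq ι] in
theorem Inn_le_gl : Cfsg.Inn P ≤ C.gl.range := C.range_gl ▸ Inn_le_range C _ le_top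

include p hn

omit [DecidableEq ι] [Finite F] in
theorem fth_SL : C.Fth := fth_SLV p (by simpa using hn) C

theorem order_gam_fld (σ : F ≃+* F) : orderOf (C.gam (fld ι σ)) = orderOf σ := (fth_SL C p hn).order_fld _

theorem langP_SL (σ : F ≃+* F) : LangP C.gl.range (C.gam (fld ι σ)) := by
  haveI := nt_fun (F := F) (by omega : 1 ≤ Fintype.card ι)
  rw [← C.range_gl]
  refine (fth_SL C p hn).langP top_le_NrmL (fun _ => trivial) _ (order_gam_fld C p hn σ) fun g _ h => ?_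
  obtain ⟨k, hk⟩ := exists_conj_GL (s := fld ι σ) (fld_pow σ) h rfl
  exact ⟨k, trivial, hk⟩

theorem cent_SL {σ : F ≃+* F} {F₀ : Type*} [Field F₀] {φ : F₀ →+* F} (hφ : Desc φ σ) :
    Nonempty (↥(C.gl.range ⊓ Subgroup.centralizer {C.gam (fld ι σ)}) ≃* ProjGenLinGroup ι F₀) := by
  haveI := nt_fun (F := F) (by omega : 1 ≤ Fintype.card ι)
  rw [← C.range_gl]
  exact (fth_SL C p hn).cent_equiv top_le_NrmL ⟨fld ι σ, mem_Nrm_SLV _⟩ (fld_pow σ) (mdFld hφ) hφ (H₀ := ⊤)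
    (fun _ _ => trivial) (fun x _ => le_ZG _ trivial)
    ((ProjGenLinGroup.mk.comp glEquiv.symm.toMonoidHom).comp (Subgroup.subtype _))
    ((ProjGenLinGroup.mk_surjective.comp glEquiv.symm.surjective).comp fun x => ⟨⟨x, trivial⟩, rfl⟩)
    fun x => by rw [MonoidHom.comp_apply, MonoidHom.comp_apply, mk_eq_one_iff]; simp

theorem split_SL {σ : F ≃+* F} {F₀ : Type*} [Field F₀] {φ : F₀ →+* F} (hφ : Desc φ σ) :
    Cfsg.splitClassCount C.gl.range (Cfsg.Inn P) (C.gam (fld ι σ)) =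
      Nat.gcd (Fintype.card ι) ((Nat.card F - 1) / (Nat.card F₀ - 1)) := by
  haveI := nt_fun (F := F) (by omega : 1 ≤ Fintype.card ι)
  rw [← C.range_gl]
  refine ((fth_SL C p hn).split _ le_top ⟨fld ι σ, mem_Nrm_SLV _⟩ (fld_pow σ) (mdFld hφ) hφ (H₀ := ⊤)
    (fun _ _ => trivial) (fun x _ => le_ZG _ trivial) (LinearEquiv.det.comp (Subgroup.subtype _))
    (fun c => ?_) (powMonoidHom (Fintype.card ι)).range fun g => ?_).trans ?_
  · obtain ⟨g, hg⟩ := exists_det (V := ι → F) (by simp; omega) c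
    exact ⟨⟨g, trivial⟩, hg⟩
  · rw [mem_ZG_SLV, finrank_fintype_fun_eq_card]; rfl
  rw [index_sup_pow, ← index_units_map φ]
  congr 2
  refine le_antisymm ?_ ?_
  · rintro _ ⟨x, rfl⟩
    exact ⟨_, Units.ext ((mdFld hφ).det_β x.1).symm⟩
  · rintro _ ⟨c, rfl⟩
    obtain ⟨g, rfl⟩ := exists_det (V := ι → F₀) (by simp; omega) c
    exact ⟨⟨g, trivial⟩, Units.ext ((mdFld hφ).det_β g)⟩

omit p hn C [Finite F] in
theorem tau_sq_of {s : GamL F (ι → F)} {x} (h : s * str s = GamL.lin x) : s.τ ^ 2 = 1 :=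
  RingEquiv.ext fun a => by simpa [_root_.sq] using congrArg (fun t => t.τ a) h

omit p hn [Finite F] in
theorem gam_io_sq (s : GamL F (ι → F)) : (C.gam s * C.io) ^ 2 = C.gam (s * str s) := by
  rw [_root_.sq, map_mul, ← io_gam', mul_assoc, mul_assoc]

omit p hn [Finite F] in
theorem conj_gam_io (e) (s : GamL F (ι → F)) :
    C.gl e * (C.gam s * C.io) * (C.gl e)⁻¹ = C.gam (GamL.lin e * s * (GamL.lin (itr e))⁻¹) * C.io := by
  rw [map_mul, map_mul, ← map_inv, ← map_inv, ← map_inv, ← Cov.gl_apply, ← Cov.gl_apply, ← io_gl]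
  simp only [mul_assoc, io_mul_io, mul_one]

omit [Finite F] in
theorem gam_eq_iff {s t : GamL F (ι → F)} : C.gam s = C.gam t ↔ ∃ c, s = GamL.lin (scal _ c) * t :=
  (fth_SL C p hn).aut_eq_iff (s := ⟨s, _⟩) (t := ⟨t, _⟩)

omit [Finite F] in
theorem mem_cent_io (s : GamL F (ι → F)) (g) : C.gl g ∈ Subgroup.centralizer {C.gam s * C.io} ↔
    ∃ c : Fˣ, ∀ u v, g u ⬝ᵥ (str s).g (g v) = c * (u ⬝ᵥ (str s).g v) := by
  have h1 : C.gam s * C.io = C.io * C.gam (str s) := by rw [io_gam, str_str]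
  rw [Subgroup.mem_centralizer_singleton_iff, h1, eq_comm, mul_assoc, ← mul_right_inj C.io, ← mul_assoc,
    io_mul_io, one_mul, ← mul_assoc, ← mul_assoc, io_gl, Cov.gl_apply, Cov.gl_apply, ← map_mul, ← map_mul,
    gam_eq_iff C p hn]
  refine exists_congr fun c => ⟨fun h u v => ?_, fun h => GamL.ext' (fun v => dot_ext fun u => ?_) fun _ => rfl⟩
  · have := congrArg (fun t => t.g v) h
    simp only [GamL.mul_g, GamL.lin_g, scal_apply] at this
    rw [this, dotProduct_smul, itr_dot]; rfl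
  · obtain ⟨u, rfl⟩ := g.surjective u
    simp [h, itr_dot]

theorem exists_herm {s : GamL F (ι → F)} (h : (C.gam s * C.io) ^ 2 = 1) (hs : s.τ ≠ 1) :
    ∃ t : GamL F (ι → F), C.gam s = C.gam t ∧ t.τ = s.τ ∧ t * str t = 1 := by
  haveI := nt_fun (F := F) (by omega : 1 ≤ Fintype.card ι)
  rw [gam_io_sq, ← map_one C.gam, gam_eq_iff C p hn] at h
  obtain ⟨c, hc⟩ := h
  rw [mul_one] at hc
  have h1 : s.τ ^ 2 = 1 := tau_sq_of hc
  have h2 : orderOf s.τ = 2 := orderOf_eq_prime h1 hs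
  have h3 : str s * s = GamL.lin (scal _ c⁻¹) := by simpa [str_lin, itr_scal] using congrArg str hc
  have h4 : Units.map s.τ.toMonoidHom c⁻¹ = c := by
    have := mul_scal s c⁻¹
    rw [← h3, ← mul_assoc, hc, mul_left_inj] at this
    obtain ⟨v, hv⟩ := exists_ne (0 : ι → F)
    exact Units.ext (smul_left_injective F hv (DFunLike.congr_fun (GamL.lin_injective this) v)).symm
  obtain ⟨d, hd⟩ := hilbert90 (σ := s.τ) (l := c) (by
    rw [nm_apply, h2, Finset.prod_range_succ, Finset.prod_range_one, pow_one, mul_eq_one_iff_eq_inv,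
      ← map_inv, h4]
    rfl)
  refine ⟨GamL.lin (scal _ d) * s, ((gam_eq_iff C p hn).2 ⟨d, rfl⟩).symm, rfl, ?_⟩
  rw [map_mul, str_lin, itr_scal, mul_assoc, ← mul_assoc s, mul_scal, mul_assoc, hc, map_inv, hd, ← map_mul,
    ← map_mul, ← map_mul, ← map_mul]
  simp

omit p hn C [Finite F] in
/-- the hermitian form attached to a polarity -/
noncomputable def hermOf (σ : F →+* F) (hσ : σ ≠ RingHom.id F) (hσ2 : ∀ a, σ (σ a) = a) (s : GamL F (ι → F))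
    (hs : ∀ a, s.τ a = σ a) (h : s * str s = 1) : Form (Kind.unit σ hσ2) (ι → F) :=
  Form.ofHerm σ hσ hσ2 (LinearMap.mk₂'ₛₗ _ _ (fun u v => u ⬝ᵥ (str s).g v) (by simp) (by simp)
    (by simp) (by simp [GamL.smul', hs])) fun u v => by
      have : s.g ((str s).g v) = v := congrArg (fun t => t.g v) h
      simp only [LinearMap.mk₂'ₛₗ_apply]
      conv_lhs => rw [← this, str_dot, hs, dotProduct_comm]

omit p hn C [Finite F] in
theorem hermOf_B {σ : F →+* F} {hσ hσ2} {s : GamL F (ι → F)} {hs h} (u v) :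
    (hermOf σ hσ hσ2 s hs h).B u v = u ⬝ᵥ (str s).g v := rfl

omit p hn C [Finite F] in
theorem hermOf_nondeg {σ : F →+* F} {hσ hσ2} {s : GamL F (ι → F)} {hs h} :
    (hermOf σ hσ hσ2 s hs h).Nondeg := fun v hv => by
  have : (str s).g v = 0 := dot_ext fun u => by simpa [hermOf_B] using hv u
  simpa using this

omit p hn C in
theorem herm_conj {s t : GamL F (ι → F)} (hs : s * str s = 1) (ht : t * str t = 1) (h : t.τ = s.τ)
    (h1 : s.τ ≠ 1) : ∃ e, t = GamL.lin e * s * (GamL.lin (itr e))⁻¹ := by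
  have h2 : ∀ a, s.τ.toRingHom (s.τ.toRingHom a) = a := fun a => by
    simpa using congrArg (fun t => t.τ a) hs
  have h3 : s.τ.toRingHom ≠ RingHom.id F := fun e => h1 (RingEquiv.ext fun a => DFunLike.congr_fun e a)
  obtain ⟨e, he, -⟩ := unit_iso h3 _ (hermOf _ h3 h2 s (fun _ => rfl) hs)
    (hermOf _ h3 h2 t (fun _ => by rw [h]; rfl) ht) hermOf_nondeg hermOf_nondeg rfl rfl
  refine ⟨e, ?_⟩
  have h4 : str t * GamL.lin e = GamL.lin (itr e) * str s :=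
    GamL.ext' (fun v => dot_ext fun u => by
      obtain ⟨u, rfl⟩ := e.surjective u
      exact (he u v).trans (itr_dot e _ _).symm) fun a => by simp [h]
  have h5 := congrArg str h4
  simp only [map_mul, str_str, str_lin, itr_itr] at h5
  rw [← h5, mul_inv_cancel_right]

theorem gf_conj {s t : GamL F (ι → F)} (hs : (C.gam s * C.io) ^ 2 = 1) (ht : (C.gam t * C.io) ^ 2 = 1)
    (h1 : s.τ ≠ 1) (h2 : t.τ ≠ 1) : Cfsg.IsConjUnder C.gl.range (C.gam s * C.io) (C.gam t * C.io) := by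
  haveI : Finite (F ≃+* F) := Finite.of_injective _ (DFunLike.coe_injective (F := F ≃+* F))
  letI := Fintype.ofFinite F
  haveI := isCyclic_autF F
  obtain ⟨s', e1, e2, e3⟩ := exists_herm C p hn hs h1
  obtain ⟨t', e4, e5, e6⟩ := exists_herm C p hn ht h2
  obtain ⟨e, he⟩ := herm_conj e3 e6 (eq_of_sq_eq_one (tau_sq_of (e6.trans (map_one _).symm))
    (tau_sq_of (e3.trans (map_one _).symm)) (e5 ▸ h2) (e2 ▸ h1)) (e2 ▸ h1)
  exact ⟨_, ⟨e, rfl⟩, by rw [e1, e4, conj_gam_io, ← he]⟩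

omit hn in
theorem order_gam_io (hn : 3 ≤ Fintype.card ι) (s : GamL F (ι → F)) : 2 ∣ orderOf (C.gam s * C.io) := by
  obtain ⟨ψ, h1, h2⟩ := exists_psi3 C p hn
  have := orderOf_map_dvd ((MonoidHom.snd _ _).comp ψ) (C.gam s * C.io)
  rwa [show ((MonoidHom.snd _ _).comp ψ) (C.gam s * C.io) = -1 by simp [h1, h2],
    orderOf_eq_prime (p := 2) (by simp) (by simp)] at this

theorem langP_gf {s : GamL F (ι → F)} (hs : orderOf (C.gam s * C.io) = 2) (h1 : s.τ ≠ 1) :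
    LangP C.gl.range (C.gam s * C.io) := by
  rintro _ ⟨g, rfl⟩ h
  rw [hs] at h
  rw [← mul_assoc, Cov.gl_apply, ← map_mul] at h ⊢
  exact gf_conj C p hn (hs ▸ pow_orderOf_eq_one _) (h ▸ pow_orderOf_eq_one _) h1 h1

omit p hn in
theorem isSemi_unit {V : Type*} [AddCommGroup V] [Module F V] [Nontrivial V] {σ : F →+* F} {hσ}
    {Φ : Form (Kind.unit σ hσ) V} (hΦ : Φ.Nondeg) {s : GamL F V} {l : F} (hl : l ≠ 0)
    (h : ∀ u v, Φ.B (s.g u) (s.g v) = l * s.τ (Φ.B u v)) : IsSemi Φ s l := by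
  refine ⟨hl, ?_, h, fun v => by rw [Φ.unit_N, Φ.unit_N, h]⟩
  obtain ⟨v, hv⟩ := exists_ne (0 : V)
  obtain ⟨u, hu⟩ := hΦ.exists_ne hv
  have := h u v
  rw [Φ.symm, h, Φ.symm v u] at this
  simp only [Kind.unit_ε, Kind.unit_σ, one_mul, map_mul] at this
  rw [← show ∀ a, s.τ (σ a) = σ (s.τ a) from ringHom_comm σ s.τ.toRingHom] at this
  refine mul_right_cancel₀ ?_ this
  rw [Φ.symm] at hu
  simpa using hu

end SL

section GF
variable {F : Type*} [Field F] [Fintype F] {n q : ℕ} {P : Type*} [Group P] (C : Cov (SLV F (Fin n → F)) P)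
  (p : ℕ) [Fact p.Prime] [CharP F p] (hn : 2 ≤ n) (hF : Fintype.card F = q ^ 2) {σ : F ≃+* F}
  (hσ : ∀ a, σ a = a ^ q)
include p hn hF hσ

theorem range_gf : (C.gl.comp (uForm hF n).Isom.subtype).range =
    C.gl.range ⊓ Subgroup.centralizer {C.gam (fld _ σ) * C.io} := by
  haveI := nt_fun (F := F) (by simp; omega : 1 ≤ Fintype.card (Fin n))
  have hB : ∀ u v, (uForm hF n).B u v = u ⬝ᵥ (str (fld _ σ)).g v := fun u v => by
    simp [str_fld, uForm_B, Cfsg.hermForm, dotProduct, hσ]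
  refine le_antisymm ?_ ?_
  · rintro _ ⟨g, rfl⟩
    exact ⟨⟨_, rfl⟩, (mem_cent_io C p (by simpa using hn) _ _).2 ⟨1, fun u v => by
      simpa [← hB] using g.2.1 u v⟩⟩
  · rintro _ ⟨⟨g, rfl⟩, h⟩
    obtain ⟨c, hc⟩ := (mem_cent_io C p (by simpa using hn) _ _).1 h
    obtain ⟨d, k, hk, rfl⟩ := unit_Sim_le (Φ := uForm hF n) (x := g)
      ⟨c, isSemi_unit (uForm_nondeg hF n) c.ne_zero fun u v => by simpa [← hB] using hc u v⟩
    exact ⟨⟨k, hk⟩, by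
      rw [map_mul, (gl_eq_one C p (by simpa using hn)).2 (isSc_scal d), one_mul]; rfl⟩

theorem cent_gf : Nonempty (↥(C.gl.range ⊓ Subgroup.centralizer {C.gam (fld _ σ) * C.io}) ≃* Cfsg.PGU n F q) := by
  obtain ⟨χ, h1, h2⟩ := exists_projQuot (Cfsg.GU n F q) _ fun _ => mem_GU_iff hF n
  exact exists_equiv_sub _ (range_gf C p hn hF hσ) χ h1 fun x => by
    rw [h2]; exact gl_eq_one C p (by simpa using hn)

theorem split_gf : Cfsg.splitClassCount C.gl.range (Cfsg.Inn P) (C.gam (fld _ σ) * C.io) = Nat.gcd n (q - 1) := by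
  haveI := nt_fun (F := F) (by simp; omega : 1 ≤ Fintype.card (Fin n))
  rw [split_of C.gl (Inn_le_gl C) LinearEquiv.det (exists_det (by simp; omega)) (powMonoidHom n).range
    (fun g => ?_) _ (range_gf C p hn hF hσ), index_sup_pow,
    unit_range_det hF (uForm_nondeg hF n) (by simp; omega), index_eq_div, card_ker_norm hF, Nat.card_units,
    Nat.card_eq_fintype_card, hF, show q ^ 2 - 1 = (q + 1) * (q - 1) from Nat.sq_sub_sq q 1,
    Nat.mul_div_cancel_left _ (by omega)]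
  refine Iff.trans ?_ ((fth_SL C p (by simpa using hn)).lin_mem_Inn_iff top_le_NrmL (g := ⟨g, trivial⟩)).symm
  rw [mem_ZG_SLV]; simp

end GF

theorem order_two_spec {F : Type*} [Field F] [Fintype F] {p f : ℕ} [Fact p.Prime] (hF : Fintype.card F = p ^ f)
    {σ : F ≃+* F} (h : orderOf σ = 2) :
    Even f ∧ Fintype.card F = (p ^ (f / 2)) ^ 2 ∧ ∀ a, σ a = a ^ p ^ (f / 2) := by
  haveI : Finite (F ≃+* F) := Finite.of_injective _ (DFunLike.coe_injective (F := F ≃+* F))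
  haveI := charP_of_card' F p hF
  haveI := isCyclic_autF F
  have h1 := card_of_order hF σ
  rw [h] at h1
  obtain ⟨k, rfl⟩ := h1
  have hk := one_le_of_card hF
  rw [Nat.mul_div_cancel_left _ (by norm_num)]
  refine ⟨even_two_mul k, by rw [hF, ← pow_mul, mul_comm], fun a => ?_⟩
  have h2 := (frob_spec F p hF).1
  rw [← frob_pow_apply F p, eq_of_sq_eq_one (x := σ) (y := frob F p ^ k) (h ▸ pow_orderOf_eq_one _)
    (by rw [← pow_mul, mul_comm, ← h2, pow_orderOf_eq_one]) (by rintro rfl; simp at h)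
    (pow_ne_one_of_lt_orderOf (by omega) (by omega))]

section Sp
variable {F : Type*} [Field F] [Fintype F] {m : ℕ} (hm : 2 ≤ m)

theorem inndiagPSp_eq (hm : 1 ≤ m) :
    Cfsg.inndiagPSp m F = ((repSp m hm F).cov.linAut Sim_le_NrmL).range :=
  autSub_eq fun _ => (repSp m hm F).exists_ind_iff Sim_le_NrmL (mem_GSp_iff m) |>.symm.trans (by
    simp only [Cfsg.IsInnerDiagonalAutPSp, Cfsg.IsInducedBySemilinearPSp]; rfl) |>.symm

theorem sp_fld_mem (m : ℕ) (σ : F ≃+* F) : fld _ σ ∈ Semi (spForm m F) := ⟨_, sp_fld m σ⟩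

theorem fld_PSp_iff (hm : 1 ≤ m) {σ : F ≃+* F} {β} : Cfsg.IsStdFieldAutPSp σ β ↔
    β = (repSp m hm F).cov.aut ⟨_, Semi_le_Nrm_E (sp_fld_mem m σ)⟩ := (repSp m hm F).ind_fld_iff _

variable {P : Type*} [Group P] (C : Cov (spForm m F).E P)
include hm

theorem sp_two (h2 : (2 : F) = 0) : (C.linAut Sim_le_NrmL).range = Cfsg.Inn P := by
  haveI := nt_fun (F := F) (by simp; omega : 1 ≤ Fintype.card (Fin m ⊕ Fin m))
  rw [C.Inn_eq]
  refine C.range_eq_of_le _ _ (fun g hg => ?_) (E_le_Sim.trans (le_ZG _))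
  rw [symp_E_eq (spForm_nondeg m)]
  refine (sq_mem_ZG (fun _ => rfl) (spForm_nondeg m) ⟨g, hg⟩).1 ?_
  obtain ⟨x, hx⟩ := exists_sq_of_two h2 (muL (spForm_nondeg m) ⟨g, hg⟩ : F)
  have h0 : x ≠ 0 := by rintro rfl; exact Units.ne_zero _ (hx.symm.trans (by simp))
  exact ⟨Units.mk0 x h0, Units.ext hx⟩

theorem normal_Sp : (C.linAut Sim_le_NrmL).range.Normal := by
  by_cases h2 : (2 : F) = 0
  · rw [sp_two hm C h2]; infer_instance
  · exact normal_Sim C (main_symp (spForm_nondeg m) (by rw [finrank_sum]; omega) (fun h => absurd h h2) _)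

theorem langP_Sp (σ : F ≃+* F) :
    LangP (C.linAut Sim_le_NrmL).range (C.aut ⟨_, Semi_le_Nrm_E (sp_fld_mem m σ)⟩) := by
  haveI := nt_fun (F := F) (by simp; omega : 1 ≤ Fintype.card (Fin m ⊕ Fin m))
  obtain ⟨E, h1, -⟩ := exists_fixed_field σ
  exact langP_Sim (spForm_nondeg m) (fth_Sp m hm C) (sp_fld_mem m σ) (fld_pow σ) h1 (kc_symp _) fun Φ₀ Ψ₀ h h' =>
    simil_of_iso (symp_iso _ _ _ h h' rfl rfl)

theorem cent_Sp {σ : F ≃+* F} {F₀ : Type*} [Field F₀] {φ : F₀ →+* F} (hφ : Desc φ σ) :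
    Nonempty (↥((C.linAut Sim_le_NrmL).range ⊓
      Subgroup.centralizer {C.aut ⟨_, Semi_le_Nrm_E (sp_fld_mem m σ)⟩}) ≃* Cfsg.PGSp m F₀) := by
  haveI := nt_fun (F := F) (by simp; omega : 1 ≤ Fintype.card (Fin m ⊕ Fin m))
  haveI := nt_fun (F := F₀) (by simp; omega : 1 ≤ Fintype.card (Fin m ⊕ Fin m))
  obtain ⟨χ, h1, h2⟩ := exists_projQuot (Cfsg.GSp m F₀) (Sim (spForm m F₀)) (mem_GSp_iff m)
  have h := fm_fld hφ (bc_sp (φ := φ) m)
  exact (fth_Sp m hm C).cent_equiv Sim_le_NrmL ⟨fld _ σ, Semi_le_Nrm_E (sp_fld_mem m σ)⟩ (fld_pow σ) (mdFld hφ) hφ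
    (H₀ := Sim (spForm m F₀)) (fun x => (h.sim (spForm_nondeg m)).2)
    (fun x hx => le_ZG _ ((h.sim (spForm_nondeg m)).1 (ZG_le_Sim le_rfl hx))) χ h1 h2

theorem split_Sp {σ : F ≃+* F} {F₀ : Type*} [Field F₀] {φ : F₀ →+* F} (hφ : Desc φ σ) :
    Cfsg.splitClassCount (C.linAut Sim_le_NrmL).range (Cfsg.Inn P) (C.aut ⟨_, Semi_le_Nrm_E (sp_fld_mem m σ)⟩) =
      Nat.gcd 2 ((Nat.card F - 1) / (Nat.card F₀ - 1)) := by
  haveI := nt_fun (F := F) (by simp; omega : 1 ≤ Fintype.card (Fin m ⊕ Fin m))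
  haveI := nt_fun (F := F₀) (by simp; omega : 1 ≤ Fintype.card (Fin m ⊕ Fin m))
  have h := fm_fld hφ (bc_sp (φ := φ) m)
  refine ((fth_Sp m hm C).split Sim_le_NrmL E_le_Sim ⟨fld _ σ, Semi_le_Nrm_E (sp_fld_mem m σ)⟩ (fld_pow σ)
    (mdFld hφ) hφ (H₀ := Sim (spForm m F₀)) (fun x => (h.sim (spForm_nondeg m)).2)
    (fun x hx => le_ZG _ ((h.sim (spForm_nondeg m)).1 (ZG_le_Sim le_rfl hx))) (muL (spForm_nondeg m))
    (fun l => ?_) (powMonoidHom 2).range fun g => ?_).trans ?_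
  · obtain ⟨g, hg⟩ := exists_sim_symp m l
    exact ⟨⟨g, l, hg⟩, Units.ext (muL_eq _ hg)⟩
  · rw [symp_E_eq (spForm_nondeg m), ← sq_mem_ZG (fun _ => rfl) (spForm_nondeg m)]
  rw [index_sup_pow, ← index_units_map φ]
  congr 2
  refine le_antisymm ?_ ?_
  · rintro _ ⟨x, rfl⟩
    exact ⟨_, Units.ext (muL_eq (spForm_nondeg m) (h.isSemi (muL_spec (spForm_nondeg m) x))).symm⟩
  · rintro _ ⟨c, rfl⟩
    obtain ⟨g, hg⟩ := exists_sim_symp m c
    exact ⟨⟨g, c, hg⟩, Units.ext (muL_eq (spForm_nondeg m) (h.isSemi hg))⟩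

end Sp

section SU
variable {F : Type*} [Field F] [Fintype F] {n q : ℕ} (hF : Fintype.card F = q ^ 2)

theorem Isom_le_NrmL {F V : Type*} [Field F] [AddCommGroup V] [Module F V] {K : Kind F} [Cmp K] {Φ : Form K V} :
    Φ.Isom ≤ NrmL Φ.E := Isom_le_Sim.trans Sim_le_NrmL

theorem innd_PSU_iff (hn : 2 ≤ n) {β} :
    Cfsg.IsInnerDiagonalAutPSU β ↔ β ∈ ((repSU hF n hn).cov.linAut Isom_le_NrmL).range :=
  (repSU hF n hn).exists_ind_iff Isom_le_NrmL fun _ => mem_GU_iff hF n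

theorem inndiagPSU_eq (hn : 2 ≤ n) : Cfsg.inndiagPSU n F q = ((repSU hF n hn).cov.linAut Isom_le_NrmL).range :=
  autSub_eq fun _ => innd_PSU_iff hF hn

theorem u_fld_mem (n : ℕ) (σ : F ≃+* F) : fld _ σ ∈ Semi (uForm hF n) := ⟨_, u_fld hF n σ⟩

theorem fld_PSU_iff (hn : 2 ≤ n) {σ : F ≃+* F} {β} : Cfsg.IsFieldAutPSUOf σ β ↔
    β = (repSU hF n hn).cov.aut ⟨_, Semi_le_Nrm_E (u_fld_mem hF n σ)⟩ := (repSU hF n hn).ind_fld_iff _

variable {P : Type*} [Group P] (C : Cov (uForm hF n).E P)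

theorem range_U : (C.linAut Isom_le_NrmL).range = (C.linAut Sim_le_NrmL).range :=
  C.range_eq_of_le _ _ (Isom_le_Sim.trans (le_ZG _)) unit_Sim_le

theorem normal_U (hn : 3 ≤ n) (h : ¬ (n = 3 ∧ q = 2)) : (C.linAut Isom_le_NrmL).range.Normal := by
  rw [range_U]
  exact normal_Sim C (main_unit (uForm_nondeg hF n) (by simpa using hn) (by simpa using h) _)

variable {F₀ : Type*} [Field F₀] [Fintype F₀] {q₀ : ℕ} (hF₀ : Fintype.card F₀ = q₀ ^ 2) {φ : F₀ →+* F}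
  {σ : F ≃+* F}

theorem frobq_compat {r : ℕ} (hr : Odd r) (hq : q = q₀ ^ r) (a : F₀) :
    φ (frobq hF₀ a) = frobq hF (φ a) := by
  obtain ⟨k, rfl⟩ := hr
  rw [frobq_apply, frobq_apply, ← map_pow, hq, pow_succ, pow_mul a, show q₀ ^ (2 * k) = (q₀ ^ 2) ^ k from pow_mul ..,
    ← hF₀, FiniteField.pow_card_pow]

theorem bc_unit (h : ∀ a, φ (frobq hF₀ a) = frobq hF (φ a)) : BC φ (uForm hF₀ n) (uForm hF n) := by
  have : ∀ u v, (uForm hF n).B (jv φ u) (jv φ v) = φ ((uForm hF₀ n).B u v) := fun u v => by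
    simp only [uForm_B, Cfsg.hermForm, map_sum, map_mul, jv, ← frobq_apply hF, ← frobq_apply hF₀, h]
  exact ⟨h, this, fun v => by rw [Form.unit_N, Form.unit_N, this]⟩

include hF₀

theorem langP_U (hn : 3 ≤ n) (hφ : Desc φ σ) (h : ∀ a, φ (frobq hF₀ a) = frobq hF (φ a)) :
    LangP (C.linAut Isom_le_NrmL).range (C.aut ⟨_, Semi_le_Nrm_E (u_fld_mem hF n σ)⟩) := by
  haveI := nt_fun (F := F) (by simp; omega : 1 ≤ Fintype.card (Fin n))
  rw [range_U]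
  exact langP_Sim (uForm_nondeg hF n) (fth_unit (uForm_nondeg hF n) (by simpa using hn) C) (u_fld_mem hF n σ) (fld_pow σ) hφ
    (kc_unit hφ (frobq_ne_id hF₀) h (h₀ := frobq_frobq hF₀)) fun Φ₀ Ψ₀ h h' =>
    simil_of_iso (unit_iso (frobq_ne_id hF₀) _ _ _ h h' rfl rfl)

theorem cent_U (hn : 3 ≤ n) (hφ : Desc φ σ) (h : ∀ a, φ (frobq hF₀ a) = frobq hF (φ a)) :
    Nonempty (↥((C.linAut Isom_le_NrmL).range ⊓
      Subgroup.centralizer {C.aut ⟨_, Semi_le_Nrm_E (u_fld_mem hF n σ)⟩}) ≃* Cfsg.PGU n F₀ q₀) := by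
  haveI := nt_fun (F := F) (by simp; omega : 1 ≤ Fintype.card (Fin n))
  haveI := nt_fun (F := F₀) (by simp; omega : 1 ≤ Fintype.card (Fin n))
  obtain ⟨χ, h1, h2⟩ := exists_projQuot (Cfsg.GU n F₀ q₀) _ fun _ => mem_GU_iff hF₀ n
  have h := fm_fld hφ (bc_unit (n := n) hF hF₀ h)
  exact (fth_unit (uForm_nondeg hF n) (by simpa using hn) C).cent_equiv Isom_le_NrmL
    ⟨fld _ σ, Semi_le_Nrm_E (u_fld_mem hF n σ)⟩ (fld_pow σ) (mdFld hφ) hφ (H₀ := (uForm hF₀ n).Isom)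
    (fun x => h.isom.2)
    (fun x hx => unit_Sim_le ((h.sim (uForm_nondeg hF₀ n)).1 (ZG_le_Sim Isom_le_Sim hx))) χ h1 h2

theorem split_U (hn : 3 ≤ n) (hφ : Desc φ σ) (h : ∀ a, φ (frobq hF₀ a) = frobq hF (φ a)) :
    Cfsg.splitClassCount (C.linAut Isom_le_NrmL).range (Cfsg.Inn P)
      (C.aut ⟨_, Semi_le_Nrm_E (u_fld_mem hF n σ)⟩) = Nat.gcd n ((q + 1) / (q₀ + 1)) := by
  haveI := nt_fun (F := F) (by simp; omega : 1 ≤ Fintype.card (Fin n))
  haveI := nt_fun (F := F₀) (by simp; omega : 1 ≤ Fintype.card (Fin n))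
  have h := fm_fld hφ (bc_unit (n := n) hF hF₀ h)
  have h0 : finrank F (Fin n → F) ≠ 0 := by simp; omega
  have h0' : finrank F₀ (Fin n → F₀) ≠ 0 := by simp; omega
  refine ((fth_unit (uForm_nondeg hF n) (by simpa using hn) C).split Isom_le_NrmL (E_le _)
    ⟨fld _ σ, Semi_le_Nrm_E (u_fld_mem hF n σ)⟩ (fld_pow σ) (mdFld hφ) hφ (H₀ := (uForm hF₀ n).Isom)
    (fun x => h.isom.2)
    (fun x hx => unit_Sim_le ((h.sim (uForm_nondeg hF₀ n)).1 (ZG_le_Sim Isom_le_Sim hx)))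
    (detU (uForm_nondeg hF n)) (detU_surj _ h0) _ (unit_mem_ZG _ h0)).trans ?_
  rw [index_sup_pow, index_eq_div, card_ker_norm hF, ← card_ker_norm hF₀, finrank_fintype_fun_eq_card,
    Fintype.card_fin]
  congr 2
  refine Nat.card_congr (MulEquiv.toEquiv (Nonempty.some (exists_equiv_sub _ rfl (detU (uForm_nondeg hF₀ n))
    (detU_surj _ h0') fun x => ?_)))
  rw [Subtype.ext_iff, Subtype.ext_iff, Units.ext_iff, Units.ext_iff]
  refine Iff.trans (Eq.congr_left ((mdFld hφ).det_β x.1)) ?_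
  exact map_eq_one_iff φ φ.injective

end SU

section Orth
variable {F V : Type*} [Field F] [AddCommGroup V] [Module F V] {F₀ : Type*} [Field F₀]
variable {φ : F₀ →+* F} {ι : Type} [Fintype ι] [DecidableEq ι] {t : GamL F V} {M : Md φ ι t}
  {Φ₀ : Form (Kind.orth F₀) (ι → F₀)} {Φ : Form (Kind.orth F) V} {l : F}

theorem Md.Fm.N_ne (h : M.Fm Φ₀ Φ l) {v} (hv : Φ₀.N v ≠ 0) : Φ.N (M.j v) ≠ 0 := by
  rw [h.N]; exact mul_ne_zero h.ne (by simpa using hv)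

theorem Md.Fm.refl (h : M.Fm Φ₀ Φ l) (v) (hv : Φ₀.N v ≠ 0) : M.β (Φ₀.refl v hv) = Φ.refl (M.j v) (h.N_ne hv) :=
  M.ext_j fun u => by
    have := h.ne
    rw [Md.β_j, refl_apply, refl_apply, sub_eq_add_neg, ← neg_smul, M.j_add, M.j_smul, h.N, h.B]
    match_scalars
    · rfl
    · simp; field_simp

/-- base change of isometries -/
noncomputable def Md.Fm.bcI (h : M.Fm Φ₀ Φ l) : Φ₀.Isom →* Φ.Isom :=
  (M.β.comp Φ₀.Isom.subtype).codRestrict _ fun g => h.isom.2 g.2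

theorem Md.Fm.bcI_refl (h : M.Fm Φ₀ Φ l) (v hv) : h.bcI (Φ₀.reflI v hv) = Φ.reflI (M.j v) (h.N_ne hv) :=
  Subtype.ext (h.refl v hv)

variable [FiniteDimensional F V]

theorem Md.Fm.dick (h : M.Fm Φ₀ Φ l) (hG₀ : Φ₀.Good) (h₀ : Φ₀.Nondeg) (hG : Φ.Good) (hΦ : Φ.Nondeg)
    (g : Φ₀.Isom) : hG.dick hΦ (h.bcI g) = hG₀.dick h₀ g := by
  have := hG₀.hom_extI h₀ (χ := (hG.dick hΦ).comp h.bcI) (χ' := hG₀.dick h₀) fun v hv => by
    simp [h.bcI_refl]
  exact DFunLike.congr_fun this g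

variable [Finite F] [Finite F₀] {m : ℕ}

theorem Md.Fm.dS (h : M.Fm Φ₀ Φ l) (H₀ : Ev Φ₀ m) (H : Ev Φ m) (g : Sim Φ₀) (hg : M.β g.1 ∈ Sim Φ) :
    H.dS ⟨_, hg⟩ = H₀.dS g := by
  by_cases h2 : (2 : F₀) = 0
  · obtain ⟨c, k, rfl⟩ := exists_decomp (H₀.ml_spec g) (sqSign_of_two h2 _)
    have : (⟨_, hg⟩ : Sim Φ) = scS Φ (Units.map φ.toMonoidHom c) * inI Φ (h.bcI k) := Subtype.ext (by
      change M.β (scal _ c * k.1) = scal _ _ * _
      rw [map_mul, M.β_scal]; rfl)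
    rw [this]; simp [h.dick H₀.good H₀.nd]
  · have h3 : (2 : F) ≠ 0 := fun e => h2 (φ.injective (by rw [map_ofNat, e, map_zero]))
    have h4 := H.dS_det h3 ⟨_, hg⟩
    rw [H.ml_eq (h.isSemi (H₀.ml_spec g)), M.det_β, ← H₀.dS_det h2, map_mul, map_pow, map_intCast] at h4
    exact sign_cast_inj h3 (mul_right_cancel₀ (pow_ne_zero m (by simp)) h4)

omit [Finite F₀] in
theorem Md.Fm.spin (h : M.Fm Φ₀ Φ l) (hG₀ : Φ₀.Good) (h₀ : Φ₀.Nondeg) (hG : Φ.Good) (hΦ : Φ.Nondeg)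
    (χ : Φ₀.Isom →* ℤˣ) (hχ : ∀ v hv, χ (Φ₀.reflI v hv) = sqSign F (Units.map φ.toMonoidHom (Units.mk0 _ hv)))
    (g : Φ₀.Isom) (hg : hG₀.dick h₀ g = 1) : hG.spin hΦ (h.bcI g) = χ g := by
  have := hG₀.hom_extI h₀ (χ := (hG.spin hΦ).comp h.bcI)
    (χ' := χ * if sqSign F (Units.mk0 l h.ne) = 1 then 1 else hG₀.dick h₀) fun v hv => by
    have h2 : Units.mk0 _ (h.N_ne hv) = Units.mk0 l h.ne * Units.map φ.toMonoidHom (Units.mk0 _ hv) :=
      Units.ext (h.N v)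
    rw [MonoidHom.comp_apply, h.bcI_refl, hG.spin_reflI, h2, map_mul, MonoidHom.mul_apply, hχ, mul_comm]
    congr 1
    split_ifs with h3
    · simp [h3]
    · simpa using Int.units_ne_iff_eq_neg.1 h3
  have h1 := DFunLike.congr_fun this g
  rw [MonoidHom.comp_apply, MonoidHom.mul_apply] at h1
  rw [h1]; split_ifs <;> simp [hg]

omit [Finite F] [Finite F₀] in
theorem fix_of_sq {σ : F ≃+* F} (ho : Odd (orderOf σ)) {a : F} (h : σ (σ a) = a) : σ a = a := by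
  obtain ⟨k, hk⟩ := ho
  have h1 : ∀ k, (σ ^ (2 * k)) a = a := fun k => by
    induction k with
    | zero => rfl
    | succ k ih => rw [Nat.mul_succ, pow_add, RingAut.mul_apply, _root_.sq, RingAut.mul_apply, h, ih]
  have h2 := congrArg (fun τ : F ≃+* F => τ a) (pow_orderOf_eq_one σ)
  simp only [hk, pow_succ', RingAut.mul_apply, h1] at h2
  exact h2

theorem sqSign_odd {σ : F ≃+* F} (hφ : Desc φ σ) (ho : Odd (orderOf σ)) (c : F₀ˣ) :
    sqSign F (Units.map φ.toMonoidHom c) = sqSign F₀ c := by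
  have key : IsSquare (φ c) ↔ IsSquare (c : F₀) := by
    refine ⟨fun ⟨a, ha⟩ => ?_, fun h => h.map φ⟩
    have h1 : σ a * σ a = a * a := by rw [← map_mul, ← ha, hφ.fix]
    obtain ⟨b, rfl⟩ := (hφ a).1 (fix_of_sq ho (by
      rcases mul_self_eq_mul_self_iff.1 h1 with h | h <;> simp [h]))
    exact ⟨b, φ.injective (by simpa using ha)⟩
  rcases Int.units_eq_one_or (sqSign F₀ c) with h1 | h1
  · rw [h1, sqSign_eq_one_iff]; exact key.2 (sqSign_eq_one_iff.1 h1)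
  · rw [h1, sqSign_eq_neg_one_iff]; exact fun h => sqSign_eq_neg_one_iff.1 h1 (key.1 h)

omit [Finite F₀] in
theorem sqSign_even {σ : F ≃+* F} (hφ : Desc φ σ) (ho : Even (orderOf σ)) (c : F₀ˣ) :
    sqSign F (Units.map φ.toMonoidHom c) = 1 := by
  obtain ⟨d, hd⟩ := exists_nm (c := Units.map φ.toMonoidHom c) (hφ.fix c)
  rw [← hd, nm_apply, map_prod, Finset.prod_congr rfl fun i _ => sqSign_map (σ ^ i) d _ rfl,
    Finset.prod_const, Finset.card_range]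
  obtain ⟨k, hk⟩ := ho
  rw [hk, ← two_mul, pow_mul, Int.units_sq, one_pow]

omit [FiniteDimensional F V] [Finite F] [Finite F₀] in
theorem two_ne_of_hom (φ : F₀ →+* F) : (2 : F₀) ≠ 0 ↔ (2 : F) ≠ 0 := by
  rw [← map_ofNat φ 2, map_ne_zero]

theorem exists_SO_spin (hΦ : Φ.Nondeg) (h2 : (2 : F) ≠ 0) (hG : Φ.Good) (hn : 2 ≤ finrank F V) (a : ℤˣ) :
    ∃ g : Φ.Isom, g.1 ∈ Φ.SIsom ∧ hG.dick hΦ g = 1 ∧ hG.spin hΦ g = a := by
  obtain ⟨g, hg⟩ := hG.chi_surjective hΦ h2 hn (1, a)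
  exact ⟨g, Form.mem_SIsom.2 ⟨g.2, (hG.dick_eq_one_iff hΦ h2).1 (congrArg Prod.fst hg)⟩, congrArg Prod.fst hg,
    congrArg Prod.snd hg⟩

omit [Finite F₀] in
theorem fth_orth' (hΦ : Φ.Nondeg) (hn : 3 ≤ finrank F V) {P : Type*} [Group P] (C : Cov Φ.E P) : C.Fth :=
  letI := Fintype.ofFinite F
  fth_orth hΦ hn C

variable {P : Type*} [Group P] (C : Cov Φ.E P)

omit [Finite F₀] in
theorem langP_odd (hΦ : Φ.Nondeg) (ho : Odd (finrank F V)) (hn : 3 ≤ finrank F V) {s : GamL F V}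
    (hs' : s ∈ Semi Φ) (hs : s ^ orderOf s.τ = 1) :
    LangP (C.linAut Sim_le_NrmL).range (C.aut ⟨s, Semi_le_Nrm_E hs'⟩) := by
  haveI : Nontrivial V := Module.nontrivial_of_finrank_pos (R := F) (by omega)
  obtain ⟨E, h1, -⟩ := exists_fixed_field s.τ
  obtain ⟨k, hk⟩ := ho
  refine langP_Sim hΦ (fth_orth' hΦ hn C) hs' hs h1 (kc_orth _) fun Φ₀ Ψ₀ h h' => ?_
  obtain ⟨c, hc, e, h2, h3⟩ := orth_iso_odd k Φ₀ Ψ₀ h h' (by simpa using hk) (by simpa using hk)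
  exact ⟨e, c, hc, rfl, h2, h3⟩

theorem cent_Sim (h : M.Fm Φ₀ Φ l) (hΦ : Φ.Nondeg) (hn : 3 ≤ finrank F V) (hn₀ : 3 ≤ finrank F₀ (ι → F₀))
    (ht' : t ∈ Semi Φ) (ht : t ^ orderOf t.τ = 1) (hφ : Desc φ t.τ) {P₀ : Type*} [Group P₀] (C₀ : Cov Φ₀.E P₀) :
    Nonempty (↥((C.linAut Sim_le_NrmL).range ⊓ Subgroup.centralizer {C.aut ⟨t, Semi_le_Nrm_E ht'⟩}) ≃*
      (C₀.linAut Sim_le_NrmL).range) := by
  haveI : Nontrivial V := Module.nontrivial_of_finrank_pos (R := F) (by omega)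
  haveI : Nontrivial (ι → F₀) := Module.nontrivial_of_finrank_pos (R := F₀) (by omega)
  exact (fth_orth' hΦ hn C).cent_equiv Sim_le_NrmL ⟨t, Semi_le_Nrm_E ht'⟩ ht M hφ (H₀ := Sim Φ₀) (fun x => (h.sim (h.nondeg hΦ)).2)
    (fun x hx => le_ZG _ ((h.sim (h.nondeg hΦ)).1 (ZG_le_Sim le_rfl hx)))
    (C₀.linAut Sim_le_NrmL).rangeRestrict (MonoidHom.rangeRestrict_surjective _) fun x =>
      Subtype.ext_iff.trans ((fth_orth' (h.nondeg hΦ) hn₀ C₀).linAut_eq_one _)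

theorem split_odd (h : M.Fm Φ₀ Φ l) (hΦ : Φ.Nondeg) (ho : Odd (finrank F V)) (hn : 3 ≤ finrank F V)
    (hn₀ : finrank F₀ (ι → F₀) = finrank F V)
    (ht' : t ∈ Semi Φ) (ht : t ^ orderOf t.τ = 1) (hφ : Desc φ t.τ) :
    Cfsg.splitClassCount (C.linAut Sim_le_NrmL).range (Cfsg.Inn P) (C.aut ⟨t, Semi_le_Nrm_E ht'⟩) =
      if Odd (orderOf t.τ) then 1 else 2 := by
  haveI : Nontrivial V := Module.nontrivial_of_finrank_pos (R := F) (by omega)
  haveI : Nontrivial (ι → F₀) := Module.nontrivial_of_finrank_pos (R := F₀) (by omega)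
  have h₀ := h.nondeg hΦ
  have h2 := two_ne_of_odd hΦ ho
  have h2' := (two_ne_of_hom φ).2 h2
  have hG := good_of_two hΦ h2
  have hG₀ := good_of_two h₀ h2'
  rw [C.range_eq_of_le Sim_le_NrmL (SIsom_le.trans Isom_le_NrmL) (odd_Sim_le hΦ ho)
    ((SIsom_le.trans Isom_le_Sim).trans (le_ZG _))]
  have h1 : ∀ x ∈ Φ₀.SIsom, M.β x ∈ Φ.SIsom := fun x hx => Form.mem_SIsom.2 ⟨h.isom.2 hx.1, Units.ext (by
    rw [M.det_β, (Form.mem_SIsom.1 hx).2]; simp)⟩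
  refine ((fth_orth' hΦ hn C).split (SIsom_le.trans Isom_le_NrmL) Φ.E_le_SIsom ⟨t, Semi_le_Nrm_E ht'⟩ ht M hφ
    (H₀ := Φ₀.SIsom) h1 (fun x hx => odd_Sim_le h₀ (hn₀ ▸ ho)
    ((h.sim h₀).1 (ZG_le_Sim (SIsom_le.trans Isom_le_Sim) hx))) ((hG.spin hΦ).comp (Subgroup.inclusion SIsom_le))
    (fun a => ?_) ⊥ fun g => ?_).trans ?_
  · obtain ⟨g, h3, -, h4⟩ := exists_SO_spin hΦ h2 hG (by omega) a
    exact ⟨⟨g.1, h3⟩, h4⟩
  · exact Subgroup.mem_bot.trans (odd_mem_ZE hΦ ho hn hG (g := Subgroup.inclusion SIsom_le g) g.2).symm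
  rw [bot_sup_eq]
  split_ifs with h3
  · rw [Subgroup.index_eq_one, MonoidHom.range_eq_top]
    intro a
    obtain ⟨g, h4, h5, h6⟩ := exists_SO_spin h₀ h2' hG₀ (by omega) a
    exact ⟨⟨g.1, h4⟩, (h.spin hG₀ h₀ hG hΦ (hG₀.spin h₀) (fun v hv => by
      rw [sqSign_odd hφ h3, hG₀.spin_reflI]) g h5).trans h6⟩
  · rw [MonoidHom.range_eq_bot_iff.2, Subgroup.index_bot]
    · simp
    ext1 g
    exact h.spin hG₀ h₀ hG hΦ 1 (fun v hv => by rw [sqSign_even hφ (Nat.not_odd_iff_even.1 h3)]; rfl)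
      ⟨g.1, g.2.1⟩ ((hG₀.dick_eq_one_iff h₀ h2').2 (Form.mem_SIsom.1 g.2).2)

theorem odd_pack {F : Type*} [Field F] [Fintype F] (h2 : (2 : F) ≠ 0) {m : ℕ} (hm : 2 ≤ m) :
    ∃ C : Cov (oddForm m F).E (Cfsg.POmega F (Cfsg.quadFormOdd m F)),
      Cfsg.inndiagPOmegaOdd m F = (C.linAut Sim_le_NrmL).range ∧ (semiAut C).range = ⊤ ∧
      ∀ σ β, Cfsg.IsFieldAutPOmegaOf (Cfsg.quadFormOdd m F) σ β ↔
        β = C.aut ⟨fld _ σ, Semi_le_Nrm_E ⟨_, odd_fld m σ⟩⟩ := by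
  have hn : 5 ≤ finrank F (Unit ⊕ (Fin m ⊕ Fin m) → F) := by rw [finrank_odd]; omega
  exact ⟨(repO _ (oddForm_nondeg m h2) hn).cov, inndiagOdd_eq _ hn, range_odd m h2 hn,
    fun σ β => (repO _ (oddForm_nondeg m h2) hn).ind_fld_iff _⟩

end Orth

end Cfsg.Agent.Perm.Aut
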