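import Cfsg.Agent.Lib.Perm.Aut18

/-! Field and graph-field automorphisms of even dimensional orthogonal groups. -/

set_option autoImplicit false

namespace Cfsg.Agent.Perm.Aut
open Module Matrix Cfsg.Agent.Classical Cfsg.Agent.Classical.Form

/-- anisotropic binary form -/
abbrev An {F : Type*} [Field F] (a b : F) : Prop :=
  ∀ z₁ z₂ : F, z₁ ^ 2 + a * z₁ * z₂ + b * z₂ ^ 2 = 0 → z₁ = 0 ∧ z₂ = 0

section Aniso
variable {F : Type*} [Field F]

theorem an_of {a b : F} (h : ∀ x, x ^ 2 + a * x + b ≠ 0) : An a b := fun x y e => by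
  by_cases hy : y = 0
  · subst hy; simpa using e
  · exact absurd (by field_simp; linear_combination e) (h (x / y))

theorem exists_an [Finite F] : ∃ a b : F, An a b := by
  have : ¬ Function.Surjective fun x : F => x ^ 2 + x := fun h => by
    have := Finite.injective_iff_surjective.2 h (a₁ := 0) (a₂ := -1) (by simp)
    simp at this
  obtain ⟨c, hc⟩ := not_forall.1 this
  exact ⟨1, -c, an_of fun x e => hc ⟨x, by linear_combination e⟩⟩

theorem An.no_root {a b : F} (h : An a b) (x : F) : x ^ 2 + a * x + b ≠ 0 := fun e =>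
  one_ne_zero (h x 1 (by simpa using e)).2

theorem An.map {F₀ : Type*} [Field F₀] {φ : F₀ →+* F} {σ : F ≃+* F} (hφ : Desc φ σ) (ho : Odd (orderOf σ))
    {a b : F₀} (h : An a b) : An (φ a) (φ b) := an_of fun x e => by
  have e' : σ x ^ 2 + φ a * σ x + φ b = 0 := by simpa [hφ.fix] using congrArg σ e
  have : σ x = x := fix_of_sq ho (by
    have : (σ x - x) * (σ x + x + φ a) = 0 := by linear_combination e' - e
    rcases mul_eq_zero.1 this with h1 | h1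
    · rw [sub_eq_zero] at h1; rw [h1, h1]
    · have h2 := congrArg σ h1
      simp only [map_add, hφ.fix, map_zero] at h2
      linear_combination h2 - h1)
  obtain ⟨y, rfl⟩ := (hφ x).1 this
  exact h.no_root y (φ.injective (by simpa using e))

theorem An.of_map {F₀ : Type*} [Field F₀] {φ : F₀ →+* F} {a b : F₀} (h : An (φ a) (φ b)) : An a b :=
  an_of fun x e => h.no_root (φ x) (by simpa using congrArg φ e)

theorem An.odd [Finite F] {σ : F ≃+* F} {a b : F} (h : An a b) (ha : σ a = a) (hb : σ b = b) :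
    orderOf σ ≠ 2 := fun h2 => by
  obtain ⟨E, h1, h3⟩ := exists_fixed_field σ
  obtain ⟨a, rfl⟩ := (h1 a).1 ha
  obtain ⟨b, rfl⟩ := (h1 b).1 hb
  have h4 : finrank E F = 2 := by
    rw [h2, Module.natCard_eq_pow_finrank (K := E) (V := F)] at h3
    exact Nat.pow_right_injective Finite.one_lt_card h3
  obtain ⟨θ, hθ⟩ := exists_root_quad h4 a b h.of_map.no_root
  exact h.no_root θ hθ

end Aniso

section Ty
variable {F V : Type*} [Field F] [AddCommGroup V] [Module F V] {F₀ : Type*} [Field F₀]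
variable {φ : F₀ →+* F} {ι : Type} [Fintype ι] [DecidableEq ι] {s t : GamL F V} {M : Md φ ι t}
  {Φ₀ : Form (Kind.orth F₀) (ι → F₀)} {Φ : Form (Kind.orth F) V} {l : F} {m : ℕ}

theorem isType_of_sim {η : ℤ} {W : Type*} [AddCommGroup W] [Module F W] {Ψ : Form (Kind.orth F) W} (e : W ≃ₗ[F] V)
    (hl : l ≠ 0) (h : ∀ v, Φ.N (e v) = l * Ψ.N v) (ht : Ψ.IsType m η) : Φ.IsType m η := by
  refine ⟨e.finrank_eq ▸ ht.1, ?_⟩
  rw [← ht.2]
  congr 2
  exact Nat.card_congr (e.toEquiv.subtypeEquiv fun v => by simp [h, hl]).symm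

theorem Md.Fm.N_h (h : M.Fm Φ₀ Φ l) {Ψ : Form (Kind.orth F) (ι → F)} (hb : BC φ Φ₀ Ψ) (v) :
    Φ.N (M.h v) = l * Ψ.N v := by
  have hB : ∀ u v, Φ.B (M.h u) (M.h v) = l * Ψ.B u v := fun u v => by
    have : Φ.B.compl₁₂ M.h.toLinearMap M.h.toLinearMap = l • Ψ.B :=
      LinearMap.ext_basis (Pi.basisFun F ι) (Pi.basisFun F ι) fun i j => by
        rw [← jv_basis φ, ← jv_basis φ]
        exact (h.B _ _).trans (by rw [← hb.B]; rfl)
    exact DFunLike.congr_fun (DFunLike.congr_fun this u) v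
  have h0 : v ∈ Submodule.span F (Set.range (Pi.basisFun F ι)) := by simp
  induction h0 using Submodule.span_induction with
  | mem x hx => obtain ⟨i, rfl⟩ := hx; rw [← jv_basis φ, hb.N]; exact h.N _
  | zero => simp
  | add x y _ _ hx hy => rw [map_add, orth_N_add, orth_N_add, hx, hy, hB]; ring
  | smul c x _ hx => rw [map_smul, N_smul, N_smul, hx]; ring

/-- the type of the rational structure fixed by `t` -/
def Ty (φ : F₀ →+* F) (Φ : Form (Kind.orth F) V) (t : GamL F V) (m : ℕ) (η : ℤˣ) : Prop :=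
  ∃ (ι : Type) (_ : Fintype ι) (_ : DecidableEq ι) (M : Md φ ι t) (Φ₀ : Form (Kind.orth F₀) (ι → F₀)) (l : F),
    M.Fm Φ₀ Φ l ∧ Φ₀.IsType m η

variable [Finite F] [Finite F₀] [FiniteDimensional F V] {η : ℤˣ}

omit [Finite F₀] [DecidableEq ι] in
theorem Md.Fm.ev (h : M.Fm Φ₀ Φ l) (H : Ev Φ m) (hm : 3 ≤ m) : Ev Φ₀ m := by
  have h1 : finrank F₀ (ι → F₀) = 2 * m := by rw [← H.rk, ← M.h.finrank_eq]; simp
  exact ⟨h.nondeg H.nd, good_of_finrank (h.nondeg H.nd) (by omega), h1, H.le⟩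

theorem exists_ty (H : Ev Φ m) (hφ : Desc φ t.τ) (ht' : t ∈ Semi Φ) (ht : t ^ orderOf t.τ = 1) :
    ∃ η, Ty φ Φ t m η := by
  haveI := H.nt
  obtain ⟨M⟩ := nonempty_md hφ ht (ι := Fin (finrank F V)) (by simp)
  obtain ⟨Φ₀, l, h⟩ := M.exists_fm H.nd hφ (kc_orth _) ht ht'
  rcases exists_isType m Φ₀ (h.nondeg H.nd) (by simpa using H.rk) with h1 | h1
  · exact ⟨1, _, inferInstance, inferInstance, M, Φ₀, l, h, h1⟩
  · exact ⟨-1, _, inferInstance, inferInstance, M, Φ₀, l, h, h1⟩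

omit [Finite F] [FiniteDimensional F V] in
theorem Ty.model (h : Ty φ Φ t m η) (hΦ : Φ.Nondeg) (h₀ : Φ₀.Nondeg) (h1 : Φ₀.IsType m η) :
    ∃ (M : Md φ ι t) (l : F), M.Fm Φ₀ Φ l := by
  obtain ⟨ι, _, _, M, Ψ, l, h, h2⟩ := h
  obtain ⟨M', h3⟩ := h.iso (orth_iso_even _ m Φ₀ Ψ h₀ (h.nondeg hΦ) h1 h2)
  exact ⟨M', l, h3⟩

theorem Ev.scal_mem (H : Ev Φ m) (c : Fˣ) : scal V c ∈ H.Sim0 := H.mem_Sim0.2 ⟨(scS Φ c).2, H.dS_scS c⟩

theorem Ev.le_NrmL (H : Ev Φ m) : H.Sim0 ≤ NrmL Φ.E := H.Sim0_le.trans Sim_le_NrmL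

theorem Ev.SO_le (H : Ev Φ m) {g : Φ.Isom} (hg : H.dk g = 1) : g.1 ∈ H.Sim0 :=
  H.mem_Sim0.2 ⟨(inI Φ g).2, (H.dS_inI g).trans hg⟩

theorem Ev.E_le (H : Ev Φ m) : Φ.E ≤ H.Sim0 := fun g hg => H.SO_le (g := ⟨g, Φ.E_le hg⟩) (H.mem_E.1 hg).1

omit [Finite F₀] in
theorem Ty.exists_refl (h : Ty φ Φ t m η) (H : Ev Φ m) (hm : 3 ≤ m) :
    ∃ r : Sim Φ, H.dS r = -1 ∧ r * r = 1 ∧ t.cj r.1 = r.1 := by
  obtain ⟨ι, _, _, M, Ψ, l, h, -⟩ := h
  haveI : Finite F₀ := Finite.of_injective _ φ.injective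
  obtain ⟨v, hv, -⟩ := (h.ev H hm).exists_refl
  refine ⟨inI Φ (Φ.reflI _ (h.N_ne hv)), by simp, ?_, ?_⟩
  · exact Subtype.ext (Φ.refl_mul_self _ (h.N_ne hv))
  · change t.cj (Φ.refl _ (h.N_ne hv)) = Φ.refl _ (h.N_ne hv)
    rw [← h.refl v hv, M.cj_β]

theorem Ty.conj (hs : Ty φ Φ s m η) (ht : Ty φ Φ t m η) (H : Ev Φ m) (hm : 3 ≤ m) (h : t.τ = s.τ) :
    ∃ k ∈ H.Sim0, t = GamL.lin k * s * (GamL.lin k)⁻¹ := by
  obtain ⟨r, r1, -, r3⟩ := hs.exists_refl H hm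
  obtain ⟨ι, _, _, M, Ψ, l, h1, h2⟩ := hs
  obtain ⟨M', l', h3⟩ := ht.model H.nd (h1.nondeg H.nd) h2
  obtain ⟨k, hk, e⟩ := h1.conj h3 h
  rcases Int.units_eq_one_or (H.dS ⟨k, hk⟩) with h4 | h4
  · exact ⟨k, H.mem_Sim0.2 ⟨hk, h4⟩, e⟩
  · refine ⟨k * r.1, H.mem_Sim0.2 ⟨mul_mem hk r.2, ?_⟩, ?_⟩
    · change H.dS (⟨k, hk⟩ * r) = 1
      simp [h4, r1]
    · have := congrArg GamL.lin r3
      rw [GamL.lin_cj_eq, mul_inv_eq_iff_eq_mul] at this
      rw [e, map_mul, mul_assoc _ _ s, ← this]; group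

theorem Ty.dS (hs : Ty φ Φ s m η) {g : Sim Φ} (ht : Ty φ Φ (GamL.lin g.1 * s) m η) (H : Ev Φ m) (hm : 3 ≤ m)
    (hs' : s ∈ Semi Φ) : H.dS g = 1 := by
  obtain ⟨k, hk, e⟩ := hs.conj ht H hm rfl
  obtain ⟨hk, h1⟩ := H.mem_Sim0.1 hk
  have : g = ⟨k, hk⟩ * cjS ⟨s, hs'⟩ ⟨k, hk⟩⁻¹ := Subtype.ext (GamL.lin_injective (by
    change _ = GamL.lin (k * s.cj k⁻¹)
    rw [map_mul, GamL.lin_cj_eq, ← mul_assoc, ← mul_assoc, map_inv, ← e, mul_inv_cancel_right]))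
  rw [this, map_mul, H.dS_cjS, map_inv, h1]; rfl

theorem Ty.opp (hs : Ty φ Φ s m η) (H : Ev Φ m) (hm : 3 ≤ m) (hφ : Desc φ s.τ) (hs' : s ∈ Semi Φ) {g : Sim Φ}
    (hg : H.dS g = -1) (h : (GamL.lin g.1 * s) ^ orderOf s.τ = 1) : Ty φ Φ (GamL.lin g.1 * s) m (-η) := by
  obtain ⟨η', h1⟩ := exists_ty (t := GamL.lin g.1 * s) H hφ (mul_mem g.2 hs') h
  rw [← Int.units_ne_iff_eq_neg.1 (show η' ≠ η by
    rintro rfl
    exact absurd (hg.symm.trans (hs.dS h1 H hm hs')) (by decide))]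
  exact h1

omit [FiniteDimensional F V] in
theorem Ty.isType_one (h : Ty φ Φ t m 1) (hΦ : Φ.Nondeg) : Φ.IsType m 1 := by
  obtain ⟨M, l, h1⟩ := h.model hΦ (plusForm_nondeg m) (plusForm_isType m)
  exact isType_of_sim M.h h1.ne (h1.N_h (bc_plus m)) (plusForm_isType m)

omit [FiniteDimensional F V] in
theorem Ty.isType (h : Ty φ Φ t m η) (hΦ : Φ.Nondeg) (hm : 1 ≤ m) (hφ : Desc φ t.τ) (ho : Odd (orderOf t.τ)) :
    Φ.IsType m η := by
  rcases Int.units_eq_one_or η with rfl | rfl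
  · exact h.isType_one hΦ
  · obtain ⟨m, rfl⟩ := Nat.exists_eq_add_of_le' hm
    obtain ⟨a, b, hab⟩ := exists_an (F := F₀)
    obtain ⟨M, l, h1⟩ := h.model hΦ (minusForm_nondeg m hab) (minusForm_isType m hab)
    exact isType_of_sim M.h h1.ne (h1.N_h (bc_minus m a b)) (minusForm_isType m (hab.map hφ ho))

theorem Ty.same (hs : Ty φ Φ s m η) (H : Ev Φ m) (hm : 3 ≤ m) (hφ : Desc φ s.τ) (hs' : s ∈ Semi Φ)
    (h0 : s ^ orderOf s.τ = 1) {g : Sim Φ}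
    (hg : H.dS g = 1) (h : (GamL.lin g.1 * s) ^ orderOf s.τ = 1) : Ty φ Φ (GamL.lin g.1 * s) m η := by
  obtain ⟨η', h1⟩ := exists_ty (t := GamL.lin g.1 * s) H hφ (mul_mem g.2 hs') h
  rcases Nat.even_or_odd (orderOf s.τ) with ⟨k, hk⟩ | ho
  · obtain ⟨r, r1, r2, r3⟩ := hs.exists_refl H hm
    have r4 : Commute (GamL.lin r.1) s := by
      have := congrArg GamL.lin r3
      rw [GamL.lin_cj_eq, mul_inv_eq_iff_eq_mul] at this
      exact this.symm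
    have r5 : GamL.lin r.1 * GamL.lin r.1 = 1 := by rw [← map_mul, ← Subgroup.coe_mul, r2]; rfl
    have h2 := hs.opp H hm hφ hs' r1 (by
      rw [r4.mul_pow, h0, hk, ← two_mul, pow_mul, _root_.sq, r5, one_pow, one_mul])
    by_contra h3
    have h4 : η' = -η := Int.units_ne_iff_eq_neg.1 (by rintro rfl; exact h3 h1)
    have h5 := h2.dS (g := g * r) (by
      rw [Subgroup.coe_mul, map_mul, mul_assoc, ← mul_assoc _ _ s, r5, one_mul, ← h4]; exact h1) H hm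
      (mul_mem r.2 hs')
    rw [map_mul, hg, r1] at h5
    exact absurd h5 (by decide)
  · have := (h1.isType H.nd (by omega) hφ ho).unique (hs.isType H.nd (by omega) hφ ho)
    rwa [Units.ext this] at h1

variable {P : Type*} [Group P] (C : Cov Φ.E P)

omit [Finite F₀] in
theorem langP_even (H : Ev Φ m) (hm : 3 ≤ m) (hs' : s ∈ Semi Φ) (hs : s ^ orderOf s.τ = 1) :
    LangP (C.linAut H.le_NrmL).range (C.aut ⟨s, Semi_le_Nrm_E hs'⟩) := by
  haveI := H.nt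
  haveI : Finite (F ≃+* F) := Finite.of_injective _ (DFunLike.coe_injective (F := F ≃+* F))
  have hC := fth_orth' H.nd H.three C
  obtain ⟨E, hφ, -⟩ := exists_fixed_field s.τ
  obtain ⟨η, h1⟩ := exists_ty H hφ hs' hs
  refine hC.langP H.le_NrmL H.scal_mem _ (hC.orderOf_aut (Nat.dvd_antisymm (orderOf_dvd_of_pow_eq_one hs)
    (orderOf_map_dvd GamL.tau s))) fun g hg h2 => ?_
  obtain ⟨hg, h3⟩ := H.mem_Sim0.1 hg
  exact h1.conj (h1.same H hm hφ hs' hs h3 h2) H hm rfl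

omit [Finite F₀] in
theorem normal_Sim0 (H : Ev Φ m) (h : (semiAut C).range = ⊤) : (C.linAut H.le_NrmL).range.Normal :=
  C.normal_range _ Semi_le_Nrm_E h fun s hs g hg => by
    obtain ⟨hg, h1⟩ := H.mem_Sim0.1 hg
    exact H.mem_Sim0.2 ⟨(cjS ⟨s, hs⟩ ⟨g, hg⟩).2, (H.dS_cjS ⟨s, hs⟩ ⟨g, hg⟩).trans h1⟩

theorem Md.Fm.sim0 (h : M.Fm Φ₀ Φ l) (H₀ : Ev Φ₀ m) (H : Ev Φ m) {x} : M.β x ∈ H.Sim0 ↔ x ∈ H₀.Sim0 := by
  haveI := H₀.nt
  rw [H.mem_Sim0, H₀.mem_Sim0]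
  exact ⟨fun ⟨a, b⟩ => ⟨(h.sim H₀.nd).1 a, (h.dS H₀ H ⟨x, _⟩ a).symm.trans b⟩,
    fun ⟨a, b⟩ => ⟨(h.sim H₀.nd).2 a, (h.dS H₀ H ⟨x, a⟩ _).trans b⟩⟩

theorem cent_Sim0 (h : M.Fm Φ₀ Φ l) (H₀ : Ev Φ₀ m) (H : Ev Φ m)
    (ht' : t ∈ Semi Φ) (ht : t ^ orderOf t.τ = 1) (hφ : Desc φ t.τ) {P₀ : Type*} [Group P₀] (C₀ : Cov Φ₀.E P₀) :
    Nonempty (↥((C.linAut H.le_NrmL).range ⊓ Subgroup.centralizer {C.aut ⟨t, Semi_le_Nrm_E ht'⟩}) ≃*
      (C₀.linAut H₀.le_NrmL).range) := by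
  haveI := H.nt
  haveI := H₀.nt
  exact (fth_orth' H.nd H.three C).cent_equiv H.le_NrmL ⟨t, Semi_le_Nrm_E ht'⟩ ht M hφ (H₀ := H₀.Sim0)
    (fun x => (h.sim0 H₀ H).2) (fun x hx => le_ZG _ ((h.sim0 H₀ H).1 (ZG_le le_rfl H.scal_mem hx)))
    (C₀.linAut H₀.le_NrmL).rangeRestrict (MonoidHom.rangeRestrict_surjective _) fun x =>
      Subtype.ext_iff.trans ((fth_orth' H₀.nd H₀.three C₀).linAut_eq_one _)

omit [Finite F₀] in
theorem Ev.inn_two (H : Ev Φ m) (h2 : (2 : F) = 0) : (C.linAut H.le_NrmL).range = Cfsg.Inn P := by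
  rw [C.Inn_eq]
  refine C.range_eq_of_le _ _ (fun g hg => ?_) (H.E_le.trans (le_ZG _))
  obtain ⟨hg, h1⟩ := H.mem_Sim0.1 hg
  obtain ⟨c, k, h3, h4⟩ := H.chi_eq_one.1 (show H.chi ⟨g, hg⟩ = 1 by rw [H.chi_apply, h1, sqSign_of_two h2]; rfl)
  exact ⟨c, k.1, H.mem_E.2 ⟨h3, DFunLike.congr_fun (H.good.spin_of_two H.nd h2) k⟩, congrArg Subtype.val h4⟩

theorem split_eq (h : M.Fm Φ₀ Φ l) (H₀ : Ev Φ₀ m) (H : Ev Φ m)
    (ht' : t ∈ Semi Φ) (ht : t ^ orderOf t.τ = 1) (hφ : Desc φ t.τ) {S : Subgroup (V ≃ₗ[F] V)} (hS : S ≤ H.Sim0)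
    (hE : Φ.E ≤ S) (h1 : ∀ x ∈ H₀.Sim0, M.β x ∈ ZG S) (h2 : ∀ g ∈ S, ∃ x ∈ H₀.Sim0, g * M.β x ∈ ZG Φ.E) :
    Cfsg.splitClassCount (C.linAut H.le_NrmL).range (Cfsg.Inn P) (C.aut ⟨t, Semi_le_Nrm_E ht'⟩) =
      (C.linAut (hS.trans H.le_NrmL)).range.relIndex (C.linAut H.le_NrmL).range := by
  haveI := H.nt
  have hC := fth_orth' H.nd H.three C
  rw [split_relIndex (Inn_le_range C _ H.E_le), ← hC.range_cent H.le_NrmL ⟨t, Semi_le_Nrm_E ht'⟩ ht M hφ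
    (H₀ := H₀.Sim0) (fun x => (h.sim0 H₀ H).2) (fun x hx => le_ZG _ ((h.sim0 H₀ H).1 (ZG_le le_rfl H.scal_mem hx)))]
  congr 1
  refine le_antisymm (sup_le (Inn_le_range C _ hE) ?_) ?_
  · rintro _ ⟨x, rfl⟩
    exact C.aut_mem_range _ (h1 _ x.2) rfl
  · rintro _ ⟨g, rfl⟩
    obtain ⟨x, hx, h3⟩ := h2 _ g.2
    refine (Subgroup.mul_mem_cancel_right _ (Subgroup.mem_sup_right (MonoidHom.mem_range.2 ⟨⟨x, hx⟩, rfl⟩))).1
      (Subgroup.mem_sup_left ?_)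
    exact (map_mul C.aut _ _).symm ▸ C.aut_mem_Inn h3 (map_mul GamL.lin _ _).symm

theorem Md.Fm.sp_odd (h : M.Fm Φ₀ Φ l) (H₀ : Ev Φ₀ m) (H : Ev Φ m) (hφ : Desc φ t.τ) (ho : Odd (orderOf t.τ))
    {g : Φ₀.Isom} (hg : H₀.dk g = 1) : H.sp (h.bcI g) = H₀.sp g :=
  h.spin H₀.good H₀.nd H.good H.nd H₀.sp (fun v hv => by rw [sqSign_odd hφ ho, H₀.good.spin_reflI]) g hg

omit [Finite F₀] in
theorem Md.Fm.sp_even (h : M.Fm Φ₀ Φ l) (hG₀ : Φ₀.Good) (H : Ev Φ m) (hφ : Desc φ t.τ)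
    (ho : Even (orderOf t.τ)) {g : Φ₀.Isom} (hg : hG₀.dick (h.nondeg H.nd) g = 1) : H.sp (h.bcI g) = 1 :=
  h.spin hG₀ _ H.good H.nd 1 (fun v hv => by rw [sqSign_even hφ ho]; rfl) g hg

theorem Md.Fm.ml (h : M.Fm Φ₀ Φ l) (H₀ : Ev Φ₀ m) (H : Ev Φ m) (x : Sim Φ₀) (hx) :
    H.ml ⟨M.β x.1, hx⟩ = Units.map φ.toMonoidHom (H₀.ml x) := Units.ext (H.ml_eq (h.isSemi (H₀.ml_spec x)))

theorem split_odd0 (h : M.Fm Φ₀ Φ l) (H₀ : Ev Φ₀ m) (H : Ev Φ m)
    (ht' : t ∈ Semi Φ) (ht : t ^ orderOf t.τ = 1) (hφ : Desc φ t.τ) (ho : Odd (orderOf t.τ) ∨ (2 : F) = 0) :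
    Cfsg.splitClassCount (C.linAut H.le_NrmL).range (Cfsg.Inn P) (C.aut ⟨t, Semi_le_Nrm_E ht'⟩) = 1 := by
  by_cases h2 : (2 : F) = 0
  · rw [H.inn_two C h2, split_self]
  replace ho := ho.resolve_right h2
  have h2' := (two_ne_of_hom φ).2 h2
  haveI := H₀.nt
  rw [split_eq C h H₀ H ht' ht hφ le_rfl H.E_le (fun x hx => le_ZG _ ((h.sim0 H₀ H).2 hx)) fun g hg => ?_,
    Subgroup.relIndex_self]
  obtain ⟨hg, h3⟩ := H.mem_Sim0.1 hg
  obtain ⟨x, hx⟩ := H₀.chi_surj h2' (H.chi ⟨g, hg⟩)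
  have h4 : H.chi (⟨g, hg⟩ * ⟨M.β x.1, (h.sim H₀.nd).2 x.2⟩) = 1 := by
    rw [map_mul, ← hx, H.chi_apply, H₀.chi_apply, h.dS H₀ H, h.ml H₀ H, sqSign_odd hφ ho]
    ext <;> simp
  obtain ⟨c, k, h5, h6⟩ := H.chi_eq_one.1 h4
  obtain ⟨y, -, h7, h8⟩ := exists_SO_spin H₀.nd h2' H₀.good (by have := H₀.three; omega) (H.sp k)
  refine ⟨x.1 * y.1, mul_mem (H₀.mem_Sim0.2 ⟨x.2, (congrArg Prod.fst hx).trans h3⟩) (H₀.SO_le h7), c,
    (k * h.bcI y).1, H.mem_E.2 ⟨?_, ?_⟩, ?_⟩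
  · rw [map_mul, h5, h.dick H₀.good H₀.nd, h7, one_mul]
  · rw [map_mul, h.sp_odd H₀ H hφ ho h7, h8, Int.units_mul_self]
  · rw [map_mul, ← mul_assoc, show g * M.β x.1 = _ from congrArg Subtype.val h6]; rfl

theorem Ev.relIndex_four (H : Ev Φ m) (h2 : (2 : F) ≠ 0) (h : H.sp (negI Φ) = 1) :
    (Cfsg.Inn P).relIndex (C.linAut H.le_NrmL).range = 4 := by
  letI := Fintype.ofFinite F
  rcases Nat.even_or_odd m with hm | hm
  · obtain ⟨ψ, h3, h4⟩ := H.inn_B2 C h2 h hm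
    rw [Subgroup.relIndex, ← h4, Subgroup.index_ker, MonoidHom.range_eq_top.2 h3, Subgroup.card_top,
      Nat.card_congr Multiplicative.toAdd, Nat.card_prod, Nat.card_zmod]
  · obtain ⟨ψ, h3, h4⟩ := H.inn_B4 C h2 h hm
    rw [Subgroup.relIndex, ← h4, Subgroup.index_ker, MonoidHom.range_eq_top.2 h3, Subgroup.card_top,
      Nat.card_congr Multiplicative.toAdd, Nat.card_zmod]

theorem split_even0 (h : M.Fm Φ₀ Φ l) (H₀ : Ev Φ₀ m) (H : Ev Φ m)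
    (ht' : t ∈ Semi Φ) (ht : t ^ orderOf t.τ = 1) (hφ : Desc φ t.τ) (ho : Even (orderOf t.τ)) (h2 : (2 : F) ≠ 0)
    (hn : H.sp (negI Φ) = 1) {c : Fˣ} {k : Φ.Isom} {a : F₀ˣ} (ha : sqSign F₀ a = -1) (hc : (c : F) ^ 2 = φ a)
    (hk : H.dk k = 1) (h3 : t.cj (scal V c * k.1) = scal V c * k.1) :
    Cfsg.splitClassCount (C.linAut H.le_NrmL).range (Cfsg.Inn P) (C.aut ⟨t, Semi_le_Nrm_E ht'⟩) =
      if H.sp k = 1 then 4 else 2 := by
  letI := Fintype.ofFinite F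
  haveI := H₀.nt
  obtain ⟨d, hd⟩ := M.exists_β hφ h3
  have hd1 : M.β d ∈ H.Sim0 := hd ▸ mul_mem (H.scal_mem c) (H.SO_le hk)
  obtain ⟨hd2, hd3⟩ := H₀.mem_Sim0.1 ((h.sim0 H₀ H).1 hd1)
  have hd4 : H₀.ml ⟨d, hd2⟩ = a := Units.ext (φ.injective (by
    have := congrArg Units.val (h.ml H₀ H ⟨d, hd2⟩ (H.Sim0_le hd1))
    rw [show (⟨M.β d, H.Sim0_le hd1⟩ : Sim Φ) = scS Φ c * inI Φ k from Subtype.ext hd] at this
    simpa [← hc] using this.symm))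
  have key : ∀ x : Sim Φ₀, H₀.chi x = 1 → M.β x.1 ∈ ZG Φ.E := fun x hx => by
    obtain ⟨b, y, h5, rfl⟩ := H₀.chi_eq_one.1 hx
    exact ⟨Units.map φ.toMonoidHom b, (h.bcI y).1, H.mem_E.2 ⟨(h.dick H₀.good H₀.nd _ _ y).trans h5,
      h.sp_even H₀.good H hφ ho h5⟩, by rw [← M.β_scal]; exact map_mul M.β _ _⟩
  have key2 : ∀ x ∈ H₀.Sim0, M.β x ∈ ZG Φ.E ∨ M.β x * M.β d ∈ ZG Φ.E := fun x hx => by
    obtain ⟨hx, h5⟩ := H₀.mem_Sim0.1 hx
    rcases Int.units_eq_one_or (sqSign F₀ (H₀.ml ⟨x, hx⟩)) with h6 | h6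
    · exact Or.inl (key ⟨x, hx⟩ (by rw [H₀.chi_apply, h5, h6]; rfl))
    · right
      have h7 : H₀.chi (⟨x, hx⟩ * ⟨d, hd2⟩) = 1 := by
        rw [map_mul H₀.chi, H₀.chi_apply, H₀.chi_apply, h5, h6, hd3, hd4, ha]; decide
      have h8 := key _ h7
      rwa [Subgroup.coe_mul, map_mul] at h8
  split_ifs with h4
  · have h5 : M.β d ∈ ZG Φ.E := ⟨c, k.1, H.mem_E.2 ⟨hk, h4⟩, hd⟩
    rw [split_eq C h H₀ H ht' ht hφ H.E_le le_rfl (fun x hx => (key2 x hx).elim id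
      ((Subgroup.mul_mem_cancel_right _ h5).1)) fun g hg => ⟨1, one_mem _, by simpa using le_ZG _ hg⟩,
      ← C.Inn_eq, H.relIndex_four C h2 hn]
  · have hS : Φ.SIsom ≤ H.Sim0 := fun g hg => H.SO_le (g := ⟨g, hg.1⟩)
      ((H.good.dick_eq_one_iff H.nd h2).2 (mem_SIsom.1 hg).2)
    have h5 : M.β d ∈ ZG Φ.SIsom := ⟨c, k.1, mem_SIsom.2 ⟨k.2, (H.good.dick_eq_one_iff H.nd h2).1 hk⟩, hd⟩
    rw [split_eq C h H₀ H ht' ht hφ hS Φ.E_le_SIsom (fun x hx => (key2 x hx).elim (fun h => ZG_mono Φ.E_le_SIsom h)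
      fun h => (Subgroup.mul_mem_cancel_right _ h5).1 (ZG_mono Φ.E_le_SIsom h)) fun g hg => ?_]
    · have h6 := Subgroup.relIndex_mul_relIndex _ _ _ (Inn_le_range C (hS.trans H.le_NrmL) Φ.E_le_SIsom)
        (C.range_mono _ H.le_NrmL hS)
      rw [H.relIndex_four C h2 hn, H.pso_index C h2, if_pos hn] at h6
      omega
    have h6 : H.dk ⟨g, hg.1⟩ = 1 := (H.good.dick_eq_one_iff H.nd h2).2 (mem_SIsom.1 hg).2
    rcases Int.units_eq_one_or (H.sp ⟨g, hg.1⟩) with h7 | h7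
    · exact ⟨1, one_mem _, by simpa using le_ZG _ (H.mem_E.2 ⟨h6, h7⟩)⟩
    · refine ⟨d, H₀.mem_Sim0.2 ⟨hd2, hd3⟩, c, (⟨g, hg.1⟩ * k : Φ.Isom).1, H.mem_E.2 ⟨?_, ?_⟩, ?_⟩
      · rw [map_mul, h6, hk, one_mul]
      · rw [map_mul, h7, Int.units_ne_iff_eq_neg.1 h4]; rfl
      · rw [hd, ← mul_assoc, ← scal_comm]; rfl

end Ty

theorem Cov.Fth.exists_pow {F V : Type*} [Field F] [Finite F] [AddCommGroup V] [Module F V] [Nontrivial V]
    {G : Subgroup (V ≃ₗ[F] V)} {P : Type*} [Group P] {C : Cov G P} (hC : C.Fth) (s : Nrm G)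
    (hr : (orderOf (C.aut s)).Prime) (h1 : s.1.τ ≠ 1) :
    orderOf s.1.τ = orderOf (C.aut s) ∧ ∃ d, (GamL.lin (scal V d) * s.1) ^ orderOf s.1.τ = 1 := by
  have h2 := pow_orderOf_eq_one (C.aut s)
  rw [← map_pow] at h2
  have h3 := hC _ h2
  have h4 : orderOf s.1.τ = orderOf (C.aut s) := by
    haveI := Fact.mk hr
    refine orderOf_eq_prime ?_ h1
    obtain ⟨c, hc⟩ := h3
    rw [← GamL.pow_τ]
    exact congrArg GamL.τ hc
  exact ⟨h4, exists_pow_eq_one (h4 ▸ h3)⟩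

section Plus
variable {F : Type*} [Field F] {m : ℕ}

/-- diagonal isometries -/
noncomputable def dgL (a : Fin m → Fˣ) : (Fin m ⊕ Fin m → F) ≃ₗ[F] (Fin m ⊕ Fin m → F) :=
  LinearEquiv.piCongrRight fun i => LinearEquiv.smulOfUnit (Sum.elim a (fun j => (a j)⁻¹) i)

@[simp] theorem dgL_inl (a : Fin m → Fˣ) (v i) : dgL a v (.inl i) = a i * v (.inl i) := rfl
@[simp] theorem dgL_inr (a : Fin m → Fˣ) (v i) : dgL a v (.inr i) = (a i : F)⁻¹ * v (.inr i) := by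
  rw [← Units.val_inv_eq_inv_val]; rfl

/-- diagonal isometries -/
noncomputable def dg : (Fin m → Fˣ) →* (plusForm m F).Isom := MonoidHom.mk' (fun a => ⟨dgL a,
  isSemi_lin_one (isSemi_orth one_ne_zero fun v => by
    simp only [plusForm_N, Cfsg.quadFormPlus, GamL.lin_g, dgL_inl, dgL_inr, GamL.lin_τ, one_mul,
      RingEquiv.refl_apply]
    exact Finset.sum_congr rfl fun i _ => by field_simp)⟩) fun a b => Subtype.ext (by
  ext v (i | i) <;> simp [mul_assoc, mul_left_comm])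

theorem hyp_plus (i : Fin m) : (plusForm m F).IsHyp (Pi.single (.inl i) 1) (Pi.single (.inr i) 1) :=
  ⟨by simp [plusForm_N, Cfsg.quadFormPlus], by simp [plusForm_N, Cfsg.quadFormPlus],
    by simp [plusForm_B, Pi.single_apply]⟩

theorem dg_single (i : Fin m) (x : Fˣ) :
    dg (Pi.mulSingle i x) = ⟨(plusForm m F).dil _ _ (hyp_plus i) x, dil_mem _ _ _ _ _⟩ := Subtype.ext (by
  change dgL _ = _
  ext v (j | j) <;> by_cases h : j = i <;> simp [dil_apply, plusForm_B, Pi.single_apply, h] <;> ring)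

variable [Finite F] (H : Ev (plusForm m F) m)

theorem dk_dg (a) : H.dk (dg a) = 1 :=
  DFunLike.congr_fun (MonoidHom.pi_ext (f := H.dk.comp dg) (g := 1) fun i x => by
    simp [dg_single, H.good.dick_dil]) a

theorem sp_dg (a) : H.sp (dg a) = ∏ i, sqSign F (a i) := by
  have := DFunLike.congr_fun (MonoidHom.pi_ext (f := H.sp.comp dg)
    (g := ∏ i, (sqSign F).comp (Pi.evalMonoidHom _ i)) fun i x => by
    simp only [MonoidHom.comp_apply, dg_single, H.good.spin_dil, MonoidHom.finset_prod_apply,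
      Pi.evalMonoidHom_apply]
    rw [Finset.prod_eq_single i (fun j _ hj => by simp [hj]) (by simp)]; simp) a
  simpa using this

variable {F₀ : Type*} [Field F₀] [Finite F₀] {φ : F₀ →+* F} {σ : F ≃+* F}

theorem exists_sqrt (hφ : Desc φ σ) (ho : orderOf σ = 2) (h2 : (2 : F) ≠ 0) :
    Nat.card F % 4 = 1 ∧ ∃ (a : F₀ˣ) (c b : Fˣ), sqSign F₀ a = -1 ∧ (c : F) ^ 2 = φ a ∧
      sqSign F c = (if Nat.card F₀ % 4 = 1 then -1 else 1) ∧ (b : F) * σ b = φ a ∧ sqSign F b = -1 := by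
  classical
  letI := Fintype.ofFinite F
  letI := Fintype.ofFinite F₀
  have h2' := (two_ne_of_hom φ).2 h2
  have r1 : ringChar F ≠ 2 := fun h => h2 (by exact_mod_cast (ringChar.spec F 2).2 (h ▸ dvd_rfl))
  have r2 : ringChar F₀ ≠ 2 := fun h => h2' (by exact_mod_cast (ringChar.spec F₀ 2).2 (h ▸ dvd_rfl))
  have hc := hφ.card
  rw [ho] at hc
  obtain ⟨k, hk⟩ : Odd (Nat.card F₀) := by
    rw [Nat.card_eq_fintype_card, Nat.odd_iff]; exact FiniteField.odd_card_of_char_ne_two r2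
  have hc' : Nat.card F = 2 * (2 * (k * (k + 1))) + 1 := by rw [hc, hk]; ring
  refine ⟨by omega, ?_⟩
  obtain ⟨a, ha⟩ := FiniteField.exists_nonsquare r2
  have ha0 : a ≠ 0 := by rintro rfl; exact ha IsSquare.zero
  lift a to F₀ˣ using ha0.isUnit
  obtain ⟨c, hc1⟩ := sqSign_eq_one_iff.1 (sqSign_even hφ (by rw [ho]; decide) a)
  have hc0 : c ≠ 0 := by rintro rfl; simp at hc1
  lift c to Fˣ using hc0.isUnit
  replace hc1 : (c : F) ^ 2 = φ a := by rw [_root_.sq, ← hc1]; rfl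
  obtain ⟨b, hb⟩ := exists_nm (c := Units.map φ.toMonoidHom a) (hφ.fix a)
  replace hb : (b : F) * σ b = φ a := by
    simpa [nm_apply, ho, Finset.prod_range_succ] using congrArg Units.val hb
  refine ⟨a, c, b, sqSign_eq_neg_one_iff.2 ha, hc1, ?_, hb, sqSign_eq_neg_one_iff.2 ?_⟩
  · have h3 : (a : F₀) ^ k = -1 := by
      have := (FiniteField.pow_dichotomy r2 ha0).resolve_left (mt (FiniteField.isSquare_iff r2 ha0).2 ha)
      rwa [← Nat.card_eq_fintype_card, show Nat.card F₀ / 2 = k by omega] at this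
    have h4 : IsSquare (c : F) ↔ Even (k + 1) := by
      rw [FiniteField.isSquare_iff r1 hc0, ← Nat.card_eq_fintype_card,
        show Nat.card F / 2 = 2 * (k * (k + 1)) by omega, pow_mul, hc1, pow_mul, ← map_pow, h3, map_neg, map_one,
        neg_one_pow_eq_one_iff_even fun h => h2 (by linear_combination -h)]
    rw [Nat.even_iff] at h4
    split_ifs with h5
    · exact sqSign_eq_neg_one_iff.2 fun h => by have := h4.1 h; omega
    · exact sqSign_eq_one_iff.2 (h4.2 (by omega))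
  · rintro ⟨e, he⟩
    have h3 : σ (σ e) = e := by
      have := pow_orderOf_eq_one σ
      rw [ho, _root_.sq] at this
      exact DFunLike.congr_fun this e
    obtain ⟨d, hd⟩ := (hφ (e * σ e)).1 (by rw [map_mul, h3, mul_comm])
    exact ha ⟨d, φ.injective (by rw [← hb, map_mul, hd, he, map_mul]; ring)⟩

omit [Finite F₀] in
theorem ty_fld (hφ : Desc φ σ) [Finite F₀] : Ty φ (plusForm m F) (fld _ σ) m 1 :=
  ⟨_, inferInstance, inferInstance, _, _, _, fm_fld hφ (bc_plus m), plusForm_isType m⟩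

variable {P : Type*} [Group P] (C : Cov (plusForm m F).E P)

theorem sp_neg_plus (h2 : (2 : F) ≠ 0) (h : Nat.card F % 4 = 1) : H.sp (negI _) = 1 := by
  letI := Fintype.ofFinite F
  rw [H.sp_neg h2 (η := 1) (plusForm_isType m), if_neg (by rw [← Nat.card_eq_fintype_card]; omega)]; rfl

theorem split_plus (hm : 3 ≤ m) (hφ : Desc φ σ) (ho : orderOf σ = 2) (h2 : (2 : F) ≠ 0) (hs) :
    Cfsg.splitClassCount (C.linAut H.le_NrmL).range (Cfsg.Inn P) (C.aut ⟨fld _ σ, Semi_le_Nrm_E hs⟩) =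
      if Odd m ∧ Nat.card F₀ % 4 = 1 then 2 else 4 := by
  obtain ⟨h1, a, c, -, ha, hc, h3, -⟩ := exists_sqrt hφ ho h2
  have h := fm_fld hφ (bc_plus (φ := φ) m)
  rw [split_even0 C h (h.ev H hm) H hs (fld_pow σ) hφ (by rw [fld_τ, ho]; decide) h2 (sp_neg_plus H h2 h1) ha hc
    (dk_dg H fun _ => c) (by
      refine LinearEquiv.ext fun v => ?_
      obtain ⟨v, rfl⟩ := (fld _ σ).g.surjective v
      rw [GamL.cj_g]
      change (fld _ σ).g ((c : F) • dgL _ v) = (c : F) • dgL _ _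
      ext (i | i) <;> simp [fld_g, ← mul_assoc, ← _root_.sq, ← map_pow, hc, hφ.fix]),
    sp_dg, Finset.prod_const, h3]
  by_cases h4 : Nat.card F₀ % 4 = 1 <;> rcases Nat.even_or_odd m with h5 | h5 <;>
    simp [h4, h5, h5.neg_one_pow, Nat.not_odd_iff_even.2]

theorem exists_gf (hm : 3 ≤ m) (hφ : Desc φ σ) (ho : orderOf σ = 2) (h2 : (2 : F) ≠ 0) :
    ∃ (t : GamL F _) (ht : t ∈ Semi (plusForm m F)), t.τ = σ ∧ Ty φ (plusForm m F) t m (-1) ∧
      Cfsg.splitClassCount (C.linAut H.le_NrmL).range (Cfsg.Inn P) (C.aut ⟨t, Semi_le_Nrm_E ht⟩) =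
      if Odd m ∧ Nat.card F₀ % 4 = 1 then 4 else 2 := by
  letI := Fintype.ofFinite F
  obtain ⟨h1, a, c, b, ha, hc, h3, hb, h4⟩ := exists_sqrt hφ ho h2
  let i₀ : Fin m := ⟨0, by omega⟩
  let w : Fin m ⊕ Fin m → F := Pi.single (.inl i₀) 1 - Pi.single (.inr i₀) 1
  have hw : (plusForm m F).N w = -1 := by
    simp [w, plusForm_N, Cfsg.quadFormPlus, Pi.single_apply]
  have hw' : (plusForm m F).N w ≠ 0 := by simp [hw]
  have hr : ∀ v i, (plusForm m F).refl w hw' v i =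
      v (if i = .inl i₀ then .inr i₀ else if i = .inr i₀ then .inl i₀ else i) := fun v i => by
    rw [refl_apply, hw]
    rcases i with i | i <;> by_cases h : i = i₀ <;> 
      simp [w, plusForm_B, Pi.single_apply, h, mul_sub, Finset.sum_add_distrib]
  let r : Sim (plusForm m F) := inI _ (reflI _ w hw')
  have hs := plus_fld_mem m σ
  have hσ : ∀ x, σ (σ x) = x := fun x => by
    have := pow_orderOf_eq_one σ
    rw [ho, _root_.sq] at this
    exact DFunLike.congr_fun this x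
  have ht : (GamL.lin r.1 * fld _ σ) ^ orderOf σ = 1 := by
    haveI := H.nt
    rw [ho, _root_.sq]
    refine GamL.ext_g fun v => ?_
    change (plusForm m F).refl w hw' ((fld _ σ).g ((plusForm m F).refl w hw' ((fld _ σ).g v))) = v
    ext (i | i) <;> by_cases h : i = i₀ <;> simp [hr, fld_g, h, hσ]
  have hT := (ty_fld (m := m) hφ).opp H hm hφ hs (g := r) (by simp [r]) ht
  refine ⟨_, mul_mem r.2 hs, rfl, hT, ?_⟩
  obtain ⟨ι, _, _, M, Φ₀, l, h, -⟩ := hT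
  rw [split_even0 C h (h.ev H hm) H (mul_mem r.2 hs) ht hφ (by change Even (orderOf σ); rw [ho]; decide) h2
    (sp_neg_plus H h2 h1) ha hc (dk_dg H (Function.update (fun _ => c) i₀ (b / c))) (by
      refine LinearEquiv.ext fun v => ?_
      obtain ⟨v, rfl⟩ := (GamL.lin r.1 * fld _ σ).g.surjective v
      rw [GamL.cj_g]
      change (plusForm m F).refl w hw' ((fld _ σ).g ((c : F) • dgL _ v)) =
        (c : F) • dgL _ ((plusForm m F).refl w hw' ((fld _ σ).g v))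
      have e1 : σ (c : F) ^ 2 = c ^ 2 := by rw [← map_pow, hc, hφ.fix]
      have e2 : (c : F) ^ 2 = b * σ b := hc.trans hb.symm
      have := c.ne_zero
      have := b.ne_zero
      have : σ c ≠ 0 := by simp
      have : σ b ≠ 0 := by simp
      ext (i | i) <;> by_cases h : i = i₀ <;> simp [hr, fld_g, h] <;> field_simp <;> simp only [e1, e2] <;> ring),
    sp_dg]
  have : ∏ i, sqSign F (Function.update (fun _ => c) i₀ (b / c) i) = -sqSign F c ^ m := by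
    rw [← map_prod, Finset.prod_update_of_mem (Finset.mem_univ _), map_mul, map_div, h4, Finset.prod_const,
      map_pow, Finset.card_sdiff, Finset.card_univ, Fintype.card_fin]
    obtain ⟨n, rfl⟩ := Nat.exists_eq_add_of_le' (show 1 ≤ m by omega)
    rcases Int.units_eq_one_or (sqSign F c) with h | h <;> simp [h, pow_succ]
  rw [this, h3]
  by_cases h4 : Nat.card F₀ % 4 = 1 <;> rcases Nat.even_or_odd m with h5 | h5 <;>
    simp [h4, h5, h5.neg_one_pow, Nat.not_odd_iff_even.2]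

theorem gf_conj_mem {s : GamL F (Fin m ⊕ Fin m → F)} (hs : s ∈ Semi (plusForm m F)) (g : Sim (plusForm m F))
    (σ : F ≃+* F) : ∃ k : Sim (plusForm m F), H.dS k = H.dS g ∧
      s * (GamL.lin g.1 * fld _ σ) * s⁻¹ = GamL.lin k.1 * fld _ σ := by
  letI := Fintype.ofFinite F
  haveI := isCyclic_autF F
  obtain ⟨x, hx⟩ := GamL.exists_lin (s := s * (fld _ s.τ)⁻¹) fun c => by simp
  have h1 : x ∈ Sim (plusForm m F) := by
    change GamL.lin x ∈ Semi _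
    rw [hx]; exact mul_mem hs (inv_mem (plus_fld_mem m _))
  refine ⟨⟨x, h1⟩ * cjS ⟨_, plus_fld_mem m s.τ⟩ g * cjS ⟨_, plus_fld_mem m σ⟩ ⟨x, h1⟩⁻¹, ?_, ?_⟩
  · rw [map_mul, map_mul, H.dS_cjS, H.dS_cjS, map_inv, mul_right_comm, mul_inv_cancel, one_mul]
  · change _ = GamL.lin (x * (fld _ s.τ).cj g.1 * (fld _ σ).cj x⁻¹) * _
    have h2 : fld (Fin m ⊕ Fin m) σ * (fld _ s.τ)⁻¹ = (fld _ s.τ)⁻¹ * fld _ σ := by
      rw [← map_inv, ← map_mul, ← map_mul, IsCyclic.commutative.is_comm.comm σ]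
    rw [map_mul, map_mul, GamL.lin_cj_eq, GamL.lin_cj_eq, map_inv, hx]
    simp only [_root_.mul_inv_rev, inv_inv, mul_assoc, inv_mul_cancel_left, inv_mul_cancel, mul_one]
    rw [← mul_assoc (fld _ s.τ)⁻¹, ← h2]
    simp only [mul_assoc, inv_mul_cancel_left]

end Plus

section Transport
variable {F : Type*} [Field F] [Finite F] {ι : Type} [Fintype ι] [DecidableEq ι] {V : Type*} [AddCommGroup V]
  [Module F V] [FiniteDimensional F V] {Φ : Form (Kind.orth F) (ι → F)} {Ψ : Form (Kind.orth F) V} {m : ℕ}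
  {P P' : Type*} [Group P] [Group P']

theorem congr_mem_Sim0 (H : Ev Φ m) (H' : Ev Ψ m) (h : Φ.Iso Ψ) (C : Cov Φ.E P) (C' : Cov Ψ.E P') (ψ : P ≃* P')
    (hr : (semiAut C').range = ⊤) (β : MulAut P) :
    MulAut.congr ψ β ∈ (C'.linAut H'.le_NrmL).range ↔ β ∈ (C.linAut H.le_NrmL).range := by
  haveI := normal_Sim0 C' H' hr
  obtain ⟨e, hB, hN⟩ := h
  let M : Md (RingHom.id F) ι (1 : GamL F V) := ⟨e, fun _ => rfl⟩
  have hM : M.Fm Φ Ψ 1 := ⟨one_ne_zero, rfl, fun _ => rfl, fun u v => (hB u v).trans (one_mul _).symm,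
    fun v => (hN v).trans (one_mul _).symm⟩
  have hD : Desc (RingHom.id F) (1 : GamL F V).τ := fun a => ⟨fun _ => ⟨a, rfl⟩, fun _ => rfl⟩
  have ho : Odd (orderOf (1 : GamL F V).τ) := by rw [show (1 : GamL F V).τ = 1 from rfl, orderOf_one]; decide
  have h1 : ∀ x, M.β x = cgl e x := fun x => M.ext_j fun v => (M.β_j x v).trans (cgl_apply' e x v).symm
  have h2 : ∀ x, x ∈ Φ.E ↔ cgl e x ∈ Ψ.E := fun x => by
    refine ⟨fun hx => ?_, fun hx => ?_⟩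
    · have := H.mem_E.1 (show (⟨x, Φ.E_le hx⟩ : Φ.Isom).1 ∈ _ from hx)
      rw [← h1]
      exact H'.mem_E.2 ⟨(hM.dick H.good H.nd _ _ _).trans this.1,
        (hM.sp_odd H H' hD ho this.1).trans this.2⟩
    · rw [← h1] at hx
      have h3 := hM.isom.1 (Ψ.E_le hx)
      have := H'.mem_E.1 (show (hM.bcI ⟨x, h3⟩).1 ∈ _ from hx)
      have h4 := (hM.dick H.good H.nd _ _ _).symm.trans this.1
      exact H.mem_E.2 ⟨h4, (hM.sp_odd H H' hD ho h4).symm.trans this.2⟩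
  let c : Φ.E ≃* Ψ.E := ⟨(cgl e).toEquiv.subtypeEquiv h2, fun x y => Subtype.ext (map_mul (cgl e) _ _)⟩
  obtain ⟨θ, hθ⟩ := exists_equiv_of_ker C.π C.surj (C'.π.comp c.toMonoidHom) (C'.surj.comp c.surjective) fun x => by
    rw [C.ker, MonoidHom.comp_apply, C'.ker, ← M.isSc_β hD, h1]; rfl
  have h3 : ∀ g (hg : g ∈ H.Sim0) (hg' : cgl e g ∈ H'.Sim0),
      MulAut.congr θ (C.linAut H.le_NrmL ⟨g, hg⟩) = C'.linAut H'.le_NrmL ⟨_, hg'⟩ := fun g hg hg' => by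
    refine MulEquiv.ext fun y => ?_
    obtain ⟨y, rfl⟩ := θ.surjective y
    obtain ⟨x, rfl⟩ := C.surj y
    rw [MulAut.congr_apply, MulEquiv.trans_apply, MulEquiv.trans_apply, MulEquiv.symm_apply_apply,
      Cov.linAut_apply, Cov.linAut_apply, Cov.aut_π, hθ, hθ, MonoidHom.comp_apply, MonoidHom.comp_apply, Cov.aut_π]
    congr 1
    exact Subtype.ext (cg_cj e (GamL.lin g) x.1).symm
  have h4 : MulAut.congr ψ β = MulAut.conj (θ.symm.trans ψ : MulAut P') (MulAut.congr θ β) := by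
    ext; simp
  rw [h4, conj_mem_iff']
  constructor
  · rintro ⟨⟨g, hg⟩, h5⟩
    obtain ⟨g, rfl⟩ := (cgl e).surjective g
    have hg' := (hM.sim0 H H').1 (h1 g ▸ hg)
    exact ⟨⟨g, hg'⟩, (MulAut.congr θ).injective ((h3 g hg' hg).trans h5)⟩
  · rintro ⟨⟨g, hg⟩, rfl⟩
    exact ⟨_, (h3 g hg (h1 g ▸ (hM.sim0 H H').2 hg)).symm⟩

end Transport

section Models
variable {F : Type*} [Field F] [Fintype F] {m : ℕ}

/-- the standard model of plus type -/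
noncomputable def covP (m : ℕ) (hm : 3 ≤ m) (F : Type*) [Field F] [Fintype F] :
    Cov (plusForm m F).E (Cfsg.POmega F (Cfsg.quadFormPlus m F)) :=
  (repO (plusForm m F) (plusForm_nondeg m) (by rw [finrank_sum]; omega)).cov

theorem covP_inn (hm : 3 ≤ m) :
    Cfsg.inndiagPOmegaPlus m F = ((covP m hm F).linAut (ev_plus m hm).le_NrmL).range := inndiagPlus_eq _ _

theorem covP_range (hm : 3 ≤ m) (h : 5 ≤ m) : (semiAut (covP m hm F)).range = ⊤ := range_plus m h _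

theorem covP_fld (hm : 3 ≤ m) {σ β} : Cfsg.IsFieldAutPOmegaOf (Cfsg.quadFormPlus m F) σ β ↔
    β = (covP m hm F).aut ⟨_, Semi_le_Nrm_E (plus_fld_mem m σ)⟩ :=
  (repO (plusForm m F) (plusForm_nondeg m) _).ind_fld_iff _

theorem covP_ind (hm : 3 ≤ m) {g σ β} (h) : Cfsg.IsInducedBySemilinearPOmega (Cfsg.quadFormPlus m F) g σ β ↔
    β = (covP m hm F).aut ⟨gamOf g σ, h⟩ :=
  (repO (plusForm m F) (plusForm_nondeg m) _).ind_iff _

/-- the standard model of minus type -/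
noncomputable def covM (m : ℕ) (hm : 2 ≤ m) {a b : F} (hab : An a b) :
    Cov (minusForm m F a b).E (Cfsg.POmega F (Cfsg.quadFormMinus m F a b)) :=
  (repO (minusForm m F a b) (minusForm_nondeg m hab) (by rw [finrank_minus]; omega)).cov

variable {a b : F}

theorem covM_inn (hm : 2 ≤ m) (hab : An a b) : Cfsg.inndiagPOmegaMinus m F a b =
    ((covM m hm hab).linAut (ev_minus m hm hab).le_NrmL).range := inndiagMinus_eq hab _ hm _

theorem covM_range (hm : 2 ≤ m) (hab : An a b) : (semiAut (covM m hm hab)).range = ⊤ := range_minus m hab _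

theorem covM_fld (hm : 2 ≤ m) (hab : An a b) {σ β} (ha : σ a = a) (hb : σ b = b) :
    Cfsg.IsFieldAutPOmegaOf (Cfsg.quadFormMinus m F a b) σ β ↔
      β = (covM m hm hab).aut ⟨_, Semi_le_Nrm_E ⟨_, minus_fld m σ ha hb⟩⟩ :=
  (repO (minusForm m F a b) (minusForm_nondeg m hab) _).ind_fld_iff _

theorem congr_minus (hm : 2 ≤ m) (hab : An a b) {a' b' : F} (hab' : An a' b') (ψ) (β) :
    MulAut.congr ψ β ∈ ((covM m hm hab').linAut (ev_minus m hm hab').le_NrmL).range ↔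
      β ∈ ((covM m hm hab).linAut (ev_minus m hm hab).le_NrmL).range :=
  congr_mem_Sim0 _ _ (orth_iso_even _ _ _ _ (minusForm_nondeg m hab) (minusForm_nondeg m hab')
    (minusForm_isType m hab) (minusForm_isType m hab')) _ _ ψ (covM_range hm hab') β

theorem gf_class (hm : 3 ≤ m) (h5 : 5 ≤ m) {x} (hx : Cfsg.IsGraphFieldAutClassPOmegaPlus m x)
    (hr : (orderOf x).Prime) : ∃ (σ : F ≃+* F) (g : Sim (plusForm m F)), (ev_plus m hm).dS g = -1 ∧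
      (GamL.lin g.1 * fld _ σ) ^ orderOf σ = 1 ∧ orderOf σ = orderOf x ∧
      x = (covP m hm F).aut ⟨_, Semi_le_Nrm_E (mul_mem g.2 (plus_fld_mem m σ))⟩ := by
  have H := ev_plus (F := F) m hm
  haveI := H.nt
  obtain ⟨α, γ, φ, σ, v, r, h0, hv, -, h1, h2, h3, h4⟩ := hx
  replace hv : (plusForm m F).N v ≠ 0 := hv
  have h6 : glEquiv r = (plusForm m F).refl v hv := LinearEquiv.ext fun u => by
    rw [refl_apply, ← reflectionMatrix_mulVec, plusForm_N, ← h1]; rfl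
  have h7 : gamOf r (RingEquiv.refl F) = GamL.lin (inI _ (reflI _ v hv)).1 := congrArg GamL.lin h6
  obtain ⟨s, hs⟩ := (covP_range hm h5).ge (Subgroup.mem_top α⁻¹)
  obtain ⟨k, h8, h9⟩ := gf_conj_mem H s.2 (inI _ (reflI _ v hv)) σ
  have h10 : x = (covP m hm F).aut ⟨_, Semi_le_Nrm_E (mul_mem k.2 (plus_fld_mem m σ))⟩ := by
    rw [(covP_ind hm (h7 ▸ Sim_le_NrmL (inI _ (reflI _ v hv)).2)).1 h2, (covP_fld hm).1 h3, mul_inv_eq_iff_eq_mul,
      ← eq_inv_mul_iff_mul_eq, ← inv_inv α, inv_inv α⁻¹, ← hs] at h4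
    rw [h4, semiAut, MonoidHom.comp_apply, ← map_inv, ← map_mul, ← map_mul, ← map_mul]
    congr 1
    rw [← h7, mul_assoc] at h9
    exact Subtype.ext h9
  obtain ⟨e1, d, e2⟩ := (fth_orth H.nd H.three _).exists_pow _ (h10 ▸ hr) h0
  refine ⟨σ, scS _ d * k, by simp [h8], ?_, h10 ▸ e1, ?_⟩
  · rw [← e2, Subgroup.coe_mul, map_mul, mul_assoc]; rfl
  · rw [h10, eq_comm]
    exact (fth_orth H.nd H.three _).aut_eq_iff.2 ⟨d, by
      change GamL.lin (scal _ d * k.1) * _ = _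
      rw [map_mul, mul_assoc]⟩

end Models

end Cfsg.Agent.Perm.Aut
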