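import Cfsg.Agent.Lib.Perm.Aut1
import Cfsg.Agent.Lib.Classical.Irred

/-! Automorphisms of the classical groups of a form: unipotent radicals of point stabilisers. -/

set_option autoImplicit false

namespace Cfsg.Agent.Perm.Aut

open Module Cfsg.Agent.Classical Cfsg.Agent.Classical.Form

section
variable {F V : Type*} [Field F] [AddCommGroup V] [Module F V] {K : Kind F} {Φ : Form K V}

theorem eich_mem_U {e y : V} {a : F} (h : Φ.IsEich e y a) : Φ.eich e y a h ∈ Φ.Ugrp e h.he :=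
  ⟨y, a, h, rfl⟩

theorem eich_inj {e f y y' : V} {a a' : F} (h : Φ.IsHyp e f) (hy : y ∈ Φ.hperp e f)
    (hy' : y' ∈ Φ.hperp e f) {h1 h2} (heq : Φ.eich e y a h1 f = Φ.eich e y' a' h2 f) : y = y' ∧ a = a' := by
  rw [h.eich_f hy, h.eich_f hy'] at heq
  have h3 := congrArg (fun x => Φ.B x f) heq
  simp only [map_sub, LinearMap.sub_apply, (Φ.mem_hperp.1 hy).2, (Φ.mem_hperp.1 hy').2,
    Φ.B_smul_left, h.hef, mul_one, sub_right_inj] at h3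
  subst h3
  exact ⟨by simpa using heq, rfl⟩

theorem exists_eich_W {e f : V} (h : Φ.IsHyp e f) {x : V ≃ₗ[F] V} (hx : x ∈ Φ.Ugrp e h.he) :
    ∃ y a h', y ∈ Φ.hperp e f ∧ x = Φ.eich e y a h' := by
  obtain ⟨y, a, h', rfl⟩ := hx
  obtain ⟨α, β, w, hw, rfl⟩ := h.decomp y
  have h1 := h'.hy
  rw [h.B_e _ _ hw] at h1
  have hβ : β = 0 := by simpa [K.ε_ne] using h1
  subst hβ
  have h2 := h'.ha
  rw [h.N_decomp _ _ hw] at h2
  refine ⟨w, a + α - K.ε * K.σ α, ⟨h.he, (Φ.mem_hperp.1 hw).1, ?_⟩, hw, ?_⟩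
  · rw [map_sub, map_add, K.T_conj, h2]; simp
  · ext x
    have := K.εε
    simp only [eich_apply, map_add, Φ.B_smul_right, map_zero, zero_smul, add_zero, zero_mul]
    match_scalars
    · ring
    · linear_combination (-K.σ α * Φ.B x e) * this
    · ring

theorem eq_one_of_fix {e f : V} (h : Φ.IsHyp e f) {g : V ≃ₗ[F] V} (he : g e = e) (hf : g f = f)
    (hW : ∀ y ∈ Φ.hperp e f, g y = y) : g = 1 := by
  ext v
  obtain ⟨a, b, y, hy, rfl⟩ := h.decomp v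
  simp [he, hf, hW y hy]

theorem mem_span_inf {e f y : V} (h : Φ.IsHyp e f) (hy : y ∈ Φ.hperp e f) (h' : y ∈ (F ∙ e)) : y = 0 := by
  obtain ⟨c, rfl⟩ := Submodule.mem_span_singleton.1 h'
  have := (Φ.mem_hperp.1 hy).2
  rw [Φ.B_smul_left, h.hef, mul_one] at this
  rw [this, zero_smul]

theorem mem_U_of {e f : V} (h : Φ.IsHyp e f) {g : V ≃ₗ[F] V} (hg : g ∈ Φ.Isom) (he : g e = e)
    (hW : ∀ y ∈ Φ.hperp e f, g y - y ∈ (F ∙ e)) : g ∈ Φ.Ugrp e h.he := by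
  have h1 : Φ.IsHyp e (g f) := by simpa [he] using h.map hg
  obtain ⟨y, a, h2, hy, h3⟩ := h.exists_eich h1
  have hx := Φ.eich_mem e y a h2
  have h4 : (Φ.eich e y a h2)⁻¹ * g = 1 := by
    have e1 : ((Φ.eich e y a h2)⁻¹ * g) e = e := by
      rw [LinearEquiv.mul_apply, he, LinearEquiv.coe_inv, LinearEquiv.symm_apply_eq, eich_self]
    have e2 : ((Φ.eich e y a h2)⁻¹ * g) f = f := by
      rw [LinearEquiv.mul_apply, LinearEquiv.coe_inv, LinearEquiv.symm_apply_eq, h3]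
    refine eq_one_of_fix h e1 e2 fun w hw => ?_
    have e3 := (IsHyp.stab_hperp (mul_mem (inv_mem hx) hg) e1 e2 w).1 hw
    refine sub_eq_zero.1 (mem_span_inf h (sub_mem e3 hw) ?_)
    obtain ⟨c, hc⟩ := Submodule.mem_span_singleton.1 (hW w hw)
    rw [LinearEquiv.mul_apply, eich_inv, show g w = w + c • e by rw [hc]; abel, map_add, map_smul,
      eich_self, eich_of_perp _ _ _ _ _ (Φ.mem_hperp.1 hw).1]
    rw [show w + Φ.B w (-y) • e + c • e - w = (Φ.B w (-y) + c) • e by module]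
    exact Submodule.smul_mem _ _ (Submodule.mem_span_singleton_self e)
  rw [inv_mul_eq_one] at h4
  rw [← h4]; exact eich_mem_U h2

theorem U_sub_mem {e : V} {he} {x : V ≃ₗ[F] V} (hx : x ∈ Φ.Ugrp e he) {v : V} (hv : Φ.B v e = 0) :
    x v - v ∈ (F ∙ e) := by
  obtain ⟨y, a, h, rfl⟩ := hx
  rw [eich_of_perp _ _ _ _ _ hv, add_sub_cancel_left]
  exact Submodule.smul_mem _ _ (Submodule.mem_span_singleton_self e)

theorem U_self {e : V} {he} {x : V ≃ₗ[F] V} (hx : x ∈ Φ.Ugrp e he) : x e = e := by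
  obtain ⟨y, a, h, rfl⟩ := hx
  exact eich_self _ _ _ _ _

theorem eich_mem_Ur {u y : V} {a : F} (h : Φ.IsEich u y a) {C : Submodule F V} (hC : C ≤ Φ.perp C)
    (hu : u ∈ C) (hy : y ∈ Φ.perp C) : Φ.eich u y a h ∈ Ur Φ.E (Φ.perp C) C := by
  refine ⟨Φ.eich_mem_E _ _ _ _, fun v => ?_, fun v hv => ?_, fun v hv => ?_⟩
  · rw [eich_apply, show v + Φ.B v y • u - (K.ε * Φ.B v u) • y - (K.ε * a * Φ.B v u) • u - v =
      Φ.B v y • u - (K.ε * Φ.B v u) • y - (K.ε * a * Φ.B v u) • u by abel]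
    exact sub_mem (sub_mem (Submodule.smul_mem _ _ (hC hu)) (Submodule.smul_mem _ _ hy))
      (Submodule.smul_mem _ _ (hC hu))
  · rw [eich_of_perp _ _ _ _ _ (Φ.mem_perp.1 hv u hu), add_sub_cancel_left]
    exact Submodule.smul_mem _ _ hu
  · rw [eich_of_perp _ _ _ _ _ (Φ.mem_perp.1 (hC hv) u hu), Φ.mem_perp'.1 hy v hv, zero_smul, add_zero]

theorem span_le_perp {e : V} (he : Φ.N e = 0) : (F ∙ e) ≤ Φ.perp (F ∙ e) := by
  rw [Submodule.span_singleton_le_iff_mem, Φ.mem_perp_singleton]; exact Φ.B_self_of_N he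

theorem U_le_Ur {e : V} (he) : Φ.Ugrp e he ≤ Ur Φ.E (Φ.perp (F ∙ e)) (F ∙ e) := by
  rintro _ ⟨y, a, h, rfl⟩
  exact eich_mem_Ur h (span_le_perp he) (Submodule.mem_span_singleton_self e)
    (Φ.mem_perp_singleton.2 h.hy)

theorem U_isPGroup (p : ℕ) [Fact p.Prime] [CharP F p] {e : V} (he) : IsPGroup p (Φ.Ugrp e he) :=
  (Ur_isPGroup _ _ _).to_le (U_le_Ur he)

theorem eich_uni (p : ℕ) [Fact p.Prime] [CharP F p] {e y : V} {a : F} (h : Φ.IsEich e y a) :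
    Uni p (Φ.eich e y a h) := uni_of_mem (U_isPGroup p h.he) (eich_mem_U h)

theorem U_smul {e : V} {c : F} (hc : c ≠ 0) (he : Φ.N e = 0) (he' : Φ.N (c • e) = 0) :
    Φ.Ugrp (c • e) he' = Φ.Ugrp e he := by
  have key : ∀ {e : V} {c : F} (hc : c ≠ 0) (he : Φ.N e = 0) (he' : Φ.N (c • e) = 0),
      Φ.Ugrp (c • e) he' ≤ Φ.Ugrp e he := by
    rintro e c hc he he' _ ⟨y, a, h, rfl⟩
    rw [Φ.eich_smul h hc]; exact eich_mem_U _
  refine le_antisymm (key hc he he') ?_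
  have := key (inv_ne_zero hc) he' (by rw [smul_smul, inv_mul_cancel₀ hc, one_smul]; exact he)
  simpa [smul_smul, inv_mul_cancel₀ hc] using this

theorem U_conj {g : V ≃ₗ[F] V} (hg : g ∈ Φ.Isom) {e : V} (he : Φ.N e = 0) (he' : Φ.N (g e) = 0)
    (x : V ≃ₗ[F] V) : x ∈ Φ.Ugrp e he ↔ g * x * g⁻¹ ∈ Φ.Ugrp (g e) he' := by
  constructor
  · rintro ⟨y, a, h, rfl⟩
    rw [Φ.eich_conj hg]; exact eich_mem_U _
  · rintro ⟨y, a, h, e1⟩
    have : x = g⁻¹ * Φ.eich _ y a h * g⁻¹⁻¹ := by rw [← e1]; group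
    rw [this, Φ.eich_conj (inv_mem hg)]
    exact ⟨_, _, _, Φ.eich_congr' _ (by simp) rfl rfl⟩

theorem U_conj' {g : V ≃ₗ[F] V} (hg : g ∈ Φ.Isom) {e : V} (he : Φ.N e = 0) {c : F} (hc : c ≠ 0)
    (h : g e = c • e) (x : V ≃ₗ[F] V) : x ∈ Φ.Ugrp e he ↔ g * x * g⁻¹ ∈ Φ.Ugrp e he := by
  have h1 : Φ.N (g e) = 0 := by rw [hg.2, he]
  rw [U_conj hg he h1, ← U_smul hc he (h ▸ h1)]
  simp only [h]

variable [FiniteDimensional F V]

theorem mem_span_of_fix' (hR : Φ.Rich0) (hΦ : Φ.Nondeg) {e v : V} (he : Φ.Sing e)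
    (h : ∀ y a h, Φ.eich e y a h v = v) : v ∈ (F ∙ e) := by
  obtain ⟨f, hh⟩ := hΦ.exists_hyp he.1 he.2
  have h1 : Φ.B v e = 0 := by
    by_contra h1
    obtain ⟨y, a, hy, ha, ha0⟩ := hR _ _ hh
    have h2 := h y a ⟨he.2, (Φ.mem_hperp.1 hy).1, ha⟩
    rw [eich_apply] at h2
    have h3 : (K.ε * Φ.B v e) • y = (Φ.B v y - K.ε * a * Φ.B v e) • e := by
      linear_combination (norm := module) -h2
    have h4 := mem_span_inf hh (Submodule.smul_mem _ (K.ε * Φ.B v e) hy)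
      (by rw [h3]; exact Submodule.smul_mem _ _ (Submodule.mem_span_singleton_self e))
    have h5 : y = 0 := by simpa [K.ε_ne, h1] using h4
    subst h5
    simp [K.ε_ne, ha0, h1, he.1] at h3
  rw [← hΦ.perp_perp (F ∙ e), Φ.mem_perp]
  intro y hy
  obtain ⟨a, ha⟩ := Φ.N_range y
  have := h y a ⟨he.2, Φ.mem_perp_singleton.1 hy, ha⟩
  rw [Φ.eich_of_perp _ _ _ _ h1] at this
  simpa [he.1] using this

theorem mem_span_of_U_le (hR : Φ.Rich0) (hΦ : Φ.Nondeg) {e u : V} (he : Φ.Sing e) {hu}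
    (h : Φ.Ugrp e he.2 ≤ Φ.Ugrp u hu) : u ∈ (F ∙ e) :=
  mem_span_of_fix' hR hΦ he fun _ _ h' => U_self (h (eich_mem_U h'))

/-- the basic hypotheses -/
structure Nice (Φ : Form K V) (e f : V) : Prop where
  nd : Φ.Nondeg
  hyp : Φ.IsHyp e f
  rich : Φ.Rich0
  ne : ∃ y ∈ Φ.hperp e f, y ≠ 0
  irr : ∀ S : Submodule F V, S ≤ Φ.hperp e f → (∀ u ∈ Φ.hperp e f, ∀ y ∈ Φ.hperp e f, ∀ a h, ∀ v ∈ S,
    Φ.eich u y a h v ∈ S) → S = ⊥ ∨ S = Φ.hperp e f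

omit [FiniteDimensional F V] in
theorem eich_W_fix {e f u y : V} (hu : u ∈ Φ.hperp e f) (hy : y ∈ Φ.hperp e f) {a : F} (h) :
    Φ.eich u y a h e = e ∧ Φ.eich u y a h f = f := by
  obtain ⟨h1, h2⟩ := Φ.mem_hperp.1 hu
  obtain ⟨h3, h4⟩ := Φ.mem_hperp.1 hy
  constructor
  · rw [eich_of_perp _ _ _ _ _ (Φ.B_symm_zero h1), Φ.B_symm_zero h3, zero_smul, add_zero]
  · rw [eich_of_perp _ _ _ _ _ (Φ.B_symm_zero h2), Φ.B_symm_zero h4, zero_smul, add_zero]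

variable [Finite F] {p : ℕ} [Fact p.Prime] [CharP F p] {e f : V}

omit [FiniteDimensional F V] [Finite F] in
theorem decomp_perp (h : Φ.IsHyp e f) {v : V} (hv : Φ.B v e = 0) :
    ∃ a : F, ∃ y ∈ Φ.hperp e f, v = a • e + y := by
  obtain ⟨a, b, y, hy, rfl⟩ := h.decomp v
  rw [h.B_e _ _ hy] at hv
  have hb : b = 0 := by simpa [K.ε_ne] using hv
  exact ⟨a, y, hy, by simp [hb]⟩

theorem Nice.le_U (N : Nice Φ e f) {R : Subgroup (V ≃ₗ[F] V)} (hR : IsPGroup p R) (hI : R ≤ Φ.Isom)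
    (he : ∀ x ∈ R, x e = e) (hn : ∀ u ∈ Φ.hperp e f, ∀ y ∈ Φ.hperp e f, ∀ a h, ∀ x ∈ R,
      Φ.eich u y a h * x * (Φ.eich u y a h)⁻¹ ∈ R) : R ≤ Φ.Ugrp e N.hyp.he := by
  haveI : Finite V := Module.finite_of_finite F
  let S : Submodule F V :=
    { carrier := {w | w ∈ Φ.hperp e f ∧ ∀ x ∈ R, x w - w ∈ (F ∙ e)}
      zero_mem' := ⟨zero_mem _, by simp⟩
      add_mem' := fun {a b} ha hb => ⟨add_mem ha.1 hb.1, fun x hx => by
        rw [map_add, add_sub_add_comm]; exact add_mem (ha.2 x hx) (hb.2 x hx)⟩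
      smul_mem' := fun c a ha => ⟨Submodule.smul_mem _ _ ha.1, fun x hx => by
        rw [map_smul, ← smul_sub]; exact Submodule.smul_mem _ _ (ha.2 x hx)⟩ }
  have hS := N.irr S (fun w hw => hw.1) (by
    intro u hu y hy a h v hv
    obtain ⟨h1, h2⟩ := eich_W_fix hu hy h
    refine ⟨(IsHyp.stab_hperp (Φ.eich_mem _ _ _ _) h1 h2 v).1 hv.1, fun x hx => ?_⟩
    have h3 := hn u hu (-y) (neg_mem hy) _ h.neg x hx
    rw [← Φ.eich_inv h, inv_inv] at h3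
    obtain ⟨c, hc⟩ := Submodule.mem_span_singleton.1 (hv.2 _ h3)
    have h4 := congrArg (Φ.eich u y a h) hc
    rw [map_smul, h1, map_sub] at h4
    rw [show x (Φ.eich u y a h v) - Φ.eich u y a h v = c • e by rw [h4]; simp]
    exact Submodule.smul_mem _ _ (Submodule.mem_span_singleton_self e))
  have hS' : S = Φ.hperp e f := by
    refine hS.resolve_left ?_
    obtain ⟨v, hv, hv0, h⟩ := exists_fixed hR (A := F ∙ e) (B := Φ.perp (F ∙ e)) (by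
      intro x hx v hv
      obtain ⟨c, rfl⟩ := Submodule.mem_span_singleton.1 hv
      rw [map_smul, he x hx]; exact hv) (by
      intro x hx v hv
      rw [Φ.mem_perp_singleton] at hv ⊢
      rw [← he x hx, (hI hx).1, hv]) (by
      obtain ⟨y, hy, hy0⟩ := N.ne
      exact fun h => hy0 (mem_span_inf N.hyp hy (h (Φ.mem_perp_singleton.2 (Φ.mem_hperp.1 hy).1))))
    obtain ⟨a, y, hy, rfl⟩ := decomp_perp N.hyp (Φ.mem_perp_singleton.1 hv)
    rw [Submodule.eq_bot_iff]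
    intro h0
    have : y = 0 := h0 y ⟨hy, fun x hx => by simpa [he x hx] using h x hx⟩
    subst this
    exact hv0 (by simpa using Submodule.smul_mem _ _ (Submodule.mem_span_singleton_self e))
  intro x hx
  exact mem_U_of N.hyp (hI hx) (he x hx) fun y hy => (hS'.ge hy).2 x hx

theorem Nice.mem_of_inv (N : Nice Φ e f) {U : Subgroup (V ≃ₗ[F] V)} (hU : IsPGroup p U)
    (hQ : Φ.Ugrp e N.hyp.he ≤ U) {S : Submodule F V} (hS : S ≠ ⊥) (h : ∀ x ∈ U, ∀ v ∈ S, x v ∈ S) :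
    e ∈ S ∧ ∀ x ∈ U, x e = e := by
  haveI : Finite V := Module.finite_of_finite F
  obtain ⟨v, hv, hv0, h1⟩ := exists_fixed hU (A := ⊥) (B := S) (by simp) h (by simpa using hS)
  simp only [Submodule.mem_bot, sub_eq_zero] at hv0 h1
  obtain ⟨c, rfl⟩ := Submodule.mem_span_singleton.1
    (mem_span_of_fix' N.rich N.nd N.hyp.sing_e fun y a h => h1 _ (hQ (eich_mem_U h)))
  have hc : c ≠ 0 := by rintro rfl; simp at hv0
  refine ⟨by simpa [hc] using S.smul_mem c⁻¹ hv, fun x hx => ?_⟩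
  have := h1 x hx
  rw [map_smul] at this
  exact smul_right_injective V hc this

theorem Nice.fix_e (N : Nice Φ e f) {U : Subgroup (V ≃ₗ[F] V)} (hU : IsPGroup p U)
    (hQ : Φ.Ugrp e N.hyp.he ≤ U) : ∀ x ∈ U, x e = e :=
  (N.mem_of_inv hU hQ (S := ⊤) (fun h => N.hyp.e_ne (by
    have : e ∈ (⊥ : Submodule F V) := h ▸ Submodule.mem_top
    simpa using this)) (by simp)).2

omit [FiniteDimensional F V] [Finite F] in
theorem mem_U_of_comm (h : Φ.IsHyp e f) {z : V ≃ₗ[F] V} (hz : z ∈ Φ.Isom) (he : z e = e)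
    (hc : ∀ x ∈ Φ.Ugrp e h.he, z * x = x * z) : z ∈ Φ.Ugrp e h.he := by
  refine mem_U_of h hz he fun y hy => ?_
  obtain ⟨a, ha⟩ := Φ.N_range y
  have h1 : Φ.IsEich e y a := ⟨h.he, (Φ.mem_hperp.1 hy).1, ha⟩
  have h2 := hc _ (eich_mem_U h1)
  rw [← mul_inv_eq_iff_eq_mul, Φ.eich_conj hz] at h2
  have h3 := DFunLike.congr_fun h2 f
  have := K.εε
  rw [h.eich_f hy, eich_apply, he, h.Bfe, this, mul_right_comm, this] at h3
  rw [show z y - y = Φ.B f (z y) • e by linear_combination (norm := module) -h3]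
  exact Submodule.smul_mem _ _ (Submodule.mem_span_singleton_self e)

omit [FiniteDimensional F V] [Finite F] in
theorem eich_ne_one (h : Φ.IsHyp e f) {y : V} (hy : y ∈ Φ.hperp e f) {a : F} (h') (h0 : y ≠ 0 ∨ a ≠ 0) :
    Φ.eich e y a h' ≠ 1 := by
  intro h1
  have := eich_inj h hy (zero_mem _) (h1 := h') (h2 := IsEich.zero h.he) (by rw [h1, eich_zero])
  tauto

omit [FiniteDimensional F V] [Finite F] in
theorem Nice.U_ne (N : Nice Φ e f) : ∃ x ∈ Φ.Ugrp e N.hyp.he, x ≠ 1 := by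
  obtain ⟨y, hy, hy0⟩ := N.ne
  obtain ⟨a, ha⟩ := Φ.N_range y
  exact ⟨_, eich_mem_U ⟨N.hyp.he, (Φ.mem_hperp.1 hy).1, ha⟩, eich_ne_one N.hyp hy _ (Or.inl hy0)⟩

variable {P : Type*} [Group P] {C : Cov Φ.E P} {α : MulAut P}

/-- the non-abelian case -/
theorem Nice.step1N (N : Nice Φ e f)
    (hN : ∀ y₀ ∈ Φ.hperp e f, (∀ y ∈ Φ.hperp e f, Φ.B y y₀ = Φ.B y₀ y) → y₀ = 0)
    {U : Subgroup (V ≃ₗ[F] V)} (hU : IsSyl p Φ.E U) (hQ : Φ.Ugrp e N.hyp.he ≤ U) (h : C.Cor α U U) :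
    ∀ x ∈ Φ.Ugrp e N.hyp.he, ∃ y ∈ Φ.Ugrp e N.hyp.he, C.T α x y := by
  haveI : Finite V := Module.finite_of_finite F
  haveI : Finite (V ≃ₗ[F] V) := Finite.of_injective _ (DFunLike.coe_injective (F := V ≃ₗ[F] V))
  have hfix := N.fix_e hU.2.1 hQ
  have hcen : ∀ z ∈ U, (∀ x ∈ U, z * x = x * z) → ∃ a h', z = Φ.eich e 0 a h' := by
    intro z hz hc
    obtain ⟨y, a, h', hy, rfl⟩ := exists_eich_W N.hyp (mem_U_of_comm N.hyp (Φ.E_le (hU.1 hz)) (hfix z hz)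
      fun x hx => hc x (hQ hx))
    have : y = 0 := hN y hy fun y' hy' => by
      obtain ⟨a', ha'⟩ := Φ.N_range y'
      have h1 : Φ.IsEich e y' a' := ⟨N.hyp.he, (Φ.mem_hperp.1 hy').1, ha'⟩
      have h2 := hc _ (hQ (eich_mem_U h1))
      rw [eich_mul, eich_mul] at h2
      have h3 := (eich_inj N.hyp (add_mem hy hy') (add_mem hy' hy) (DFunLike.congr_fun h2 f)).2
      linear_combination h3
    subst this
    exact ⟨a, h', rfl⟩
  haveI : Nontrivial U := by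
    obtain ⟨x, hx, hx1⟩ := N.U_ne
    exact ⟨⟨⟨x, hQ hx⟩, 1, fun h => hx1 (congrArg Subtype.val h)⟩⟩
  obtain ⟨z, hz⟩ := (Subgroup.nontrivial_iff_exists_ne_one _).1 hU.2.1.center_nontrivial
  have hzc : ∀ x ∈ U, z.1 * x = x * z.1 := fun x hx =>
    (congrArg Subtype.val (Subgroup.mem_center_iff.1 hz.1 ⟨x, hx⟩)).symm
  obtain ⟨z', hz', hT⟩ := h.1 z.1 z.2
  have hzc' : ∀ y ∈ U, z' * y = y * z' := fun y hy => by
    obtain ⟨x, hx, h1⟩ := h.2 y hy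
    exact hT.comm h1 (uni_of_mem hU.2.1 hy) (hzc x hx)
  obtain ⟨a, ha, e1⟩ := hcen z.1 z.2 hzc
  obtain ⟨a', ha', e2⟩ := hcen z' hz' hzc'
  have ha0 : a ≠ 0 := by
    rintro rfl
    exact hz.2 (Subtype.ext (e1.trans (Φ.eich_zero _)))
  obtain ⟨R, hR1, hR2, hR3⟩ := C.exists_cor α (U_isPGroup p N.hyp.he) (Φ.Ugrp_le_E _ _)
  have hRU : R ≤ U := hR3.le h hR2 hU.2.1 hQ
  have hle := N.le_U hR2 (hR1.trans Φ.E_le) (fun x hx => hfix x (hRU hx)) (by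
    intro u hu y hy b hb
    obtain ⟨g, hg⟩ := C.exists_T' α (Φ.eich_mem_E u y b hb)
    have h1 : Φ.eich u y b hb * z' = z' * Φ.eich u y b hb := by
      rw [← mul_inv_eq_iff_eq_mul, e2, Φ.eich_conj (Φ.eich_mem _ _ _ _)]
      exact Φ.eich_congr' _ (eich_W_fix hu hy hb).1 (map_zero _) rfl
    have h2 := hg.symm.comm hT.symm (uni_of_mem hU.2.1 z.2) h1
    rw [← mul_inv_eq_iff_eq_mul, e1, Φ.eich_conj (Φ.E_le hg.left)] at h2
    have h3 := DFunLike.congr_fun h2 f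
    rw [N.hyp.eich_f (zero_mem _), eich_apply] at h3
    have h4 : (K.ε * a * Φ.B f (g e)) • g e = a • e := by
      simp only [map_zero, zero_smul, smul_zero] at h3
      linear_combination (norm := module) -h3
    have h5 : K.ε * a * Φ.B f (g e) ≠ 0 := by
      intro h0
      rw [h0, zero_smul] at h4
      exact smul_ne_zero ha0 N.hyp.e_ne h4.symm
    have h6 : g e = ((K.ε * a * Φ.B f (g e))⁻¹ * a) • e := by
      rw [mul_smul, ← h4, smul_smul, inv_mul_cancel₀ h5, one_smul]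
    exact hR3.norm hR2 hg fun x hx =>
      (U_conj' (Φ.E_le hg.left) N.hyp.he (mul_ne_zero (inv_ne_zero h5) ha0) h6 x).1 hx)
  intro x hx
  obtain ⟨y, hy, h1⟩ := hR3.1 x hx
  exact ⟨y, hle hy, h1⟩

/-- the general case -/
theorem Nice.step1A (N : Nice Φ e f)
    {U : Subgroup (V ≃ₗ[F] V)} (hU : IsSyl p Φ.E U) (hQ : Φ.Ugrp e N.hyp.he ≤ U) (h : C.Cor α U U) :
    ∃ C₀ : Submodule F V, Φ.TS C₀ ∧ e ∈ C₀ ∧
      ∀ y ∈ Ur Φ.E (Φ.perp C₀) C₀, ∃ x ∈ Φ.Ugrp e N.hyp.he, C.T α x y := by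
  haveI : Finite V := Module.finite_of_finite F
  have hfix := N.fix_e hU.2.1 hQ
  obtain ⟨R, hR1, hR2, hR3⟩ := C.exists_cor α (U_isPGroup p N.hyp.he) (Φ.Ugrp_le_E _ _)
  have hRU : R ≤ U := hR3.le h hR2 hU.2.1 hQ
  let M : Set (V ≃ₗ[F] V) := {k | ∃ g, (∃ c : F, c ≠ 0 ∧ g e = c • e) ∧ C.T α g k}
  have hMinv : ∀ k ∈ M, k⁻¹ ∈ M := by
    rintro k ⟨g, ⟨c, hc, h1⟩, h2⟩
    refine ⟨g⁻¹, ⟨c⁻¹, inv_ne_zero hc, ?_⟩, h2.inv⟩
    rw [LinearEquiv.coe_inv, LinearEquiv.symm_apply_eq, map_smul, h1, smul_smul, inv_mul_cancel₀ hc,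
      one_smul]
  have hMmul : ∀ k ∈ M, ∀ k' ∈ M, k * k' ∈ M := by
    rintro k ⟨g, ⟨c, hc, h1⟩, h2⟩ k' ⟨g', ⟨c', hc', h1'⟩, h2'⟩
    exact ⟨g * g', ⟨c' * c, mul_ne_zero hc' hc, by simp [h1, h1', smul_smul]⟩, h2.mul h2'⟩
  have hME : ∀ k ∈ M, k ∈ Φ.E := by rintro k ⟨g, -, h2⟩; exact h2.right
  have hUM : ∀ k ∈ U, k ∈ M := fun k hk => by
    obtain ⟨g, hg, h1⟩ := h.2 k hk
    exact ⟨g, ⟨1, one_ne_zero, by simp [hfix g hg]⟩, h1⟩
  have hMR : ∀ k ∈ M, ∀ y ∈ R, k * y * k⁻¹ ∈ R := by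
    rintro k ⟨g, ⟨c, hc, h1⟩, h2⟩
    exact hR3.norm hR2 h2 fun x hx => (U_conj' (Φ.E_le h2.left) N.hyp.he hc h1 x).1 hx
  let D : Submodule F V :=
    { carrier := {v | ∀ x ∈ R, x v = v}
      zero_mem' := by simp
      add_mem' := fun {a b} ha hb x hx => by rw [map_add, ha x hx, hb x hx]
      smul_mem' := fun c a ha x hx => by rw [map_smul, ha x hx] }
  have hD : ∀ k ∈ M, ∀ v ∈ D, k v ∈ D := fun k hk v hv x hx => by
    have := hv _ (hMR _ (hMinv k hk) x hx)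
    rw [inv_inv, LinearEquiv.mul_apply, LinearEquiv.mul_apply, LinearEquiv.coe_inv,
      LinearEquiv.symm_apply_eq] at this
    exact this
  have hD' : ∀ k ∈ M, ∀ v ∈ Φ.perp D, k v ∈ Φ.perp D := fun k hk v hv => by
    rw [Φ.mem_perp] at hv ⊢
    intro u hu
    rw [Isom_B_left (Φ.E_le (hME k hk))]
    exact hv _ (hD _ (hMinv k hk) u hu)
  have heD : e ∈ D := fun x hx => hfix x (hRU hx)
  have heD' : e ∈ Φ.perp D := by
    refine (N.mem_of_inv hU.2.1 hQ (fun h0 => ?_) fun k hk => hD' k (hUM k hk)).1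
    have h1 : D = ⊤ := by rw [← N.nd.perp_perp D, h0, perp_bot]
    obtain ⟨x, hx, hx1⟩ := N.U_ne
    obtain ⟨y, hy, h2⟩ := hR3.1 x hx
    have h3 : y = 1 := LinearEquiv.ext fun v => (h1.ge Submodule.mem_top : v ∈ D) y hy
    rw [h3] at h2
    exact hx1 (h2.symm.eq_one (uni_of_mem (U_isPGroup p _) hx))
  let C₀ : Submodule F V := Submodule.span F {v | ∃ k ∈ M, k e = v}
  have h1 : C₀ ≤ D := Submodule.span_le.2 (by rintro _ ⟨k, hk, rfl⟩; exact hD k hk e heD)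
  have h2 : C₀ ≤ Φ.perp D := Submodule.span_le.2 (by rintro _ ⟨k, hk, rfl⟩; exact hD' k hk e heD')
  have h3 : C₀ ≤ Φ.perp C₀ := h2.trans (Φ.perp_anti h1)
  have h4 : ∀ k ∈ M, ∀ v ∈ C₀, k v ∈ C₀ := fun k hk v hv => by
    have : C₀ ≤ C₀.comap (k : V →ₗ[F] V) := Submodule.span_le.2 (by
      rintro _ ⟨k', hk', rfl⟩
      exact Submodule.subset_span ⟨k * k', hMmul k hk k' hk', rfl⟩)
    exact this hv
  have h4' : ∀ k ∈ M, ∀ v, v ∈ C₀ ↔ k v ∈ C₀ := fun k hk v =>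
    ⟨h4 k hk v, fun hv => by simpa using h4 _ (hMinv k hk) _ hv⟩
  have h5 : ∀ k ∈ M, ∀ x ∈ Ur Φ.E (Φ.perp C₀) C₀, k * x * k⁻¹ ∈ Ur Φ.E (Φ.perp C₀) C₀ := fun k hk x =>
    (Ur_conj (hME k hk) (Φ.stab_perp (Φ.E_le (hME k hk)) (h4' k hk)) (h4' k hk) x).1
  refine ⟨C₀, ⟨fun v hv => ?_, fun u hu v hv => Φ.mem_perp.1 (h3 hu) v hv⟩,
    Submodule.subset_span ⟨1, hUM 1 (one_mem _), rfl⟩, ?_⟩
  · induction hv using Submodule.span_induction with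
    | mem x hx =>
      obtain ⟨k, hk, rfl⟩ := hx
      rw [(Φ.E_le (hME k hk)).2, N.hyp.he]
    | zero => simp
    | add x y hx hy ihx ihy => rw [Φ.N_add_of_orth (Φ.mem_perp.1 (h3 hx) y hy), ihx, ihy, add_zero]
    | smul c x _ ih => rw [Φ.N_smul, ih, mul_zero]
  have h6 : Ur Φ.E (Φ.perp C₀) C₀ ≤ U := hU.le_of_norm (Ur_isPGroup _ _ _) Ur_le fun g hg => h5 g (hUM g hg)
  obtain ⟨R', hR1', hR2', hR3'⟩ := C.exists_cor α⁻¹ (Ur_isPGroup (p := p) Φ.E (Φ.perp C₀) C₀) Ur_le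
  have hRU' : R' ≤ U := hR3'.le h.symm hR2' hU.2.1 h6
  have hle := N.le_U hR2' (hR1'.trans Φ.E_le) (fun x hx => hfix x (hRU' hx)) (by
    intro u hu y hy b hb
    obtain ⟨k, hk⟩ := C.exists_T α (Φ.eich_mem_E u y b hb)
    exact hR3'.norm hR2' hk.symm (h5 k ⟨_, ⟨1, one_ne_zero, by simp [(eich_W_fix hu hy hb).1]⟩, hk⟩))
  intro y hy
  obtain ⟨x, hx, h7⟩ := hR3'.1 y hy
  exact ⟨x, hle hx, h7.symm'⟩

end

end Cfsg.Agent.Perm.Aut
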