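import Cfsg.Agent.Lib.Perm.Aut19

/-! Split octonions and triality. -/

set_option autoImplicit false

namespace Cfsg.Agent.Perm.Aut
open Module Matrix Cfsg.Agent.Classical Cfsg.Agent.Classical.Form
open scoped commutatorElement

section Oct
variable {F : Type*} [Field F]

/-- the eight dimensional space -/
abbrev V8 (F : Type*) := Fin 4 ⊕ Fin 4 → F

/-- the split octonion product -/
def om (x y : V8 F) : V8 F := Sum.elim
  ![x (.inl 0) * y (.inl 0) - (x (.inl 1) * y (.inr 1) + x (.inl 2) * y (.inr 2) + x (.inl 3) * y (.inr 3)),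
    x (.inl 0) * y (.inl 1) + y (.inr 0) * x (.inl 1) - (x (.inr 2) * y (.inr 3) - x (.inr 3) * y (.inr 2)),
    x (.inl 0) * y (.inl 2) + y (.inr 0) * x (.inl 2) - (x (.inr 3) * y (.inr 1) - x (.inr 1) * y (.inr 3)),
    x (.inl 0) * y (.inl 3) + y (.inr 0) * x (.inl 3) - (x (.inr 1) * y (.inr 2) - x (.inr 2) * y (.inr 1))]
  ![x (.inr 0) * y (.inr 0) - (x (.inr 1) * y (.inl 1) + x (.inr 2) * y (.inl 2) + x (.inr 3) * y (.inl 3)),
    y (.inl 0) * x (.inr 1) + x (.inr 0) * y (.inr 1) - (x (.inl 2) * y (.inl 3) - x (.inl 3) * y (.inl 2)),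
    y (.inl 0) * x (.inr 2) + x (.inr 0) * y (.inr 2) - (x (.inl 3) * y (.inl 1) - x (.inl 1) * y (.inl 3)),
    y (.inl 0) * x (.inr 3) + x (.inr 0) * y (.inr 3) - (x (.inl 1) * y (.inl 2) - x (.inl 2) * y (.inl 1))]

/-- octonion conjugation -/
def obar (x : V8 F) : V8 F := Sum.elim ![x (.inr 0), -x (.inl 1), -x (.inl 2), -x (.inl 3)]
  ![x (.inl 0), -x (.inr 1), -x (.inr 2), -x (.inr 3)]

/-- diagonal octonions -/
def odg (a b : F) : V8 F := Sum.elim ![a, 0, 0, 0] ![b, 0, 0, 0]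

theorem ext8 {x y : V8 F} (h0 : x (.inl 0) = y (.inl 0)) (h1 : x (.inl 1) = y (.inl 1))
    (h2 : x (.inl 2) = y (.inl 2)) (h3 : x (.inl 3) = y (.inl 3)) (h4 : x (.inr 0) = y (.inr 0))
    (h5 : x (.inr 1) = y (.inr 1)) (h6 : x (.inr 2) = y (.inr 2)) (h7 : x (.inr 3) = y (.inr 3)) : x = y := by
  ext (i | i) <;> fin_cases i <;> assumption

theorem N8 (x : V8 F) : (plusForm 4 F).N x = x (.inl 0) * x (.inr 0) + x (.inl 1) * x (.inr 1) +
    x (.inl 2) * x (.inr 2) + x (.inl 3) * x (.inr 3) := by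
  simp [plusForm_N, Cfsg.quadFormPlus, Fin.sum_univ_four]

theorem B8 (x y : V8 F) : (plusForm 4 F).B x y = x (.inl 0) * y (.inr 0) + x (.inr 0) * y (.inl 0) +
    (x (.inl 1) * y (.inr 1) + x (.inr 1) * y (.inl 1)) + (x (.inl 2) * y (.inr 2) + x (.inr 2) * y (.inl 2)) +
    (x (.inl 3) * y (.inr 3) + x (.inr 3) * y (.inl 3)) := by
  simp [plusForm_B, Fin.sum_univ_four]

local macro "oct_simp" : tactic => `(tactic| simp only [om, obar, odg, N8, B8, Sum.elim_inl, Sum.elim_inr, cons_val_zero,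
  cons_val_one, cons_val, Pi.add_apply, Pi.sub_apply, Pi.smul_apply, Pi.neg_apply, smul_eq_mul])

theorem N_om (x y : V8 F) : (plusForm 4 F).N (om x y) = (plusForm 4 F).N x * (plusForm 4 F).N y := by
  oct_simp; ring

theorem om_add_left (x x' y : V8 F) : om (x + x') y = om x y + om x' y := by apply ext8 <;> oct_simp <;> ring
theorem om_add_right (x y y' : V8 F) : om x (y + y') = om x y + om x y' := by apply ext8 <;> oct_simp <;> ring
theorem om_smul_left (c : F) (x y : V8 F) : om (c • x) y = c • om x y := by apply ext8 <;> oct_simp <;> ring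
theorem om_smul_right (c : F) (x y : V8 F) : om x (c • y) = c • om x y := by apply ext8 <;> oct_simp <;> ring
theorem one_om (x : V8 F) : om (odg 1 1) x = x := by apply ext8 <;> oct_simp <;> ring
theorem om_one (x : V8 F) : om x (odg 1 1) = x := by apply ext8 <;> oct_simp <;> ring
theorem N_odg (a b : F) : (plusForm 4 F).N (odg a b) = a * b := by oct_simp; ring
theorem obar_om (x y : V8 F) : obar (om x y) = om (obar y) (obar x) := by apply ext8 <;> oct_simp <;> ring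
theorem obar_obar (x : V8 F) : obar (obar x) = x := by apply ext8 <;> oct_simp <;> ring
theorem om_om_bar (x y : V8 F) : om (om x y) (obar y) = (plusForm 4 F).N y • x := by
  apply ext8 <;> oct_simp <;> ring
theorem bar_om_om (x y : V8 F) : om (obar x) (om x y) = (plusForm 4 F).N x • y := by
  apply ext8 <;> oct_simp <;> ring
theorem moufang (a x y : V8 F) : om (om a x) (om y a) =
    (plusForm 4 F).B (obar (om x y)) a • a - (plusForm 4 F).N a • obar (om x y) := by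
  apply ext8 <;> oct_simp <;> ring
theorem refl_one (x : V8 F) (h) : (plusForm 4 F).refl (odg 1 1) h x = -obar x := by
  rw [refl_apply]; apply ext8 <;> oct_simp <;> ring

theorem B_om (x y z : V8 F) : (plusForm 4 F).B (om x y) z = (plusForm 4 F).B x (om z (obar y)) := by
  oct_simp; ring
theorem om_odg (c : F) (x : V8 F) : om x (odg c c) = c • x := by apply ext8 <;> oct_simp <;> ring

theorem nucleus {a : V8 F} (h : ∀ x y, om (om x a) y = om x (om a y)) : ∃ c, a = odg c c := by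
  have h1 := h (Pi.single (.inl 1) 1) (Pi.single (.inl 2) 1)
  have h2 := h (Pi.single (.inl 2) 1) (Pi.single (.inl 3) 1)
  have h3 := h (Pi.single (.inl 3) 1) (Pi.single (.inl 1) 1)
  have e1 := congrFun h1 (.inl 0)
  have e2 := congrFun h1 (.inl 1)
  have e3 := congrFun h1 (.inl 2)
  have e4 := congrFun h1 (.inr 3)
  have e5 := congrFun h2 (.inl 0)
  have e6 := congrFun h2 (.inl 2)
  have e7 := congrFun h3 (.inl 0)
  simp [om] at e1 e2 e3 e4 e5 e6 e7
  exact ⟨a (.inl 0), ext8 rfl e5 e7 e1 e4 e3 e2 e6⟩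

theorem N_one_ne : (plusForm 4 F).N (odg 1 1) ≠ 0 := by simp [N_odg]

/-- the reflection in the identity element -/
noncomputable def r1 (F : Type*) [Field F] : (plusForm 4 F).Isom := (plusForm 4 F).reflI _ N_one_ne

theorem r1_apply (x : V8 F) : (r1 F).1 x = -obar x := refl_one x N_one_ne

theorem r1_mul : (r1 F).1 * (r1 F).1 = 1 := refl_mul_self _ _ N_one_ne

theorem hat_apply (g : V8 F ≃ₗ[F] V8 F) (x) : (GamL.lin (r1 F).1).cj g x = obar (g (obar x)) := by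
  rw [GamL.lin_cj, inv_eq_of_mul_eq_one_right r1_mul, LinearEquiv.mul_apply, LinearEquiv.mul_apply, r1_apply,
    r1_apply, map_neg, ← r1_apply, map_neg, r1_apply, neg_neg]

/-- left multiplication -/
noncomputable def Lm (a : V8 F) (h : (plusForm 4 F).N a ≠ 0) : V8 F ≃ₗ[F] V8 F :=
  LinearEquiv.ofInjectiveEndo ⟨⟨om a, om_add_right a⟩, fun c => om_smul_right c a⟩ fun x y e =>
    smul_right_injective _ h (by
      change _ • x = _ • y
      rw [← bar_om_om, ← bar_om_om]; exact congrArg _ e)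

/-- right multiplication -/
noncomputable def Rm (a : V8 F) (h : (plusForm 4 F).N a ≠ 0) : V8 F ≃ₗ[F] V8 F :=
  LinearEquiv.ofInjectiveEndo ⟨⟨fun x => om x a, fun x y => om_add_left x y a⟩, fun c x => om_smul_left c x a⟩
    fun x y e => smul_right_injective _ h (by
      change _ • x = _ • y
      rw [← om_om_bar, ← om_om_bar]; exact congrArg (om · _) e)

theorem Lm_semi (a : V8 F) (h) : IsSemi (plusForm 4 F) (GamL.lin (Lm a h)) ((plusForm 4 F).N a) :=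
  isSemi_orth h (N_om a)

theorem Rm_semi (a : V8 F) (h) : IsSemi (plusForm 4 F) (GamL.lin (Rm a h)) ((plusForm 4 F).N a) :=
  isSemi_orth h fun v => (N_om v a).trans (mul_comm _ _)

/-- triality triples -/
def TL (H : Subgroup (V8 F ≃ₗ[F] V8 F)) :
    Subgroup ((V8 F ≃ₗ[F] V8 F) × (V8 F ≃ₗ[F] V8 F) × (V8 F ≃ₗ[F] V8 F)) where
  carrier := {t | t ∈ H.prod (H.prod H) ∧ ∀ x y, t.1 (om x y) = om (t.2.1 x) (t.2.2 y)}
  one_mem' := ⟨one_mem _, fun _ _ => rfl⟩
  mul_mem' {a b} ha hb := ⟨mul_mem ha.1 hb.1, fun x y => (congrArg a.1 (hb.2 x y)).trans (ha.2 _ _)⟩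
  inv_mem' {a} ha := ⟨inv_mem ha.1, fun x y => a.1.injective (by simp [ha.2])⟩

theorem tl_refl (a : V8 F) (h) : ((plusForm 4 F).refl a h * (r1 F).1, Lm a h,
    scal _ (Units.mk0 _ h)⁻¹ * Rm a h) ∈ TL (Sim (plusForm 4 F)) :=
  ⟨⟨Isom_le_Sim (mul_mem (refl_mem _ _ _) (r1 F).2), ⟨_, Lm_semi a h⟩,
    mul_mem (scal_mem_Semi _) ⟨_, Rm_semi a h⟩⟩, fun x y => by
    change (plusForm 4 F).refl a h ((r1 F).1 _) = om (om a x) (((Units.mk0 _ h)⁻¹ : Fˣ).1 • om y a)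
    rw [om_smul_right, moufang, refl_apply, r1_apply, map_neg, LinearMap.neg_apply]
    match_scalars <;> simp [h]⟩

theorem tl_swap {t} (h : t ∈ TL (plusForm 4 F).E) :
    (t.2.1, t.1, (GamL.lin (r1 F).1).cj t.2.2) ∈ TL (plusForm 4 F).E := by
  refine ⟨⟨h.1.2.1, h.1.1, (Semi_le_Nrm_E (lin_mem_Semi (r1 F).2) _).1 h.1.2.2⟩, fun w z => ?_⟩
  refine (plusForm_nondeg 4).ext fun x => ?_
  obtain ⟨x, rfl⟩ := t.2.1.surjective x
  rw [hat_apply, ← B_om, ← h.2, (E_le _ h.1.1).1, (E_le _ h.1.2.1).1, B_om, obar_obar]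

theorem tl_hat {t} (h : t ∈ TL (plusForm 4 F).E) : ((GamL.lin (r1 F).1).cj t.1, (GamL.lin (r1 F).1).cj t.2.2,
    (GamL.lin (r1 F).1).cj t.2.1) ∈ TL (plusForm 4 F).E := by
  have := Semi_le_Nrm_E (lin_mem_Semi (r1 F).2)
  refine ⟨⟨(this _).1 h.1.1, (this _).1 h.1.2.2, (this _).1 h.1.2.1⟩, fun x y => ?_⟩
  simp only [hat_apply, obar_om, h.2]

theorem tl_sc {H} {t} (h : t ∈ TL (F := F) H) (h1 : IsSc t.1) : IsSc t.2.1 := by
  obtain ⟨c, hc⟩ := h1
  have h2 : ∀ x y, om (t.2.1 x) y = om x (om (t.2.1 (odg 1 1)) y) := fun x y => by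
    obtain ⟨y, rfl⟩ := t.2.2.surjective y
    rw [← h.2, ← h.2, hc, hc, one_om, om_smul_right]
  have h3 : ∀ x, t.2.1 x = om x (t.2.1 (odg 1 1)) := fun x => by simpa only [om_one] using h2 x (odg 1 1)
  obtain ⟨d, hd⟩ := nucleus (a := t.2.1 (odg 1 1)) fun x y => by rw [← h3, h2]
  exact ⟨d, fun x => by rw [h3, hd, om_odg]⟩

theorem tl_cj {a b c : GamL F (V8 F)} (ha : a ∈ Semi (plusForm 4 F)) (hb : b ∈ Semi (plusForm 4 F))
    (hc : c ∈ Semi (plusForm 4 F)) (h : ∀ x y, a.g (om x y) = om (b.g x) (c.g y)) {t}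
    (ht : t ∈ TL (plusForm 4 F).E) : (a.cj t.1, b.cj t.2.1, c.cj t.2.2) ∈ TL (plusForm 4 F).E := by
  refine ⟨⟨(Semi_le_Nrm_E ha _).1 ht.1.1, (Semi_le_Nrm_E hb _).1 ht.1.2.1, (Semi_le_Nrm_E hc _).1 ht.1.2.2⟩,
    fun x y => ?_⟩
  obtain ⟨x, rfl⟩ := b.g.surjective x
  obtain ⟨y, rfl⟩ := c.g.surjective y
  simp only [← h, GamL.cj_g, ht.2]

theorem fld_om (σ : F ≃+* F) (x y : V8 F) : (fld _ σ).g (om x y) = om ((fld _ σ).g x) ((fld _ σ).g y) := by
  apply ext8 <;> simp [om]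

variable [Finite F]

theorem ev8 (F : Type*) [Field F] [Finite F] : Ev (plusForm 4 F) 4 :=
  letI := Fintype.ofFinite F
  ev_plus 4 (by norm_num)

theorem so_le_tl {g : (plusForm 4 F).Isom} (hg : (ev8 F).dk g = 1) :
    g.1 ∈ (TL (Sim (plusForm 4 F))).map (MonoidHom.fst _ _) := by
  have key : Subgroup.closure (plusForm 4 F).refl2Set ≤ (TL (Sim (plusForm 4 F))).map (MonoidHom.fst _ _) := by
    rw [Subgroup.closure_le]
    rintro _ ⟨u, hu, v, hv, rfl⟩
    refine ⟨_, mul_mem (tl_refl u hu) (inv_mem (tl_refl v hv)), ?_⟩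
    change (plusForm 4 F).refl u hu * (r1 F).1 * ((plusForm 4 F).refl v hv * (r1 F).1)⁻¹ = _
    rw [_root_.mul_inv_rev, mul_assoc, mul_inv_cancel_left, refl_inv]
  rcases (ev8 F).good.mem_refl2_or (ev8 F).nd _ g.2 with h | ⟨v, hv, h⟩
  · exact key h
  have : Subgroup.closure (plusForm 4 F).refl2Set ≤ (ev8 F).dk.ker.map (Subgroup.subtype _) := by
    rw [Subgroup.closure_le]
    rintro _ ⟨u, hu, v, hv, rfl⟩
    exact ⟨reflI _ u hu * reflI _ v hv, by simp, rfl⟩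
  obtain ⟨k, h1, h2⟩ := this h
  rw [show k = reflI _ v hv * g from Subtype.ext h2] at h1
  simp [hg] at h1

theorem exists_tl {g} (hg : g ∈ (plusForm 4 F).E) : ∃ t ∈ TL (plusForm 4 F).E, t.1 = g := by
  have H := ev8 F
  haveI := H.nt
  have h0 : (plusForm 4 F).E = ⁅(plusForm 4 F).E, (plusForm 4 F).E⁆ := by
    rw [← Subgroup.map_subtype_commutator, orth_E_perfect H.nd (by rw [H.rk]; norm_num), ← MonoidHom.range_eq_map,
      Subgroup.range_subtype]
  have h1 : (plusForm 4 F).E ≤ (TL (Sim (plusForm 4 F))).map (MonoidHom.fst _ _) := fun g hg =>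
    so_le_tl (g := ⟨g, E_le _ hg⟩) (H.mem_E.1 hg).1
  have k1 : ∀ a ∈ Sim (plusForm 4 F), ∀ b ∈ Sim (plusForm 4 F), ⁅a, b⁆ ∈ (plusForm 4 F).Isom := fun a ha b hb => by
    have := H.ml_spec ⁅(⟨a, ha⟩ : Sim _), ⟨b, hb⟩⁆
    rw [map_commutatorElement H.ml, commutatorElement_eq_one_iff_mul_comm.2 (mul_comm (H.ml _) _)] at this
    exact isSemi_lin_one this
  have h2 : ⁅TL (Sim (plusForm 4 F)), TL (Sim (plusForm 4 F))⁆ ≤ TL (plusForm 4 F).Isom :=
    Subgroup.commutator_le.2 fun a ha b hb => ⟨⟨k1 _ ha.1.1 _ hb.1.1, k1 _ ha.1.2.1 _ hb.1.2.1,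
      k1 _ ha.1.2.2 _ hb.1.2.2⟩, (mul_mem (mul_mem (mul_mem ha hb) (inv_mem ha)) (inv_mem hb)).2⟩
  have k2 : ∀ a ∈ (plusForm 4 F).Isom, ∀ b ∈ (plusForm 4 F).Isom, ⁅a, b⁆ ∈ (plusForm 4 F).E := fun a ha b hb => by
    rw [H.good.E_eq H.nd H.three]; exact Subgroup.commutator_mem_commutator ha hb
  have h3 : ⁅TL (plusForm 4 F).Isom, TL (plusForm 4 F).Isom⁆ ≤ TL (plusForm 4 F).E :=
    Subgroup.commutator_le.2 fun a ha b hb => ⟨⟨k2 _ ha.1.1 _ hb.1.1, k2 _ ha.1.2.1 _ hb.1.2.1,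
      k2 _ ha.1.2.2 _ hb.1.2.2⟩, (mul_mem (mul_mem (mul_mem ha hb) (inv_mem ha)) (inv_mem hb)).2⟩
  have h4 : (plusForm 4 F).E ≤ (TL (plusForm 4 F).Isom).map (MonoidHom.fst _ _) :=
    h0.le.trans ((Subgroup.commutator_mono h1 h1).trans
      ((Subgroup.map_commutator _ _ _).ge.trans (Subgroup.map_mono h2)))
  exact h0.le.trans ((Subgroup.commutator_mono h4 h4).trans
      ((Subgroup.map_commutator _ _ _).ge.trans (Subgroup.map_mono h3))) hg

variable {P : Type*} [Group P] (C : Cov (plusForm 4 F).E P)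

theorem exists_theta : ∃ θ : MulAut P, ∀ t ∈ TL (plusForm 4 F).E, C.T θ t.1 t.2.1 := by
  let p1 : TL (plusForm 4 F).E →* (plusForm 4 F).E :=
    MonoidHom.mk' (fun t => ⟨t.1.1, t.2.1.1⟩) fun _ _ => rfl
  let p2 : TL (plusForm 4 F).E →* (plusForm 4 F).E :=
    MonoidHom.mk' (fun t => ⟨t.1.2.1, t.2.1.2.1⟩) fun _ _ => rfl
  obtain ⟨θ, h⟩ := exists_equiv_of_ker (C.π.comp p1) (C.surj.comp fun g => by
      obtain ⟨t, h1, h2⟩ := exists_tl g.2
      exact ⟨⟨t, h1⟩, Subtype.ext h2⟩) (C.π.comp p2) (C.surj.comp fun g => by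
      obtain ⟨t, h1, h2⟩ := exists_tl g.2
      exact ⟨⟨_, tl_swap h1⟩, Subtype.ext h2⟩) fun t =>
    (C.ker (p1 t)).trans (Iff.trans ⟨tl_sc t.2, tl_sc (tl_swap t.2)⟩ (C.ker (p2 t)).symm)
  exact ⟨θ, fun t ht => ⟨_, _, (h ⟨t, ht⟩).symm⟩⟩

/-- a triality involution -/
noncomputable def theta : MulAut P := (exists_theta C).choose

theorem T_theta {t} (ht : t ∈ TL (plusForm 4 F).E) : C.T (theta C) t.1 t.2.1 := (exists_theta C).choose_spec t ht

theorem theta_mul : theta C * theta C = 1 := Cov.eq_one_of_T (C := C) fun x hx => by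
  obtain ⟨t, h1, rfl⟩ := exists_tl hx
  exact (T_theta C h1).trans (T_theta C (tl_swap h1))

/-- the automorphism induced by the reflection -/
noncomputable def rho : MulAut P := semiAut C ⟨_, lin_mem_Semi (r1 F).2⟩

omit [Finite F] in
theorem rho_mul : rho C * rho C = 1 := by
  rw [rho, ← map_mul, ← map_one (semiAut C)]
  congr 1
  exact Subtype.ext ((map_mul _ _ _).symm.trans (by rw [r1_mul]; rfl))

omit [Finite F] in
theorem hat_hat (g : V8 F ≃ₗ[F] V8 F) : (GamL.lin (r1 F).1).cj ((GamL.lin (r1 F).1).cj g) = g :=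
  LinearEquiv.ext fun x => by simp only [hat_apply, obar_obar]

theorem rho_theta : (rho C * theta C) ^ 3 = 1 := Cov.eq_one_of_T (C := C) fun x hx => by
  obtain ⟨t, h1, rfl⟩ := exists_tl hx
  have e1 := (T_theta C h1).aut ⟨_, Semi_le_Nrm_E (lin_mem_Semi (r1 F).2)⟩
  have e2 := (T_theta C (tl_hat (tl_swap h1))).aut ⟨_, Semi_le_Nrm_E (lin_mem_Semi (r1 F).2)⟩
  have e3 := (T_theta C (tl_swap (tl_hat h1))).aut ⟨_, Semi_le_Nrm_E (lin_mem_Semi (r1 F).2)⟩
  simp only [hat_hat] at e2 e3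
  exact (e1.trans e2).trans e3

theorem theta_comm {a b c : Semi (plusForm 4 F)} (h : ∀ x y, a.1.g (om x y) = om (b.1.g x) (c.1.g y)) :
    theta C * semiAut C a = semiAut C b * theta C := Cov.ext_T (C := C) fun x hx => by
  obtain ⟨t, h1, rfl⟩ := exists_tl hx
  exact ⟨_, (T_semiAut C a hx).trans (T_theta C (tl_cj a.2 b.2 c.2 h h1)),
    (T_theta C h1).trans (T_semiAut C b h1.1.2.1)⟩

theorem theta_tl {t} (ht : t ∈ TL (Sim (plusForm 4 F))) :
    theta C * C.linAut Sim_le_NrmL ⟨_, ht.1.1⟩ = C.linAut Sim_le_NrmL ⟨_, ht.1.2.1⟩ * theta C :=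
  theta_comm C (a := ⟨_, ht.1.1⟩) (b := ⟨_, ht.1.2.1⟩) (c := ⟨_, ht.1.2.2⟩) ht.2

theorem theta_fld (σ : F ≃+* F) (h) : theta C * semiAut C ⟨fld _ σ, h⟩ = semiAut C ⟨fld _ σ, h⟩ * theta C :=
  theta_comm C (c := ⟨_, h⟩) (fld_om σ)

theorem theta_not_mem : theta C ∉ (semiAut C).range := by
  rintro ⟨s, hs⟩
  have H := ev8 F
  let a : V8 F := odg 1 1 + Pi.single (.inl 1) 1
  have ha : (plusForm 4 F).N a ≠ 0 := by simp [a, N8, odg]
  have h1 := theta_tl C (tl_refl a ha)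
  rw [← hs, ← mul_inv_eq_iff_eq_mul] at h1
  obtain ⟨l, hl⟩ := s.2
  obtain ⟨c, hc⟩ := (fth_orth' H.nd H.three C).aut_eq_iff.1 (h1.symm.trans (Cov.aut_conj _ _
    (Sim_le_NrmL (cjS s ⟨_, (tl_refl a ha).1.1⟩).2)))
  replace hc : Lm a ha = scal _ c * s.1.cj ((plusForm 4 F).refl a ha * (plusForm 4 F).refl _ N_one_ne) :=
    GamL.lin_injective (hc.trans (map_mul _ _ _).symm)
  rw [GamL.cj_mul, hl.cj_refl, hl.cj_refl] at hc
  let L : (Fin 3 → F) →ₗ[F] V8 F := LinearMap.pi (Sum.elim ![0, 0, .proj 0, .proj 1] ![.proj 2, 0, 0, 0])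
  obtain ⟨v, hv, hv0⟩ := Submodule.exists_mem_ne_zero_of_ne_bot (LinearMap.ker_ne_bot_of_finrank_lt
    (f := (((plusForm 4 F).B.flip (s.1.g a)).prod ((plusForm 4 F).B.flip (s.1.g (odg 1 1)))) ∘ₗ L) (by simp))
  have h2 := DFunLike.congr_fun hc (L v)
  rw [LinearEquiv.mul_apply, LinearEquiv.mul_apply, refl_of_perp _ (s.1.g (odg 1 1)) _ (congrArg Prod.snd hv),
    refl_of_perp _ _ _ (congrArg Prod.fst hv)] at h2
  replace h2 : om a (L v) = (c : F) • L v := h2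
  have e1 := congrFun h2 (.inl 1)
  have e2 := congrFun h2 (.inr 2)
  have e3 := congrFun h2 (.inr 3)
  simp [om, a, L, odg] at e1 e2 e3
  exact hv0 (funext fun i => by fin_cases i <;> assumption)

end Oct

end Cfsg.Agent.Perm.Aut
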