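import Cfsg.Agent.Lib.Perm.Aut20

/-! The automorphism group of the eight dimensional orthogonal group of plus type. -/

set_option autoImplicit false

namespace Cfsg.Agent.Perm.Aut
open Module Matrix Cfsg.Agent.Classical Cfsg.Agent.Classical.Form
open scoped commutatorElement

section Grp
variable {G A : Type*} [Group G] [Group A]

theorem braid_of {a b : G} (ha : a * a = 1) (hb : b * b = 1) (h : (a * b) ^ 3 = 1) : b * a * b = a * b * a := by
  have h1 : (a * b * a) * (b * a * b) = 1 := by rw [← h]; simp only [pow_succ, pow_zero, one_mul, mul_assoc]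
  rw [eq_inv_of_mul_eq_one_right h1]
  simp only [_root_.mul_inv_rev, inv_eq_of_mul_eq_one_right ha, inv_eq_of_mul_eq_one_right hb, mul_assoc]

theorem index_three {H : Subgroup G} {a b : G} (ha : a * a = 1) (hb : b * b = 1) (h : (a * b) ^ 3 = 1)
    (h1 : a ∈ H) (h2 : b ∉ H) (h3 : ∀ x, x ∈ H ∨ b⁻¹ * x ∈ H ∨ (a * b)⁻¹ * x ∈ H) : H.index = 3 := by
  rw [Subgroup.index, ← Set.ncard_univ, Set.ncard_eq_three]
  refine ⟨(1 : G), b, (a * b : G), ?_, ?_, ?_, (Set.eq_univ_of_forall fun x => ?_).symm⟩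
  · simpa [QuotientGroup.eq] using h2
  · simpa [QuotientGroup.eq, H.mul_mem_cancel_left h1] using h2
  · rw [Ne, QuotientGroup.eq, inv_eq_of_mul_eq_one_right hb, ← mul_assoc, braid_of ha hb h,
      H.mul_mem_cancel_right h1, H.mul_mem_cancel_left h1]
    exact h2
  · obtain ⟨x, rfl⟩ := QuotientGroup.mk_surjective x
    simpa [eq_comm (a := (x : G ⧸ H)), QuotientGroup.eq] using h3 x

theorem prod_of_gen [Finite G] (L : Subgroup G) (φ : A →* G) [Finite A] (hc : ∀ x ∈ L, ∀ a, x * φ a = φ a * x)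
    (hs : ∀ x, ∃ l ∈ L, ∃ a, x = l * φ a) (h : Nat.card L * Nat.card A ≤ Nat.card G) :
    Nonempty (G ≃* L × A) := by
  let ψ := L.subtype.noncommCoprod φ fun x a => hc x x.2 a
  have h1 : Function.Surjective ψ := fun x => by
    obtain ⟨l, hl, a, rfl⟩ := hs x
    exact ⟨(⟨l, hl⟩, a), rfl⟩
  exact ⟨(MulEquiv.ofBijective ψ (h1.bijective_of_nat_card_le (by rwa [Nat.card_prod]))).symm⟩

theorem surj_sup (V : Subgroup G) [V.Normal] (j : A →* G) :
    Function.Surjective fun x : V × A => (⟨x.1 * j x.2, Subgroup.mul_mem_sup x.1.2 ⟨_, rfl⟩⟩ : ↥(V ⊔ j.range)) := by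
  rintro ⟨x, hx⟩
  obtain ⟨v, hv, _, ⟨a, rfl⟩, rfl⟩ := Subgroup.mem_sup_of_normal_left.1 hx
  exact ⟨(⟨v, hv⟩, a), rfl⟩

theorem nonempty_S3 : Nonempty (DihedralGroup 3 ≃* Equiv.Perm (Fin 3)) :=
  (nonempty_dihedral_of_card (n := 3) (finRotate 3) (Equiv.swap 0 1) (orderOf_eq_prime (by decide) (by decide))
    (by decide) (by decide) (by
      rw [mem_zpowers_iff_mem_range_orderOf, orderOf_eq_prime (p := 3) (by decide) (by decide)]; decide)
    (by simp [Nat.card_perm]; rfl)).map MulEquiv.symm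

theorem nonempty_S4 [Finite G] (V : Subgroup G) [hV : V.Normal] (j : DihedralGroup 3 →* G) (h1 : Nat.card V = 4)
    (h2 : Nat.card ↥(V ⊔ j.range) = 24) {z : G} (hz : z ∈ V) (h3 : j (.r 1) * z ≠ z * j (.r 1)) :
    Nonempty (↥(V ⊔ j.range) ≃* Equiv.Perm (Fin 4)) := by
  classical
  have h4 := ((surj_sup V j).bijective_of_nat_card_le (by
    rw [h2, Nat.card_prod, h1, DihedralGroup.nat_card])).1
  have h5 : ∀ d, j d ∈ V → d = 1 := fun d hd =>
    (congrArg Prod.snd (h4 (a₁ := (⟨_, hd⟩, 1)) (a₂ := (1, d)) (by simp))).symm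
  have hj : Function.Injective j := (injective_iff_map_eq_one j).2 fun d hd => h5 d (hd ▸ one_mem _)
  let S := j.range.subgroupOf (V ⊔ j.range)
  have h6 : Nat.card S = 6 := by
    rw [Nat.card_congr (Subgroup.subgroupOfEquivOfLe le_sup_right).toEquiv,
      ← Nat.card_congr (MonoidHom.ofInjective hj).toEquiv, DihedralGroup.nat_card]
  have h7 : Nat.card (↥(V ⊔ j.range) ⧸ S) = 4 := by
    have := S.card_eq_card_quotient_mul_card_subgroup
    rw [h2, h6] at this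
    omega
  let j' : DihedralGroup 3 →* ↥(V ⊔ j.range) := j.codRestrict _ fun d => Subgroup.mem_sup_right ⟨d, rfl⟩
  have h8 : Function.Injective (MulAction.toPermHom ↥(V ⊔ j.range) (↥(V ⊔ j.range) ⧸ S)) := by
    rw [← MonoidHom.ker_eq_bot_iff, ← Subgroup.normalCore_eq_ker, eq_bot_iff]
    intro x hx
    obtain ⟨d, hd⟩ := S.normalCore_le hx
    obtain rfl : x = j' d := Subtype.ext hd.symm
    by_contra h9
    have h10 : j' (.r 1) ∈ S.normalCore := by
      have : ∀ d : DihedralGroup 3, d = 1 ∨ d = .r 1 ∨ d * d = .r 1 ∨ ∃ g, d * (g * d * g⁻¹) = .r 1 := by decide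
      rcases this d with rfl | rfl | h | ⟨g, h⟩
      · simp at h9
      · exact hx
      · rw [← h, map_mul]; exact mul_mem hx hx
      · rw [← h, map_mul, map_mul, map_mul, map_inv]
        exact mul_mem hx (S.normalCore_normal.conj_mem _ hx _)
    obtain ⟨e, he⟩ := S.normalCore_le (mul_mem (S.normalCore_normal.conj_mem _ h10 ⟨z, Subgroup.mem_sup_left hz⟩)
      (inv_mem h10))
    replace he : j e = z * (j (.r 1) * z⁻¹ * (j (.r 1))⁻¹) := he.trans (by simp [j', mul_assoc])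
    rw [h5 e (he ▸ mul_mem hz (hV.conj_mem _ (inv_mem hz) _)), map_one] at he
    exact h3 (by rw [← mul_inv_eq_one, ← inv_eq_one, he]; group)
  letI := Fintype.ofFinite (↥(V ⊔ j.range) ⧸ S)
  refine ⟨(MulEquiv.ofBijective _ (h8.bijective_of_nat_card_le ?_)).trans
    (Equiv.permCongrHom (Finite.equivFinOfCardEq h7))⟩
  rw [Nat.card_perm, h7, h2]; rfl

end Grp

section Ex
variable {F V : Type*} [Field F] [AddCommGroup V] [Module F V] {K : Kind F} {Φ : Form K V}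

/-- preimage of a subspace under a semilinear map -/
def GamL.cm (s : GamL F V) (A : Submodule F V) : Submodule F V where
  carrier := {v | s.g v ∈ A}
  zero_mem' := by simp
  add_mem' ha hb := by simpa using add_mem ha hb
  smul_mem' c v hv := by simpa [s.smul'] using A.smul_mem _ hv

theorem IsSemi.cm_perp {s : GamL F V} {l : F} (h : IsSemi Φ s l) (A : Submodule F V) (v : V) :
    v ∈ Φ.perp (s.cm A) ↔ s.g v ∈ Φ.perp A := by
  refine ⟨fun hv u hu => ?_, fun hv u hu => by simpa [h.B, h.ne] using hv _ hu⟩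
  obtain ⟨u, rfl⟩ := s.g.surjective u
  simp [h.B, hv u hu]

variable [Cmp K] {P : Type*} [Group P] (C : Cov Φ.E P) {e : V} (he : Φ.N e = 0)

/-- exceptional automorphisms -/
def Ex (α : MulAut P) (A : Submodule F V) : Prop :=
  Φ.TS A ∧ Φ.perp A = A ∧ C.Cor α (Φ.Ugrp e he) (Ur Φ.E (Φ.perp A) A)

variable {C he} {α β : MulAut P} {A : Submodule F V}

theorem Ex.map (h : Ex C he α A) (s : Semi Φ) : Ex C he ((semiAut C s)⁻¹ * α) (s.1.cm A) := by
  obtain ⟨l, hl⟩ := s.2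
  refine ⟨⟨fun v hv => by simpa [hl.N, hl.ne] using h.1.1 _ hv,
    fun u hu v hv => by simpa [hl.B, hl.ne] using h.1.2 _ hu _ hv⟩, Submodule.ext fun v => ?_, h.2.2.trans ?_⟩
  · rw [hl.cm_perp, h.2.1]; rfl
  · exact (Cov.cor_aut ⟨s.1, Semi_le_Nrm_E s.2⟩ Ur_le
      (Ur_cj (Semi_le_Nrm_E s.2) (hl.cm_perp A) fun _ => Iff.rfl)).symm

variable [FiniteDimensional F V] [Finite F] {f : V}

omit [Cmp K] [Finite F] in
theorem Ex.rk (hΦ : Φ.Nondeg) (h : Ex C he α A) : finrank F V = 2 * finrank F A := by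
  have := hΦ.finrank_perp A
  rw [h.2.1] at this; omega

theorem Nice2.exists_ex (N : Nice2 Φ e f) (hs : ∀ u v, Φ.B u v = Φ.B v u)
    (hc : ∀ k, finrank F V = 2 * k → Nat.card F ^ (finrank F V - 2) * Nat.card K.T.ker ≤
        Nat.card F ^ k.choose 2 * Nat.card K.T.ker ^ k) (h : α ∉ (semiAut C).range) :
    ∃ A, Ex C N.hyp.he α A := by
  obtain ⟨p, hp⟩ := CharP.exists F
  haveI := Fact.mk (CharP.char_is_prime F p)
  haveI : Finite V := Module.finite_of_finite F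
  obtain ⟨A, _, ⟨s, rfl⟩, h1, h2, -, h4⟩ := (N.main_A p C hs α).resolve_left h
  have h5 := N.nd.finrank_perp A
  rw [h2] at h5
  have h6 : Ex C N.hyp.he (semiAut C s * α) A := ⟨h1, h2, by
    simpa using (Cov.cor_of_card (C := C) (α := (semiAut C s * α)⁻¹) (Ur_isPGroup (p := p) _ _ _) (fun y hy => by
      obtain ⟨x, hx, h5⟩ := h4 y hy
      exact ⟨x, hx, h5.symm⟩) (by
      rw [card_U N.hyp]; exact (hc _ (by omega)).trans (card_Ur_ge N.nd h1))).symm⟩
  exact ⟨_, by simpa using h6.map s⟩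

theorem Ex.mem (N : Nice2 Φ e f) {B} (h : Ex C N.hyp.he α A) (h' : Ex C N.hyp.he β B) {g} (hg : g ∈ Φ.E)
    (h1 : B.map (g : V →ₗ[F] V) = A) : β⁻¹ * α ∈ (semiAut C).range := by
  obtain ⟨p, hp⟩ := CharP.exists F
  haveI := Fact.mk (CharP.char_is_prime F p)
  have h2 := h.map ⟨_, lin_mem_Semi (Φ.E_le hg)⟩
  rw [show (GamL.lin g).cm A = B from Submodule.ext fun v => by
    rw [← h1]; exact (Submodule.mem_map_equiv _).trans (by simp)] at h2
  have h3 := N.mem_range p (C := C) ⟨N.hyp.sing_e, N.hyp.sing_e, h2.2.2.trans h'.2.2.symm⟩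
  have h4 : β⁻¹ * semiAut C ⟨_, lin_mem_Semi (Φ.E_le hg)⟩ * β⁻¹⁻¹ ∈ Cfsg.Inn P :=
    Subgroup.Normal.conj_mem inferInstance _ (C.aut_mem_Inn (le_ZG _ hg) rfl) _
  have h5 : Cfsg.Inn P ≤ (semiAut C).range := by
    rw [C.Inn_eq]; rintro _ ⟨x, rfl⟩; exact inner_mem C x.2
  convert mul_mem (h5 h4) h3 using 1
  group

omit [FiniteDimensional F V] [Finite F] in
theorem ker_le_semi (C : Cov Φ.E P) : (QuotientGroup.mk' (Cfsg.Inn P)).ker ≤ (semiAut C).range := by
  rw [QuotientGroup.ker_mk', C.Inn_eq]; rintro _ ⟨x, rfl⟩; exact inner_mem C x.2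

omit [FiniteDimensional F V] [Finite F] in
theorem index_out (C : Cov Φ.E P) :
    (C.out.comp (Subgroup.inclusion Semi_le_Nrm_E)).range.index = (semiAut C).range.index := by
  rw [← Subgroup.index_map_eq _ (QuotientGroup.mk'_surjective _) (ker_le_semi C), ← MonoidHom.range_comp]; rfl

end Ex

section O8
variable {F : Type*} [Field F] [Finite F] {P : Type*} [Group P] (C : Cov (plusForm 4 F).E P)

omit [Finite F] in
theorem plus_fld_mem' (m : ℕ) (σ : F ≃+* F) : fld _ σ ∈ Semi (plusForm m F) := ⟨_, plus_fld m σ⟩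

theorem Ev.exists_E_map {V : Type*} [AddCommGroup V] [Module F V] [FiniteDimensional F V]
    {Φ : Form (Kind.orth F) V} {m : ℕ} (H : Ev Φ m) {A B : Submodule F V} (hA : Φ.TS A) (h0 : A ≠ ⊥) {g : Φ.Isom}
    (hg : H.dk g = 1) (h : A.map (g.1 : V →ₗ[F] V) = B) : ∃ k ∈ Φ.E, A.map (k : V →ₗ[F] V) = B := by
  rcases Int.units_eq_one_or (H.sp g) with h1 | h1
  · exact ⟨_, H.mem_E.2 ⟨hg, h1⟩, h⟩
  obtain ⟨e, he, he0⟩ := Submodule.exists_mem_ne_zero_of_ne_bot h0
  obtain ⟨f, hf⟩ := H.nd.exists_hyp he0 (hA.1 e he)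
  obtain ⟨a, ha⟩ := exists_not_isSquare (F := F) fun h2 => by
    rw [show H.sp g = 1 from DFunLike.congr_fun (H.good.spin_of_two H.nd h2) g] at h1; revert h1; decide
  have ha0 : a ≠ 0 := by rintro rfl; exact ha IsSquare.zero
  refine ⟨(g * ⟨_, Φ.dil_mem e f hf (Units.mk0 a ha0)⟩).1, H.mem_E.2 ⟨?_, ?_⟩, ?_⟩
  · rw [map_mul, hg, H.good.dick_dil, one_mul]
  · rw [map_mul, h1, H.good.spin_dil, sqSign_eq_neg_one_iff.2 ha]; rfl
  · rw [← h]
    refine Eq.trans (Submodule.map_comp _ (g.1 : V →ₗ[F] V) A) (congrArg _ ?_)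
    refine Submodule.eq_of_le_of_finrank_eq ?_ (LinearEquiv.finrank_map_eq _ _)
    rintro _ ⟨v, hv, rfl⟩
    rw [LinearEquiv.coe_coe, dil_apply, hA.2 v hv e he, mul_zero, zero_smul, add_zero]
    exact add_mem hv (A.smul_mem _ he)

theorem cover8 (α : MulAut P) : α ∈ (semiAut C).range ∨ (theta C)⁻¹ * α ∈ (semiAut C).range ∨
    (rho C * theta C)⁻¹ * α ∈ (semiAut C).range := by
  have H := ev8 F
  obtain ⟨e, f, h⟩ := orth_exists_hyp H.nd H.three
  have N := nice2_orth H.nd (by rw [H.rk]; norm_num) h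
  have key : ∀ α ∉ (semiAut C).range, ∃ A, Ex C N.hyp.he α A := fun α => N.exists_ex (orth_symm _) fun k hk => by
    obtain rfl : k = 4 := by rw [H.rk] at hk; omega
    rw [card_orth_ker, H.rk]; simp [Nat.choose]
  rw [or_iff_not_imp_left]
  intro hα
  obtain ⟨A, hA⟩ := key α hα
  obtain ⟨B, hB⟩ := key _ (theta_not_mem C)
  have hA' := hA.rk H.nd
  have key2 : ∀ β B, Ex C N.hyp.he β B → ∀ g : (plusForm 4 F).Isom, H.dk g = 1 →
      B.map (g.1 : V8 F →ₗ[F] V8 F) = A → β⁻¹ * α ∈ (semiAut C).range := fun β B hB g hg h1 => by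
    obtain ⟨k, hk, h2⟩ := H.exists_E_map hB.1 (fun h0 => by
      have := hB.rk H.nd
      rw [h0, H.rk] at this; simp at this) hg h1
    exact hA.mem N hB hk h2
  have hB' := hB.rk H.nd
  obtain ⟨g, hg, h1⟩ := hB.1.exists_map_eq H.nd hA.1 (by omega)
  rcases Int.units_eq_one_or (H.dk ⟨g, hg⟩) with h2 | h2
  · exact Or.inl (key2 _ _ hB _ h2 h1)
  · have h3 := hB.map ⟨_, lin_mem_Semi (r1 F).2⟩
    rw [show (semiAut C ⟨_, lin_mem_Semi (r1 F).2⟩)⁻¹ = rho C from inv_eq_of_mul_eq_one_right (rho_mul C)] at h3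
    refine Or.inr (key2 _ _ h3 (⟨g, hg⟩ * r1 F) (by rw [map_mul, h2, r1, H.good.dick_reflI]; rfl) ?_)
    rw [← h1]
    refine Eq.trans (Submodule.map_comp _ (g : V8 F →ₗ[F] V8 F) _) (congrArg _ ?_)
    exact Submodule.map_comap_eq_of_surjective (r1 F).1.surjective B

theorem index8 : (semiAut C).range.index = 3 :=
  index_three (rho_mul C) (theta_mul C) (rho_theta C) ⟨_, rfl⟩ (theta_not_mem C) (cover8 C)

omit C in
theorem exists_Lm (c : Fˣ) : ∃ a ha, (ev8 F).chi ⟨Lm a ha, _, Lm_semi a ha⟩ = (1, sqSign F c) := by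
  have ha : (plusForm 4 F).N (odg (c : F) 1) ≠ 0 := by simp [N_odg]
  refine ⟨_, ha, Prod.ext (((ev8 F).par_dS (plusTS_TS 4) (finrank_plusTS 4) _).1 ?_)
    (congrArg (sqSign F) (Units.ext (((ev8 F).ml_eq (Lm_semi _ ha)).trans (by simp [N_odg]))))⟩
  have : (plusTS 4 F).map (Lm _ ha : V8 F →ₗ[F] V8 F) = plusTS 4 F := by
    refine Submodule.eq_of_le_of_finrank_eq ?_ (LinearEquiv.finrank_map_eq _ _)
    rintro _ ⟨v, hv, rfl⟩
    refine mem_plusTS.2 fun i => ?_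
    change om (odg (c : F) 1) v (.inr i) = 0
    fin_cases i <;> simp [om, odg, mem_plusTS.1 hv]
  rw [this, inf_idem, Nat.sub_self]; decide

theorem theta_conj_sim {g : Sim (plusForm 4 F)} (hg : (ev8 F).dS g = 1) :
    theta C * C.linAut Sim_le_NrmL g * theta C ∈ (C.linAut Sim_le_NrmL).range := by
  have H := ev8 F
  have hi := inv_eq_of_mul_eq_one_right (theta_mul C)
  have key : ∀ g, H.chi g = 1 →
      theta C * C.linAut Sim_le_NrmL g * theta C ∈ (C.linAut Sim_le_NrmL).range := fun g hg => by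
    obtain ⟨c, k, h1, rfl⟩ := H.chi_eq_one.1 hg
    obtain ⟨t, ht, h2⟩ := so_le_tl h1
    rw [map_mul, show C.linAut Sim_le_NrmL (scS _ c) = 1 from aut_scal C c, one_mul,
      show inI _ k = ⟨t.1, ht.1.1⟩ from Subtype.ext h2.symm, theta_tl C ht, mul_assoc, theta_mul, mul_one]
    exact ⟨_, rfl⟩
  obtain ⟨a, ha, h1⟩ := exists_Lm (H.ml g)
  have h2 := key (g * ⟨Lm a ha, _, Lm_semi a ha⟩) (by rw [map_mul, h1, H.chi_apply, hg]; ext <;> simp)
  have h3 : theta C * C.linAut Sim_le_NrmL ⟨Lm a ha, _, Lm_semi a ha⟩ * theta C ∈ (C.linAut Sim_le_NrmL).range := by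
    rw [mul_assoc, ← theta_tl C (tl_refl a ha), ← mul_assoc, theta_mul, one_mul]
    exact ⟨_, rfl⟩
  convert mul_mem h2 (inv_mem h3) using 1
  simp only [map_mul, _root_.mul_inv_rev, hi, mul_assoc, theta_mul, mul_inv_cancel_left, ← mul_assoc (theta C) (theta C),
    one_mul]

theorem theta_conj {x} (hx : x ∈ (C.linAut (ev8 F).le_NrmL).range) :
    theta C * x * theta C ∈ (C.linAut (ev8 F).le_NrmL).range := by
  have H := ev8 F
  obtain ⟨⟨g, hg⟩, rfl⟩ := hx
  obtain ⟨hg', h1⟩ := H.mem_Sim0.1 hg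
  obtain ⟨k, hk⟩ := theta_conj_sim C h1
  rcases Int.units_eq_one_or (H.dS k) with h2 | h2
  · exact ⟨⟨k.1, H.mem_Sim0.2 ⟨k.2, h2⟩⟩, hk⟩
  have h3 := theta_conj_sim C (g := k * inI _ (r1 F)) (by rw [map_mul, h2, H.dS_inI, r1, H.good.dick_reflI]; rfl)
  rw [map_mul, hk, show C.linAut Sim_le_NrmL (inI _ (r1 F)) = rho C from rfl] at h3
  simp only [← mul_assoc, theta_mul, one_mul] at h3
  rw [mul_assoc, mul_assoc, Subgroup.mul_mem_cancel_left _ (MonoidHom.mem_range.2 ⟨_, rfl⟩), ← mul_assoc,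
    braid_of (rho_mul C) (theta_mul C) (rho_theta C)] at h3
  obtain ⟨s, hs⟩ := h3
  have h4 : rho C ∈ (semiAut C).range := ⟨_, rfl⟩
  exact absurd (((semiAut C).range.mul_mem_cancel_left h4).1 (((semiAut C).range.mul_mem_cancel_right h4).1
    ⟨⟨_, s.2⟩, hs⟩)) (theta_not_mem C)

theorem gen8 {H : Subgroup (MulAut P)} (h1 : (semiAut C).range ≤ H) (h2 : theta C ∈ H) : H = ⊤ := by
  refine eq_top_iff.2 fun α _ => ?_
  rcases cover8 C α with h | h | h
  · exact h1 h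
  · exact (H.mul_mem_cancel_left (inv_mem h2)).1 (h1 h)
  · exact (H.mul_mem_cancel_left (inv_mem (mul_mem (h1 ⟨_, rfl⟩) h2))).1 (h1 h)

theorem normal8 : (C.linAut (ev8 F).le_NrmL).range.Normal := by
  have H := ev8 F
  haveI : Finite (V8 F ≃ₗ[F] V8 F) := Finite.of_injective _ DFunLike.coe_injective
  haveI : Finite P := Finite.of_surjective _ C.surj
  haveI : Finite (MulAut P) := Finite.of_injective _ DFunLike.coe_injective
  refine Subgroup.normalizer_eq_top_iff.1 (gen8 C ?_ (Subgroup.mem_normalizer_fintype fun x hx => ?_))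
  · rintro _ ⟨s, rfl⟩
    refine Subgroup.mem_normalizer_fintype ?_
    rintro _ ⟨⟨g, hg⟩, rfl⟩
    obtain ⟨hg', h1⟩ := H.mem_Sim0.1 hg
    exact ⟨⟨_, H.mem_Sim0.2 ⟨(cjS s ⟨g, hg'⟩).2, (H.dS_cjS s _).trans h1⟩⟩,
      (Cov.aut_conj (C := C) ⟨s.1, Semi_le_Nrm_E s.2⟩ (Sim_le_NrmL hg') (Sim_le_NrmL (cjS s ⟨g, hg'⟩).2)).symm⟩
  · rw [inv_eq_of_mul_eq_one_right (theta_mul C)]; exact theta_conj C hx

theorem fld_comm8 (σ : F ≃+* F) (g : Sim (plusForm 4 F)) :
    C.out ⟨_, Sim_le_NrmL g.2⟩ * C.out ⟨_, Semi_le_Nrm_E (plus_fld_mem' 4 σ)⟩ =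
      C.out ⟨_, Semi_le_Nrm_E (plus_fld_mem' 4 σ)⟩ * C.out ⟨_, Sim_le_NrmL g.2⟩ := by
  have H := ev8 F
  let R := (fth_orth' H.nd H.three C).orepR Semi_le_Nrm_E
  have key : ∀ g : Sim (plusForm 4 F), sqSign F (H.ml g) = 1 →
      Commute (C.out ⟨_, Sim_le_NrmL g.2⟩) (C.out ⟨_, Semi_le_Nrm_E (plus_fld_mem' 4 σ)⟩) := fun g hg => by
    obtain ⟨c, k, rfl⟩ := exists_decomp (H.ml_spec g) hg
    have h1 := H.comm_isom R (s := ⟨_, plus_fld_mem' 4 σ⟩) ((H.sq_eq (l := 1) (plus_fld 4 _)).trans (map_one _)) k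
    rw [← one_mul (R.ρl (inI _ k)), ← Ev.ρl_scS R c, ← map_mul] at h1
    exact (congrArg Subtype.val h1).symm
  obtain ⟨a, ha, h1⟩ := exists_Lm (H.ml g)
  have h2 := key (g * ⟨Lm a ha, _, Lm_semi a ha⟩) (by
    rw [map_mul, map_mul, show sqSign F (H.ml ⟨Lm a ha, _⟩) = _ from congrArg Prod.snd h1, Int.units_mul_self])
  have h3 := key ⟨_, (tl_refl a ha).1.1⟩ (by
    rw [show (⟨_, (tl_refl a ha).1.1⟩ : Sim _) = inI _ (reflI _ a ha * r1 F) from rfl, H.ml_inI, map_one])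
  have h4 : Commute (QuotientGroup.mk' (Cfsg.Inn P) (theta C)) (C.out ⟨_, Semi_le_Nrm_E (plus_fld_mem' 4 σ)⟩) :=
    congrArg (QuotientGroup.mk' (Cfsg.Inn P)) (theta_fld C σ (plus_fld_mem' 4 σ))
  have h5 := (h4.mul_left h3).mul_left h4.inv_left
  have h7 := congrArg (QuotientGroup.mk' (Cfsg.Inn P)) (theta_tl C (tl_refl a ha))
  rw [map_mul, map_mul] at h7
  erw [h7, mul_inv_cancel_right] at h5
  have h6 := h2.mul_left h5.inv_left
  rw [show C.out ⟨_, Sim_le_NrmL (g * ⟨Lm a ha, _, Lm_semi a ha⟩).2⟩ = C.out ⟨_, Sim_le_NrmL g.2⟩ *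
    C.out ⟨_, Semi_le_Nrm_E ⟨_, Lm_semi a ha⟩⟩ from (congrArg C.out (Subtype.ext (map_mul _ _ _))).trans
      (map_mul _ _ _)] at h6
  erw [mul_inv_cancel_right] at h6
  exact h6

include C

open _root_.Classical in
theorem card_out8 : Nat.card (Cfsg.Out P) = 3 * (if (2 : F) = 0 then 2 else 8) * Nat.card (F ≃+* F) := by
  letI := Fintype.ofFinite F
  have H := ev8 F
  let R := (fth_orth' H.nd H.three C).orepR Semi_le_Nrm_E
  rw [← (C.out.comp (Subgroup.inclusion Semi_le_Nrm_E)).range.index_mul_card, index_out, index8,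
    card_eq_of_surj _ (tau_surj_of_fld R (plus_fld_mem 4)), H.card_ker, mul_assoc]
  congr 2
  split_ifs with h1 h2
  · rfl
  · rfl
  · rw [H.sp_neg h1 (η := 1) (plusForm_isType 4), if_neg (fun h => absurd h.2 (by decide))] at h2
    exact absurd rfl h2

theorem out8 : ∃ j : DihedralGroup 3 →* Cfsg.Out P, j (.r 1) = QuotientGroup.mk' _ (rho C * theta C) ∧
    Nonempty (Cfsg.Out P ≃* ↥(((C.linAut (ev8 F).le_NrmL).range.map (QuotientGroup.mk' _)) ⊔ j.range) ×
      (F ≃+* F)) := by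
  have H := ev8 F
  haveI : Finite (V8 F ≃ₗ[F] V8 F) := Finite.of_injective _ DFunLike.coe_injective
  haveI : Finite P := Finite.of_surjective _ C.surj
  haveI : Finite (MulAut P) := Finite.of_injective _ DFunLike.coe_injective
  haveI : Finite (F ≃+* F) := Finite.of_injective _ (DFunLike.coe_injective (F := F ≃+* F))
  haveI := (normal8 C).map _ (QuotientGroup.mk'_surjective (Cfsg.Inn P))
  let j := (QuotientGroup.mk' (Cfsg.Inn P)).comp (dihedralHom (n := 3) (rho C * theta C) (rho C) (rho_theta C)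
    (rho_mul C) (by rw [_root_.mul_inv_rev, inv_eq_of_mul_eq_one_right (rho_mul C),
      inv_eq_of_mul_eq_one_right (theta_mul C), mul_assoc]))
  have j1 : j (.r 1) = QuotientGroup.mk' _ (rho C * theta C) := congrArg (QuotientGroup.mk' _) (pow_one _)
  have j2 : j (.sr 0) = QuotientGroup.mk' _ (rho C) := congrArg (QuotientGroup.mk' _) (mul_one _)
  have j3 : j (.sr 1) = QuotientGroup.mk' _ (theta C) := by
    rw [show DihedralGroup.sr 1 = .sr 0 * .r 1 from rfl, map_mul, j1, j2, ← map_mul, ← mul_assoc, rho_mul, one_mul]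
  let φ : (F ≃+* F) →* Cfsg.Out P := C.out.comp ((fld _).codRestrict _ fun σ => Semi_le_Nrm_E (plus_fld_mem' 4 σ))
  refine ⟨j, j1, prod_of_gen _ φ (fun x hx σ => ?_) (fun x => ?_) ?_⟩
  · refine (sup_le ?_ ?_ : _ ≤ Subgroup.centralizer {φ σ}) hx _ rfl |>.symm
    · rintro _ ⟨_, ⟨g, rfl⟩, rfl⟩
      exact Subgroup.mem_centralizer_singleton_iff.2 (fld_comm8 C σ ⟨g.1, H.Sim0_le g.2⟩)
    · have h1 : j (.sr 0) ∈ Subgroup.centralizer {φ σ} :=
        j2 ▸ Subgroup.mem_centralizer_singleton_iff.2 (fld_comm8 C σ (inI _ (r1 F)))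
      have h2 : j (.sr 1) ∈ Subgroup.centralizer {φ σ} := j3 ▸ Subgroup.mem_centralizer_singleton_iff.2
        (congrArg (QuotientGroup.mk' (Cfsg.Inn P)) (theta_fld C σ (plus_fld_mem' 4 σ)))
      rintro _ ⟨d, rfl⟩
      have : ∀ d : DihedralGroup 3, d = 1 ∨ d = .sr 0 ∨ d = .sr 1 ∨ d = .sr 0 * .sr 1 ∨ d = .sr 1 * .sr 0 ∨
        d = .sr 0 * .sr 1 * .sr 0 := by decide
      rcases this d with rfl | rfl | rfl | rfl | rfl | rfl
      exacts [j.map_one ▸ one_mem _, h1, h2, j.map_mul _ _ ▸ mul_mem h1 h2, j.map_mul _ _ ▸ mul_mem h2 h1,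
        j.map_mul _ _ ▸ mul_mem (j.map_mul _ _ ▸ mul_mem h1 h2) h1]
  · have key : ∀ x ∈ (semiAut C).range, ∃ l ∈ ((C.linAut (ev8 F).le_NrmL).range.map (QuotientGroup.mk' _)) ⊔ j.range,
        ∃ a, QuotientGroup.mk' _ x = l * φ a := by
      rintro _ ⟨s, rfl⟩
      obtain ⟨x, hx⟩ := GamL.exists_lin (s := s.1 * (fld _ s.1.τ)⁻¹) fun c => by simp
      have h1 : x ∈ Sim (plusForm 4 F) := by
        change GamL.lin x ∈ Semi _
        rw [hx]; exact mul_mem s.2 (inv_mem (plus_fld_mem' 4 _))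
      refine ⟨C.out ⟨_, Sim_le_NrmL h1⟩, ?_, s.1.τ, Eq.trans (congrArg C.out (Subtype.ext ?_)) (map_mul _ _ _)⟩
      · rcases Int.units_eq_one_or (H.dS ⟨x, h1⟩) with h2 | h2
        · exact Subgroup.mem_sup_left ⟨_, ⟨⟨x, H.mem_Sim0.2 ⟨h1, h2⟩⟩, rfl⟩, rfl⟩
        · refine (Subgroup.mul_mem_cancel_right _ (Subgroup.mem_sup_right (MonoidHom.mem_range.2 ⟨_, j2⟩))).1
            (Subgroup.mem_sup_left ⟨_, ⟨⟨_, H.mem_Sim0.2 ⟨(⟨x, h1⟩ * inI _ (r1 F)).2, ?_⟩⟩, rfl⟩,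
              (congrArg C.out (Subtype.ext (map_mul _ _ _))).trans (map_mul _ _ _)⟩)
          change H.dS (⟨x, h1⟩ * inI _ (r1 F)) = 1
          rw [map_mul, h2, H.dS_inI, r1, H.good.dick_reflI]; rfl
      · exact eq_mul_of_mul_inv_eq hx.symm
    obtain ⟨x, rfl⟩ := QuotientGroup.mk'_surjective _ x
    rcases cover8 C x with h | h | h
    · exact key x h
    · obtain ⟨l, hl, a, h1⟩ := key _ h
      exact ⟨_, mul_mem (Subgroup.mem_sup_right ⟨_, j3⟩) hl, a, by rw [mul_assoc, ← h1, ← map_mul, mul_inv_cancel_left]⟩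
    · obtain ⟨l, hl, a, h1⟩ := key _ h
      exact ⟨_, mul_mem (Subgroup.mem_sup_right ⟨_, j1⟩) hl, a, by rw [mul_assoc, ← h1, ← map_mul, mul_inv_cancel_left]⟩
  · rw [card_out8 C]
    refine Nat.mul_le_mul_right _ ((Nat.card_le_card_of_surjective _ (surj_sup _ j)).trans ?_)
    rw [Nat.card_prod, DihedralGroup.nat_card, ← Subgroup.relIndex_ker, QuotientGroup.ker_mk']
    split_ifs with h2
    · rw [H.inn_two C h2, Subgroup.relIndex_self]
    · letI := Fintype.ofFinite F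
      rw [H.relIndex_four C h2 (by
        rw [H.sp_neg h2 (η := 1) (plusForm_isType 4), if_neg (fun h => absurd h.2 (by decide))]; rfl)]

theorem out8_even (h2 : (2 : F) = 0) : Nonempty (Cfsg.Out P ≃* Equiv.Perm (Fin 3) × (F ≃+* F)) := by
  haveI : Finite (F ≃+* F) := Finite.of_injective _ (DFunLike.coe_injective (F := F ≃+* F))
  obtain ⟨j, -, ⟨e⟩⟩ := out8 C
  have h1 := Nat.card_congr e.toEquiv
  rw [card_out8 C, if_pos h2, Nat.card_prod, Nat.mul_left_inj Nat.card_pos.ne'] at h1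
  have h3 : (C.linAut (ev8 F).le_NrmL).range.map (QuotientGroup.mk' (Cfsg.Inn P)) ⊔ j.range = j.range := by
    rw [(ev8 F).inn_two C h2, (Subgroup.map_eq_bot_iff _).2 (QuotientGroup.ker_mk' _).ge, bot_sup_eq]
  obtain ⟨e'⟩ := nonempty_S3
  exact ⟨e.trans (((MulEquiv.subgroupCongr h3).trans ((MulEquiv.ofBijective j.rangeRestrict
    (j.rangeRestrict_surjective.bijective_of_nat_card_le (by
      rw [← h3, ← h1, DihedralGroup.nat_card]))).symm.trans e')).prodCongr (MulEquiv.refl _))⟩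

theorem out8_odd (h2 : (2 : F) ≠ 0) : Nonempty (Cfsg.Out P ≃* Equiv.Perm (Fin 4) × (F ≃+* F)) := by
  letI := Fintype.ofFinite F
  have H := ev8 F
  haveI : Finite (V8 F ≃ₗ[F] V8 F) := Finite.of_injective _ DFunLike.coe_injective
  haveI : Finite P := Finite.of_surjective _ C.surj
  haveI : Finite (MulAut P) := Finite.of_injective _ DFunLike.coe_injective
  haveI : Finite (F ≃+* F) := Finite.of_injective _ (DFunLike.coe_injective (F := F ≃+* F))
  haveI := (normal8 C).map _ (QuotientGroup.mk'_surjective (Cfsg.Inn P))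
  obtain ⟨j, j1, ⟨e⟩⟩ := out8 C
  have h1 := Nat.card_congr e.toEquiv
  rw [card_out8 C, if_neg h2, Nat.card_prod, Nat.mul_left_inj Nat.card_pos.ne'] at h1
  obtain ⟨c, hc⟩ := exists_not_isSquare h2
  have hc0 : c ≠ 0 := by rintro rfl; exact hc IsSquare.zero
  obtain ⟨a, ha, h3⟩ := exists_Lm (Units.mk0 c hc0)
  let R := (fth_orth' H.nd H.three C).orepR Semi_le_Nrm_E
  obtain ⟨e'⟩ := nonempty_S4 _ j (by
    rw [← Subgroup.relIndex_ker, QuotientGroup.ker_mk', H.relIndex_four C h2 (by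
        rw [H.sp_neg h2 (η := 1) (plusForm_isType 4), if_neg (fun h => absurd h.2 (by decide))]; rfl)]) h1.symm
    ⟨_, ⟨⟨_, H.SO_le (g := reflI _ a ha * r1 F) (by simp [r1])⟩, rfl⟩, rfl⟩ fun h => by
      have h4 := congrArg Subtype.val (H.comm_isom R (s := ⟨_, lin_mem_Semi (r1 F).2⟩)
        ((H.sq_eq (l := 1) (isSemi_lin (r1 F).2)).trans (map_one _)) (reflI _ a ha * r1 F))
      have h5 := congrArg (QuotientGroup.mk' (Cfsg.Inn P)) (theta_tl C (tl_refl a ha))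
      rw [j1, map_mul, mul_assoc, ← mul_assoc _ _ (QuotientGroup.mk' _ (theta C))] at h
      rw [map_mul, map_mul] at h5
      have key : ∀ {r t z l : Cfsg.Out P}, r * (t * z) = z * r * t → r * z = z * r → t * z = l * t → l = z := by
        intro r t z l a b c
        rwa [← b, c, mul_assoc, mul_left_cancel_iff, mul_right_cancel_iff] at a
      replace h := key h h4 h5
      have h6 := H.chi_of_ZE (g := _ * _⁻¹) ((R.ρl_eq_iff (g := ⟨_, _, Lm_semi a ha⟩)
        (k := inI _ (reflI _ a ha * r1 F))).1 (Subtype.ext h))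
      rw [map_mul, map_inv, h3, H.chi_inI, sqSign_eq_neg_one_iff.2 hc] at h6
      simpa using congrArg Prod.snd h6
  exact ⟨e.trans (e'.prodCongr (MulEquiv.refl _))⟩

end O8

end Cfsg.Agent.Perm.Aut
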