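import Cfsg.Agent.Lib.Perm.Aut2

/-! Automorphisms of the classical groups of a form: semisimilarities and the action on points. -/

set_option autoImplicit false

namespace Cfsg.Agent.Perm.Aut

open Module Cfsg.Agent.Classical Cfsg.Agent.Classical.Form

/-- compatibility of a kind with field automorphisms -/
class Cmp {F : Type*} [Field F] (K : Kind F) : Prop where
  ε : ∀ τ : F ≃+* F, τ K.ε = K.ε
  κ : ∀ τ : F ≃+* F, τ K.κ = K.κ
  σ : ∀ (τ : F ≃+* F) a, τ (K.σ a) = K.σ (τ a)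
  T : ∀ (τ : F ≃+* F) a, τ (K.T a) = K.T (τ a)
  Tl : ∀ l a, K.σ l = l → K.T (l * a) = l * K.T a

instance cmpSymp (F : Type*) [Field F] : Cmp (Kind.symp F) := ⟨by simp, by simp, by simp, by simp, by simp⟩

instance cmpOrth (F : Type*) [Field F] : Cmp (Kind.orth F) :=
  ⟨by simp, fun τ => by simpa using map_ofNat τ 2, by simp, by simp, by simp⟩

theorem ringHom_comm {F : Type*} [Field F] [Finite F] (σ τ : F →+* F) (a : F) : τ (σ a) = σ (τ a) := by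
  obtain ⟨ζ, hζ⟩ := IsCyclic.exists_monoid_generator (α := Fˣ)
  by_cases ha : a = 0
  · simp [ha]
  obtain ⟨n, hn⟩ := hζ (Units.mk0 a ha)
  obtain ⟨i, hi⟩ := hζ (Units.map σ.toMonoidHom ζ)
  obtain ⟨j, hj⟩ := hζ (Units.map τ.toMonoidHom ζ)
  have h1 : a = (ζ : F) ^ n := by simpa using congrArg Units.val hn.symm
  have h2 : σ ζ = (ζ : F) ^ i := by simpa using congrArg Units.val hi.symm
  have h3 : τ ζ = (ζ : F) ^ j := by simpa using congrArg Units.val hj.symm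
  rw [h1]
  simp only [map_pow, h2, h3, ← pow_mul]
  congr 1; ring

instance cmpUnit {F : Type*} [Field F] [Finite F] (σ : F →+* F) (h) : Cmp (Kind.unit σ h) :=
  ⟨by simp, by simp, fun τ a => ringHom_comm σ τ.toRingHom a, fun τ a => by
    simpa using ringHom_comm σ τ.toRingHom a, fun l a hl => by
    simp only [Kind.unit_σ] at hl
    simp [hl, mul_add]⟩

section
variable {F V : Type*} [Field F] [AddCommGroup V] [Module F V] {K : Kind F} {Φ : Form K V}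

/-- semisimilarities with a given multiplier -/
structure IsSemi (Φ : Form K V) (s : GamL F V) (l : F) : Prop where
  ne : l ≠ 0
  σl : K.σ l = l
  B : ∀ u v, Φ.B (s.g u) (s.g v) = l * s.τ (Φ.B u v)
  N : ∀ v, Φ.N (s.g v) = l * s.τ (Φ.N v)

theorem isSemi_lin {g : V ≃ₗ[F] V} (hg : g ∈ Φ.Isom) : IsSemi Φ (GamL.lin g) 1 :=
  ⟨one_ne_zero, map_one _, fun u v => by simpa using hg.1 u v, fun v => by simpa using hg.2 v⟩

variable [hK : Cmp K]

theorem IsSemi.mul {s t : GamL F V} {l m : F} (hs : IsSemi Φ s l) (ht : IsSemi Φ t m) :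
    IsSemi Φ (s * t) (l * s.τ m) :=
  ⟨mul_ne_zero hs.ne (by simpa using ht.ne), by rw [map_mul, hs.σl, ← hK.σ, ht.σl],
    fun u v => by simp [hs.B, ht.B, mul_assoc], fun v => by simp [hs.N, ht.N, mul_assoc]⟩

theorem IsSemi.inv {s : GamL F V} {l : F} (hs : IsSemi Φ s l) : IsSemi Φ s⁻¹ (s.τ.symm l⁻¹) := by
  refine ⟨by simpa using hs.ne, by rw [← hK.σ, map_inv₀, hs.σl], fun u v => ?_, fun v => ?_⟩
  · have := hs.B (s.g.symm u) (s.g.symm v)
    simp only [AddEquiv.apply_symm_apply] at this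
    simp [this, hs.ne]
  · have := hs.N (s.g.symm v)
    simp only [AddEquiv.apply_symm_apply] at this
    simp [this, hs.ne]

/-- the group of semisimilarities -/
def Semi (Φ : Form K V) : Subgroup (GamL F V) where
  carrier := {s | ∃ l, IsSemi Φ s l}
  one_mem' := ⟨1, isSemi_lin (one_mem _)⟩
  mul_mem' := fun ⟨_, h⟩ ⟨_, h'⟩ => ⟨_, h.mul h'⟩
  inv_mem' := fun ⟨_, h⟩ => ⟨_, h.inv⟩

theorem IsSemi.isEich {s : GamL F V} {l : F} (hs : IsSemi Φ s l) {e y : V} {a : F}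
    (h : Φ.IsEich e y a) : Φ.IsEich (s.g e) (l⁻¹ • s.g y) (l⁻¹ * s.τ a) := by
  refine ⟨by simp [hs.N, h.he], by simp [hs.B, h.hy], ?_⟩
  rw [hK.Tl _ _ (by rw [map_inv₀, hs.σl]), ← hK.T, h.ha, Φ.N_smul, hs.N, map_inv₀, hs.σl]
  field_simp [hs.ne]

theorem IsSemi.cj_eich {s : GamL F V} {l : F} (hs : IsSemi Φ s l) {e y : V} {a : F}
    (h : Φ.IsEich e y a) : s.cj (Φ.eich e y a h) = Φ.eich _ _ _ (hs.isEich h) := by
  ext v
  obtain ⟨v, rfl⟩ := s.g.surjective v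
  have := hs.ne
  simp only [GamL.cj_g, eich_apply, map_add, map_sub, s.smul', map_mul, hK.ε, Φ.B_smul_right, hs.B,
    map_inv₀, hs.σl]
  match_scalars <;> field_simp

theorem IsSemi.cj_Isom {s : GamL F V} {l : F} (hs : IsSemi Φ s l) {x : V ≃ₗ[F] V} (hx : x ∈ Φ.Isom) :
    s.cj x ∈ Φ.Isom := by
  refine ⟨fun u v => ?_, fun v => ?_⟩
  · obtain ⟨u, rfl⟩ := s.g.surjective u
    obtain ⟨v, rfl⟩ := s.g.surjective v
    simp [hs.B, hx.1]
  · obtain ⟨v, rfl⟩ := s.g.surjective v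
    simp [hs.N, hx.2]

theorem Semi_le_Nrm_E : Semi Φ ≤ Nrm Φ.E := mem_Nrm_of (by
  rintro s ⟨l, hs⟩ x hx
  induction hx using Subgroup.closure_induction with
  | mem x hx =>
    obtain ⟨e, y, a, h, rfl⟩ := hx
    rw [hs.cj_eich]; exact Φ.eich_mem_E _ _ _ _
  | one => simpa using one_mem _
  | mul x y _ _ hx hy => rw [s.cj_mul]; exact mul_mem hx hy
  | inv x _ hx => rw [s.cj_inv]; exact inv_mem hx)

theorem Semi_le_Nrm_Isom : Semi Φ ≤ Nrm Φ.Isom := mem_Nrm_of (by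
  rintro s ⟨l, hs⟩ x hx
  exact hs.cj_Isom hx)

theorem lin_mem_Semi {g : V ≃ₗ[F] V} (hg : g ∈ Φ.Isom) : GamL.lin g ∈ Semi Φ := ⟨1, isSemi_lin hg⟩

theorem IsSemi.U_cj {s : GamL F V} {l : F} (hs : IsSemi Φ s l) {e : V} (he : Φ.N e = 0)
    (he' : Φ.N (s.g e) = 0) (x : V ≃ₗ[F] V) : x ∈ Φ.Ugrp e he ↔ s.cj x ∈ Φ.Ugrp (s.g e) he' := by
  constructor
  · rintro ⟨y, a, h, rfl⟩
    rw [hs.cj_eich]; exact eich_mem_U _
  · rintro ⟨y, a, h, e1⟩
    rw [← s.inv_cj_cj x, e1, hs.inv.cj_eich]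
    exact ⟨_, _, _, Φ.eich_congr' _ (by simp) rfl rfl⟩

variable {P : Type*} [Group P]

/-- the automorphisms induced by semisimilarities -/
noncomputable def semiAut (C : Cov Φ.E P) : Semi Φ →* MulAut P :=
  C.aut.comp (Subgroup.inclusion Semi_le_Nrm_E)

theorem T_semiAut (C : Cov Φ.E P) (s : Semi Φ) {x : V ≃ₗ[F] V} (hx : x ∈ Φ.E) :
    C.T (semiAut C s) x (s.1.cj x) := Cov.T_aut ⟨s.1, Semi_le_Nrm_E s.2⟩ hx

theorem inner_mem (C : Cov Φ.E P) {g : V ≃ₗ[F] V} (hg : g ∈ Φ.E) :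
    C.aut ⟨GamL.lin g, lin_mem_Nrm hg⟩ ∈ (semiAut C).range :=
  ⟨⟨GamL.lin g, lin_mem_Semi (Φ.E_le hg)⟩, rfl⟩

omit hK

/-- correspondence of singular points -/
def Pt (C : Cov Φ.E P) (α : MulAut P) (u u' : V) : Prop :=
  ∃ (hu : Φ.Sing u) (hu' : Φ.Sing u'), C.Cor α (Φ.Ugrp u hu.2) (Φ.Ugrp u' hu'.2)

variable {C : Cov Φ.E P} {α β : MulAut P} {u u' u'' v v' : V}

theorem Pt.left (h : Pt C α u u') : Φ.Sing u := h.1
theorem Pt.right (h : Pt C α u u') : Φ.Sing u' := h.2.1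

theorem Pt.symm (h : Pt C α u u') : Pt C α⁻¹ u' u := by
  obtain ⟨a, b, h⟩ := h; exact ⟨b, a, h.symm⟩

theorem Pt.symm' (h : Pt C α⁻¹ u u') : Pt C α u' u := by simpa using h.symm

theorem Pt.trans (h : Pt C α u u') (h' : Pt C β u' u'') : Pt C (β * α) u u'' := by
  obtain ⟨a, b, h⟩ := h
  obtain ⟨a', b', h'⟩ := h'
  exact ⟨a, b', h.trans h'⟩

theorem Pt.map (h : Pt C α u u') {g k : V ≃ₗ[F] V} (hT : C.T α g k) : Pt C α (g u) (k u') := by
  obtain ⟨a, b, h⟩ := h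
  exact ⟨a.map (Φ.E_le hT.left), b.map (Φ.E_le hT.right), h.conj hT (U_conj (Φ.E_le hT.left) _ _)
    (U_conj (Φ.E_le hT.right) _ _)⟩

theorem Pt.smul (h : Pt C α u u') {c d : F} (hc : c ≠ 0) (hd : d ≠ 0) : Pt C α (c • u) (d • u') := by
  obtain ⟨a, b, h⟩ := h
  refine ⟨a.smul hc, b.smul hd, ?_⟩
  rwa [U_smul hc a.2, U_smul hd b.2]

theorem Pt.of_smul {c d : F} (h : Pt C α (c • u) (d • u')) : Pt C α u u' := by
  have hc : c ≠ 0 := by rintro rfl; exact h.left.1 (zero_smul _ _)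
  have hd : d ≠ 0 := by rintro rfl; exact h.right.1 (zero_smul _ _)
  simpa [smul_smul, hc, hd] using h.smul (inv_ne_zero hc) (inv_ne_zero hd)

theorem pt_semi [Cmp K] (s : Semi Φ) (hu : Φ.Sing u) : Pt C (semiAut C s) u (s.1.g u) := by
  obtain ⟨l, hs⟩ := s.2
  have h1 : Φ.Sing (s.1.g u) := ⟨by simpa using hu.1, by simp [hs.N, hu.2]⟩
  exact ⟨hu, h1, Cov.cor_aut ⟨s.1, Semi_le_Nrm_E s.2⟩ (Φ.Ugrp_le_E _ _) (hs.U_cj _ _)⟩

theorem pt_lin {g : V ≃ₗ[F] V} (hg : g ∈ Φ.E) (hu : Φ.Sing u) :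
    Pt C (C.aut ⟨GamL.lin g, lin_mem_Nrm hg⟩) u (g u) :=
  ⟨hu, hu.map (Φ.E_le hg), Cov.cor_aut _ (Φ.Ugrp_le_E _ _) (U_conj (Φ.E_le hg) _ _)⟩

variable [FiniteDimensional F V] [Finite F] {e f : V}

omit [Finite F] in
theorem Nice.exists_pt (N : Nice Φ e f) (h : Pt C α u u') (hv : Φ.Sing v) : ∃ v', Pt C α v v' := by
  obtain ⟨g, hg, c, hc, h1⟩ := N.rich.trans N.nd h.left hv
  obtain ⟨k, hk⟩ := C.exists_T α hg
  have := h.map hk
  rw [h1, ← one_smul F (k u')] at this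
  exact ⟨_, this.of_smul⟩

variable (p : ℕ) [Fact p.Prime] [CharP F p]
include p

omit [Finite F] in
theorem Nice.pt_unique (N : Nice Φ e f) (h : Pt C α u u') (h' : Pt C α u u'') :
    ∃ c : F, c ≠ 0 ∧ u'' = c • u' := by
  obtain ⟨a, b, h⟩ := h
  obtain ⟨a', b', h'⟩ := h'
  obtain ⟨c, hc⟩ := Submodule.mem_span_singleton.1
    (mem_span_of_U_le N.rich N.nd b (h.unique h' (U_isPGroup p _) (U_isPGroup p _)).le)
  exact ⟨c, by rintro rfl; exact b'.1 (by simpa using hc.symm), hc.symm⟩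

omit [Finite F] in
theorem Nice.pt_opp (N : Nice Φ e f) (h : Pt C α u u') (h' : Pt C α v v') (hB : Φ.B u v ≠ 0) :
    Φ.B u' v' ≠ 0 := by
  intro h0
  obtain ⟨y, hy, hy1, c, hc, hy2⟩ : ∃ y ∈ Φ.Ugrp u' h.right.2, y ≠ 1 ∧ ∃ c : F, c ≠ 0 ∧ y v' = c • v' := by
    by_cases h1 : v' ∈ (F ∙ u')
    · obtain ⟨g, hg, c, hc, h2⟩ := N.rich.trans N.nd N.hyp.sing_e h.right
      obtain ⟨x, hx, hx1⟩ := N.U_ne
      have h3 := (U_conj (Φ.E_le hg) _ (N.hyp.sing_e.map (Φ.E_le hg)).2 x).1 hx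
      have h4 : Φ.Ugrp (g e) (N.hyp.sing_e.map (Φ.E_le hg)).2 = Φ.Ugrp u' h.right.2 := by
        rw [← U_smul hc h.right.2 (h.right.smul hc).2]; simp only [h2]
      rw [h4] at h3
      refine ⟨_, h3, by simpa [mul_inv_eq_one] using hx1, 1, one_ne_zero, ?_⟩
      obtain ⟨d, rfl⟩ := Submodule.mem_span_singleton.1 h1
      rw [map_smul, U_self h3, one_smul]
    · have h2 : Φ.IsEich u' v' 0 := ⟨h.right.2, Φ.B_symm_zero h0, by simp [h'.right.2]⟩
      refine ⟨_, eich_mem_U h2, fun h3 => ?_, 1, one_ne_zero, ?_⟩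
      · obtain ⟨z, hz1, hz2⟩ := N.nd.exists_perp_one h1
        have h4 := DFunLike.congr_fun h3 z
        rw [eich_of_perp _ _ _ _ _ (Φ.B_symm_zero (hz1 _ (Submodule.mem_span_singleton_self _)))] at h4
        have h5 : Φ.B z v' = 0 := by simpa [h.right.1] using h4
        rw [Φ.B_symm_zero h5] at hz2
        exact zero_ne_one hz2
      · rw [eich_of_perp _ _ _ _ _ h2.hy, Φ.B_self_of_N h'.right.2]; simp
  obtain ⟨a, b, hc1⟩ := h
  obtain ⟨x, hx, hT⟩ := hc1.2 y hy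
  have h1 := h'.map hT
  rw [hy2, ← one_smul F (x v)] at h1
  obtain ⟨d, hd, h2⟩ := N.pt_unique p h'.symm h1.of_smul.symm
  have hh := isHyp_of_ne a.2 h'.left.2 hB
  obtain ⟨w, t, h3, hw, rfl⟩ := exists_eich_W hh hx
  have h4 := (eich_uni p h3).fix (v := v) (by
    rw [h2]; exact Submodule.smul_mem _ _ (Submodule.mem_span_singleton_self _))
  have h5 := eich_inj hh hw (zero_mem _) (h1 := h3) (h2 := IsEich.zero a.2) (by
    rw [map_smul, h4, eich_zero]; rfl)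
  obtain ⟨rfl, rfl⟩ := h5
  rw [eich_zero] at hT
  exact hy1 (hT.eq_one (uni_of_mem (U_isPGroup p _) hy))

omit [Finite F] in
theorem Nice.pt_perp (N : Nice Φ e f) (h : Pt C α u u') (h' : Pt C α v v') :
    Φ.B u v = 0 ↔ Φ.B u' v' = 0 :=
  ⟨fun h0 => by_contra fun h1 => N.pt_opp p h.symm h'.symm h1 h0,
    fun h0 => by_contra fun h1 => N.pt_opp p h h' h1 h0⟩

omit [Finite F] in
theorem Nice.pt_stab (N : Nice Φ e f) (h : Pt C α u u') {g k : V ≃ₗ[F] V} (hT : C.T α g k) {c : F}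
    (hg : g u = c • u) : ∃ d : F, d ≠ 0 ∧ k u' = d • u' := by
  have := h.map hT
  rw [hg, ← one_smul F (k u')] at this
  exact N.pt_unique p h this.of_smul

omit [Finite F] in
/-- normalisation to a fixed hyperbolic pair -/
theorem Nice.exists_norm [Cmp K] (N : Nice Φ e f) (h : Pt C α u u') :
    ∃ γ ∈ (semiAut C).range, Pt C (γ * α) e e ∧ Pt C (γ * α) f f := by
  obtain ⟨e', he'⟩ := N.exists_pt h N.hyp.sing_e
  obtain ⟨g, hg, c, hc, h1⟩ := N.rich.trans N.nd he'.right N.hyp.sing_e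
  have h2 := he'.trans (pt_lin hg he'.right)
  rw [h1, ← one_smul F e, smul_smul] at h2
  replace h2 := h2.of_smul
  obtain ⟨f', hf'⟩ := N.exists_pt h2 N.hyp.sing_f
  have h3 := N.pt_opp p h2 hf' (by rw [N.hyp.hef]; exact one_ne_zero)
  obtain ⟨y, a, h4, h5⟩ := exists_eich_sing N.hyp.he hf'.right.2 N.hyp.hf h3
    (by rw [N.hyp.hef]; exact one_ne_zero)
  refine ⟨_, mul_mem (inner_mem C (Φ.eich_mem_E e y a h4)) (inner_mem C hg), ?_, ?_⟩
  · have := h2.trans (pt_lin (Φ.eich_mem_E e y a h4) N.hyp.sing_e)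
    rwa [eich_self, ← mul_assoc] at this
  · have := hf'.trans (pt_lin (Φ.eich_mem_E e y a h4) hf'.right)
    rw [h5, ← mul_assoc, ← one_smul F f, smul_smul] at this
    exact this.of_smul

omit [Finite F] in
/-- an automorphism fixing the root elements at one point and an opposite point is trivial -/
theorem Nice.eq_one (N : Nice Φ e f) (he : Pt C α e e) (hf : Pt C α f f)
    (h : ∀ x ∈ Φ.Ugrp e N.hyp.he, C.T α x x) : α = 1 := by
  have h1 : ∀ v, Φ.Sing v → Φ.B e v ≠ 0 → Pt C α v v := by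
    intro v hv hB
    obtain ⟨y, a, h4, h5⟩ := exists_eich_sing N.hyp.he N.hyp.hf hv.2
      (by rw [N.hyp.hef]; exact one_ne_zero) hB
    have := hf.map (h _ (eich_mem_U h4))
    rw [h5] at this
    exact this.of_smul
  have h2 : ∀ v, Φ.Sing v → Pt C α v v := by
    intro v hv
    by_cases hB : Φ.B e v = 0
    swap
    · exact h1 v hv hB
    obtain ⟨v', hv'⟩ := N.exists_pt he hv
    by_cases h3 : v' ∈ (F ∙ v)
    · obtain ⟨c, rfl⟩ := Submodule.mem_span_singleton.1 h3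
      rw [← one_smul F v, smul_smul] at hv'
      exact hv'.of_smul
    by_cases h4 : e ∈ (F ∙ v)
    · obtain ⟨c, rfl⟩ := Submodule.mem_span_singleton.1 h4
      exact he.of_smul
    exfalso
    have hB' := (N.pt_perp p he hv').1 hB
    obtain ⟨z, hz1, hz2, hz3⟩ := exists_two_ne N.nd h4 h3
    obtain ⟨a, ha⟩ := Φ.exists_hyp_of (z := (K.σ (Φ.B e z)⁻¹) • z) N.hyp.he
      (by rw [Φ.B_smul_right, K.σσ, inv_mul_cancel₀ hz2])
    have h5 := h1 _ ha.sing_f (by rw [ha.hef]; exact one_ne_zero)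
    have h6 := (N.pt_perp p hv' h5).1 (by
      simp [Φ.B_smul_right, hz1 v (Submodule.mem_span_singleton_self v), Φ.B_symm_zero hB])
    simp [Φ.B_smul_right, Φ.B_symm_zero hB', hz2, hz3] at h6
  refine Cov.eq_one_of_T (C := C) fun g hg => ?_
  obtain ⟨k, hk⟩ := C.exists_T α hg
  obtain ⟨c, hc⟩ := N.rich.scalar_of_fix N.hyp (g := k⁻¹ * g)
    (mul_mem (inv_mem (Φ.E_le hk.right)) (Φ.E_le hg)) (by
      intro v hv
      obtain ⟨c, hc, h3⟩ := N.pt_unique p ((h2 v hv).map hk) (h2 _ (hv.map (Φ.E_le hg)))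
      rw [LinearEquiv.mul_apply, h3, map_smul]
      simpa using Submodule.smul_mem (F ∙ v) c (Submodule.mem_span_singleton_self v))
  refine hk.of_sc hg (c := c) fun v => ?_
  rw [← map_smul, ← hc]; simp

end

end Cfsg.Agent.Perm.Aut
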