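import Cfsg.Agent.Lib.Perm.Aut3

/-! Automorphisms of the classical groups of a form: reconstruction of the semisimilarity. -/

set_option autoImplicit false

namespace Cfsg.Agent.Perm.Aut

open Module Cfsg.Agent.Classical Cfsg.Agent.Classical.Form

section
variable {F V : Type*} [Field F] [AddCommGroup V] [Module F V] {K : Kind F} {Φ : Form K V}

/-- Eichler transformations supported on the complement of a hyperbolic pair -/
def WE (Φ : Form K V) (e f : V) (g : V ≃ₗ[F] V) : Prop :=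
  ∃ u ∈ Φ.hperp e f, ∃ y ∈ Φ.hperp e f, ∃ a h, g = Φ.eich u y a h

theorem WE.mem {e f : V} {g : V ≃ₗ[F] V} (h : WE Φ e f g) : g ∈ Φ.E := by
  obtain ⟨u, -, y, -, a, h, rfl⟩ := h; exact Φ.eich_mem_E _ _ _ _

theorem WE.fix {e f : V} {g : V ≃ₗ[F] V} (h : WE Φ e f g) : g e = e ∧ g f = f := by
  obtain ⟨u, hu, y, hy, a, h, rfl⟩ := h; exact eich_W_fix hu hy h

theorem WE.map {e f : V} {g : V ≃ₗ[F] V} (h : WE Φ e f g) {w : V} (hw : w ∈ Φ.hperp e f) :
    g w ∈ Φ.hperp e f := (IsHyp.stab_hperp (Φ.E_le h.mem) h.fix.1 h.fix.2 w).1 hw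

theorem WE.inv {e f : V} {g : V ≃ₗ[F] V} (h : WE Φ e f g) : WE Φ e f g⁻¹ := by
  obtain ⟨u, hu, y, hy, a, h, rfl⟩ := h
  exact ⟨u, hu, -y, neg_mem hy, _, _, Φ.eich_inv h⟩

theorem WE.uni (p : ℕ) [Fact p.Prime] [CharP F p] {e f : V} {g : V ≃ₗ[F] V} (h : WE Φ e f g) :
    Uni p g := by
  obtain ⟨u, -, y, -, a, h, rfl⟩ := h; exact eich_uni p h

theorem isEich_W {e f y : V} (h : Φ.IsHyp e f) (hy : y ∈ Φ.hperp e f) {a : F} (ha : K.T a = Φ.N y) :
    Φ.IsEich e y a := ⟨h.he, (Φ.mem_hperp.1 hy).1, ha⟩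

theorem eich_conj_L {e y : V} {a c : F} (h : Φ.IsEich e y a) {g : V ≃ₗ[F] V} (hg : g ∈ Φ.Isom)
    (hc : c ≠ 0) (he : g e = c • e) :
    ∃ h', g * Φ.eich e y a h * g⁻¹ = Φ.eich e (K.σ c • g y) (c * K.σ c * a) h' := by
  rw [Φ.eich_conj hg, Φ.eich_congr' _ he rfl rfl, Φ.eich_smul _ hc]
  exact ⟨_, rfl⟩

theorem exists_semi_ext [hK : Cmp K] {e f : V} (h : Φ.IsHyp e f) (ψ : Φ.hperp e f ≃+ Φ.hperp e f)
    (τ : F ≃+* F) (hτ : ∀ s w, ψ (s • w) = τ s • ψ w) {l : F} (hl : l ≠ 0) (hl' : K.σ l = l)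
    (hB : ∀ w w' : Φ.hperp e f, Φ.B (ψ w) (ψ w') = l * τ (Φ.B w w'))
    (hN : ∀ w : Φ.hperp e f, Φ.N (ψ w) = l * τ (Φ.N w)) :
    ∃ s : GamL F V, IsSemi Φ s l ∧ s.τ = τ ∧ s.g e = l • e ∧ s.g f = f ∧
      ∀ w : Φ.hperp e f, s.g w = ψ w := by
  let m : F ≃+ F :=
    { toFun := fun a => l * τ a
      invFun := fun a => τ.symm (l⁻¹ * a)
      left_inv := fun a => by simp [hl]
      right_inv := fun a => by simp [hl]
      map_add' := fun a b => by simp [mul_add] }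
  let g : V ≃+ V := (h.coord.symm.toAddEquiv.trans (m.prodCongr (τ.toAddEquiv.prodCongr ψ))).trans
    h.coord.toAddEquiv
  have hg : ∀ (a b : F) (w : Φ.hperp e f), g (a • e + b • f + w) = (l * τ a) • e + τ b • f + ψ w := by
    intro a b w
    have : h.coord.symm (a • e + b • f + w) = (a, b, w) := h.coord.symm_apply_apply (a, b, w)
    change h.coord ((m.prodCongr (τ.toAddEquiv.prodCongr ψ)) (h.coord.symm _)) = _
    rw [this]; rfl
  have hd : ∀ v, ∃ (a b : F) (w : Φ.hperp e f), v = a • e + b • f + w := fun v => by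
    obtain ⟨a, b, y, hy, rfl⟩ := h.decomp v
    exact ⟨a, b, ⟨y, hy⟩, rfl⟩
  refine ⟨⟨g, τ, fun c v => ?_⟩, ⟨hl, hl', fun u v => ?_, fun v => ?_⟩, rfl, ?_, ?_, fun w => ?_⟩
  · obtain ⟨a, b, w, rfl⟩ := hd v
    rw [show c • (a • e + b • f + (w : V)) = (c * a) • e + (c * b) • f + (c • w : Φ.hperp e f) by
      simp [mul_smul], hg, hg, hτ]
    simp only [map_mul, Submodule.coe_smul]
    module
  · obtain ⟨a, b, w, rfl⟩ := hd u
    obtain ⟨a', b', w', rfl⟩ := hd v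
    simp only [hg]
    rw [h.B_decomp _ _ _ _ (ψ w).2 (ψ w').2, h.B_decomp _ _ _ _ w.2 w'.2, hB]
    simp only [map_add, map_mul, hK.σ, hK.ε, hl']
    ring
  · obtain ⟨a, b, w, rfl⟩ := hd v
    simp only [hg]
    rw [h.N_decomp _ _ (ψ w).2, h.N_decomp _ _ w.2, hN, mul_assoc, hK.Tl _ _ hl']
    simp only [map_add, map_mul, hK.σ, hK.T]
    ring
  · simpa using hg 1 0 0
  · simpa using hg 0 1 0
  · simpa using hg 0 0 w

variable [FiniteDimensional F V]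

/-- the full list of hypotheses -/
structure Nice2 (Φ : Form K V) (e f : V) : Prop extends Nice Φ e f where
  a2 : ∀ w ∈ Φ.hperp e f, (∀ w' ∈ Φ.hperp e f, Φ.B w' w = Φ.B w w') → (∀ g, WE Φ e f g → g w = w) → w = 0
  a3 : ∀ θ : Φ.hperp e f →+ Φ.hperp e f, (∀ g ∈ Φ.E, ∀ c d : F, c ≠ 0 → d ≠ 0 → g e = c • e →
    g f = d • f → ∀ w w' : Φ.hperp e f, (w' : V) = K.σ c • g w → (θ w' : V) = K.σ c • g (θ w)) →
    ∀ (c : F) w, θ (c • w) = c • θ w
  a4 : ∃ u ∈ Φ.hperp e f, u ≠ 0 ∧ ∀ v ∈ Φ.hperp e f, (∀ g, WE Φ e f g → g u = u → g v = v) → v ∈ (F ∙ u)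
  a5 : K.κ ≠ 0 ∨ ∀ D : Φ.hperp e f →+ F, (∀ g, WE Φ e f g → ∀ w w' : Φ.hperp e f, (w' : V) = g w →
    D w' = D w) → D = 0
  a6 : ∀ δ : V → F → F, (∀ y ∈ Φ.hperp e f, ∀ y' ∈ Φ.hperp e f, ∀ a a', K.T a = Φ.N y → K.T a' = Φ.N y' →
    δ (y + y') (a + a' + Φ.B y' y) = δ y a + δ y' a') → (∀ y ∈ Φ.hperp e f, Φ.N y = 0 → δ y 0 = 0) →
    (∀ g ∈ Φ.E, ∀ c d : F, c ≠ 0 → d ≠ 0 → g e = c • e → g f = d • f → ∀ y ∈ Φ.hperp e f, ∀ a,
      K.T a = Φ.N y → δ (K.σ c • g y) (c * K.σ c * a) = c * K.σ c * δ y a) →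
    ∀ y ∈ Φ.hperp e f, ∀ a, K.T a = Φ.N y → δ y a = 0

variable {e f : V}

omit [FiniteDimensional F V] in
theorem Nice2.scalar (N : Nice2 Φ e f) (θ : Φ.hperp e f →ₗ[F] Φ.hperp e f)
    (h : ∀ g, WE Φ e f g → ∀ w w' : Φ.hperp e f, (w' : V) = g w → (θ w' : V) = g (θ w)) :
    ∃ c : F, ∀ w, θ w = c • w := by
  obtain ⟨u, hu, hu0, h1⟩ := N.a4
  obtain ⟨c, hc⟩ := Submodule.mem_span_singleton.1 (h1 (θ ⟨u, hu⟩) (θ ⟨u, hu⟩).2 fun g hg hgu =>
    (h g hg ⟨u, hu⟩ ⟨u, hu⟩ hgu.symm).symm)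
  refine ⟨c, ?_⟩
  rcases N.irr ((LinearMap.ker (θ - c • LinearMap.id)).map (Φ.hperp e f).subtype)
    (Submodule.map_subtype_le _ _) (by
      rintro u hu y hy a ha _ ⟨w, hw, rfl⟩
      have hg : WE Φ e f (Φ.eich u y a ha) := ⟨u, hu, y, hy, a, ha, rfl⟩
      refine ⟨⟨_, hg.map w.2⟩, ?_, rfl⟩
      simp only [SetLike.mem_coe, LinearMap.mem_ker, LinearMap.sub_apply, LinearMap.smul_apply,
        LinearMap.id_apply, sub_eq_zero] at hw ⊢
      apply Subtype.ext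
      rw [h _ hg w _ rfl, hw]; simp) with h2 | h2
  · refine absurd ((Submodule.eq_bot_iff _).1 h2 u ⟨⟨u, hu⟩, ?_, rfl⟩) hu0
    simp only [SetLike.mem_coe, LinearMap.mem_ker, LinearMap.sub_apply, LinearMap.smul_apply,
      LinearMap.id_apply, sub_eq_zero]
    exact Subtype.ext hc.symm
  · intro w
    obtain ⟨w', hw', h3⟩ := h2.ge w.2
    obtain rfl : w' = w := Subtype.ext h3
    simpa [sub_eq_zero] using hw'

variable [Finite F] (p : ℕ) [Fact p.Prime] [CharP F p]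
variable {P : Type*} [Group P] {C : Cov Φ.E P} {α : MulAut P}
include p

theorem Nice2.root_zero (N : Nice2 Φ e f) (he : Pt C α e e) {a a' : F} {w : V} (hw : w ∈ Φ.hperp e f)
    {h h'} (hT : C.T α (Φ.eich e 0 a h) (Φ.eich e w a' h')) : w = 0 := by
  haveI : Finite V := Module.finite_of_finite F
  have key : ∀ k ∈ Φ.E, Uni p k → k e = e → k * Φ.eich e w a' h' = Φ.eich e w a' h' * k := by
    intro k hk hu hke
    obtain ⟨g, hg, hgu⟩ := C.exists_T_uni α⁻¹ hk hu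
    obtain ⟨d, hd, h1⟩ := N.pt_stab p he.symm hg (c := 1) (by simpa using hke)
    have h2 : g e = e := hgu.fix (by
      rw [h1]; exact Submodule.smul_mem _ _ (Submodule.mem_span_singleton_self e))
    refine hg.symm'.comm hT (eich_uni p h') ?_
    rw [← mul_inv_eq_iff_eq_mul, Φ.eich_conj (Φ.E_le hg.right)]
    exact Φ.eich_congr' _ h2 (map_zero _) rfl
  refine N.a2 w hw (fun w' hw' => ?_) fun g hg => ?_
  · obtain ⟨b, hb⟩ := Φ.N_range w'
    have h1 := isEich_W N.hyp hw' hb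
    have h2 := key _ (Φ.eich_mem_E _ _ _ h1) (eich_uni p h1) (eich_self _ _ _ _ _)
    rw [eich_mul, eich_mul] at h2
    have h3 := (eich_inj N.hyp (add_mem hw' hw) (add_mem hw hw') (DFunLike.congr_fun h2 f)).2
    linear_combination -h3
  · have h2 := key g hg.mem (hg.uni p) hg.fix.1
    rw [← mul_inv_eq_iff_eq_mul, Φ.eich_conj (Φ.E_le hg.mem), Φ.eich_congr' _ hg.fix.1 rfl rfl] at h2
    exact (eich_inj N.hyp (hg.map hw) hw (DFunLike.congr_fun h2 f)).1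

theorem Nice2.root_uniq (N : Nice2 Φ e f) (he : Pt C α e e) {a b a' b' : F} {w w' w'' : V}
    (hw' : w' ∈ Φ.hperp e f) (hw'' : w'' ∈ Φ.hperp e f) {h1 h2 h3 h4}
    (hT : C.T α (Φ.eich e w a h1) (Φ.eich e w' a' h2))
    (hT' : C.T α (Φ.eich e w b h3) (Φ.eich e w'' b' h4)) : w' = w'' := by
  have := hT.mul hT'.inv
  rw [eich_inv, eich_inv, eich_mul, eich_mul, Φ.eich_congr _ (add_neg_cancel w) rfl] at this
  exact add_neg_eq_zero.1 (N.root_zero p he (add_mem hw' (neg_mem hw'')) this)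

theorem Nice2.exists_psi (N : Nice2 Φ e f) (he : Pt C α e e) :
    ∃ ψ : Φ.hperp e f ≃+ Φ.hperp e f, ∀ (w : Φ.hperp e f) a h, ∃ a' h',
      C.T α (Φ.eich e w a h) (Φ.eich e (ψ w) a' h') := by
  have key : ∀ {α : MulAut P}, Pt C α e e → ∃ ψ : Φ.hperp e f → Φ.hperp e f, ∀ (w : Φ.hperp e f) a h,
      ∃ a' h', C.T α (Φ.eich e w a h) (Φ.eich e (ψ w) a' h') := by
    intro α he
    have h1 : ∀ (w : Φ.hperp e f) a h, ∃ (w' : Φ.hperp e f), ∃ a' h',
        C.T α (Φ.eich e w a h) (Φ.eich e w' a' h') := by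
      intro w a h
      obtain ⟨y, hy, h2⟩ := he.2.2.1 _ (eich_mem_U h)
      obtain ⟨w', a', h', hw', rfl⟩ := exists_eich_W N.hyp hy
      exact ⟨⟨w', hw'⟩, a', h', h2⟩
    choose a0 ha0 using Φ.N_range
    choose ψ a1 h2 h3 using fun w : Φ.hperp e f => h1 w (a0 w) (isEich_W N.hyp w.2 (ha0 w))
    refine ⟨ψ, fun w a h => ?_⟩
    obtain ⟨w', a', h', h4⟩ := h1 w a h
    obtain rfl : w' = ψ w := Subtype.ext (N.root_uniq p he w'.2 (ψ w).2 h4 (h3 w))
    exact ⟨a', h', h4⟩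
  obtain ⟨ψ, h1⟩ := key he
  obtain ⟨ψ', h2⟩ := key he.symm
  refine ⟨⟨⟨ψ, ψ', fun w => ?_, fun w => ?_⟩, fun w w' => ?_⟩, h1⟩
  · obtain ⟨a, ha⟩ := Φ.N_range w
    obtain ⟨a', h', h3⟩ := h1 w a (isEich_W N.hyp w.2 ha)
    obtain ⟨a'', h'', h4⟩ := h2 _ a' h'
    exact Subtype.ext (N.root_uniq p he.symm (ψ' _).2 w.2 h4 h3.symm)
  · obtain ⟨a, ha⟩ := Φ.N_range w
    obtain ⟨a', h', h3⟩ := h2 w a (isEich_W N.hyp w.2 ha)
    obtain ⟨a'', h'', h4⟩ := h1 _ a' h'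
    exact Subtype.ext (N.root_uniq p he (ψ _).2 w.2 h4 h3.symm')
  · obtain ⟨a, ha⟩ := Φ.N_range w
    obtain ⟨b, hb⟩ := Φ.N_range w'
    obtain ⟨a', h', h3⟩ := h1 w a (isEich_W N.hyp w.2 ha)
    obtain ⟨b', h'', h4⟩ := h1 w' b (isEich_W N.hyp w'.2 hb)
    have h5 := h3.mul h4
    rw [eich_mul, eich_mul] at h5
    obtain ⟨c, hc, h6⟩ := h1 (w + w') _ ((isEich_W N.hyp w.2 ha).add (isEich_W N.hyp w'.2 hb))
    exact Subtype.ext (N.root_uniq p he (ψ _).2 (add_mem (ψ _).2 (ψ _).2) h6 h5)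

theorem Nice2.psi_act (N : Nice2 Φ e f) (he : Pt C α e e) {ψ : Φ.hperp e f ≃+ Φ.hperp e f}
    (hψ : ∀ (w : Φ.hperp e f) a h, ∃ a' h', C.T α (Φ.eich e w a h) (Φ.eich e (ψ w) a' h'))
    {g k : V ≃ₗ[F] V} (hT : C.T α g k) {c c' d' : F} (hc : c ≠ 0) (hc' : c' ≠ 0) (hd' : d' ≠ 0)
    (h1 : g e = c • e) (h2 : k e = c' • e) (h3 : k f = d' • f) {w w' : Φ.hperp e f}
    (hw : (w' : V) = K.σ c • g w) : (ψ w' : V) = K.σ c' • k (ψ w) := by
  obtain ⟨a, ha⟩ := Φ.N_range w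
  obtain ⟨a', h', h4⟩ := hψ w a (isEich_W N.hyp w.2 ha)
  have h5 := hT.conj h4
  obtain ⟨e1, e2⟩ := eich_conj_L (isEich_W N.hyp w.2 ha) (Φ.E_le hT.left) hc h1
  obtain ⟨e3, e4⟩ := eich_conj_L h' (Φ.E_le hT.right) hc' h2
  rw [e2, e4, Φ.eich_congr _ hw.symm rfl] at h5
  obtain ⟨b, hb, h6⟩ := hψ w' _ (hw.symm ▸ e1)
  exact N.root_uniq p he (ψ _).2 (Submodule.smul_mem _ _
    (IsHyp.map_hperp (Φ.E_le hT.right) hc' hd' h2 h3 (ψ w).2)) h6 h5

theorem Nice2.exists_semi [hK : Cmp K] (N : Nice2 Φ e f) (he : Pt C α e e) (hf : Pt C α f f) :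
    ∃ s : Semi Φ, (∃ l : F, s.1.g e = l • e) ∧ s.1.g f = f ∧ ∀ w ∈ Φ.hperp e f, ∀ a h, ∃ a' h',
      C.T α (Φ.eich e w a h) (s.1.cj (Φ.eich e w a' h')) := by
  haveI : Finite V := Module.finite_of_finite F
  obtain ⟨ψ, hψ⟩ := N.exists_psi p he
  obtain ⟨u, hu, hu0⟩ := N.ne
  have hu0' : (⟨u, hu⟩ : Φ.hperp e f) ≠ 0 := fun h => hu0 (congrArg Subtype.val h)
  -- semilinearity
  have h1 : ∀ s : F, ∃ t : F, ∀ w, ψ (s • w) = t • ψ w := by
    intro s
    let θ : Φ.hperp e f →+ Φ.hperp e f :=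
      ψ.toAddMonoidHom.comp ((DistribSMul.toAddMonoidHom _ s).comp ψ.symm.toAddMonoidHom)
    have hθ : ∀ w, θ (ψ w) = ψ (s • w) := fun w => by simp [θ]
    have h2 : ∀ k ∈ Φ.E, ∀ c d : F, c ≠ 0 → d ≠ 0 → k e = c • e → k f = d • f →
        ∀ w w' : Φ.hperp e f, (w' : V) = K.σ c • k w → (θ w' : V) = K.σ c • k (θ w) := by
      intro k hk c' d' hc' hd' hke hkf w w' hw
      obtain ⟨g, hg⟩ := C.exists_T' α hk
      obtain ⟨c, hc, hge⟩ := N.pt_stab p he.symm hg.symm hke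
      obtain ⟨d, hd, hgf⟩ := N.pt_stab p hf.symm hg.symm hkf
      obtain ⟨w, rfl⟩ := ψ.surjective w
      have m : ∀ w : Φ.hperp e f, K.σ c • g w ∈ Φ.hperp e f := fun w =>
        Submodule.smul_mem _ _ (IsHyp.map_hperp (Φ.E_le hg.left) hc hd hge hgf w.2)
      obtain rfl : w' = ψ ⟨_, m w⟩ := Subtype.ext (by
        rw [hw, N.psi_act p he hψ hg hc hc' hd' hge hke hkf (w := w) (w' := ⟨_, m w⟩) rfl])
      rw [hθ, hθ]
      exact N.psi_act p he hψ hg hc hc' hd' hge hke hkf (by simp [smul_comm s])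
    obtain ⟨t, ht⟩ := N.scalar ⟨θ, N.a3 θ h2⟩ fun g hg w w' hw => by
      have := h2 g hg.mem 1 1 one_ne_zero one_ne_zero (by simp [hg.fix.1]) (by simp [hg.fix.2]) w w'
        (by simpa using hw)
      rwa [map_one, one_smul] at this
    exact ⟨t, fun w => by rw [← hθ]; exact ht _⟩
  choose τ₀ hτ₀ using h1
  have hψu : ψ ⟨u, hu⟩ ≠ 0 := by simpa using hu0'
  let τ₁ : F →+* F :=
    { toFun := τ₀
      map_one' := smul_left_injective F hψu (by simp [← hτ₀])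
      map_mul' := fun a b => smul_left_injective F hψu (by simp only [← hτ₀, mul_smul])
      map_zero' := smul_left_injective F hψu (by simp [← hτ₀])
      map_add' := fun a b => smul_left_injective F hψu (by simp only [← hτ₀, add_smul, map_add]) }
  let τ : F ≃+* F := RingEquiv.ofBijective τ₁ (Finite.injective_iff_bijective.1 τ₁.injective)
  have hτ : ∀ s w, ψ (s • w) = τ s • ψ w := hτ₀
  clear_value τ
  clear τ₁ hτ₀ τ₀
  -- action of the unipotent elements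
  have h2 : ∀ g, WE Φ e f g → ∃ k ∈ Φ.Isom, ∀ w w' : Φ.hperp e f, (w' : V) = g w →
      (ψ w' : V) = k (ψ w) := by
    intro g hg
    obtain ⟨k, hk, hku⟩ := C.exists_T_uni α hg.mem (hg.uni p)
    obtain ⟨c, hc, hke⟩ := N.pt_stab p he hk (c := 1) (by simp [hg.fix.1])
    obtain ⟨d, hd, hkf⟩ := N.pt_stab p hf hk (c := 1) (by simp [hg.fix.2])
    obtain rfl := hku.eigen N.hyp.e_ne hke
    refine ⟨k, Φ.E_le hk.right, fun w w' hw => ?_⟩
    simpa using N.psi_act p he hψ hk one_ne_zero hc hd (by simp [hg.fix.1]) hke hkf (w := w) (w' := w')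
      (by simpa using hw)
  -- the form
  have hW := N.hyp.nondeg_hperp N.nd
  have h3 : ∀ w' : Φ.hperp e f, ∃ z : Φ.hperp e f, ∀ w : Φ.hperp e f,
      Φ.B w z = τ.symm (Φ.B (ψ w) (ψ w')) := fun w' =>
    hW.exists_repr
      { toFun := fun w => τ.symm (Φ.B (ψ w) (ψ w'))
        map_add' := fun a b => by simp
        map_smul' := fun c a => by simp [hτ] }
  choose η hη using h3
  obtain ⟨μ, hμ⟩ := N.scalar
    { toFun := η
      map_add' := fun a b => hW.ext fun w => by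
        change Φ.B w (η (a + b)) = Φ.B w (η a + η b)
        simp [hη]
      map_smul' := fun c a => hW.ext fun w => by
        change Φ.B w (η (c • a)) = Φ.B w (c • η a)
        simp [hη, hτ, Φ.B_smul_right, ← hK.σ] } (by
      intro g hg w w' hw
      obtain ⟨k, hk, h4⟩ := h2 g hg
      have := hW.ext (v := η w') (w := ⟨_, hg.map (η w).2⟩) fun x => by
        change Φ.B x (η w') = Φ.B x (g (η w))
        have h5 := h4 ⟨_, hg.inv.map x.2⟩ x (by simp)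
        rw [hη, h5, h4 w w' hw, hk.1, ← hη, Isom_B_right (Φ.E_le hg.mem)]
        rfl
      exact congrArg Subtype.val this)
  have h4 : ∀ w w' : Φ.hperp e f, Φ.B (ψ w) (ψ w') = τ (K.σ μ) * τ (Φ.B w w') := by
    intro w w'
    have := hη w' w
    rw [show η w' = μ • w' from hμ w', eq_comm, RingEquiv.symm_apply_eq] at this
    rw [this]; simp [Φ.B_smul_right]
  generalize τ (K.σ μ) = l at h4
  obtain ⟨x, hx⟩ := hW.exists_ne hu0'
  replace hx : Φ.B x u ≠ 0 := hx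
  have hl : l ≠ 0 := by
    rintro rfl
    refine hψu (hW _ fun w => ?_)
    obtain ⟨w, rfl⟩ := ψ.surjective w
    simpa using h4 w ⟨u, hu⟩
  have hl' : K.σ l = l := by
    have e1 := h4 ⟨u, hu⟩ x
    rw [Φ.symm, h4, Φ.symm x u, map_mul, map_mul, hK.ε, hK.σ] at e1
    have e2 : K.ε * K.σ (τ (Φ.B x u)) ≠ 0 := by simpa [K.ε_ne] using hx
    exact mul_right_cancel₀ e2 (by linear_combination e1)
  have h5 : ∀ w : Φ.hperp e f, Φ.N (ψ w) = l * τ (Φ.N w) := by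
    rcases N.a5 with h5 | h5
    · intro w
      have := h4 w w
      rw [Φ.B_self, Φ.B_self, map_mul, hK.κ] at this
      exact mul_left_cancel₀ h5 (by linear_combination this)
    · have := h5
        { toFun := fun w => Φ.N (ψ w) - l * τ (Φ.N w)
          map_zero' := by simp
          map_add' := fun a b => by
            simp only [map_add, Submodule.coe_add, Φ.N_add, h4, hK.Tl _ _ hl', hK.T]
            ring } (by
          intro g hg w w' hw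
          obtain ⟨k, hk, h6⟩ := h2 g hg
          simp only [AddMonoidHom.coe_mk, ZeroHom.coe_mk]
          rw [h6 w w' hw, hk.2, hw, (Φ.E_le hg.mem).2])
      intro w
      exact sub_eq_zero.1 (DFunLike.congr_fun this w)
  obtain ⟨s, hs, -, hse, hsf, hsw⟩ := exists_semi_ext N.hyp ψ τ hτ hl hl' h4 h5
  refine ⟨⟨s, l, hs⟩, ⟨l, hse⟩, hsf, fun w hw a h => ?_⟩
  obtain ⟨a', h', h6⟩ := hψ ⟨w, hw⟩ a h
  have h7 : Φ.IsEich e w (s.τ.symm (l⁻¹ * a')) := by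
    refine isEich_W N.hyp hw ?_
    rw [← hK.T, hK.Tl _ _ (by rw [map_inv₀, hl']), h'.ha, ← hsw, hs.N]
    simp [hl]
  refine ⟨_, h7, ?_⟩
  rw [hs.cj_eich, Φ.eich_congr' _ hse rfl rfl, Φ.eich_smul _ hl]
  convert h6 using 2
  · rw [← hsw, hl']; simp [smul_smul, hl]
  · rw [hl']; simp [hl]; field_simp

theorem Nice2.eq_one' (N : Nice2 Φ e f) (he : Pt C α e e) (hf : Pt C α f f)
    (h : ∀ w ∈ Φ.hperp e f, ∀ a h, ∃ a' h', C.T α (Φ.eich e w a h) (Φ.eich e w a' h')) : α = 1 := by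
  classical
  have huniq : ∀ {w a a' a'' h h' h''}, w ∈ Φ.hperp e f → C.T α (Φ.eich e w a h) (Φ.eich e w a' h') →
      C.T α (Φ.eich e w a h) (Φ.eich e w a'' h'') → a' = a'' := fun hw h1 h2 =>
    (eich_inj N.hyp hw hw (DFunLike.congr_fun (h1.uniq_uni h2 (eich_uni p _) (eich_uni p _)) f)).2.symm
  choose χ hχ hT using h
  let δ : V → F → F := fun w a =>
    if h : w ∈ Φ.hperp e f ∧ K.T a = Φ.N w then χ w h.1 a (isEich_W N.hyp h.1 h.2) - a else 0
  have hδ : ∀ w (hw : w ∈ Φ.hperp e f) a (ha : K.T a = Φ.N w),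
      δ w a = χ w hw a (isEich_W N.hyp hw ha) - a := fun w hw a ha => dif_pos ⟨hw, ha⟩
  have hL : ∀ g ∈ Φ.E, ∀ c d : F, c ≠ 0 → d ≠ 0 → g e = c • e → g f = d • f → C.T α g g := by
    intro g hg c d hc hd hge hgf
    obtain ⟨k, hk⟩ := C.exists_T α hg
    obtain ⟨c', hc', hke⟩ := N.pt_stab p he hk hge
    obtain ⟨d', hd', hkf⟩ := N.pt_stab p hf hk hgf
    have h1 : ∀ w ∈ Φ.hperp e f, K.σ c • g w = K.σ c' • k w := fun w hw =>
      N.psi_act p he (ψ := AddEquiv.refl _) (fun w a h => ⟨_, _, hT w w.2 a h⟩) hk hc hc' hd' hge hke hkf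
        (w := ⟨w, hw⟩) (w' := ⟨_, Submodule.smul_mem _ _ (IsHyp.map_hperp (Φ.E_le hg) hc hd hge hgf hw)⟩) rfl
    obtain ⟨u, hu, hu0⟩ := N.ne
    obtain ⟨x, hx⟩ := (N.hyp.nondeg_hperp N.nd).exists_ne (v := ⟨u, hu⟩) (by simpa using hu0)
    replace hx : Φ.B x u ≠ 0 := hx
    have h2 : c * K.σ c = c' * K.σ c' := by
      have := congrArg₂ (fun a b => Φ.B a b) (h1 x x.2) (h1 u hu)
      simp only [Φ.B_smul_left, Φ.B_smul_right, K.σσ, (Φ.E_le hg).1, (Φ.E_le hk.right).1] at this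
      exact mul_right_cancel₀ hx (by linear_combination this)
    have h3 : c * K.σ d = 1 := by
      have := (Φ.E_le hg).1 e f
      rwa [hge, hgf, Φ.B_smul_left, Φ.B_smul_right, N.hyp.hef, mul_one] at this
    have h4 : c' * K.σ d' = 1 := by
      have := (Φ.E_le hk.right).1 e f
      rwa [hke, hkf, Φ.B_smul_left, Φ.B_smul_right, N.hyp.hef, mul_one] at this
    have h3' := congrArg K.σ h3
    have h4' := congrArg K.σ h4
    rw [map_mul, K.σσ, map_one] at h3' h4'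
    have h5 : K.σ c ≠ 0 := by simpa using hc
    refine hk.of_sc hg (c := c / c') fun v => ?_
    obtain ⟨a, b, y, hy, rfl⟩ := N.hyp.decomp v
    have h6 : g y = (c / c') • k y := by
      apply smul_right_injective V h5
      simp only [h1 y hy, smul_smul]
      congr 1; field_simp; linear_combination -h2
    have h7 : d = c / c' * d' := by
      field_simp
      apply mul_left_cancel₀ h5
      linear_combination c' * h3' - c' * h4' - d' * h2
    simp only [map_add, map_smul, hge, hgf, hke, hkf, h6]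
    rw [h7]
    match_scalars <;> field_simp
  have h0 := N.a6 δ (by
    intro y hy y' hy' a a' ha ha'
    have h1 := (hT y hy a (isEich_W N.hyp hy ha)).mul (hT y' hy' a' (isEich_W N.hyp hy' ha'))
    rw [eich_mul, eich_mul] at h1
    have h2 := (isEich_W N.hyp hy ha).add (isEich_W N.hyp hy' ha')
    rw [hδ _ hy _ ha, hδ _ hy' _ ha', hδ _ (add_mem hy hy') _ h2.ha,
      huniq (add_mem hy hy') (hT _ (add_mem hy hy') _ h2) h1]
    ring) (by
    intro y hy h0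
    have ha : K.T 0 = Φ.N y := by simp [h0]
    have h1 := (N.pt_perp p (hf.map (hT y hy 0 (isEich_W N.hyp hy ha))) hf).1 (by
      rw [N.hyp.eich_f hy]; simp [N.hyp.Bff, (Φ.mem_hperp.1 hy).2])
    rw [N.hyp.eich_f hy] at h1
    simpa [hδ _ hy _ ha, N.hyp.Bff, (Φ.mem_hperp.1 hy).2, N.hyp.hef] using h1) (by
    intro g hg c d hc hd hge hgf y hy a ha
    have h1 := (hL g hg c d hc hd hge hgf).conj (hT y hy a (isEich_W N.hyp hy ha))
    obtain ⟨e1, e2⟩ := eich_conj_L (isEich_W N.hyp hy ha) (Φ.E_le hg) hc hge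
    obtain ⟨e3, e4⟩ := eich_conj_L (hχ y hy a (isEich_W N.hyp hy ha)) (Φ.E_le hg) hc hge
    rw [e2, e4] at h1
    have m := Submodule.smul_mem _ (K.σ c) (IsHyp.map_hperp (Φ.E_le hg) hc hd hge hgf hy)
    rw [hδ _ hy _ ha, hδ _ m _ e1.ha, huniq m (hT _ m _ e1) h1]
    ring)
  refine N.eq_one p he hf fun x hx => ?_
  obtain ⟨y, a, h', hy, rfl⟩ := exists_eich_W N.hyp hx
  have h1 := h0 y hy a h'.ha
  rw [hδ _ hy _ h'.ha, sub_eq_zero] at h1
  have h2 := hT y hy a h'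
  rwa [Φ.eich_congr (hχ y hy a h') rfl h1] at h2

/-- an automorphism permuting the points is induced by a semisimilarity -/
theorem Nice2.mem_range [Cmp K] (N : Nice2 Φ e f) {u u' : V} (h : Pt C α u u') :
    α ∈ (semiAut C).range := by
  obtain ⟨γ, hγ, he, hf⟩ := N.exists_norm p h
  obtain ⟨s, ⟨l, hse⟩, hsf, hs⟩ := N.exists_semi p he hf
  have h1 : semiAut C s⁻¹ * (γ * α) = 1 := by
    refine N.eq_one' p (C := C) ?_ ?_ fun w hw a h => ?_
    · have := (pt_semi (C := C) s N.hyp.sing_e).symm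
      rw [hse, ← map_inv, ← one_smul F e, smul_smul] at this
      exact he.trans this.of_smul
    · have := (pt_semi (C := C) s N.hyp.sing_f).symm
      rw [hsf, ← map_inv] at this
      exact hf.trans this
    · obtain ⟨a', h', h2⟩ := hs w hw a h
      have := h2.trans (T_semiAut C s⁻¹ h2.right)
      rw [show (s⁻¹).1 = s.1⁻¹ from rfl, GamL.inv_cj_cj] at this
      exact ⟨a', h', this⟩
  rw [← mul_assoc, mul_eq_one_iff_inv_eq] at h1
  rw [← h1]
  exact inv_mem (mul_mem ⟨_, rfl⟩ hγ)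

end

end Cfsg.Agent.Perm.Aut
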