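import Cfsg.Agent.Lib.Perm.Aut4

/-! Automorphisms of symplectic, unitary and orthogonal groups. -/

set_option autoImplicit false

namespace Cfsg.Agent.Perm.Aut

open Module Cfsg.Agent.Classical Cfsg.Agent.Classical.Form

section
variable {F V : Type*} [Field F] [AddCommGroup V] [Module F V] {K : Kind F} {Φ : Form K V}
variable {e f : V}

theorem restrict_eich (W : Submodule F V) {u y : W} {a : F} (h : (Φ.restrict W).IsEich u y a) (v : W) :
    ((Φ.restrict W).eich u y a h v : V) = Φ.eich u y a ⟨h.he, h.hy, h.ha⟩ v := by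
  simp [eich_apply]

theorem linear_of_sing {W : Submodule F V} {u u' : W} (h : (Φ.restrict W).IsHyp u u') (θ : W →+ W)
    (h1 : ∀ v : W, v ≠ 0 → Φ.N v = 0 → ∀ c : F, θ (c • v) = c • θ v) (c : F) (w : W) :
    θ (c • w) = c • θ w := by
  have h2 : ∀ v : W, Φ.N v = 0 → θ (c • v) = c • θ v := fun v hv => by
    by_cases h0 : v = 0
    · simp [h0]
    · exact h1 v h0 hv c
  obtain ⟨a, b, h3⟩ := h.exists_add_sing w
  have h4 : w = (w - a • u - b • u') + a • u + b • u' := by abel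
  rw [h4, smul_add, smul_add, map_add, map_add, map_add, map_add, smul_add, smul_add, h2 (w - a • u - b • u') h3,
    h2 (a • u) (by simpa [Φ.N_smul] using Or.inr h.he), h2 (b • u') (by simpa [Φ.N_smul] using Or.inr h.hf)]

variable [FiniteDimensional F V]

theorem nice2_of_hyp (hΦ : Φ.Nondeg) (h : Φ.IsHyp e f) (hR : Φ.Rich0)
    (hR' : (Φ.restrict (Φ.hperp e f)).Rich0) {u u' : Φ.hperp e f}
    (hu : (Φ.restrict (Φ.hperp e f)).IsHyp u u')
    (a3 : ∀ θ : Φ.hperp e f →+ Φ.hperp e f, (∀ g ∈ Φ.E, ∀ c d : F, c ≠ 0 → d ≠ 0 → g e = c • e →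
      g f = d • f → ∀ w w' : Φ.hperp e f, (w' : V) = K.σ c • g w → (θ w' : V) = K.σ c • g (θ w)) →
      ∀ (c : F) w, θ (c • w) = c • θ w) : Nice2 Φ e f := by
  have hW := h.nondeg_hperp hΦ
  have irr : ∀ S : Submodule F V, S ≤ Φ.hperp e f → (∀ u ∈ Φ.hperp e f, ∀ y ∈ Φ.hperp e f, ∀ a h, ∀ v ∈ S,
      Φ.eich u y a h v ∈ S) → S = ⊥ ∨ S = Φ.hperp e f := by
    intro S hS h1
    have h2 : (Φ.restrict (Φ.hperp e f)).E ≤ stab (S.comap (Φ.hperp e f).subtype) :=
      E_le_of _ fun x y a h _ => stab_of_le fun v hv => by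
        change ((Φ.restrict _).eich x y a h v : V) ∈ S
        rw [restrict_eich]; exact h1 _ x.2 _ y.2 _ _ _ hv
    rcases hR'.irred hW hu (W := S.comap (Φ.hperp e f).subtype) (fun g hg w hw => (h2 hg w).1 hw)
      with h3 | h3
    · left
      rw [Submodule.eq_bot_iff] at h3 ⊢
      exact fun x hx => congrArg Subtype.val (h3 ⟨x, hS hx⟩ hx)
    · exact Or.inr (le_antisymm hS fun x hx => (h3.ge Submodule.mem_top : (⟨x, hx⟩ : Φ.hperp e f) ∈ _))
  have fix : ∀ u : Φ.hperp e f, (Φ.restrict (Φ.hperp e f)).Sing u → ∀ v : Φ.hperp e f,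
      (∀ g, WE Φ e f g → g u = u → g v = v) → v ∈ (F ∙ u) := fun u hu v h1 =>
    mem_span_of_fix' hR' hW hu fun y a h => Subtype.ext (by
      rw [restrict_eich]; exact h1 _ ⟨u, u.2, y, y.2, a, _, rfl⟩ (eich_self _ _ _ _ _))
  have a2 : ∀ w ∈ Φ.hperp e f, (∀ g, WE Φ e f g → g w = w) → w = 0 := by
    intro w hw h1
    obtain ⟨c, hc⟩ := Submodule.mem_span_singleton.1 (fix u hu.sing_e ⟨w, hw⟩ fun g hg _ => h1 g hg)
    obtain ⟨d, hd⟩ := Submodule.mem_span_singleton.1 (fix u' hu.sing_f ⟨w, hw⟩ fun g hg _ => h1 g hg)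
    have h2 := congrArg (fun x => (Φ.restrict _).B x u') (hc.trans hd.symm)
    simp only [B_smul_left, hu.hef, hu.Bff, mul_one, mul_zero] at h2
    rw [h2, zero_smul] at hc
    exact (congrArg Subtype.val hc).symm
  have hu0 : (u : V) ≠ 0 := fun h0 => hu.e_ne (Subtype.ext h0)
  refine ⟨⟨hΦ, h, hR, ⟨u, u.2, hu0⟩, irr⟩, fun w hw _ => a2 w hw, a3, ⟨u, u.2, hu0, fun v hv h1 => ?_⟩,
    Or.inr fun D hD => ?_, fun δ h1 h2 _ => ?_⟩
  · obtain ⟨c, hc⟩ := Submodule.mem_span_singleton.1 (fix u hu.sing_e ⟨v, hv⟩ h1)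
    exact Submodule.mem_span_singleton.2 ⟨c, congrArg Subtype.val hc⟩
  · let S : Submodule F (Φ.hperp e f) :=
      { carrier := {w | ∀ c : F, D (c • w) = 0}
        zero_mem' := by simp
        add_mem' := fun {a b} ha hb c => by rw [smul_add, map_add, ha c, hb c, add_zero]
        smul_mem' := fun c a ha d => by rw [smul_smul]; exact ha _ }
    rcases irr (S.map (Φ.hperp e f).subtype) (Submodule.map_subtype_le _ _) (by
      rintro x hx y hy a ha _ ⟨w, hw, rfl⟩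
      have hg : WE Φ e f (Φ.eich x y a ha) := ⟨x, hx, y, hy, a, ha, rfl⟩
      exact ⟨⟨_, hg.map w.2⟩, fun c => (hD _ hg (c • w) _ (by simp)).trans (hw c), rfl⟩) with h3 | h3
    · refine absurd (a2 u u.2 fun g hg => ?_) hu0
      refine sub_eq_zero.1 ((Submodule.eq_bot_iff _).1 h3 _ ⟨⟨_, hg.map u.2⟩ - u, fun c => ?_, rfl⟩)
      rw [smul_sub, map_sub, hD _ hg (c • u) _ (by simp), sub_self]
    · ext w
      obtain ⟨w', hw', h4⟩ := h3.ge w.2
      obtain rfl : w' = w := Subtype.ext h4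
      simpa using hw' 1
  · have hh := IsHyp.hperp_of hu
    have h3 : ∀ b, K.T b = 0 → δ 0 b = 0 := by
      intro b hb
      have e1 := h1 u' u'.2 (b • u) (Submodule.smul_mem _ _ u.2) 0 0 (by simp [hh.hf])
        (by simp [Φ.N_smul, hh.he])
      have hN : Φ.N (u' + b • (u : V)) = 0 := by
        rw [add_comm, Φ.N_add, Φ.N_smul, hh.he, hh.hf, Φ.B_smul_left, hh.hef]; simp [hb]
      have e2 := h1 _ (add_mem u'.2 (Submodule.smul_mem _ b u.2)) 0 (zero_mem _) 0 b (by simp [hN])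
        (by simp [hb])
      rw [h2 _ u'.2 hh.hf, h2 _ (Submodule.smul_mem _ _ u.2) (by simp [Φ.N_smul, hh.he]), Φ.B_smul_left,
        hh.hef] at e1
      rw [h2 _ (add_mem u'.2 (Submodule.smul_mem _ b u.2)) hN] at e2
      simp only [zero_add, mul_one, add_zero, map_zero, LinearMap.zero_apply] at e1 e2
      rw [← e2, e1]
    have h4 : ∀ y ∈ Φ.hperp e f, ∀ a a', K.T a = Φ.N y → K.T a' = Φ.N y → δ y a = δ y a' := by
      intro y hy a a' ha ha'
      have := h1 y hy 0 (zero_mem _) a (a' - a) ha (by simp [ha, ha'])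
      rw [h3 _ (by simp [ha, ha'])] at this
      simpa using this.symm
    have h5 : ∀ y ∈ Φ.hperp e f, ∀ y' ∈ Φ.hperp e f, Φ.N y' = 0 → (∀ a, K.T a = Φ.N y → δ y a = 0) →
        ∀ a, K.T a = Φ.N (y + y') → δ (y + y') a = 0 := by
      intro y hy y' hy' hN h6 a ha
      obtain ⟨b, hb⟩ := Φ.N_range y
      have hb' : K.T 0 = Φ.N y' := by simp [hN]
      rw [h4 _ (add_mem hy hy') _ _ ha ((isEich_W h hy hb).add (isEich_W h hy' hb')).ha,
        h1 y hy y' hy' b 0 hb hb', h6 b hb, h2 y' hy' hN, add_zero]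
    intro y hy
    obtain ⟨a, b, h6⟩ := hh.exists_add_sing y
    have m : y - a • (u : V) - b • (u' : V) ∈ Φ.hperp e f :=
      sub_mem (sub_mem hy (Submodule.smul_mem _ _ u.2)) (Submodule.smul_mem _ _ u'.2)
    have := h5 _ (add_mem m (Submodule.smul_mem _ a u.2)) _ (Submodule.smul_mem _ b u'.2)
      (by simp [Φ.N_smul, hh.hf]) (h5 _ m _ (Submodule.smul_mem _ a u.2) (by simp [Φ.N_smul, hh.he])
        fun c hc => by rw [h4 _ m c 0 hc (by simp [h6]), h2 _ m h6])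
    rwa [show y - a • (u : V) - b • (u' : V) + a • (u : V) + b • (u' : V) = y by abel] at this

omit [FiniteDimensional F V] in
theorem dil_act (h : Φ.IsHyp e f) {θ : Φ.hperp e f →+ Φ.hperp e f}
    (hθ : ∀ g ∈ Φ.E, ∀ c d : F, c ≠ 0 → d ≠ 0 → g e = c • e →
      g f = d • f → ∀ w w' : Φ.hperp e f, (w' : V) = K.σ c • g w → (θ w' : V) = K.σ c • g (θ w))
    (l : Fˣ) (hl : Φ.dil e f h l ∈ Φ.E) (w : Φ.hperp e f) : θ (K.σ l • w) = K.σ l • θ w := by
  have h1 : ∀ w : Φ.hperp e f, Φ.dil e f h l w = w := fun w =>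
    dil_of_perp _ _ _ _ _ (Φ.mem_hperp.1 w.2).1 (Φ.mem_hperp.1 w.2).2
  have := hθ _ hl l _ l.ne_zero (by simp) (dil_e _ _ _ _ _) (dil_f _ _ _ _ _) w (K.σ l • w) (by simp [h1])
  rw [h1] at this
  exact Subtype.ext this

end

section Types
variable {F V : Type*} [Field F] [AddCommGroup V] [Module F V] [FiniteDimensional F V] {e f : V}

theorem nice2_symp {Φ : Form (Kind.symp F) V} (hΦ : Φ.Nondeg) (hn : 3 ≤ finrank F V) (h : Φ.IsHyp e f) :
    Nice2 Φ e f := by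
  have h1 := h.finrank_hperp
  obtain ⟨u, u', hu⟩ := symp_exists_hyp (h.nondeg_hperp hΦ) (by omega)
  refine nice2_of_hyp hΦ h (symp_rich _).rich0 (symp_rich _).rich0 hu fun θ hθ c w => ?_
  by_cases hc : c = 0
  · simp [hc]
  exact dil_act h hθ (Units.mk0 c hc) (by rw [symp_E_eq hΦ]; exact dil_mem _ _ _ _ _) w

theorem nice2_orth [Finite F] {Φ : Form (Kind.orth F) V} (hΦ : Φ.Nondeg) (hn : 5 ≤ finrank F V)
    (h : Φ.IsHyp e f) : Nice2 Φ e f := by
  have h1 := h.finrank_hperp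
  obtain ⟨u, u', hu⟩ := orth_exists_hyp (h.nondeg_hperp hΦ) (by omega)
  refine nice2_of_hyp hΦ h (orth_rich0 hΦ (by omega)) (orth_rich0 (h.nondeg_hperp hΦ) (by omega)) hu
    fun θ hθ c w => ?_
  have h2 : ∀ t : F, θ (t ^ 2 • w) = t ^ 2 • θ w := fun t => by
    by_cases ht : t = 0
    · simp [ht]
    simpa using dil_act h hθ (Units.mk0 t ht ^ 2) (dil_sq_mem_E hΦ (by omega) h _) w
  by_cases h3 : (2 : F) = 0
  · obtain ⟨t, rfl⟩ := exists_sq_of_two h3 c
    exact h2 t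
  · rw [show c = ((c + 1) / 2) ^ 2 - ((c - 1) / 2) ^ 2 by field_simp; ring, sub_smul, map_sub, h2, h2,
      sub_smul]

theorem exists_fixed_comb {σ : F →+* F} (hσ2 : ∀ a, σ (σ a) = a) {μ : F} (hμ : σ μ ≠ μ) (s : F) :
    ∃ a b : F, σ a = a ∧ σ b = b ∧ s = a + b * μ := by
  have h : μ - σ μ ≠ 0 := sub_ne_zero.2 hμ.symm
  have h' : σ μ - μ ≠ 0 := sub_ne_zero.2 hμ
  refine ⟨s - (s - σ s) / (μ - σ μ) * μ, (s - σ s) / (μ - σ μ), ?_, ?_, by ring⟩
  · simp only [map_sub, map_mul, map_div₀, hσ2]; field_simp; ring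
  · simp only [map_sub, map_div₀, hσ2]; field_simp; ring

end Types

section Unitary
variable {F V : Type*} [Field F] [Fintype F] {q : ℕ} [AddCommGroup V] [Module F V] [FiniteDimensional F V]
  {e f : V}

theorem exists_cube_ne (hF : Fintype.card F = q ^ 2) (hq : q ≠ 2) :
    ∃ d : F, d ≠ 0 ∧ frobq hF d ^ 3 ≠ d ^ 3 := by
  obtain ⟨ζ, hζ⟩ := IsCyclic.exists_ofOrder_eq_natCard (α := Fˣ)
  have h2 := two_le_of_card_sq hF
  refine ⟨ζ, ζ.ne_zero, fun h => ?_⟩
  rw [Nat.card_units, Nat.card_eq_fintype_card, hF] at hζ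
  obtain ⟨r, rfl⟩ : ∃ r, q = r + 1 := ⟨q - 1, by omega⟩
  have h1 : ζ ^ (3 * r) = 1 := by
    apply Units.ext
    rw [frobq_apply, ← pow_mul, show (r + 1) * 3 = 3 * r + 3 by ring, pow_add] at h
    simpa using mul_right_cancel₀ (pow_ne_zero 3 ζ.ne_zero) (h.trans (one_mul _).symm)
  have h3 := Nat.le_of_dvd (by omega) (orderOf_dvd_of_pow_eq_one h1)
  rw [hζ, show (r + 1) ^ 2 = r * r + 2 * r + 1 by ring] at h3
  have : 2 ≤ r := by omega
  have : 2 * r ≤ r * r := Nat.mul_le_mul_right _ this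
  omega

theorem exists_norm_one_ne (hF : Fintype.card F = q ^ 2) :
    ∃ c : F, c ≠ 0 ∧ frobq hF (frobq hF c / c) ≠ frobq hF c / c := by
  obtain ⟨ζ, hζ⟩ := IsCyclic.exists_ofOrder_eq_natCard (α := Fˣ)
  have h2 := two_le_of_card_sq hF
  refine ⟨ζ, ζ.ne_zero, fun h => ?_⟩
  rw [map_div₀, frobq_frobq, div_eq_div_iff (by simp) ζ.ne_zero] at h
  rw [Nat.card_units, Nat.card_eq_fintype_card, hF] at hζ
  obtain ⟨r, rfl⟩ : ∃ r, q = r + 1 := ⟨q - 1, by omega⟩
  have h1 : ζ ^ (2 * r) = 1 := by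
    apply Units.ext
    rw [frobq_apply, ← pow_add, show r + 1 + (r + 1) = 2 * r + 2 by ring, pow_add, ← sq] at h
    simpa using mul_right_cancel₀ (pow_ne_zero 2 ζ.ne_zero) (h.symm.trans (one_mul _).symm)
  have h3 := Nat.le_of_dvd (by omega) (orderOf_dvd_of_pow_eq_one h1)
  rw [hζ, show (r + 1) ^ 2 = r * r + 2 * r + 1 by ring] at h3
  have : 1 * r ≤ r * r := Nat.mul_le_mul_right _ (by omega)
  omega

variable {hF : Fintype.card F = q ^ 2} {Φ : Form (unitKind hF) V}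

theorem unit_fixed_act (hΦ : Φ.Nondeg) (h : Φ.IsHyp e f) {θ : Φ.hperp e f →+ Φ.hperp e f}
    (hθ : ∀ g ∈ Φ.E, ∀ c d : F, c ≠ 0 → d ≠ 0 → g e = c • e → g f = d • f →
      ∀ w w' : Φ.hperp e f, (w' : V) = frobq hF c • g w → (θ w' : V) = frobq hF c • g (θ w))
    {a : F} (ha : frobq hF a = a) (w : Φ.hperp e f) : θ (a • w) = a • θ w := by
  by_cases h0 : a = 0
  · simp [h0]
  have := dil_act h hθ (Units.mk0 a h0) (by
    rw [unit_E_eq hF hΦ]
    refine ⟨dil_mem _ _ _ _ _, Units.ext ?_⟩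
    rw [det_dil]
    simp only [Units.val_mk0, Kind.unit_σ, ha]
    simp [h0]) w
  simpa only [Units.val_mk0, Kind.unit_σ, ha] using this

theorem nice2_unit_hyp (hΦ : Φ.Nondeg) (hn : 4 ≤ finrank F V) (h : Φ.IsHyp e f) : Nice2 Φ e f := by
  have h1 := h.finrank_hperp
  have hW := h.nondeg_hperp hΦ
  obtain ⟨u, u', hu⟩ := unit_exists_hyp (frobq_ne_id hF) hW (by omega)
  refine nice2_of_hyp hΦ h (unit_rich (frobq_ne_id hF) _).rich0 (unit_rich (frobq_ne_id hF) _).rich0 hu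
    fun θ hθ => linear_of_sing hu θ fun v hv0 hv s => ?_
  obtain ⟨c, hc, hc'⟩ := exists_norm_one_ne hF
  obtain ⟨v', hv'⟩ := hW.exists_hyp hv0 hv
  have hh := IsHyp.hperp_of hv'
  obtain ⟨a, b, ha, hb, rfl⟩ := exists_fixed_comb (frobq_frobq hF) hc' s
  rw [add_smul, map_add, mul_smul, unit_fixed_act hΦ h hθ ha, unit_fixed_act hΦ h hθ hb, add_smul, mul_smul]
  congr 2
  have h2 : ∀ w : Φ.hperp e f, Φ.dil e f h (Units.mk0 c hc) w = w := fun w =>
    dil_of_perp _ _ _ _ _ (Φ.mem_hperp.1 w.2).1 (Φ.mem_hperp.1 w.2).2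
  have h3 : θ v ∈ (F ∙ v) := mem_span_of_fix' (unit_rich (frobq_ne_id hF) _).rich0 hW ⟨hv0, hv⟩
    fun y a ha => Subtype.ext (by
      rw [restrict_eich]
      have h4 := eich_W_fix v.2 y.2 (a := a) ⟨ha.he, ha.hy, ha.ha⟩
      simpa using (hθ _ (Φ.eich_mem_E _ _ _ _) 1 1 one_ne_zero one_ne_zero (by simp [h4.1])
        (by simp [h4.2]) v v (by simp [eich_self])).symm)
  obtain ⟨t, ht⟩ := Submodule.mem_span_singleton.1 h3
  have h4 := hθ (Φ.dil e f h (Units.mk0 c hc) * Φ.dil v v' hh (Units.mk0 c hc)⁻¹) (by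
      rw [unit_E_eq hF hΦ]
      refine ⟨mul_mem (dil_mem _ _ _ _ _) (dil_mem _ _ _ _ _), Units.ext ?_⟩
      have : frobq hF c ≠ 0 := (map_ne_zero _).2 hc
      rw [map_mul, Units.val_mul, det_dil, det_dil]
      simp only [Units.val_mk0, Kind.unit_σ, Units.val_inv_eq_inv_val, map_inv₀, Units.val_one]
      field_simp) c (frobq hF c)⁻¹ hc (inv_ne_zero ((map_ne_zero _).2 hc)) (by
      rw [LinearEquiv.mul_apply, dil_of_perp _ _ _ _ _ (Φ.B_symm_zero (Φ.mem_hperp.1 v.2).1)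
        (Φ.B_symm_zero (Φ.mem_hperp.1 v'.2).1), dil_e]; rfl) (by
      rw [LinearEquiv.mul_apply, dil_of_perp _ _ _ _ _ (Φ.B_symm_zero (Φ.mem_hperp.1 v.2).2)
        (Φ.B_symm_zero (Φ.mem_hperp.1 v'.2).2), dil_f]; rfl) v ((frobq hF c / c) • v) (by
      rw [LinearEquiv.mul_apply, dil_e, map_smul, h2]; simp [smul_smul, div_eq_mul_inv])
  apply Subtype.ext
  rw [h4, ← ht, LinearEquiv.mul_apply, Submodule.coe_smul, map_smul, dil_e, map_smul, map_smul, h2]
  simp only [Submodule.coe_smul, smul_smul, Kind.unit_σ, Units.val_inv_eq_inv_val, Units.val_mk0]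
  congr 1; ring

theorem nice2_unit_three (hΦ : Φ.Nondeg) (hn : finrank F V = 3) (hq : q ≠ 2) (h : Φ.IsHyp e f) :
    Nice2 Φ e f := by
  have h1 := h.finrank_hperp
  have hW := h.nondeg_hperp hΦ
  have h2 : finrank F (Φ.hperp e f) = 1 := by omega
  obtain ⟨v, hv0, hv⟩ := finrank_eq_one_iff'.1 h2
  have hv' : ∀ w ∈ Φ.hperp e f, ∃ c : F, w = c • (v : V) := fun w hw => by
    obtain ⟨c, hc⟩ := hv ⟨w, hw⟩
    exact ⟨c, (congrArg Subtype.val hc).symm⟩
  have hv0' : (v : V) ≠ 0 := fun h0 => hv0 (Subtype.ext h0)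
  have hB : Φ.B v v ≠ 0 := by
    obtain ⟨x, hx⟩ := hW.exists_ne hv0
    obtain ⟨c, rfl⟩ := hv x
    intro h0
    exact hx (by simp [h0])
  have hσB : frobq hF (Φ.B v v) = Φ.B v v := by rw [← Φ.unit_N, Φ.unit_σN]
  have hg : ∀ c : F, c ≠ 0 → ∃ g ∈ Φ.E, g e = c • e ∧ g f = (frobq hF c)⁻¹ • f ∧
      ∀ w ∈ Φ.hperp e f, g w = (frobq hF c / c) • w := by
    intro c hc
    have hc' : frobq hF c ≠ 0 := (map_ne_zero _).2 hc
    have h3 : (frobq hF c / c - 1) / Φ.B v v * (unitKind hF).σ ((frobq hF c / c - 1) / Φ.B v v) * Φ.N v +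
        (unitKind hF).T ((unitKind hF).σ ((frobq hF c / c - 1) / Φ.B v v)) = 0 := by
      simp only [Kind.unit_σ, Kind.unit_T, map_div₀, map_sub, map_one, frobq_frobq, hσB, Φ.unit_N]
      field_simp; ring
    refine ⟨Φ.dil e f h (Units.mk0 c hc) * Φ.qrefl v _ h3, ?_, ?_, ?_, fun w hw => ?_⟩
    · rw [unit_E_eq hF hΦ]
      refine ⟨mul_mem (dil_mem _ _ _ _ _) (qrefl_mem _ _ _ _), Units.ext ?_⟩
      rw [map_mul, Units.val_mul, det_dil, det_qrefl]
      simp only [Units.val_mk0, Kind.unit_σ, Units.val_one]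
      field_simp; ring
    · rw [LinearEquiv.mul_apply, qrefl_apply, Φ.B_symm_zero (Φ.mem_hperp.1 v.2).1]
      simp [dil_e]
    · rw [LinearEquiv.mul_apply, qrefl_apply, Φ.B_symm_zero (Φ.mem_hperp.1 v.2).2]
      simp [dil_f]
    · obtain ⟨t, rfl⟩ := hv' w hw
      rw [map_smul, LinearEquiv.mul_apply, qrefl_apply, map_add, map_smul,
        dil_of_perp _ _ _ _ _ (Φ.mem_hperp.1 v.2).1 (Φ.mem_hperp.1 v.2).2]
      match_scalars
      field_simp; ring
  obtain ⟨d, hd, hd'⟩ := exists_cube_ne hF hq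
  have hd'' : frobq hF d ≠ 0 := (map_ne_zero _).2 hd
  have hN : ∀ w ∈ Φ.hperp e f, (∀ w' ∈ Φ.hperp e f, Φ.B w' w = Φ.B w w') → w = 0 := by
    intro w hw h3
    obtain ⟨t, rfl⟩ := hv' w hw
    have h4 := h3 _ (Submodule.smul_mem _ (d * t) v.2)
    simp only [Φ.B_smul_left, Φ.B_smul_right, Kind.unit_σ, map_mul] at h4
    by_contra h5
    have ht : t ≠ 0 := by rintro rfl; simp at h5
    have ht' : frobq hF t ≠ 0 := (map_ne_zero _).2 ht
    apply hd'
    rw [show frobq hF d = d from mul_right_cancel₀ (mul_ne_zero (mul_ne_zero ht ht') hB)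
      (by linear_combination -h4)]
  refine ⟨⟨hΦ, h, (unit_rich (frobq_ne_id hF) _).rich0, ⟨v, v.2, hv0'⟩, fun S hS _ => ?_⟩,
    fun w hw h3 _ => hN w hw h3, fun θ hθ s w => ?_, ⟨v, v.2, hv0', fun w hw _ => ?_⟩,
    Or.inl one_ne_zero, fun δ h3 _ h4 => ?_⟩
  · by_cases h0 : S = ⊥
    · exact Or.inl h0
    obtain ⟨w, hw, hw0⟩ := (Submodule.ne_bot_iff S).1 h0
    obtain ⟨t, rfl⟩ := hv' w (hS hw)
    have ht : t ≠ 0 := by rintro rfl; simp at hw0
    refine Or.inr (le_antisymm hS fun x hx => ?_)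
    obtain ⟨r, rfl⟩ := hv' x hx
    simpa [smul_smul, ht] using S.smul_mem (r * t⁻¹) hw
  · obtain ⟨a, b, ha, hb, rfl⟩ := exists_fixed_comb (frobq_frobq hF)
      (μ := frobq hF d * (frobq hF d / d)) (by
        simp only [map_mul, map_div₀, frobq_frobq]
        intro h3
        apply hd'
        field_simp at h3
        exact h3.symm) s
    rw [add_smul, map_add, mul_smul, unit_fixed_act hΦ h hθ ha, unit_fixed_act hΦ h hθ hb, add_smul,
      mul_smul b]
    congr 2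
    obtain ⟨g, hg1, hg2, hg3, hg4⟩ := hg d hd
    apply Subtype.ext
    rw [hθ g hg1 _ _ hd (inv_ne_zero hd'') hg2 hg3 w _ (by rw [hg4 _ w.2]; simp [smul_smul]),
      hg4 _ (θ w).2]
    simp [smul_smul]
  · obtain ⟨t, rfl⟩ := hv' w hw
    exact Submodule.smul_mem _ _ (Submodule.mem_span_singleton_self _)
  · have h5 : ∀ y ∈ Φ.hperp e f, ∀ a b, (unitKind hF).T a = Φ.N y → (unitKind hF).T b = 0 →
        δ y (a + b) = δ y a + δ 0 b := fun y hy a b ha hb => by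
      simpa using h3 y hy 0 (zero_mem _) a b ha (by simpa using hb)
    have h6 : ∀ b, (unitKind hF).T b = 0 → δ 0 b = 0 := by
      intro b hb
      obtain ⟨s, hs⟩ := exists_sub_conj (frobq_ne_id hF) (frobq_frobq hF) (b := b) hb
      obtain ⟨a, ha⟩ := Φ.N_range v
      obtain ⟨a', ha'⟩ := Φ.N_range ((s / Φ.B v v) • (v : V))
      have m := Submodule.smul_mem _ (s / Φ.B v v) v.2
      have e1 := h3 _ v.2 _ m a a' ha ha'
      have e2 := h3 _ m _ v.2 a' a ha' ha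
      have e3 := h5 _ (add_mem m v.2) _ b ((isEich_W h m ha').add (isEich_W h v.2 ha)).ha hb
      rw [e2, add_comm _ (v : V), show a' + a + Φ.B v ((s / Φ.B v v) • (v : V)) + b =
        a + a' + Φ.B ((s / Φ.B v v) • (v : V)) v by
          simp only [Φ.B_smul_left, Φ.B_smul_right, Kind.unit_σ, map_div₀, hσB, ← hs]
          field_simp; ring, e1] at e3
      linear_combination -e3
    have h7 : ∀ y ∈ Φ.hperp e f, ∀ a a', (unitKind hF).T a = Φ.N y → (unitKind hF).T a' = Φ.N y →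
        δ y a = δ y a' := by
      intro y hy a a' ha ha'
      have := h5 y hy a (a' - a) ha (by rw [map_sub, ha, ha', sub_self])
      rw [h6 _ (by rw [map_sub, ha, ha', sub_self])] at this
      simpa using this.symm
    intro y hy a ha
    have hc : d / frobq hF d ≠ 0 := div_ne_zero hd hd''
    obtain ⟨g, hg1, hg2, hg3, hg4⟩ := hg _ hc
    set s := frobq hF (d / frobq hF d) * (frobq hF (d / frobq hF d) / (d / frobq hF d)) with hs
    have hs1 : s - 1 ≠ 0 := by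
      rw [sub_ne_zero, hs]
      simp only [map_div₀, frobq_frobq]
      intro h8
      apply hd'
      field_simp at h8
      exact h8
    have hn1 : d / frobq hF d * (unitKind hF).σ (d / frobq hF d) = 1 := by
      simp only [Kind.unit_σ, map_div₀, frobq_frobq]; field_simp
    have m := Submodule.smul_mem _ (s - 1)⁻¹ hy
    obtain ⟨b, hb⟩ := Φ.N_range ((s - 1)⁻¹ • y)
    have e1 := h4 g hg1 _ _ hc (inv_ne_zero ((map_ne_zero _).2 hc)) hg2 hg3 _ m b hb
    have e2 := h3 _ m _ hy b a hb ha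
    have e3 : (unitKind hF).σ (d / frobq hF d) • g ((s - 1)⁻¹ • y) = (s - 1)⁻¹ • y + y := by
      rw [hg4 _ m, smul_smul, Kind.unit_σ, ← hs]
      match_scalars
      field_simp; ring
    have e4 := ((isEich_W h m hb).add (isEich_W h hy ha)).ha
    have e5 : Φ.N ((s - 1)⁻¹ • y + y) = Φ.N ((s - 1)⁻¹ • y) := by
      rw [← e3, Φ.N_smul, (Φ.E_le hg1).2, (unitKind hF).σσ, mul_comm ((unitKind hF).σ _), hn1, one_mul]
    rw [hn1, one_mul, one_mul, e3, h7 _ (add_mem m hy) _ _ (hb.trans e5.symm) e4, e2] at e1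
    linear_combination e1

theorem unit_hN (hΦ : Φ.Nondeg) (h : Φ.IsHyp e f) : ∀ y₀ ∈ Φ.hperp e f,
    (∀ y ∈ Φ.hperp e f, Φ.B y y₀ = Φ.B y₀ y) → y₀ = 0 := by
  intro y₀ hy₀ h1
  obtain ⟨d, hd⟩ : ∃ d, frobq hF d ≠ d := by
    by_contra h2
    push Not at h2
    exact frobq_ne_id hF (RingHom.ext h2)
  have := h.nondeg_hperp hΦ ⟨y₀, hy₀⟩ fun y => by
    change Φ.B y y₀ = 0
    have h2 := h1 _ (Submodule.smul_mem _ d y.2)
    rw [Φ.B_smul_left, Φ.B_smul_right, ← h1 _ y.2, Kind.unit_σ] at h2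
    by_contra h3
    exact hd (mul_right_cancel₀ h3 h2).symm
  exact congrArg Subtype.val this

end Unitary

end Cfsg.Agent.Perm.Aut
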