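import Cfsg.Agent.Lib.Perm.Aut5

/-! Automorphisms of symplectic, unitary and orthogonal groups: the main theorems. -/

set_option autoImplicit false

namespace Cfsg.Agent.Perm.Aut

open Module Cfsg.Agent.Classical Cfsg.Agent.Classical.Form

section
variable {F V : Type*} [Field F] [AddCommGroup V] [Module F V] {K : Kind F} {Φ : Form K V}
variable [FiniteDimensional F V] [Finite F] {e f : V}

theorem card_U (h : Φ.IsHyp e f) :
    Nat.card (Φ.Ugrp e h.he) = Nat.card F ^ (finrank F V - 2) * Nat.card K.T.ker := by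
  haveI : Finite V := Module.finite_of_finite F
  rw [← h.finrank_hperp, Nat.add_sub_cancel, ← Module.natCard_eq_pow_finrank, ← h.card_partners]
  refine Nat.card_congr (Equiv.ofBijective (fun x => ⟨x.1 f, by
    simpa [U_self x.2] using h.map (Φ.E_le (Φ.Ugrp_le_E _ _ x.2))⟩) ⟨?_, ?_⟩)
  · rintro ⟨x, hx⟩ ⟨x', hx'⟩ h1
    obtain ⟨y, a, h2, hy, rfl⟩ := exists_eich_W h hx
    obtain ⟨y', a', h2', hy', rfl⟩ := exists_eich_W h hx'
    obtain ⟨rfl, rfl⟩ := eich_inj h hy hy' (h1 := h2) (h2 := h2') (congrArg Subtype.val h1)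
    rfl
  · rintro ⟨f', hf'⟩
    obtain ⟨y, a, h1, -, h2⟩ := h.exists_eich hf'
    exact ⟨⟨_, eich_mem_U h1⟩, Subtype.ext h2⟩

theorem card_Ur_ge (hΦ : Φ.Nondeg) {C₀ : Submodule F V} (hC : Φ.TS C₀) :
    Nat.card F ^ (finrank F C₀).choose 2 * Nat.card K.T.ker ^ finrank F C₀ ≤
      Nat.card (Ur Φ.E (Φ.perp C₀) C₀) := by
  haveI : Finite V := Module.finite_of_finite F
  haveI : Finite (V ≃ₗ[F] V) := Finite.of_injective _ (DFunLike.coe_injective (F := V ≃ₗ[F] V))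
  have key : ∀ k : ℕ, ∀ A ≤ C₀, finrank F A = k → Nat.card F ^ k.choose 2 * Nat.card K.T.ker ^ k ≤
      Nat.card {g : Ur Φ.E (Φ.perp C₀) C₀ // ∀ v ∈ Φ.perp A, g.1 v = v} := by
    intro k
    induction k with
    | zero =>
      intro A _ _
      haveI : Nonempty {g : Ur Φ.E (Φ.perp C₀) C₀ // ∀ v ∈ Φ.perp A, g.1 v = v} := ⟨⟨1, fun _ _ => rfl⟩⟩
      simpa using Nat.succ_le_of_lt Nat.card_pos
    | succ k ih =>
      intro A hA hk
      obtain ⟨u, huA, hu0⟩ := (Submodule.ne_bot_iff A).1 (by rintro rfl; simp at hk)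
      obtain ⟨z, hz⟩ := hΦ.exists_hyp hu0 (hC.1 u (hA huA))
      have h1 := (hC.mono hA).finrank_comap_hperp hz huA
      let A' : Submodule F V := (A.comap (Φ.hperp u z).subtype).map (Φ.hperp u z).subtype
      have h2 : finrank F A' = k := by
        rw [Submodule.finrank_map_subtype_eq]; omega
      have h3 : A' ≤ A := by rintro _ ⟨w, hw, rfl⟩; exact hw
      have h4 : A' ≤ Φ.hperp u z := Submodule.map_subtype_le _ _
      have h5 := ih A' (h3.trans hA) h2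
      have h6 : ∀ (y : A') (a : K.T.ker), Φ.IsEich u y a := fun y a =>
        isEich_W hz (h4 y.2) (by rw [hC.1 _ (hA (h3 y.2))]; exact a.2)
      have h7 := Nat.card_le_card_of_injective (fun x : A' × K.T.ker ×
          {g : Ur Φ.E (Φ.perp C₀) C₀ // ∀ v ∈ Φ.perp A', g.1 v = v} =>
        (⟨⟨_, eich_mem_Ur (h6 x.1 x.2.1) hC.le_perp (hA huA) (hC.le_perp (hA (h3 x.1.2)))⟩ * x.2.2.1,
          fun v hv => by
            change Φ.eich _ _ _ (h6 x.1 x.2.1) (x.2.2.1.1 v) = v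
            rw [x.2.2.2 v (Φ.perp_anti h3 hv), eich_of_perp _ _ _ _ _ (Φ.mem_perp.1 hv u huA),
              Φ.mem_perp.1 hv _ (h3 x.1.2), zero_smul, add_zero]⟩ :
          {g : Ur Φ.E (Φ.perp C₀) C₀ // ∀ v ∈ Φ.perp A, g.1 v = v})) (by
        rintro ⟨y, a, g⟩ ⟨y', a', g'⟩ h8
        have h9 := congrArg (fun x => x.1.1) h8
        have h10 : z ∈ Φ.perp A' := Φ.mem_perp'.2 fun w hw => (Φ.mem_hperp.1 (h4 hw)).2
        have h11 := DFunLike.congr_fun h9 z
        change Φ.eich _ _ _ (h6 y a) (g.1.1 z) = Φ.eich _ _ _ (h6 y' a') (g'.1.1 z) at h11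
        rw [g.2 z h10, g'.2 z h10] at h11
        obtain ⟨e1, e2⟩ := eich_inj hz (h4 y.2) (h4 y'.2) h11
        obtain rfl : y = y' := Subtype.ext e1
        obtain rfl : a = a' := Subtype.ext e2
        obtain rfl : g = g' := Subtype.ext (mul_left_cancel (congrArg Subtype.val h8))
        rfl)
      refine le_trans ?_ h7
      rw [Nat.card_prod, Nat.card_prod, Module.natCard_eq_pow_finrank (K := F) (V := A'), h2,
        Nat.choose_succ_succ', Nat.choose_one_right, pow_add, pow_succ]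
      calc _ = Nat.card F ^ k * (Nat.card K.T.ker * (Nat.card F ^ k.choose 2 * Nat.card K.T.ker ^ k)) := by
            ring
        _ ≤ _ := by gcongr
  exact (key _ C₀ le_rfl rfl).trans (Nat.card_le_card_of_injective _ Subtype.val_injective)

variable (p : ℕ) [Fact p.Prime] [CharP F p] [Cmp K]
variable {P : Type*} [Group P] (C : Cov Φ.E P)
include p

theorem Nice2.main_N (N : Nice2 Φ e f)
    (hN : ∀ y₀ ∈ Φ.hperp e f, (∀ y ∈ Φ.hperp e f, Φ.B y y₀ = Φ.B y₀ y) → y₀ = 0) :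
    (semiAut C).range = ⊤ := by
  haveI : Finite V := Module.finite_of_finite F
  rw [eq_top_iff]
  intro α _
  obtain ⟨U, hU, hQ⟩ := exists_isSyl (U_isPGroup p N.hyp.he) (Φ.Ugrp_le_E _ _)
  obtain ⟨g, hg, h⟩ := C.exists_cor_syl α hU
  have := N.mem_range p ⟨N.hyp.sing_e, N.hyp.sing_e,
    Cov.cor_of_card (U_isPGroup p _) (N.step1N hN hU hQ h) le_rfl⟩
  simpa using mul_mem (inv_mem (inner_mem C hg)) this

theorem Nice2.main_A (N : Nice2 Φ e f) (hs : ∀ u v, Φ.B u v = Φ.B v u) (α : MulAut P) :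
    α ∈ (semiAut C).range ∨ ∃ (C₀ : Submodule F V), ∃ γ ∈ (semiAut C).range, Φ.TS C₀ ∧ Φ.perp C₀ = C₀ ∧
      2 ≤ finrank F C₀ ∧ ∀ y ∈ Ur Φ.E (Φ.perp C₀) C₀, ∃ x ∈ Φ.Ugrp e N.hyp.he, C.T (γ * α) x y := by
  haveI : Finite V := Module.finite_of_finite F
  obtain ⟨U, hU, hQ⟩ := exists_isSyl (U_isPGroup p N.hyp.he) (Φ.Ugrp_le_E _ _)
  obtain ⟨g, hg, h⟩ := C.exists_cor_syl α hU
  obtain ⟨C₀, h1, h2, h3⟩ := N.step1A hU hQ h
  by_cases h4 : C₀ ≤ (F ∙ e)
  · left
    obtain rfl : C₀ = (F ∙ e) := le_antisymm h4 ((Submodule.span_singleton_le_iff_mem _ _).2 h2)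
    have h5 := Cov.cor_of_card (C := C) (U_isPGroup p N.hyp.he) (fun y hy => by
      obtain ⟨x, hx, h5⟩ := h3 y (U_le_Ur _ hy)
      exact ⟨x, hx, h5.symm⟩) le_rfl
    have := N.mem_range p (Pt.symm' ⟨N.hyp.sing_e, N.hyp.sing_e, h5⟩)
    simpa using mul_mem (inv_mem (inner_mem C hg)) this
  right
  obtain ⟨u, hu, hu'⟩ := SetLike.not_le_iff_exists.1 h4
  refine ⟨C₀, _, inner_mem C hg, h1, le_antisymm ?_ h1.le_perp, ?_, h3⟩
  · intro w hw
    rw [← N.nd.perp_perp C₀, Φ.mem_perp]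
    intro w' hw'
    obtain ⟨a, ha⟩ := Φ.N_range w
    obtain ⟨a', ha'⟩ := Φ.N_range w'
    have e1 : Φ.IsEich e w a := ⟨N.hyp.he, Φ.mem_perp.1 hw e h2, ha⟩
    have e2 : Φ.IsEich u w' a' := ⟨h1.1 u hu, Φ.mem_perp.1 hw' u hu, ha'⟩
    have m2 := eich_mem_Ur e2 h1.le_perp hu hw'
    obtain ⟨x, hx, t1⟩ := h3 _ (eich_mem_Ur e1 h1.le_perp h2 hw)
    obtain ⟨x', hx', t2⟩ := h3 _ m2
    have h5 := t2.comm t1 (eich_uni p e1) (by
      obtain ⟨y, b, hb, rfl⟩ := hx
      obtain ⟨y', b', hb', rfl⟩ := hx'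
      rw [eich_mul, eich_mul]
      exact Φ.eich_congr _ (add_comm _ _) (by rw [hs y y']; ring))
    rw [← mul_inv_eq_iff_eq_mul, Φ.eich_conj (Φ.eich_mem _ _ _ _),
      Φ.eich_congr' _ (m2.2.2.2 e h2) (eich_of_perp _ _ _ _ _ (Φ.mem_perp.1 hw u hu)) rfl] at h5
    have h6 := DFunLike.congr_fun h5 f
    have := K.εε
    rw [eich_apply, eich_apply, N.hyp.Bfe, this] at h6
    by_contra h7
    apply hu'
    have h8 : Φ.B w w' • u = (Φ.B f (w + Φ.B w w' • u) - Φ.B f w) • e := by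
      linear_combination (norm := module) -h6
    rw [show u = (Φ.B w w')⁻¹ • (Φ.B w w' • u) by rw [smul_smul, inv_mul_cancel₀ h7, one_smul], h8]
    exact Submodule.smul_mem _ _ (Submodule.smul_mem _ _ (Submodule.mem_span_singleton_self e))
  · rw [← finrank_span_pair N.hyp.e_ne hu']
    exact Submodule.finrank_mono (Submodule.span_le.2 (by rintro _ (rfl | rfl) <;> assumption))

theorem Nice2.main_A' (N : Nice2 Φ e f) (hs : ∀ u v, Φ.B u v = Φ.B v u)
    (hc : ∀ C₀ : Submodule F V, Φ.TS C₀ → finrank F V = 2 * finrank F C₀ → 2 ≤ finrank F C₀ →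
      Nat.card F ^ (finrank F V - 2) * Nat.card K.T.ker <
        Nat.card F ^ (finrank F C₀).choose 2 * Nat.card K.T.ker ^ finrank F C₀) :
    (semiAut C).range = ⊤ := by
  haveI : Finite V := Module.finite_of_finite F
  rw [eq_top_iff]
  intro α _
  rcases N.main_A p C hs α with h | ⟨C₀, γ, -, h1, h2, h3, h4⟩
  · exact h
  have h5 := N.nd.finrank_perp C₀
  rw [h2] at h5
  have h6 := Cov.card_le_of_T (C := C) (Ur_isPGroup (p := p) _ _ _) (fun y hy => by
    obtain ⟨x, hx, h5⟩ := h4 y hy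
    exact ⟨x, hx, h5.symm⟩)
  rw [card_U N.hyp] at h6
  exact absurd ((card_Ur_ge N.nd h1).trans h6) (not_le.2 (hc C₀ h1 (by omega) h3))

end

section Types
variable {F V : Type*} [Field F] [AddCommGroup V] [Module F V] [FiniteDimensional F V]
variable {P : Type*} [Group P]

theorem main_symp [Finite F] {Φ : Form (Kind.symp F) V} (hΦ : Φ.Nondeg) (hn : 3 ≤ finrank F V)
    (h2 : (2 : F) = 0 → finrank F V ≠ 4) (C : Cov Φ.E P) : (semiAut C).range = ⊤ := by
  obtain ⟨p, hc⟩ := CharP.exists F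
  haveI : Fact p.Prime := ⟨CharP.char_is_prime F p⟩
  obtain ⟨e, f, h⟩ := symp_exists_hyp hΦ (by omega)
  have N := nice2_symp hΦ hn h
  by_cases h3 : (2 : F) = 0
  · refine N.main_A' p C (fun u v => ?_) fun C₀ _ h4 h5 => ?_
    · rw [Φ.symm v u]
      simp only [Kind.symp_ε, Kind.symp_σ]
      linear_combination (-Φ.B v u) * h3
    · rw [card_symp_ker, ← pow_succ, ← pow_add]
      refine Nat.pow_lt_pow_right Finite.one_lt_card ?_
      have h6 := h2 h3
      obtain ⟨k, hk⟩ : ∃ k, finrank F C₀ = k + 3 := ⟨finrank F C₀ - 3, by omega⟩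
      rw [h4, hk, Nat.choose_succ_succ', Nat.choose_succ_succ' (k + 1) 1, Nat.choose_one_right,
        Nat.choose_one_right]
      omega
  · refine N.main_N p C fun y hy h4 => ?_
    have := h.nondeg_hperp hΦ ⟨y, hy⟩ fun x => by
      change Φ.B x y = 0
      have h5 := h4 x x.2
      rw [Φ.symm x y] at h5
      simp only [Kind.symp_ε, Kind.symp_σ] at h5
      exact (mul_eq_zero.1 (show 2 * Φ.B x y = 0 by linear_combination h5)).resolve_left h3
    exact congrArg Subtype.val this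

theorem main_orth [Finite F] {Φ : Form (Kind.orth F) V} (hΦ : Φ.Nondeg) (hn : 5 ≤ finrank F V)
    (h2 : ∀ C₀ : Submodule F V, Φ.TS C₀ → finrank F V = 2 * finrank F C₀ → 5 ≤ finrank F C₀)
    (C : Cov Φ.E P) : (semiAut C).range = ⊤ := by
  obtain ⟨p, hc⟩ := CharP.exists F
  haveI : Fact p.Prime := ⟨CharP.char_is_prime F p⟩
  obtain ⟨e, f, h⟩ := orth_exists_hyp hΦ (by omega)
  refine (nice2_orth hΦ hn h).main_A' p C Φ.orth_symm fun C₀ h3 h4 _ => ?_
  rw [card_orth_ker, one_pow, mul_one, mul_one]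
  refine Nat.pow_lt_pow_right Finite.one_lt_card ?_
  have h6 := h2 C₀ h3 h4
  obtain ⟨k, hk⟩ : ∃ k, finrank F C₀ = k + 5 := ⟨finrank F C₀ - 5, by omega⟩
  rw [h4, hk, Nat.choose_succ_succ', Nat.choose_succ_succ' (k + 3) 1, Nat.choose_succ_succ' (k + 2) 1,
    Nat.choose_one_right, Nat.choose_one_right, Nat.choose_one_right]
  omega

theorem main_unit [Fintype F] {q : ℕ} {hF : Fintype.card F = q ^ 2} {Φ : Form (unitKind hF) V}
    (hΦ : Φ.Nondeg) (hn : 3 ≤ finrank F V) (h2 : ¬ (finrank F V = 3 ∧ q = 2)) (C : Cov Φ.E P) :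
    (semiAut C).range = ⊤ := by
  obtain ⟨p, hc⟩ := CharP.exists F
  haveI : Fact p.Prime := ⟨CharP.char_is_prime F p⟩
  obtain ⟨e, f, h⟩ := unit_exists_hyp (frobq_ne_id hF) hΦ (by omega)
  refine Nice2.main_N p C ?_ (unit_hN hΦ h)
  by_cases h3 : finrank F V = 3
  · exact nice2_unit_three hΦ h3 (fun h4 => h2 ⟨h3, h4⟩) h
  · exact nice2_unit_hyp hΦ (by omega) h

end Types

end Cfsg.Agent.Perm.Aut
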