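import Cfsg.Agent.Lib.Perm.Aut6
import Cfsg.Agent.Lib.Classical.OrthStm
import Cfsg.Prelude.Def_LieTypeDatum

/-! Matrix models of the classical groups and induced automorphisms. -/

set_option autoImplicit false

namespace Cfsg.Agent.Perm.Aut

open Module Matrix Cfsg.Agent.Classical Cfsg.Agent.Classical.Form

section
variable {F : Type*} [Field F] {ι : Type} [Fintype ι] [DecidableEq ι]

theorem map_mulVec' (σ : F ≃+* F) (M : Matrix ι ι F) (v : ι → F) :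
    M.map σ *ᵥ (fun i => σ (v i)) = fun i => σ ((M *ᵥ v) i) := by
  funext i
  simp [Matrix.mulVec, dotProduct, map_sum]

/-- the semilinear map given by a matrix and a field automorphism -/
noncomputable def gamOf (g : GL ι F) (σ : F ≃+* F) : GamL F (ι → F) where
  g := (AddEquiv.piCongrRight fun _ => σ.toAddEquiv).trans (glEquiv g).toAddEquiv
  τ := σ
  smul' c v := by
    change (g : Matrix ι ι F) *ᵥ (fun i => σ ((c • v) i)) = σ c • (g : Matrix ι ι F) *ᵥ (fun i => σ (v i))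
    rw [← Matrix.mulVec_smul]
    congr 1; funext i; simp

theorem gamOf_g (g : GL ι F) (σ : F ≃+* F) (v : ι → F) :
    (gamOf g σ).g v = (g : Matrix ι ι F) *ᵥ (fun i => σ (v i)) := rfl

@[simp] theorem gamOf_τ (g : GL ι F) (σ : F ≃+* F) : (gamOf g σ).τ = σ := rfl

theorem gamOf_refl (g : GL ι F) : gamOf g (RingEquiv.refl F) = GamL.lin (glEquiv g) := rfl

theorem gamOf_one_g (σ : F ≃+* F) (v : ι → F) : (gamOf (1 : GL ι F) σ).g v = fun i => σ (v i) := by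
  simp [gamOf_g]

theorem gamOf_eq (g : GL ι F) (σ : F ≃+* F) : gamOf g σ = GamL.lin (glEquiv g) * gamOf 1 σ :=
  GamL.ext' (fun v => by simp [gamOf_g]) fun _ => rfl

theorem gamOf_one_mul (σ τ : F ≃+* F) : gamOf (1 : GL ι F) (σ * τ) = gamOf 1 σ * gamOf 1 τ :=
  GamL.ext' (fun v => by simp [gamOf_g]) fun _ => rfl

/-- the standard field automorphisms -/
noncomputable def fld (ι : Type) [Fintype ι] [DecidableEq ι] : (F ≃+* F) →* GamL F (ι → F) :=
  MonoidHom.mk' (fun σ => gamOf 1 σ) gamOf_one_mul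

theorem fld_apply (σ : F ≃+* F) : fld ι σ = gamOf 1 σ := rfl
@[simp] theorem fld_g (σ : F ≃+* F) (v : ι → F) (i : ι) : (fld ι σ).g v i = σ (v i) := by
  rw [fld_apply, gamOf_one_g]
@[simp] theorem fld_τ (σ : F ≃+* F) : (fld ι σ).τ = σ := rfl

theorem exists_gamOf (s : GamL F (ι → F)) : ∃ g : GL ι F, s = gamOf g s.τ := by
  obtain ⟨x, hx⟩ := GamL.exists_lin (s := s * (fld ι s.τ)⁻¹) fun c => by simp
  refine ⟨glEquiv.symm x, ?_⟩
  rw [gamOf_eq, MulEquiv.apply_symm_apply, hx, ← fld_apply, inv_mul_cancel_right]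

theorem cj_gamOf_iff (g : GL ι F) (σ : F ≃+* F) {x y : (ι → F) ≃ₗ[F] (ι → F)} {M M' : Matrix ι ι F}
    (hx : ∀ v, x v = M *ᵥ v) (hy : ∀ v, y v = M' *ᵥ v) :
    y = (gamOf g σ).cj x ↔ M' = (g : Matrix ι ι F) * M.map σ * ((g⁻¹ : GL ι F) : Matrix ι ι F) := by
  have key : ∀ v, (gamOf g σ).cj x v =
      ((g : Matrix ι ι F) * M.map σ * ((g⁻¹ : GL ι F) : Matrix ι ι F)) *ᵥ v := by
    intro v
    obtain ⟨v, rfl⟩ := (gamOf g σ).g.surjective v
    rw [GamL.cj_g, gamOf_g, gamOf_g, Matrix.mulVec_mulVec, mul_assoc, ← Units.val_mul, inv_mul_cancel,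
      Units.val_one, mul_one, ← Matrix.mulVec_mulVec, map_mulVec', hx]
  constructor
  · rintro rfl
    exact matrix_ext_mulVec fun v => by rw [← hy, key]
  · intro h
    exact LinearEquiv.ext fun v => by rw [hy, key, h]

/-- a matrix model of a linear group -/
structure MRep (X : Type*) [Group X] (G : Subgroup ((ι → F) ≃ₗ[F] (ι → F))) where
  e : X ≃* G
  mat : X → Matrix ι ι F
  hmat : ∀ s v, (e s).1 v = mat s *ᵥ v
  cen : ∀ g : G, g ∈ Subgroup.center G ↔ IsSc g.1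

namespace MRep
variable {X : Type*} [Group X] {G : Subgroup ((ι → F) ≃ₗ[F] (ι → F))} (R : MRep X G)

/-- the projective quotient -/
def cov : Cov G (X ⧸ Subgroup.center X) where
  π := (QuotientGroup.mk' _).comp R.e.symm.toMonoidHom
  surj := (QuotientGroup.mk'_surjective _).comp R.e.symm.surjective
  ker x := by
    rw [← R.cen, ← mem_center_congr R.e.symm]
    exact QuotientGroup.eq_one_iff _

theorem cov_π (s : X) : R.cov.π (R.e s) = QuotientGroup.mk s := by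
  change QuotientGroup.mk (R.e.symm (R.e s)) = _
  rw [MulEquiv.symm_apply_apply]

theorem ind_iff {g : GL ι F} {σ : F ≃+* F} (h : gamOf g σ ∈ Nrm G)
    {β : X ⧸ Subgroup.center X ≃* X ⧸ Subgroup.center X} :
    (∀ s s' : X, R.mat s' = (g : Matrix ι ι F) * (R.mat s).map σ * ((g⁻¹ : GL ι F) : Matrix ι ι F) →
      β (QuotientGroup.mk s) = QuotientGroup.mk s') ↔ β = R.cov.aut ⟨_, h⟩ := by
  constructor
  · intro h1
    refine MulEquiv.ext fun y => ?_
    obtain ⟨s, rfl⟩ := QuotientGroup.mk_surjective y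
    obtain ⟨s', hs'⟩ := R.e.surjective (Cov.cjG ⟨_, h⟩ (R.e s))
    rw [h1 s s' ((cj_gamOf_iff g σ (R.hmat s) (R.hmat s')).1 (congrArg Subtype.val hs')), ← R.cov_π s,
      Cov.aut_π, ← hs', cov_π]
  · rintro rfl s s' h1
    rw [← R.cov_π s, Cov.aut_π, ← R.cov_π s']
    congr 1
    exact Subtype.ext ((cj_gamOf_iff g σ (R.hmat s) (R.hmat s')).2 h1).symm

theorem ind_lin_iff {g : GL ι F} (h : GamL.lin (glEquiv g) ∈ Nrm G)
    {β : X ⧸ Subgroup.center X ≃* X ⧸ Subgroup.center X} :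
    (∀ s s' : X, R.mat s' = (g : Matrix ι ι F) * R.mat s * ((g⁻¹ : GL ι F) : Matrix ι ι F) →
      β (QuotientGroup.mk s) = QuotientGroup.mk s') ↔ β = R.cov.aut ⟨_, h⟩ :=
  R.ind_iff (g := g) (σ := RingEquiv.refl F) h

theorem ind_fld_iff {σ : F ≃+* F} (h : fld ι σ ∈ Nrm G)
    {β : X ⧸ Subgroup.center X ≃* X ⧸ Subgroup.center X} :
    (∀ s s' : X, R.mat s' = (R.mat s).map σ → β (QuotientGroup.mk s) = QuotientGroup.mk s') ↔
      β = R.cov.aut ⟨_, h⟩ := by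
  refine Iff.trans ?_ (R.ind_iff (g := 1) (σ := σ) h)
  simp

end MRep

end

section Models
variable {F : Type*} [Field F]

theorem finrank_sum (m : ℕ) : finrank F (Fin m ⊕ Fin m → F) = 2 * m := by simp [two_mul]

/-- the symplectic group -/
noncomputable def repSp (m : ℕ) (hm : 1 ≤ m) (F : Type*) [Field F] :
    MRep (Matrix.symplecticGroup (Fin m) F) (spForm m F).E where
  e := (spEquiv m F).trans (MulEquiv.subgroupCongr (symp_E_eq (spForm_nondeg m)).symm)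
  mat s := s
  hmat _ _ := rfl
  cen g := by
    obtain ⟨e, f, h⟩ := symp_exists_hyp (spForm_nondeg (F := F) m) (by rw [finrank_sum]; omega)
    exact (symp_rich _).rich0.mem_center_iff (spForm_nondeg m) h le_rfl (E_le _)

/-- the special unitary group -/
noncomputable def repSU [Fintype F] {q : ℕ} (hF : Fintype.card F = q ^ 2) (n : ℕ) (hn : 2 ≤ n) :
    MRep (Cfsg.SU n F q) (uForm hF n).E where
  e := (suEquiv hF n).trans (MulEquiv.subgroupCongr (unit_E_eq hF (uForm_nondeg hF n)).symm)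
  mat s := s.1
  hmat _ _ := rfl
  cen g := by
    obtain ⟨e, f, h⟩ := unit_exists_hyp (frobq_ne_id hF) (uForm_nondeg hF n) (by simpa using hn)
    exact (unit_rich (frobq_ne_id hF) _).rich0.mem_center_iff (uForm_nondeg hF n) h le_rfl (E_le _)

variable {ι : Type} [Fintype ι] [DecidableEq ι]

/-- the orthogonal group -/
noncomputable def repO [Finite F] (Φ : Form (Kind.orth F) (ι → F)) (hΦ : Φ.Nondeg)
    (hn : 5 ≤ finrank F (ι → F)) : MRep (Cfsg.Omega F Φ.N) Φ.E where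
  e := (commutatorCongr (orthEquiv Φ)).trans
    ((good_of_finrank hΦ (by omega)).omegaEquiv hΦ (by omega))
  mat s := s.1.1
  hmat _ _ := rfl
  cen g := by
    obtain ⟨e, f, h⟩ := orth_exists_hyp hΦ (by omega)
    exact (orth_rich0 hΦ (by omega)).mem_center_iff hΦ h le_rfl (E_le _)

theorem sp_fld (m : ℕ) (σ : F ≃+* F) : IsSemi (spForm m F) (fld _ σ) 1 :=
  ⟨one_ne_zero, rfl, fun u v => by simp [spForm_B, sympForm_eq], fun v => by simp [symp_N]⟩

theorem u_fld [Fintype F] {q : ℕ} (hF : Fintype.card F = q ^ 2) (n : ℕ) (σ : F ≃+* F) :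
    IsSemi (uForm hF n) (fld _ σ) 1 :=
  ⟨one_ne_zero, map_one _, fun u v => by simp [uForm_B, Cfsg.hermForm],
    fun v => by simp [uForm_N, Cfsg.hermForm]⟩

theorem isSemi_orth {V : Type*} [AddCommGroup V] [Module F V] {Φ : Form (Kind.orth F) V} {s : GamL F V}
    {l : F} (hl : l ≠ 0) (h : ∀ v, Φ.N (s.g v) = l * s.τ (Φ.N v)) : IsSemi Φ s l :=
  ⟨hl, rfl, fun u v => by
    have h1 := h (u + v)
    rw [map_add, Φ.orth_N_add, Φ.orth_N_add, h, h, map_add, map_add] at h1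
    linear_combination h1, h⟩

theorem isSemi_symp {V : Type*} [AddCommGroup V] [Module F V] {Φ : Form (Kind.symp F) V} {s : GamL F V}
    {l : F} (hl : l ≠ 0) (h : ∀ u v, Φ.B (s.g u) (s.g v) = l * s.τ (Φ.B u v)) : IsSemi Φ s l :=
  ⟨hl, rfl, h, fun v => by simp [symp_N]⟩

theorem odd_fld (m : ℕ) (σ : F ≃+* F) : IsSemi (oddForm m F) (fld _ σ) 1 :=
  isSemi_orth one_ne_zero fun v => by simp [oddForm_N, Cfsg.quadFormOdd]

theorem plus_fld (m : ℕ) (σ : F ≃+* F) : IsSemi (plusForm m F) (fld _ σ) 1 :=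
  isSemi_orth one_ne_zero fun v => by simp [plusForm_N, Cfsg.quadFormPlus]

theorem minus_fld (m : ℕ) {a b : F} (σ : F ≃+* F) (ha : σ a = a) (hb : σ b = b) :
    IsSemi (minusForm m F a b) (fld _ σ) 1 :=
  isSemi_orth one_ne_zero fun v => by simp [minusForm_N, Cfsg.quadFormMinus, ha, hb]

theorem gamOf_mem_iff {K : Kind F} [Cmp K] {Φ : Form K (ι → F)} {σ : F ≃+* F} (h : fld ι σ ∈ Semi Φ)
    (g : GL ι F) : gamOf g σ ∈ Semi Φ ↔ GamL.lin (glEquiv g) ∈ Semi Φ := by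
  rw [gamOf_eq, ← fld_apply]
  exact ⟨fun h1 => by simpa using mul_mem h1 (inv_mem h), fun h1 => mul_mem h1 h⟩

theorem mem_GSp_iff (m : ℕ) (g : GL (Fin m ⊕ Fin m) F) :
    g ∈ Cfsg.GSp m F ↔ GamL.lin (glEquiv g) ∈ Semi (spForm m F) :=
  ⟨fun ⟨c, hc⟩ => ⟨c, isSemi_symp c.ne_zero hc⟩, fun ⟨l, hl⟩ => ⟨Units.mk0 l hl.ne, hl.B⟩⟩

theorem semipair_iff (Φ : Form (Kind.orth F) (ι → F)) (g : GL ι F) (σ : F ≃+* F) :
    Cfsg.IsSemisimilarityPair Φ.N g σ ↔ gamOf g σ ∈ Semi Φ :=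
  ⟨fun ⟨c, hc⟩ => ⟨c, isSemi_orth c.ne_zero hc⟩, fun ⟨l, hl⟩ => ⟨Units.mk0 l hl.ne, hl.N⟩⟩

theorem mem_quadSim_iff (Φ : Form (Kind.orth F) (ι → F)) (g : GL ι F) :
    g ∈ Cfsg.Geo.quadSimilarityGroup (F := F) Φ.N ↔ GamL.lin (glEquiv g) ∈ Semi Φ :=
  ⟨fun ⟨c, hc⟩ => ⟨c, isSemi_orth c.ne_zero hc⟩, fun ⟨l, hl⟩ => ⟨Units.mk0 l hl.ne, hl.N⟩⟩

theorem gammaPSp_eq (m : ℕ) (hm : 1 ≤ m) : Cfsg.gammaPSp m F = (semiAut (repSp m hm F).cov).range := by
  refine le_antisymm ((Subgroup.closure_le _).2 ?_) ?_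
  · rintro β ⟨g, σ, hg, h⟩
    have h1 := (gamOf_mem_iff ⟨_, sp_fld m σ⟩ g).2 ((mem_GSp_iff m g).1 hg)
    exact ⟨⟨_, h1⟩, (((repSp m hm F).ind_iff (Semi_le_Nrm_E h1)).1 h).symm⟩
  · rintro _ ⟨⟨s, hs⟩, rfl⟩
    obtain ⟨g, hg⟩ := exists_gamOf s
    generalize s.τ = σ at hg
    subst hg
    exact Subgroup.subset_closure ⟨g, σ, (mem_GSp_iff m g).2 ((gamOf_mem_iff ⟨_, sp_fld m σ⟩ g).1 hs),
      ((repSp m hm F).ind_iff (Semi_le_Nrm_E hs)).2 rfl⟩

theorem gammaPOmega_eq [Finite F] (Φ : Form (Kind.orth F) (ι → F)) (hΦ : Φ.Nondeg)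
    (hn : 5 ≤ finrank F (ι → F)) : Cfsg.gammaPOmega F Φ.N = (semiAut (repO Φ hΦ hn).cov).range := by
  refine le_antisymm ((Subgroup.closure_le _).2 ?_) ?_
  · rintro β ⟨g, σ, hg, h⟩
    have h1 := (semipair_iff Φ g σ).1 hg
    exact ⟨⟨_, h1⟩, (((repO Φ hΦ hn).ind_iff (Semi_le_Nrm_E h1)).1 h).symm⟩
  · rintro _ ⟨⟨s, hs⟩, rfl⟩
    obtain ⟨g, hg⟩ := exists_gamOf s
    generalize s.τ = σ at hg
    subst hg
    exact Subgroup.subset_closure ⟨g, σ, (semipair_iff Φ g σ).2 hs,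
      ((repO Φ hΦ hn).ind_iff (Semi_le_Nrm_E hs)).2 rfl⟩

end Models

section Scal
variable {F V : Type*} [Field F] [AddCommGroup V] [Module F V] {K : Kind F} {Φ : Form K V}

theorem isSc_scal (c : Fˣ) : IsSc (scal V c) := ⟨c, fun _ => rfl⟩

theorem isSemi_scal (c : Fˣ) : IsSemi Φ (GamL.lin (scal V c)) (c * K.σ c) :=
  ⟨by simp, by rw [map_mul, K.σσ, mul_comm], fun u v => by simp [mul_assoc, mul_left_comm],
    fun v => by simp [Φ.N_smul]⟩

theorem scal_mem_Nrm (G : Subgroup (V ≃ₗ[F] V)) (c : Fˣ) : GamL.lin (scal V c) ∈ Nrm G := fun x => by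
  rw [(isSc_scal c).cj_lin]

theorem aut_scal {G : Subgroup (V ≃ₗ[F] V)} {P : Type*} [Group P] (C : Cov G P) (c : Fˣ) :
    C.aut ⟨_, scal_mem_Nrm G c⟩ = 1 :=
  C.aut_eq_one_iff.2 fun x _ => ⟨1, fun v => by rw [(isSc_scal c).cj_lin, one_smul]⟩

theorem isSemi_lin_one {g : V ≃ₗ[F] V} (h : IsSemi Φ (GamL.lin g) 1) : g ∈ Φ.Isom :=
  ⟨fun u v => by simpa using h.B u v, fun v => by simpa using h.N v⟩

variable [Cmp K]

theorem scal_mem_Semi (c : Fˣ) : GamL.lin (scal V c) ∈ Semi Φ := ⟨_, isSemi_scal c⟩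

theorem semiAut_scal {P : Type*} [Group P] (C : Cov Φ.E P) (c : Fˣ) :
    semiAut C ⟨_, scal_mem_Semi c⟩ = 1 := aut_scal C c

theorem exists_scal_mul {s : GamL F V} {l : F} (h : IsSemi Φ s l) {c : F} (hc : c * K.σ c = l) :
    ∃ d : Fˣ, IsSemi Φ (GamL.lin (scal V d) * s) 1 := by
  have h0 : c ≠ 0 := by rintro rfl; exact h.ne (by simpa using hc.symm)
  refine ⟨(Units.mk0 c h0)⁻¹, ?_⟩
  convert (isSemi_scal _).mul h using 1
  have : K.σ c ≠ 0 := by simpa using h0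
  simp [← hc]; field_simp

end Scal

section Unitary
variable {F : Type*} [Field F] [Fintype F] {q : ℕ}

theorem exists_GU_of_semi (hF : Fintype.card F = q ^ 2) {n : ℕ} {P : Type*} [Group P]
    (C : Cov (uForm hF n).E P) (s : Semi (uForm hF n)) :
    ∃ (g : GL (Fin n) F) (hg : gamOf g s.1.τ ∈ Semi (uForm hF n)), g ∈ Cfsg.GU n F q ∧
      semiAut C s = semiAut C ⟨_, hg⟩ := by
  obtain ⟨s, l, hs⟩ := s
  obtain ⟨c, hc⟩ := norm_surj_fixed _ (frobq_ne_id hF) (frobq_frobq hF) l hs.σl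
  obtain ⟨d, hd⟩ := exists_scal_mul hs hc
  obtain ⟨g, hg⟩ := exists_gamOf (GamL.lin (scal _ d) * s)
  replace hg : GamL.lin (scal _ d) * s = gamOf g s.τ := hg
  refine ⟨g, hg ▸ ⟨_, hd⟩, (mem_GU_iff hF n).2 (isSemi_lin_one ?_), ?_⟩
  · have := hd.mul (u_fld hF n s.τ).inv
    rw [hg, gamOf_eq, ← fld_apply, mul_inv_cancel_right] at this
    simpa using this
  · rw [← one_mul (semiAut C _), ← semiAut_scal C d, ← map_mul]
    congr 1
    exact Subtype.ext hg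

theorem gamOf_mem_U (hF : Fintype.card F = q ^ 2) {n : ℕ} {g : GL (Fin n) F} (hg : g ∈ Cfsg.GU n F q)
    (σ : F ≃+* F) : gamOf g σ ∈ Semi (uForm hF n) :=
  (gamOf_mem_iff ⟨_, u_fld hF n σ⟩ g).2 (lin_mem_Semi ((mem_GU_iff hF n).1 hg))

theorem gammaPSU_eq (hF : Fintype.card F = q ^ 2) (n : ℕ) (hn : 2 ≤ n) :
    Cfsg.gammaPSU n F q = (semiAut (repSU hF n hn).cov).range := by
  refine le_antisymm ((Subgroup.closure_le _).2 ?_) ?_
  · rintro β ⟨g, σ, hg, h⟩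
    have h1 := gamOf_mem_U hF hg σ
    exact ⟨⟨_, h1⟩, (((repSU hF n hn).ind_iff (Semi_le_Nrm_E h1)).1 h).symm⟩
  · rintro _ ⟨s, rfl⟩
    obtain ⟨g, hg, h1, h2⟩ := exists_GU_of_semi hF (repSU hF n hn).cov s
    rw [h2]
    exact Subgroup.subset_closure ⟨g, _, h1, ((repSU hF n hn).ind_iff (Semi_le_Nrm_E hg)).2 rfl⟩

end Unitary

section Main
variable {F : Type*} [Field F] [Fintype F]

theorem range_Sp (m : ℕ) (hm : 2 ≤ m) (h : (2 : F) = 0 → m ≠ 2) :
    (semiAut (repSp m (by omega) F).cov).range = ⊤ :=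
  main_symp (spForm_nondeg m) (by rw [finrank_sum]; omega) (fun h2 => by
    have := h h2
    rw [finrank_sum]; omega) _

theorem range_SU {q : ℕ} (hF : Fintype.card F = q ^ 2) (n : ℕ) (hn : 3 ≤ n) (h : ¬ (n = 3 ∧ q = 2)) :
    (semiAut (repSU hF n (by omega)).cov).range = ⊤ :=
  main_unit (uForm_nondeg hF n) (by simpa using hn) (by simpa using h) _

theorem finrank_odd (m : ℕ) : finrank F (Unit ⊕ (Fin m ⊕ Fin m) → F) = 2 * m + 1 := by simp; omega
theorem finrank_minus (m : ℕ) : finrank F ((Fin m ⊕ Fin m) ⊕ Fin 2 → F) = 2 * (m + 1) := by simp; omega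

theorem range_odd (m : ℕ) (h2 : (2 : F) ≠ 0) (hn) :
    (semiAut (repO (oddForm m F) (oddForm_nondeg m h2) hn).cov).range = ⊤ :=
  main_orth (oddForm_nondeg m h2) hn (fun C _ h => by rw [finrank_odd] at h; omega) _

theorem range_plus (m : ℕ) (hm : 5 ≤ m) (hn) :
    (semiAut (repO (plusForm m F) (plusForm_nondeg m) hn).cov).range = ⊤ :=
  main_orth (plusForm_nondeg m) hn (fun C _ h => by rw [finrank_sum] at h; omega) _

theorem range_minus (m : ℕ) {a b : F}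
    (hab : ∀ z₁ z₂ : F, z₁ ^ 2 + a * z₁ * z₂ + b * z₂ ^ 2 = 0 → z₁ = 0 ∧ z₂ = 0) (hn) :
    (semiAut (repO (minusForm m F a b) (minusForm_nondeg m hab) hn).cov).range = ⊤ :=
  main_orth (minusForm_nondeg m hab) hn (fun C hC h => by
    have h1 := finrank_minus (F := F) m
    have h2 := isType_of_TS (m + 1) _ C (minusForm_nondeg m hab) h1 (by omega) hC
    exact absurd (h2.unique (minusForm_isType m hab)) (by decide)) _

end Main

end Cfsg.Agent.Perm.Aut
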