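import Cfsg.Agent.Lib.Perm.Aut7

/-! The kernel of the induced action and outer automorphism groups. -/

set_option autoImplicit false

namespace Cfsg.Agent.Perm.Aut

open Module Cfsg.Agent.Classical Cfsg.Agent.Classical.Form

section Grp
variable {G O A B : Type*} [Group G] [Group O] [Group A] [Group B]

theorem exists_lift (ρ : G →* O) (hρ : Function.Surjective ρ) (χ : G →* A)
    (h : ∀ s, ρ s = 1 → χ s = 1) : ∃ φ : O →* A, ∀ s, φ (ρ s) = χ s :=
  ⟨ρ.liftOfSurjective hρ ⟨χ, fun s hs => h s hs⟩, fun s => by simp⟩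

theorem exists_equiv_of_ker (ρ : G →* O) (hρ : Function.Surjective ρ) (χ : G →* A)
    (hχ : Function.Surjective χ) (h : ∀ s, ρ s = 1 ↔ χ s = 1) : ∃ φ : O ≃* A, ∀ s, φ (ρ s) = χ s := by
  obtain ⟨φ, hφ⟩ := exists_lift ρ hρ χ fun s => (h s).1
  refine ⟨MulEquiv.ofBijective φ ⟨(injective_iff_map_eq_one φ).2 fun x hx => ?_, fun a => ?_⟩, hφ⟩
  · obtain ⟨s, rfl⟩ := hρ x
    rw [hφ] at hx; exact (h s).2 hx
  · obtain ⟨s, rfl⟩ := hχ a
    exact ⟨_, hφ s⟩

theorem exists_equiv_range (ρ : G →* O) (χ : G →* A) (h : ∀ s, ρ s = 1 ↔ χ s = 1) :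
    ∃ φ : ρ.range ≃* χ.range, ∀ s, φ (ρ.rangeRestrict s) = χ.rangeRestrict s :=
  exists_equiv_of_ker _ ρ.rangeRestrict_surjective _ χ.rangeRestrict_surjective fun s => by
    simpa [Subtype.ext_iff] using h s

theorem exists_equiv_sub (ρ : G →* O) {H : Subgroup O} (hH : ρ.range = H) (χ : G →* A)
    (hχ : Function.Surjective χ) (h : ∀ s, ρ s = 1 ↔ χ s = 1) : Nonempty (H ≃* A) := by
  subst hH
  obtain ⟨φ, -⟩ := exists_equiv_of_ker _ ρ.rangeRestrict_surjective _ hχ fun s => by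
    simpa [Subtype.ext_iff] using h s
  exact ⟨φ⟩

theorem exists_hom_sub (ρ : G →* O) {H : Subgroup O} (K : Subgroup O) (hH : ρ.range = H) (χ : G →* A)
    (hχ : Function.Surjective χ) (h : ∀ g, χ g = 1 ↔ ρ g ∈ K) :
    ∃ φ : H →* A, Function.Surjective φ ∧ φ.ker = K.subgroupOf H := by
  subst hH
  obtain ⟨φ, hφ⟩ := exists_lift _ ρ.rangeRestrict_surjective χ fun s hs => by
    have : ρ s = 1 := congrArg Subtype.val hs
    rw [h, this]; exact one_mem _
  refine ⟨φ, fun a => ?_, ?_⟩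
  · obtain ⟨s, rfl⟩ := hχ a
    exact ⟨_, hφ s⟩
  · ext x
    obtain ⟨s, rfl⟩ := ρ.rangeRestrict_surjective x
    rw [MonoidHom.mem_ker, hφ, h]; rfl

theorem card_eq_of_surj (τ : O →* A) (h : Function.Surjective τ) :
    Nat.card O = Nat.card τ.ker * Nat.card A := by
  rw [← Subgroup.card_mul_index τ.ker, Subgroup.index_ker, MonoidHom.range_eq_top.2 h, Subgroup.card_top]

/-- internal direct products -/
theorem nonempty_prod (τ : O →* A) (j : A →* O) (hj : ∀ a, τ (j a) = a)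
    (hc : ∀ x ∈ τ.ker, ∀ a, x * j a = j a * x) : Nonempty (O ≃* τ.ker × A) := by
  let φ := τ.ker.subtype.noncommCoprod j fun x a => hc x.1 x.2 a
  refine ⟨(MulEquiv.ofBijective φ ⟨(injective_iff_map_eq_one φ).2 ?_, fun x => ?_⟩).symm⟩
  · rintro ⟨x, a⟩ h
    have h1 : x.1 * j a = 1 := h
    have h2 := congrArg τ h1
    rw [map_mul, x.2, hj, one_mul, map_one] at h2
    subst h2
    rw [map_one, mul_one] at h1
    exact Prod.ext (Subtype.ext h1) rfl
  · refine ⟨(⟨x * (j (τ x))⁻¹, by simp [MonoidHom.mem_ker, hj]⟩, τ x), ?_⟩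
    change x * _ * _ = x
    simp

theorem exists_hom_cyc {c : A} (hc : ∀ a, a ∈ Subgroup.zpowers c) {t : O} (ht : t ^ orderOf c = 1) :
    ∃ j : A →* O, ∀ k : ℤ, j (c ^ k) = t ^ k := by
  have hs : Function.Surjective (zpowersHom A c) := fun a => by
    obtain ⟨k, hk⟩ := hc a
    exact ⟨Multiplicative.ofAdd k, hk⟩
  obtain ⟨j, hj⟩ := exists_lift _ hs (zpowersHom O t) fun k hk => by
    have h1 : c ^ k.toAdd = 1 := hk
    obtain ⟨l, hl⟩ := orderOf_dvd_iff_zpow_eq_one.2 h1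
    change t ^ k.toAdd = 1
    rw [hl, zpow_mul, zpow_natCast, ht, one_zpow]
  exact ⟨j, fun k => hj (Multiplicative.ofAdd k)⟩

theorem nonempty_prod_cyc (τ : O →* A) {c : A} (hc : ∀ a, a ∈ Subgroup.zpowers c) {t : O} (h1 : τ t = c)
    (ht : t ^ orderOf c = 1) (h2 : ∀ x ∈ τ.ker, x * t = t * x) : Nonempty (O ≃* τ.ker × A) := by
  obtain ⟨j, hj⟩ := exists_hom_cyc hc ht
  refine nonempty_prod τ j (fun a => ?_) fun x hx a => ?_
  · obtain ⟨k, rfl⟩ := hc a
    rw [hj, map_zpow, h1]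
  · obtain ⟨k, rfl⟩ := hc a
    rw [hj]; exact (Commute.zpow_right (h2 x hx) k).eq

theorem comm_of_card_two {H : Subgroup O} [H.Normal] (h : Nat.card H = 2) {x : O} (hx : x ∈ H) (t : O) :
    x * t = t * x := by
  by_cases h1 : x = 1
  · simp [h1]
  obtain ⟨y, hy, hu⟩ := (Nat.card_eq_two_iff' (1 : H)).1 h
  have h2 := hu ⟨x, hx⟩ (fun e => h1 (congrArg Subtype.val e))
  have h3 := hu ⟨t * x * t⁻¹, Subgroup.Normal.conj_mem inferInstance x hx t⟩ (fun e => h1 (by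
    have : t * x * t⁻¹ = 1 := congrArg Subtype.val e
    simpa using this))
  have h4 : t * x * t⁻¹ = x := congrArg Subtype.val (h3.trans h2.symm)
  rw [mul_inv_eq_iff_eq_mul] at h4; exact h4.symm

theorem card_aut_eq (h : Subgroup.center G = ⊥) : Nat.card (MulAut G) = Nat.card (Cfsg.Out G) * Nat.card G := by
  rw [← Subgroup.index_mul_card (Cfsg.Inn G)]
  congr 1
  refine Nat.card_congr (MonoidHom.ofInjective ((injective_iff_map_eq_one _).2 fun g hg => ?_)).symm.toEquiv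
  rw [← Subgroup.mem_bot, ← h, Subgroup.mem_center_iff]
  intro x
  have : g * x * g⁻¹ = x := DFunLike.congr_fun hg x
  rw [mul_inv_eq_iff_eq_mul] at this; exact this.symm

/-- the sign group -/
def signEquiv : ℤˣ ≃* Multiplicative (ZMod 2) where
  toFun u := if u = 1 then 1 else Multiplicative.ofAdd 1
  invFun a := if a = 1 then 1 else -1
  left_inv := by decide
  right_inv := by decide
  map_mul' := by decide

/-- pairs of signs -/
def signEquiv2 : ℤˣ × ℤˣ ≃* Multiplicative (ZMod 2 × ZMod 2) :=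
  (signEquiv.prodCongr signEquiv).trans (MulEquiv.prodMultiplicative _ _).symm

end Grp

section Fld
variable (F : Type*) [Field F] [Fintype F] (p : ℕ) [hp : Fact p.Prime]

theorem charP_of_card' {f : ℕ} (hF : Fintype.card F = p ^ f) : CharP F p := by
  obtain ⟨r, hr⟩ := CharP.exists F
  obtain ⟨n, h1, h2⟩ := FiniteField.card F r
  have : r = p := by
    have h3 : r ∣ p ^ f := by rw [← hF, h2]; exact dvd_pow_self _ n.ne_zero
    exact (Nat.prime_dvd_prime_iff_eq h1 hp.out).1 (h1.dvd_of_dvd_pow h3)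
  exact this ▸ hr

variable [CharP F p]

/-- the Frobenius automorphism -/
noncomputable def frob : F ≃+* F := frobeniusEquiv F p

theorem frob_apply (a : F) : frob F p a = a ^ p := rfl

theorem frob_pow_apply (k : ℕ) (a : F) : (frob F p ^ k) a = a ^ p ^ k := by
  induction k generalizing a with
  | zero => simp
  | succ k ih => rw [pow_succ, RingAut.mul_apply, ih, frob_apply, ← pow_mul, pow_succ']

theorem frob_spec {f : ℕ} (hF : Fintype.card F = p ^ f) :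
    orderOf (frob F p) = f ∧ ∀ σ : F ≃+* F, σ ∈ Subgroup.zpowers (frob F p) := by
  letI := ZMod.algebra F p
  let e : (F ≃ₐ[ZMod p] F) ≃* (F ≃+* F) :=
    { toFun := fun a => a.toRingEquiv
      invFun := fun σ => AlgEquiv.ofRingEquiv (f := σ) fun x => by
        obtain ⟨n, rfl⟩ := ZMod.natCast_zmod_surjective x
        simp
      left_inv := fun _ => rfl
      right_inv := fun _ => rfl
      map_mul' := fun _ _ => rfl }
  have h1 : e (FiniteField.frobeniusAlgEquivOfAlgebraic (ZMod p) F) = frob F p :=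
    RingEquiv.ext fun a => by
      change a ^ Fintype.card (ZMod p) = a ^ p
      rw [ZMod.card]
  have h2 : finrank (ZMod p) F = f := by
    have := Module.card_eq_pow_finrank (K := ZMod p) (V := F)
    rw [ZMod.card, hF] at this
    exact (Nat.pow_right_injective hp.out.two_le this).symm
  refine ⟨by rw [← h1, MulEquiv.orderOf_eq, FiniteField.orderOf_frobeniusAlgEquivOfAlgebraic, h2],
    fun σ => ?_⟩
  obtain ⟨n, hn⟩ := (FiniteField.bijective_frobeniusAlgEquivOfAlgebraic_pow (ZMod p) F).2 (e.symm σ)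
  refine ⟨n.1, ?_⟩
  change _ ^ ((n.1 : ℕ) : ℤ) = _
  rw [zpow_natCast, ← h1, ← map_pow, show _ ^ n.1 = _ from hn, e.apply_symm_apply]

omit [CharP F p] in
theorem card_autF {f : ℕ} (hF : Fintype.card F = p ^ f) : Nat.card (F ≃+* F) = f := by
  haveI := charP_of_card' F p hF
  obtain ⟨h1, h2⟩ := frob_spec F p hF
  rw [← h1, orderOf_eq_card_of_forall_mem_zpowers h2]

omit [CharP F p] in
theorem isCyclic_autF : IsCyclic (F ≃+* F) := by
  obtain ⟨r, hr⟩ := CharP.exists F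
  obtain ⟨n, h1, h2⟩ := FiniteField.card F r
  haveI := Fact.mk h1
  exact ⟨_, (frob_spec F r h2).2⟩

omit [CharP F p] in
theorem nonempty_autF {f : ℕ} (hF : Fintype.card F = p ^ f) :
    Nonempty ((F ≃+* F) ≃* Multiplicative (ZMod f)) := by
  rw [← card_autF F p hF]
  exact ⟨(zmodCyclicMulEquiv (isCyclic_autF F)).symm⟩

end Fld

section
variable {F V : Type*} [Field F] [AddCommGroup V] [Module F V]

/-- scalars as semilinear maps -/
def IsScG (s : GamL F V) : Prop := ∃ c : Fˣ, s = GamL.lin (scal V c)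

theorem isScG_of [Nontrivial V] {s : GamL F V} {c : F} (h : ∀ v, s.g v = c • v) : IsScG s := by
  obtain ⟨v, hv⟩ := exists_ne (0 : V)
  have hc : c ≠ 0 := by
    rintro rfl
    exact hv (by simpa using h v)
  exact ⟨Units.mk0 c hc, GamL.ext_g fun v => h v⟩

theorem isScG_lin [Nontrivial V] {g : V ≃ₗ[F] V} : IsScG (GamL.lin g) ↔ IsSc g :=
  ⟨fun ⟨c, hc⟩ => by rw [GamL.lin_injective hc]; exact isSc_scal c, fun ⟨_, hc⟩ => isScG_of hc⟩

theorem cj_scal (s : GamL F V) (c : Fˣ) : s.cj (scal V c) = scal V (Units.map s.τ.toMonoidHom c) :=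
  LinearEquiv.ext fun v => by simp [GamL.cj_apply, s.smul']

theorem scal_comm (c : Fˣ) (x : V ≃ₗ[F] V) : scal V c * x = x * scal V c := (isSc_scal c).comm x

/-- the group generated by a linear group and the scalars -/
def ZG (G : Subgroup (V ≃ₗ[F] V)) : Subgroup (V ≃ₗ[F] V) where
  carrier := {x | ∃ c : Fˣ, ∃ g ∈ G, x = scal V c * g}
  one_mem' := ⟨1, 1, one_mem _, by simp⟩
  mul_mem' := by
    rintro _ _ ⟨c, g, hg, rfl⟩ ⟨d, k, hk, rfl⟩
    exact ⟨c * d, g * k, mul_mem hg hk, by ext v; simp [smul_smul]⟩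
  inv_mem' := by
    rintro _ ⟨c, g, hg, rfl⟩
    exact ⟨c⁻¹, g⁻¹, inv_mem hg, by rw [mul_inv_rev, ← map_inv, scal_comm]⟩

theorem le_ZG (G : Subgroup (V ≃ₗ[F] V)) : G ≤ ZG G := fun g hg => ⟨1, g, hg, by simp⟩
theorem scal_mem_ZG (G : Subgroup (V ≃ₗ[F] V)) (c : Fˣ) : scal V c ∈ ZG G := ⟨c, 1, one_mem _, by simp⟩

theorem ZG_le {G H : Subgroup (V ≃ₗ[F] V)} (h : G ≤ H) (h' : ∀ c, scal V c ∈ H) : ZG G ≤ H := by
  rintro _ ⟨c, g, hg, rfl⟩
  exact mul_mem (h' c) (h hg)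

theorem cj_mem_ZG {G : Subgroup (V ≃ₗ[F] V)} {s : GamL F V} (hs : s ∈ Nrm G) {x} (hx : x ∈ ZG G) :
    s.cj x ∈ ZG G := by
  obtain ⟨c, g, hg, rfl⟩ := hx
  rw [s.cj_mul, cj_scal]
  exact ⟨_, _, (hs g).1 hg, rfl⟩

namespace Cov
variable {G : Subgroup (V ≃ₗ[F] V)} {P : Type*} [Group P] (C : Cov G P)

/-- only scalars act trivially -/
def Fth : Prop := ∀ s : Nrm G, C.aut s = 1 → IsScG s.1

/-- the outer automorphisms -/
noncomputable def out : Nrm G →* Cfsg.Out P := (QuotientGroup.mk' _).comp C.aut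

theorem aut_of_isScG {s : Nrm G} (h : IsScG s.1) : C.aut s = 1 := by
  obtain ⟨s, hs⟩ := s
  obtain ⟨c, rfl⟩ := h
  exact aut_scal C c

theorem out_eq_one_iff' {s : Nrm G} : C.out s = 1 ↔ C.aut s ∈ Cfsg.Inn P := QuotientGroup.eq_one_iff _

theorem aut_mem_Inn {s : Nrm G} {x} (hx : x ∈ ZG G) (h : s.1 = GamL.lin x) : C.aut s ∈ Cfsg.Inn P := by
  obtain ⟨c, g, hg, rfl⟩ := hx
  have : s = ⟨_, scal_mem_Nrm G c⟩ * ⟨_, lin_mem_Nrm hg⟩ := Subtype.ext (by rw [h, map_mul]; rfl)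
  rw [this, map_mul, aut_scal, one_mul]
  exact ⟨_, (C.aut_lin ⟨g, hg⟩).symm⟩

variable {C}

theorem Fth.aut_eq_one_iff (hC : C.Fth) {s : Nrm G} : C.aut s = 1 ↔ IsScG s.1 := ⟨hC s, C.aut_of_isScG⟩

theorem Fth.aut_eq_iff (hC : C.Fth) {s t : Nrm G} :
    C.aut s = C.aut t ↔ ∃ c : Fˣ, s.1 = GamL.lin (scal V c) * t.1 := by
  rw [← mul_inv_eq_one, ← map_inv, ← map_mul, hC.aut_eq_one_iff]
  exact exists_congr fun c => mul_inv_eq_iff_eq_mul

theorem Fth.tau_eq (hC : C.Fth) {s t : Nrm G} (h : C.aut s = C.aut t) : s.1.τ = t.1.τ := by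
  obtain ⟨c, hc⟩ := hC.aut_eq_iff.1 h
  rw [hc]; rfl

theorem Fth.mem_Inn_iff (hC : C.Fth) {s : Nrm G} :
    C.aut s ∈ Cfsg.Inn P ↔ ∃ x ∈ ZG G, s.1 = GamL.lin x := by
  refine ⟨?_, fun ⟨x, hx, h⟩ => C.aut_mem_Inn hx h⟩
  rintro ⟨y, hy⟩
  obtain ⟨g, rfl⟩ := C.surj y
  rw [← C.aut_lin] at hy
  obtain ⟨c, hc⟩ := hC.aut_eq_iff.1 hy.symm
  exact ⟨_, ⟨c, g.1, g.2, rfl⟩, by rw [hc, map_mul]⟩

theorem Fth.out_eq_one_iff (hC : C.Fth) {s : Nrm G} : C.out s = 1 ↔ ∃ x ∈ ZG G, s.1 = GamL.lin x :=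
  C.out_eq_one_iff'.trans hC.mem_Inn_iff

theorem Fth.out_lin_iff (hC : C.Fth) {g : V ≃ₗ[F] V} (h : GamL.lin g ∈ Nrm G) :
    C.out ⟨_, h⟩ = 1 ↔ g ∈ ZG G :=
  hC.out_eq_one_iff.trans ⟨fun ⟨x, hx, h⟩ => by rwa [GamL.lin_injective h], fun hg => ⟨g, hg, rfl⟩⟩

theorem Fth.center [Nontrivial V] (hC : C.Fth) : Subgroup.center P = ⊥ := by
  rw [eq_bot_iff]
  intro y hy
  obtain ⟨g, rfl⟩ := C.surj y
  have h1 : MulAut.conj (C.π g) = 1 := MulEquiv.ext fun x => by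
    rw [MulAut.conj_apply, ← Subgroup.mem_center_iff.1 hy x]; simp
  rw [← C.aut_lin] at h1
  exact (C.ker g).2 (isScG_lin.1 (hC _ h1))

theorem Fth.card_aut [Nontrivial V] (hC : C.Fth) :
    Nat.card (MulAut P) = Nat.card (Cfsg.Out P) * Nat.card P := card_aut_eq hC.center

theorem Fth.orderOf_aut (hC : C.Fth) {s : Nrm G} (h : orderOf s.1 = orderOf s.1.τ) :
    orderOf (C.aut s) = orderOf s.1.τ := by
  refine Nat.dvd_antisymm (by rw [← h, Subgroup.orderOf_coe]; exact orderOf_map_dvd _ _) ?_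
  rw [orderOf_dvd_iff_pow_eq_one]
  have h1 := pow_orderOf_eq_one (C.aut s)
  rw [← map_pow, ← map_one C.aut] at h1
  have h2 := hC.tau_eq h1
  exact (map_pow GamL.tau s.1 _).symm.trans h2

end Cov

variable {K : Kind F} {Φ : Form K V} [FiniteDimensional F V]

theorem fth_form (p : ℕ) [Fact p.Prime] [CharP F p] (hΦ : Φ.Nondeg) (hR : Φ.Rich0) {e f : V}
    (h : Φ.IsHyp e f) (hn : 3 ≤ finrank F V) {P : Type*} [Group P] (C : Cov Φ.E P) : C.Fth := by
  rintro ⟨s, hs⟩ h1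
  have hc : ∀ u y a h' v, Φ.eich u y a h' (s.g v) = s.g (Φ.eich u y a h' v) := by
    intro u y a h' v
    obtain ⟨c, hc⟩ := C.aut_eq_one_iff.1 h1 _ (Φ.eich_mem_E u y a h')
    have := (eich_uni p h').eq_of_sc ((eich_uni p h').cj s) hc
    conv_lhs => rw [← this]
    exact s.cj_g _ _
  have hs1 : ∀ u, Φ.Sing u → ∃ c : F, s.g u = c • u := fun u hu => by
    obtain ⟨c, hc'⟩ := Submodule.mem_span_singleton.1
      (mem_span_of_fix' hR hΦ hu (v := s.g u) fun y a h' => by rw [hc, eich_self])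
    exact ⟨c, hc'.symm⟩
  obtain ⟨a₀, ha₀⟩ := hs1 e h.sing_e
  obtain ⟨b₀, hb₀⟩ := hs1 f h.sing_f
  have hε : s.τ K.ε = K.ε := by
    rcases mul_self_eq_one_iff.1 K.εε with h | h <;> simp [h]
  have key : ∀ y ∈ Φ.hperp e f, y ≠ 0 → a₀ = b₀ ∧ s.g y = b₀ • y := by
    intro y hy hy0
    obtain ⟨a, ha⟩ := Φ.N_range y
    obtain ⟨h2, h3⟩ := Φ.mem_hperp.1 hy
    have e1 := hc e y a ⟨h.he, h2, ha⟩ f
    have e2 := hc f y a ⟨h.hf, h3, ha⟩ e
    rw [hb₀, map_smul, h.eich_f hy, map_sub, map_sub, s.smul', hb₀, ha₀] at e1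
    rw [ha₀, map_smul, h.eich_e hy, map_sub, map_sub, s.smul', s.smul', hb₀, ha₀, hε] at e2
    have e3 : (0 : F) • e + (a₀ * a - K.ε * s.τ (K.ε * a) * b₀) • f + a₀ • y =
        (b₀ * a - s.τ a * a₀) • e + (0 : F) • f + b₀ • y := by
      have h4 := K.εε
      linear_combination (norm := module) e1 - K.ε • e2 + (h4 • (s.g y - a₀ • y - (a₀ * a) • f))
    have e4 := congrArg (Φ.B · f) e3
    have e5 := congrArg (Φ.B · e) e3
    simp only [h.B_f _ _ (Submodule.smul_mem _ _ hy), h.B_e _ _ (Submodule.smul_mem _ _ hy)] at e4 e5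
    rw [← e4, show a₀ * a - K.ε * s.τ (K.ε * a) * b₀ = 0 by simpa [K.ε_ne] using e5] at e3
    have e6 : a₀ • y = b₀ • y := by simpa using e3
    refine ⟨smul_left_injective F hy0 e6, ?_⟩
    linear_combination (norm := module) e1 - e4 • e
  obtain ⟨y, hy0⟩ : ∃ y : Φ.hperp e f, y ≠ 0 := by
    have := h.finrank_hperp
    haveI := Module.nontrivial_of_finrank_pos (R := F) (M := Φ.hperp e f) (by omega)
    exact exists_ne 0
  have hy1 : (y : V) ≠ 0 := fun e => hy0 (Subtype.ext e)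
  have hb : b₀ ≠ 0 := by
    rintro rfl
    exact h.f_ne (by simpa using hb₀)
  have hτ : ∀ c, s.τ c = c := fun c => by
    by_cases hc0 : c = 0
    · simp [hc0]
    have e1 := (key _ (Submodule.smul_mem _ c y.2) (smul_ne_zero hc0 hy1)).2
    rw [s.smul', (key _ y.2 hy1).2, smul_smul, smul_smul, mul_comm b₀] at e1
    exact mul_right_cancel₀ hb (smul_left_injective F hy1 e1)
  haveI : Nontrivial V := ⟨_, _, hy1⟩
  refine isScG_of (c := b₀) fun v => ?_
  obtain ⟨a, b, w, hw, rfl⟩ := h.decomp v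
  have : s.g w = b₀ • w := by
    by_cases hw0 : w = 0
    · simp [hw0]
    exact (key w hw hw0).2
  rw [map_add, map_add, s.smul', s.smul', hτ, hτ, ha₀, hb₀, this, (key _ y.2 hy1).1]
  module

end

end Cfsg.Agent.Perm.Aut
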