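import Mathlib
import Cfsg.Agent.Lib.Block.Dade
import Cfsg.Agent.Lib.Char.Misc
import Cfsg.Agent.Lib.Char.Det
import Cfsg.Agent.Lib.Char.BrauerApp

/-! The principal block of a group with a Sylow subgroup of prime order: numerical data. -/

set_option autoImplicit false

namespace Cfsg.Agent.Perm.Br

open Subgroup Cfsg.Agent.Blk
open Cfsg.Agent.Char hiding cj cj_mul cj_inv_cj cj_cj_inv sum_cj_eq om
open scoped Classical ComplexConjugate

variable {G : Type*} [Group G] [Finite G]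

/-- degree of an irreducible character -/
noncomputable abbrev dg (χ : IrrCharacter G) : ℕ := charDegree χ.1

theorem dg_cast (χ : IrrCharacter G) : χ.1 1 = dg χ := (cast_deg χ).symm

theorem dg_dvd (χ : IrrCharacter G) : dg χ ∣ Nat.card G := χ.2.degree_dvd_card (dg_cast χ)

theorem dg_pos (χ : IrrCharacter G) : 0 < dg χ :=
  Nat.pos_of_ne_zero fun h => χ.2.apply_one_ne_zero (by rw [dg_cast, h]; simp)

theorem eq_irrOne_of_dg (hp : commutator G = ⊤) {χ : IrrCharacter G} (h : dg χ = 1) : χ = irrOne G := by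
  have h1 : χ.1 1 = 1 := by rw [dg_cast, h]; simp
  have h2 := χ.2.apply_one_eq_one_iff.1 h1
  rw [hp] at h2
  exact Subtype.ext (χ.2.eq_one_of_forall fun g => χ.2.isCharacter.mem_charKer.1 (h2 trivial))

theorem two_le_dg (hp : commutator G = ⊤) {χ : IrrCharacter G} (h : χ ≠ irrOne G) : 2 ≤ dg χ := by
  have := dg_pos χ
  by_contra h1
  exact h (eq_irrOne_of_dg hp (by omega))

structure BD (p e : ℕ) (P : Subgroup G) (X Y : Finset (IrrCharacter G)) (δ : IrrCharacter G → ℤ) (ε : ℤ)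
    (S : IrrCharacter G → Finset (P →* ℂˣ)) : Prop where
  prime : p.Prime
  perf : commutator G = ⊤
  card : Nat.card P = p
  syl : ¬ p ∣ P.index
  he : (centralizer (P : Set G)).relIndex (normalizer (P : Set G)) = e
  disj : Disjoint X Y
  oneX : irrOne G ∉ X
  oneY : irrOne G ∉ Y
  cardX : X.card + 1 = e
  cardY : Y.card * e + 1 = p
  sgn : ∀ χ ∈ X, δ χ = 1 ∨ δ χ = -1
  esgn : ε = 1 ∨ ε = -1
  valX : ∀ χ ∈ X, ∀ x ∈ P, x ≠ 1 → χ.1 x = δ χ
  valY : ∀ θ ∈ Y, ∀ x : P, x ≠ 1 → θ.1 x = ε * ∑ m ∈ S θ, (m x : ℂ)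
  const : ∀ χ ∈ X ∪ Y, ∀ x ∈ P, x ≠ 1 → ∀ y, Commute x y → ¬ p ∣ orderOf y → χ.1 (x * y) = χ.1 x
  cardS : ∀ θ ∈ Y, (S θ).card = e
  oneS : ∀ θ ∈ Y, 1 ∉ S θ
  disjS : ∀ θ ∈ Y, ∀ θ' ∈ Y, θ ≠ θ' → Disjoint (S θ) (S θ')
  agree : ∀ θ ∈ Y, ∀ θ' ∈ Y, ∀ g, ¬ p ∣ orderOf g → θ.1 g = θ'.1 g
  rel : ∀ θ ∈ Y, ∀ g, ¬ p ∣ orderOf g → ε * θ.1 g = 1 + ∑ χ ∈ X, δ χ * χ.1 g
  sq : ∀ x ∈ P, x ≠ 1 → 1 + ∑ χ ∈ X ∪ Y, χ.1 x * conj (χ.1 x) = p

theorem exists_bd (hperf : commutator G = ⊤) {p : ℕ} [hp : Fact p.Prime] (P : Sylow p G) (hP : Nat.card P = p) :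
    ∃ e X Y δ ε S, BD p e (P : Subgroup G) X Y δ ε S := by
  obtain ⟨M, hM⟩ := exists_pmod p
  have := Fintype.ofFinite (P : Subgroup G)
  have hc : IsCyclic P := isCyclic_of_prime_card hP
  have hs := isSyl_sylow P
  have hm := mp_principal (M := M) hs
  have hf := hm.fa_of_isCyclic hc
  have h1 : (P : Subgroup G) ≠ ⊥ := ne_bot_of_card le_rfl (hP.trans (pow_one p).symm)
  have key := fun χ (hχ : χ ∈ principalBlock M G) => hf.exists_dd (ε := fun _ => 1) h1 (fun χ hχ u hu => by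
    rw [one_mul, hf.dn_principal u.2 (fun h => hu (Subtype.ext h)) hχ]) (fun _ _ => by simp)
    hf.exd_principal (hm.rank_eq hc h1) hχ
  obtain ⟨u, hu⟩ := exists_ne_one_of_ne_bot h1
  obtain ⟨l0, hl0⟩ : ∃ l : P →* ℂˣ, l ≠ 1 := by
    have : Nontrivial (P →* ℂˣ) := Finite.one_lt_card_iff_nontrivial.1 (by
      rw [card_lc hf.exd_principal.comm, hP]; exact hp.out.one_lt)
    exact exists_ne 1
  obtain ⟨χ0, hχ0, hne⟩ : ∃ χ ∈ principalBlock M G, χ ≠ irrOne G := by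
    obtain ⟨δ, ζ, c, h, -⟩ := key _ irrOne_mem_principal
    obtain ⟨χ, h2, h3⟩ := h.exists_nexc
    by_cases e : χ = irrOne G
    · exact ⟨_, h.exc.mem l0 hl0, fun e' => h3 (mem_excSet.2 ⟨l0, hl0, e'.trans e.symm⟩)⟩
    · exact ⟨χ, h2, e⟩
  obtain ⟨δ, ζ, c, h, h0⟩ := key _ hχ0
  have hY : irrOne G ∉ excSet ζ := fun h2 => by
    have h3 : excSet ζ = {irrOne G} := Finset.eq_singleton_iff_unique_mem.2 ⟨h2, fun θ h4 => eq_irrOne_of_dg hperf (by
      have := h.apply_exc h4 h2 (g := 1) (by simpa using hp.out.one_lt.ne')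
      rw [dg_cast] at this
      simpa using this)⟩
    rw [h0 (by rw [h3]; rfl)] at h3
    exact hne (Finset.singleton_injective h3)
  have hX : irrOne G ∈ fs (principalBlock M G) \ excSet ζ := by simp [hY, irrOne_mem_principal]
  have hc1 : c (irrOne G) = 1 := by
    have := h.D_nexc irrOne_mem_principal hY hu
    simp only [irrOne_apply] at this
    exact_mod_cast this.symm
  have hB : ∀ χ ∈ (fs (principalBlock M G) \ excSet ζ).erase (irrOne G) ∪ excSet ζ, χ ∈ principalBlock M G := by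
    intro χ hχ
    rcases Finset.mem_union.1 hχ with h2 | h2
    · simpa using (Finset.mem_sdiff.1 (Finset.mem_of_mem_erase h2)).1
    · obtain ⟨l, hl, rfl⟩ := mem_excSet.1 h2; exact h.exc.mem l hl
  have hd := hm.card_autE_dvd hc h1
  refine ⟨_, (fs (principalBlock M G) \ excSet ζ).erase (irrOne G), excSet ζ, c, δ,
    fun θ => Finset.univ.filter fun m => m ≠ 1 ∧ ζ m = θ, hp.out, hperf, hP, P.not_dvd_index,
    (card_autE_principal (M := M)).symm, ?_, by simp, hY, ?_, ?_, fun χ hχ => ?_, h.exc.sign, fun χ hχ x hx hx1 => ?_,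
    fun θ hθ x hx => ?_, fun χ hχ x hx hx1 y hy hyp => ?_, fun θ hθ => ?_, by simp, fun θ _ θ' _ hne => ?_,
    fun θ h2 θ' h3 g hg => h.apply_exc h2 h3 hg, fun θ h2 g hg => ?_, fun x hx hx1 => ?_⟩
  · exact Finset.disjoint_of_subset_left (Finset.erase_subset _ _) Finset.sdiff_disjoint
  · rw [Finset.card_erase_add_one hX, h.card]
  · rw [h.card_exc, hP, Nat.div_mul_cancel hd]; have := hp.out.pos; omega
  · simp only [Finset.mem_erase, Finset.mem_sdiff, mem_fs] at hχ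
    exact h.sgn χ hχ.2.1 hχ.2.2
  · simp only [Finset.mem_erase, Finset.mem_sdiff, mem_fs] at hχ
    exact h.D_nexc (u := ⟨x, hx⟩) hχ.2.1 hχ.2.2 fun h => hx1 (congrArg Subtype.val h)
  · obtain ⟨l, hl, rfl⟩ := mem_excSet.1 hθ
    rw [h.D_exc hl hx, eta, Finset.sum_apply]
    congr 1
    refine Finset.sum_congr (Finset.filter_congr fun m _ => ⟨fun h2 => ⟨h2.ne_one hl, ?_⟩, fun h2 => ?_⟩) fun _ _ => rfl
    · exact ((h.exc.inj _ _ hl (h2.ne_one hl)).2 h2).symm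
    · exact (h.exc.inj _ _ hl h2.1).1 h2.2.symm
  · exact hf.apply_principal (isPPart_mul hy (hm.pelt hx) hyp) hx hx1 (hB χ hχ)
  · obtain ⟨l, hl, rfl⟩ := mem_excSet.1 hθ
    rw [← h.free.card_orb h.exd.comm hl]
    congr 1
    refine Finset.filter_congr fun m _ => ⟨fun h2 => ?_, fun h2 => ⟨h2.ne_one hl, ?_⟩⟩
    · exact (h.exc.inj _ _ hl h2.1).1 h2.2.symm
    · exact ((h.exc.inj _ _ hl (h2.ne_one hl)).2 h2).symm
  · exact Finset.disjoint_filter.2 fun m _ h2 h3 => hne (h2.2.symm.trans h3.2)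
  · rw [h.apply_rel h2 hg, ← Finset.add_sum_erase _ _ hX, hc1]; simp
  · have h2 := h.exd.orth ⟨x, hx⟩ ⟨x, hx⟩ (fun h => hx1 (congrArg Subtype.val h)) fun h => hx1 (congrArg Subtype.val h)
    rw [if_pos ⟨1, one_mem _, rfl⟩, hP] at h2
    rw [← h2, ← Finset.add_sum_erase (fs (principalBlock M G)) _ (a := irrOne G) (by simp [irrOne_mem_principal])]
    simp only [irrOne_apply, map_one, mul_one, add_right_inj]
    refine Finset.sum_congr ?_ fun _ _ => rfl
    ext χ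
    refine ⟨fun h3 => Finset.mem_erase.2 ⟨?_, by simpa using hB χ h3⟩, fun h3 => ?_⟩
    · rintro rfl
      simp [hY] at h3
    · by_cases e : χ ∈ excSet ζ
      · exact Finset.mem_union_right _ e
      · exact Finset.mem_union_left _ (by simpa [e] using h3)

end Cfsg.Agent.Perm.Br
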