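import Cfsg.Agent.Lib.Perm.Br9

/-! Brauer's theorem on perfect groups with a self-centralising Sylow subgroup of prime order. -/

set_option autoImplicit false

namespace Cfsg.Agent.Perm.Br

open Subgroup MulAction
open Cfsg.Agent.Char
open scoped ComplexConjugate Pointwise commutatorElement

variable {G : Type*} [Group G] [Finite G]

theorem exists_common {Q : Subgroup G} {p e : ℕ} (hpp : p.Prime) (hP : Nat.card Q = p)
    (hC : centralizer (Q : Set G) = Q) (he : (centralizer (Q : Set G)).relIndex (normalizer (Q : Set G)) = e)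
    {u : G} (hu : u ∈ normalizer (Q : Set G)) (hu' : u ∉ Q) : ∃ s ∈ normalizer (Q : Set G), orderOf s = e ∧
      u ∈ zpowers s ∧ ∀ h ∈ normalizer (Q : Set G), Commute u h → h ∈ zpowers s := by
  obtain ⟨s, hs, h1, -, h2⟩ := exists_compl_gen hpp hP hC he
  obtain ⟨z, hz, k, rfl⟩ := h2 u hu
  obtain ⟨w, hw, h3⟩ := exists_conj_mul hpp hP (pow_mem hs k) (by
    rw [hC]; exact fun h => hu' (mul_mem hz h)) hz
  have hw' := le_normalizer hw
  have h4 : z * s ^ k = (w * s * w⁻¹) ^ k := by rw [conj_pow, h3]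
  refine ⟨w * s * w⁻¹, mul_mem (mul_mem hw' hs) (inv_mem hw'), h1 ▸ (MulAut.conj w).orderOf_eq s,
    h4 ▸ npow_mem_zpowers _ k, fun h hh hc => ?_⟩
  obtain ⟨y, hy, j, h5⟩ := h2 _ (mul_mem (mul_mem (inv_mem hw') hh) hw')
  have h6 : h = w * y * w⁻¹ * (w * s * w⁻¹) ^ j := by
    rw [conj_pow, conj_mul, ← h5]; group
  by_cases h7 : w * y * w⁻¹ = 1
  · rw [h6, h7, one_mul]; exact npow_mem_zpowers _ j
  · refine absurd (hC ▸ mem_cent hpp hP (mul_mem (mul_mem hw hy) (inv_mem hw)) h7 (Commute.symm ?_)) hu'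
    rw [eq_mul_inv_of_mul_eq h6.symm]
    exact hc.mul_right (h4 ▸ (Commute.pow_pow_self _ _ _).inv_right)

theorem cent_P_all {p : ℕ} [hp : Fact p.Prime] {P : Sylow p G} (hP : Nat.card P = p)
    (hC : centralizer ((P : Subgroup G) : Set G) = P) (Q : Sylow p G) :
    centralizer ((Q : Subgroup G) : Set G) = Q := by
  have hQ := (SylNum.card_syl_eq Q P).trans hP
  obtain ⟨x, hx, -, hx1⟩ := SylNum.exists_gen hQ
  refine le_antisymm ((centralizer_le (Set.singleton_subset_iff.2 hx)).trans (cent_all (fun v hv hv1 => le_antisymm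
    (fun _ hs => hC ▸ mem_cent hp.out hP hv hv1 (mem_centralizer_singleton_iff.1 hs).symm)
    fun _ hs => mem_centralizer_singleton_iff.2 (comm_of_card hp.out hP hs hv)) Q x hx hx1).le)
    fun _ ha _ hb => comm_of_card hp.out hQ hb ha

theorem grp_case {p e n : ℕ} [hp : Fact p.Prime] {P : Sylow p G} (hP : Nat.card P = p) (h2 : p ≠ 2)
    (hC : centralizer ((P : Subgroup G) : Set G) = P)
    (he : (centralizer ((P : Subgroup G) : Set G)).relIndex (normalizer ((P : Subgroup G) : Set G)) = e)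
    (hG : 2 ∣ Nat.card G) (hn : 1 < n)
    (hfix : ∀ g ∈ normalizer ((P : Subgroup G) : Set G), g ∉ P → Nat.card (fixedBy (Sylow p G) g) = n + 1)
    {Z : G → ℂ} (hZ : IsCharacter G Z) {b : ℕ} (Z1 : Z 1 = b * (p - 1))
    (Z0 : ∀ g ∈ normalizer ((P : Subgroup G) : Set G), g ∉ P → Z g = 0)
    (Zf : ∀ g, (∀ Q : Sylow p G, g • Q ≠ Q) → Z g = 1) :
    e = 2 ∧ ∃ u : G, orderOf u = 2 ∧ (∀ v, orderOf v = 2 → IsConj u v) ∧
      Nat.card (centralizer ({u} : Set G)) = (n + 1) * 2 ∧ ∀ h ∈ centralizer ({u} : Set G), h * h = 1 := by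
  have hnP : ∀ (Q : Sylow p G) (g : G), g ≠ 1 → ¬ p ∣ orderOf g → g ∉ Q := fun Q g h1 h3 h4 =>
    h3 (order_eq hp.out ((SylNum.card_syl_eq Q P).trans hP) h4 h1).symm.dvd
  have hcj : ∀ (g c : G), g • c • P = c • P → c⁻¹ * g * c ∈ normalizer ((P : Subgroup G) : Set G) := fun g c h =>
    SylNum.smul_eq_iff.1 (by rw [mul_smul, mul_smul, h, inv_smul_smul])
  have s1 : ∀ (g : G) (Q : Sylow p G), g ≠ 1 → ¬ p ∣ orderOf g → g • Q = Q →
      Nat.card (fixedBy (Sylow p G) g) = n + 1 ∧ Z g = 0 := fun g Q h1 h3 h4 => by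
    obtain ⟨c, rfl⟩ := exists_smul_eq G P Q
    have h5 : c⁻¹ * g * c ∉ P := fun h => hnP (c • P) g h1 h3 (by simpa [mul_assoc] using (conj_mem_smul P c _).2 h)
    refine ⟨?_, (hZ.isClassFunction.apply_conj' g c).symm.trans (Z0 _ (hcj g c h4) h5)⟩
    have := (isCharacter_perm (G := G) (Sylow p G)).isClassFunction.apply_conj' g c
    rw [hfix _ (hcj g c h4) h5] at this
    exact_mod_cast this.symm
  have s3 : ∀ (y : G) (k : ℕ), y ^ 2 ^ k = 1 → ∃ Q : Sylow p G, y • Q = Q := fun y k hy => by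
    by_contra! h
    obtain ⟨j, hj⟩ := hp.out.odd_of_ne_two h2
    have := hZ.isGen.prime_dvd_of_sub_eq Nat.prime_two (Commute.one_right y) hy (n := 1 - 2 * (b * j)) (by
      rw [mul_one, Zf y h, Z1, hj]; push_cast; ring)
    omega
  have h2' : ∀ v : G, orderOf v = 2 → v ≠ 1 ∧ ¬ p ∣ orderOf v := fun v hv =>
    ⟨by rintro rfl; simp at hv, hv ▸ fun h => h2 ((Nat.prime_dvd_prime_iff_eq hp.out Nat.prime_two).1 h)⟩
  have s4 : ∀ v : G, orderOf v = 2 → ∃ c : G, c⁻¹ * v * c ∈ normalizer ((P : Subgroup G) : Set G) ∧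
      orderOf (c⁻¹ * v * c) = 2 := fun v hv => by
    obtain ⟨Q, hQ⟩ := s3 v 1 (by rw [pow_one, ← hv, pow_orderOf_eq_one])
    obtain ⟨c, rfl⟩ := exists_smul_eq G P Q
    exact ⟨c, hcj v c hQ, by simpa [hv] using (MulAut.conj c⁻¹).orderOf_eq v⟩
  obtain ⟨u0, hu0⟩ := exists_prime_orderOf_dvd_card' 2 hG
  obtain ⟨c, huN, hu⟩ := s4 u0 hu0
  generalize c⁻¹ * u0 * c = u at huN hu
  obtain ⟨hu1, hup⟩ := h2' u hu
  have huu : u * u = 1 := by rw [← sq, ← hu, pow_orderOf_eq_one]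
  have s4' : ∀ v ∈ normalizer ((P : Subgroup G) : Set G), orderOf v = 2 → ∃ z ∈ P, z * u * z⁻¹ = v := fun v hv h3 => by
    have key : ∀ w ∈ normalizer ((P : Subgroup G) : Set G), orderOf w = 2 → ∀ x ∈ P, w * x * w⁻¹ = x⁻¹ :=
      fun w hw h4 x hx => by
        obtain ⟨z, -, hz⟩ := exists_conj_mul hp.out hP hw (hC.symm ▸ hnP P w (h2' w h4).1 (h2' w h4).2) hx
        have h5 : w * w = 1 := by rw [← sq, ← h4, pow_orderOf_eq_one]
        have h6 : x * w * (x * w) = 1 := by rw [← hz, conj_mul, h5]; simp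
        rw [inv_eq_of_mul_eq_one_right h5, eq_inv_iff_mul_eq_one]
        calc w * x * w * x = w * (x * w * (x * w)) * w⁻¹ := by group
          _ = _ := by rw [h6, mul_one, mul_inv_cancel]
    have h4 : v * u⁻¹ ∈ (P : Subgroup G) := hC ▸ fun x hx => by
      have h5 := key u huN hu x⁻¹ (inv_mem hx)
      have h6 := key v hv h3 x⁻¹ (inv_mem hx)
      rw [inv_inv] at h5 h6
      calc x * (v * u⁻¹) = (v * x⁻¹ * v⁻¹) * (v * u⁻¹) := by rw [h6]
        _ = v * u⁻¹ * (u * x⁻¹ * u⁻¹) := by group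
        _ = _ := by rw [h5]
    obtain ⟨z, hz, h5⟩ := exists_conj_mul hp.out hP huN (hC.symm ▸ hnP P u hu1 hup) h4
    exact ⟨z, hz, by rw [h5, inv_mul_cancel_right]⟩
  have s5 : ∀ h, Commute u h → ¬ p ∣ orderOf h := fun h hh h3 => by
    obtain ⟨Q, hQ⟩ := (IsPGroup.of_card (G := zpowers (h ^ (orderOf h / p))) (p := p) (n := 1) (by
      rw [Nat.card_zpowers, orderOf_pow_orderOf_div (orderOf_pos h).ne' h3, pow_one])).exists_le_sylow
    refine hnP Q u hu1 hup (show u ∈ (Q : Subgroup G) from cent_P_all hP hC Q ▸ mem_cent hp.out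
      ((SylNum.card_syl_eq Q P).trans hP) (hQ (mem_zpowers _)) (fun e => ?_) (hh.pow_right _).symm)
    exact hp.out.one_lt.ne (by rw [← orderOf_pow_orderOf_div (orderOf_pos h).ne' h3, e, orderOf_one])
  have sub : ∀ g h : G, h ∈ zpowers g → Commute u g → h ≠ 1 → ∀ Q : Sylow p G, g • Q = Q →
      fixedBy (Sylow p G) g = fixedBy (Sylow p G) h := by
    rintro g _ ⟨k, rfl⟩ h3 h4 Q hQ
    refine Set.eq_of_subset_of_ncard_le (fixedBy_subset_fixedBy_zpow _ g k) (le_of_eq ?_)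
    exact (s1 _ Q h4 (s5 _ (h3.zpow_right k)) (fixedBy_subset_fixedBy_zpow _ g k hQ)).1.trans
      (s1 g Q (by rintro rfl; simp at h4) (s5 g h3) hQ).1.symm
  have s6 : ∀ (m : ℕ) (h : G), orderOf h = m → Commute u h → ∃ Q : Sylow p G, h • Q = Q := fun m => by
    induction m using Nat.strong_induction_on with
    | _ m ih =>
      intro h hm hh
      have key : ∀ (r k : ℕ) (y v : G) (Q : Sylow p G), r.Prime → y ^ r ^ k = 1 → Commute y v → Commute u v → v ≠ 1 →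
          v • Q = Q → ∃ Q : Sylow p G, (y * v) • Q = Q := fun r k y v Q hr hy h3 h4 h5 h6 => by
        by_contra! h7
        have := hZ.isGen.prime_dvd_of_sub_eq hr h3 hy (n := 1) (by rw [Zf _ h7, (s1 v Q h5 (s5 v h4) h6).2]; simp)
        exact hr.one_lt.ne' (Int.natCast_dvd_natCast.1 this |> Nat.dvd_one.1)
      by_cases h1 : h = 1
      · exact ⟨P, by simp [h1]⟩
      obtain ⟨r, hr, hd⟩ := Nat.exists_prime_and_dvd (mt orderOf_eq_one_iff.1 h1)
      have := Fact.mk hr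
      obtain ⟨y, hy⟩ := Blk.exists_isPPart r h
      obtain ⟨k, hk⟩ := hy.pelt
      have hyk : y ^ r ^ k = 1 := hk ▸ pow_orderOf_eq_one y
      obtain ⟨j, hj⟩ := hy.reg_mem_zpowers
      by_cases h3 : y⁻¹ * h = 1
      · obtain rfl := eq_of_inv_mul_eq_one h3
        by_cases h4 : r = 2
        · exact s3 y k (h4 ▸ hyk)
        · obtain ⟨Q, hQ⟩ := key r k y u P hr hyk hh.symm (Commute.refl u) hu1 (SylNum.smul_eq_iff.2 huN)
          have h5 : y ∈ zpowers ((y * u) ^ 2) := by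
            rw [hh.symm.mul_pow, sq u, huu, mul_one, mem_zpowers_pow_iff, hk]
            exact ((Nat.coprime_primes Nat.prime_two hr).2 (Ne.symm h4)).pow_right k
          obtain ⟨i, hi⟩ := (zpowers_le.2 (npow_mem_zpowers _ 2)) h5
          exact ⟨Q, hi ▸ fixedBy_subset_fixedBy_zpow _ _ i hQ⟩
      · have h4 : Commute u (y⁻¹ * h) := hj ▸ hh.zpow_right j
        obtain ⟨Q, hQ⟩ := ih _ (hm ▸ lt_of_le_of_ne (Nat.le_of_dvd (orderOf_pos h)
          (orderOf_dvd_of_mem_zpowers hy.reg_mem_zpowers)) fun e => hy.preg (e ▸ hd)) _ rfl h4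
        simpa using key r k y _ Q hr hyk ((Commute.refl y).inv_right.mul_right hy.commute) h4 h3 hQ
  have s7 : ∀ (h : G) (Q : Sylow p G), Commute u h → h • Q = Q → u • Q = Q → h • P = P := fun h Q hh h3 h4 => by
    by_cases h1 : h = 1
    · simp [h1]
    obtain ⟨s, hs, -, h5, h6⟩ := exists_common hp.out ((SylNum.card_syl_eq Q P).trans hP) (cent_P_all hP hC Q) rfl
      (SylNum.smul_eq_iff.1 h4) (hnP Q u hu1 hup)
    have h7 : Commute u s := by obtain ⟨k, rfl⟩ := h5; exact Commute.zpow_self s k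
    have h8 := SylNum.smul_eq_iff.2 hs
    exact ((sub s h (h6 h (SylNum.smul_eq_iff.1 h3) hh) h7 h1 Q h8).symm.trans (sub s u h5 h7 hu1 Q h8)).ge
      (SylNum.smul_eq_iff.2 huN)
  have s8 : ∀ h, Commute u h → h • P ≠ P → h * h = 1 := fun h hh h3 => by
    by_contra h4
    obtain ⟨Q, hQ⟩ := s6 _ h rfl hh
    obtain ⟨R, hR⟩ := s6 _ (u * h) rfl ((Commute.refl u).mul_right hh)
    have h5 : h • R = R := (sub h (h * h) (mul_mem (mem_zpowers h) (mem_zpowers h)) hh h4 Q hQ).ge (by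
      have : (u * h * (u * h)) • R = R := by rw [mul_smul, hR, hR]
      rwa [hh.symm.mul_mul_mul_comm, huu, one_mul] at this)
    exact h3 (s7 h R hh h5 (by rwa [mul_smul, h5] at hR))
  obtain ⟨s, hs, h3, h4, h5⟩ := exists_common hp.out hP hC he huN (hnP P u hu1 hup)
  have h6 : Commute u s := by obtain ⟨k, rfl⟩ := h4; exact Commute.zpow_self s k
  have h7 := SylNum.smul_eq_iff.2 hs
  have s9 : ∀ Q : Sylow p G, u • Q = Q → ∃ h, Commute u h ∧ h • P = Q := fun Q hQ => by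
    obtain ⟨c, rfl⟩ := exists_smul_eq G P Q
    obtain ⟨z, hz, h8⟩ := s4' _ (hcj u c hQ) (by simpa [hu] using (MulAut.conj c⁻¹).orderOf_eq u)
    refine ⟨c * z, ?_, by rw [mul_smul, SylNum.smul_eq_iff.2 (le_normalizer hz)]⟩
    change _ = _
    calc u * (c * z) = c * (c⁻¹ * u * c) * z := by group
      _ = _ := by rw [← h8]; group
  have hF := (s1 u P hu1 hup (SylNum.smul_eq_iff.2 huN)).1
  have he2 : e = 2 := by
    have h8 := (card_ne_add (⟨P, SylNum.smul_eq_iff.2 huN⟩ : fixedBy (Sylow p G) u)).trans hF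
    obtain ⟨⟨⟨Q, hQ⟩, hQ'⟩, ⟨⟨R, hR⟩, hR'⟩, hne⟩ := Finite.one_lt_card_iff_nontrivial.1
      (show 1 < Nat.card {Q : fixedBy (Sylow p G) u // Q ≠ ⟨P, SylNum.smul_eq_iff.2 huN⟩} from
        Nat.succ_injective h8 ▸ hn)
    obtain ⟨a, ha, rfl⟩ := s9 Q hQ
    obtain ⟨b, hb, rfl⟩ := s9 R hR
    have inv : ∀ a, Commute u a → a • P ≠ P → a * s * a⁻¹ = s⁻¹ := fun a ha h9 => by
      have h10 := s8 _ (ha.mul_right h6) (by rwa [mul_smul, h7])
      rw [inv_eq_of_mul_eq_one_right (s8 a ha h9), eq_inv_iff_mul_eq_one, ← h10, mul_assoc]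
    have k1 := inv a ha fun e => hQ' (Subtype.ext e)
    have k2 := inv b hb fun e => hR' (Subtype.ext e)
    have k3 := inv (a⁻¹ * b) (ha.inv_right.mul_right hb) fun e => hne (Subtype.ext (Subtype.ext (by
      rw [mul_smul, inv_smul_eq_iff] at e; exact e.symm)))
    have k4 : s = s⁻¹ := by
      calc s = a⁻¹ * (a * s * a⁻¹) * a := by group
        _ = a⁻¹ * b * s * (a⁻¹ * b)⁻¹ := by rw [k1, ← k2]; group
        _ = _ := k3
    have k5 := orderOf_dvd_of_pow_eq_one (x := s) (n := 2) (by rw [sq]; exact eq_inv_iff_mul_eq_one.1 k4)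
    exact Nat.dvd_antisymm (h3 ▸ k5) (h3 ▸ hu ▸ orderOf_dvd_of_mem_zpowers h4)
  refine ⟨he2, u, hu, fun v hv => ?_, ?_, fun h hh => ?_⟩
  · obtain ⟨c, h8, h9⟩ := s4 v hv
    obtain ⟨z, -, hz⟩ := s4' _ h8 h9
    exact isConj_iff.2 ⟨c * z, by rw [← mul_inv_cancel_left c v, ← mul_inv_cancel_right (c⁻¹ * v) c, ← hz]; group⟩
  · rw [← (stabilizer (centralizer ({u} : Set G)) P).index_mul_card, index_stabilizer, ← hF, ← he2, ← h3,
      ← Nat.card_zpowers, ← card_map_of_injective (subtype_injective _)]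
    congr 2
    · ext Q
      refine ⟨?_, fun hQ => ?_⟩
      · rintro ⟨⟨h, hh⟩, rfl⟩
        change u • h • P = h • P
        rw [← mul_smul, ← mem_centralizer_singleton_iff.1 hh, mul_smul, SylNum.smul_eq_iff.2 huN]
      · obtain ⟨h, hh, rfl⟩ := s9 Q hQ
        exact ⟨⟨h, mem_centralizer_singleton_iff.2 hh.symm⟩, rfl⟩
    · congr 1
      refine le_antisymm ?_ (zpowers_le.2 ⟨⟨s, mem_centralizer_singleton_iff.2 h6.symm⟩, h7, rfl⟩)
      rintro _ ⟨⟨h, hh⟩, h8, rfl⟩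
      exact h5 h (SylNum.smul_eq_iff.1 h8) (mem_centralizer_singleton_iff.1 hh).symm
  · have h8 : Commute u h := (mem_centralizer_singleton_iff.1 hh).symm
    by_cases h9 : h • P = P
    · rw [← sq, ← he2, ← h3, ← orderOf_dvd_iff_pow_eq_one]
      exact orderOf_dvd_of_mem_zpowers (h5 h (SylNum.smul_eq_iff.1 h9) h8)
    · exact s8 h h8 h9

theorem BD.norm_ne_top {p e : ℕ} {P : Subgroup G} {X Y : Finset (IrrCharacter G)} {δ : IrrCharacter G → ℤ} {ε : ℤ}
    {S : IrrCharacter G → Finset (P →* ℂˣ)} (h : BD p e P X Y δ ε S) : normalizer (P : Set G) ≠ ⊤ := fun h1 => by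
  have h2 := comm_le_cent h.prime h.card
  have h3 := h.he
  rw [h1, show ⁅(⊤ : Subgroup G), ⊤⁆ = ⊤ from h.perf, top_le_iff] at h2
  rw [h2, relIndex_top_left] at h3
  exact h.one_lt_e.ne h3

theorem core (hperf : commutator G = ⊤) {p : ℕ} [hp : Fact p.Prime] (P : Sylow p G) (hP : Nat.card P = p)
    (hC : centralizer ((P : Subgroup G) : Set G) = P) {n : ℕ} (hn : Nat.card (Sylow p G) = n * p + 1)
    (hr : ¬ Rep p n) :
    (∃ (F : Type) (_ : Field F) (_ : Fintype F), Fintype.card F = p ∧ 3 < p ∧ Nonempty (G ≃* GL2.PSL2 F)) ∨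
    ∃ (m : ℕ) (F : Type) (_ : Field F) (_ : Fintype F), Fintype.card F = 2 ^ m ∧ p = 2 ^ m + 1 ∧ 3 < p ∧
      Nonempty (G ≃* GL2.PSL2 F) := by
  obtain ⟨e, X, Y, δ, ε, S, h⟩ := exists_bd hperf P hP
  obtain ⟨θ, hθ⟩ := h.Y_ne
  have hM := (SylNum.card_syl P).symm.trans hn
  have hn0 : 0 < n := Nat.pos_of_ne_zero fun e => h.norm_ne_top (index_eq_one.1 (by simpa [e] using hM))
  obtain ⟨w, -, hw, hw1, -⟩ := h.exists_w
  rw [hw1.2 hC, mul_one, hM] at hw
  have hN : Nat.card (normalizer ((P : Subgroup G) : Set G)) = p * e := by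
    have := SylNum.card_eq_mul P
    rw [hw, hn, mul_assoc] at this
    exact (Nat.eq_of_mul_eq_mul_left (by omega) this).symm
  have he := h.one_lt_e
  have h3 := h.three_le
  have te := h.cardY
  have k : n = 1 → Y.card = 2 → ∃ (F : Type) (_ : Field F) (_ : Fintype F), Fintype.card F = p ∧ 3 < p ∧
      Nonempty (G ≃* GL2.PSL2 F) := fun h1 h2 => by
    obtain ⟨F, _, _, h4, h5⟩ := psl_of_one hperf hP hC (by rw [hn, h1, one_mul]) hN he (h2 ▸ te)
    exact ⟨F, _, _, h4, by rw [h2] at te; omega, h5⟩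
  obtain ⟨hX, ⟨hε, hY⟩ | ⟨hε, hY⟩⟩ := h.deg hM hn0 hr hθ
  · exact Or.inl ((h.pos_case hC hn0 hθ hX hε hY).elim k)
  obtain ⟨ht, ⟨a, m, h4, h5⟩, hfix, Z, hZ, ⟨b, Z1⟩, Z0, Zf⟩ := h.neg_case hC hn hθ hX hε hY
  have ht0 := h.Y_ne.card_pos
  rcases (show 1 = n ∨ 1 < n by omega) with rfl | hn1
  · exact Or.inl (k rfl (Nat.le_antisymm (Nat.le_of_dvd (by omega) ⟨m, h4.symm⟩) (Nat.le_of_dvd ht0 ht.two_dvd)))
  obtain ⟨rfl, u, hu, hc, h6, h7⟩ := grp_case hP (by omega) hC h.he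
    (by rw [hw, ← hY, mul_assoc, mul_assoc]; exact ht.two_dvd.mul_right _) hn1 hfix hZ Z1 Z0 Zf
  have hm : m = 1 := by
    have : m ≠ 0 := by rintro rfl; simp at h4
    rcases a with _ | a
    · omega
    · nlinarith
  rw [hm, mul_one] at h4
  have hp' : p = 2 * n + 3 := by omega
  have hG : Nat.card G = (2 * n + 1 + 1) * (2 * n + 1) * (2 * n + 1 + 2) := by rw [hw, hp']; ring
  have h8 : IsPGroup 2 (centralizer ({u} : Set G)) := fun x => ⟨1, Subtype.ext (by simpa [sq] using h7 x x.2)⟩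
  have h9 : (centralizer ({u} : Set G)).index = (2 * n + 1) * (2 * n + 3) := by
    have := (centralizer ({u} : Set G)).card_mul_index
    rw [h6, hG] at this
    exact Nat.eq_of_mul_eq_mul_left (show 0 < (n + 1) * 2 by omega) (by linarith)
  obtain ⟨j, hj⟩ := h8.exists_card_eq
  refine (psl_of_two (q := 2 * n + 1) (h8.toSylow (by
    rw [h9, ← even_iff_two_dvd, Nat.not_even_iff_odd]; exact Odd.mul ⟨n, rfl⟩ ⟨n + 1, rfl⟩))
    (by rw [IsPGroup.toSylow_coe, h6]; ring) (by omega) hG (fun v hv hv1 => ?_) h7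
    (fun a b ha hb => (hc a ha).symm.trans (hc b hb)) fun R _ hR => ?_).elim fun F ⟨_, _, h10, h11⟩ =>
      Or.inr ⟨j, F, _, _, by omega, by omega, by omega, h11⟩
  · refine (eq_of_le_of_card_ge (fun x hx => mem_centralizer_singleton_iff.2 ?_) (le_of_eq ?_)).symm
    · have := h7 _ (mul_mem hx hv)
      rw [← inv_eq_of_mul_eq_one_right this, mul_inv_rev, inv_eq_of_mul_eq_one_right (h7 x hx),
        inv_eq_of_mul_eq_one_right (h7 v hv)]
    · obtain ⟨c, rfl⟩ := isConj_iff.1 (hc v (orderOf_eq_prime (by rw [sq]; exact h7 v hv) hv1))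
      refine (Nat.card_congr ((MulAut.conj c).toEquiv.subtypeEquiv fun x => ?_)).symm
      change x ∈ centralizer ({u} : Set G) ↔ c * x * c⁻¹ ∈ _
      rw [mem_centralizer_singleton_iff, mem_centralizer_singleton_iff, conj_mul, conj_mul, mul_left_inj,
        mul_right_inj]
  · obtain ⟨Q, hQ⟩ := (IsPGroup.of_card (G := R) (p := p) (n := 1) (by rw [hR, hp', pow_one])).exists_le_sylow
    obtain rfl := eq_of_le_of_card_ge hQ (by rw [SylNum.card_syl_eq Q P, hP, hR, hp'])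
    have := Sylow.unique_of_normal Q ‹_›
    rw [Nat.card_unique] at hn
    nlinarith

end Cfsg.Agent.Perm.Br
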