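import Cfsg.Agent.Lib.Perm.Br11
import Cfsg.Agent.Lib.Char.PermCh

/-! Groups of prime degree; the case `e = 2`. -/

set_option autoImplicit false

namespace Cfsg.Agent.Perm.Br

open Subgroup MulAction
open Cfsg.Agent.Char
open scoped _root_.Classical ComplexConjugate Pointwise commutatorElement

attribute [-instance] Fintype.decidablePiFintype

variable {G : Type*} [Group G] [Finite G]

omit [Finite G] in
theorem card_cent_conj {a b : G} (h : IsConj a b) :
    Nat.card (centralizer ({a} : Set G)) = Nat.card (centralizer ({b} : Set G)) := by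
  obtain ⟨c, rfl⟩ := isConj_iff.1 h
  refine Nat.card_congr ((MulAut.conj c).toEquiv.subtypeEquiv fun x => ?_)
  change x ∈ centralizer ({a} : Set G) ↔ c * x * c⁻¹ ∈ _
  rw [mem_centralizer_singleton_iff, mem_centralizer_singleton_iff, conj_mul, conj_mul, mul_left_inj, mul_right_inj]

theorem pow_eq_one_of_comm {p : ℕ} [hp : Fact p.Prime] {P : Sylow p G} (hP : Nat.card P = p)
    (hC : centralizer ((P : Subgroup G) : Set G) = P) {x y : G} (hx : orderOf x = p) (h : Commute x y) : y ^ p = 1 := by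
  obtain ⟨Q, hQ⟩ := (IsPGroup.of_card (G := zpowers x) (p := p) (n := 1) (by
    rw [Nat.card_zpowers, hx, pow_one])).exists_le_sylow
  have h1 := (SylNum.card_syl_eq Q P).trans hP
  have := (cent_P_all hP hC Q).le (mem_cent hp.out h1 (hQ (mem_zpowers x)) (by
    rintro rfl; exact hp.out.one_lt.ne (by simpa using hx)) h)
  exact h1 ▸ congrArg Subtype.val (pow_card_eq_one' (x := (⟨y, this⟩ : (Q : Subgroup G))))

namespace BD

variable {p : ℕ} {P : Subgroup G} {X Y : Finset (IrrCharacter G)} {δ : IrrCharacter G → ℤ} {ε : ℤ}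
  {S : IrrCharacter G → Finset (P →* ℂˣ)} {χ θ : IrrCharacter G}

theorem two (h : BD p 2 P X Y δ ε S) (hθ : θ ∈ Y) : ∃ χ, X = {χ} ∧ ε = δ χ ∧ (dg θ : ℤ) = dg χ + δ χ := by
  obtain ⟨χ, rfl⟩ := Finset.card_eq_one.1 (show X.card = 1 by have := h.cardX; omega)
  have h1 := h.relZ hθ
  have := two_le_dg h.perf (h.ne_one (Finset.mem_union_left _ (Finset.mem_singleton_self χ)))
  rw [Finset.sum_singleton] at h1
  refine ⟨χ, rfl, ?_⟩
  rcases h.esgn with rfl | rfl <;> rcases h.sgn χ (Finset.mem_singleton_self χ) with h2 | h2 <;> rw [h2] at h1 ⊢ <;> omega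

theorem two_val (h : BD p 2 P {χ} Y δ (δ χ) S) (hθ : θ ∈ Y) {g : G} (hg : ¬ p ∣ orderOf g) :
    θ.1 g = χ.1 g + δ χ := by
  have h1 := h.rel θ hθ g hg
  rw [Finset.sum_singleton] at h1
  rcases h.esgn with h2 | h2 <;> rw [h2] at h1 ⊢ <;> push_cast at h1 ⊢
  · linear_combination h1
  · linear_combination -h1

theorem two_count (h : BD p 2 P {χ} Y δ (δ χ) S) (hC : centralizer (P : Set G) = P) (hθ : θ ∈ Y) {u : G}
    (hu : u ∈ normalizer (P : Set G)) (ho : orderOf u = 2) : ∃ k : ℕ, χ.1 u = dg χ - 4 * k ∧ p * |(dg χ : ℤ) - 4 * k| ≤ dg χ + (p - 1) * δ χ ∧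
      p * Nat.card (centralizer ({u} : Set G)) ^ 2 * (dg χ * dg θ) = Nat.card G * (4 * k) ^ 2 := by
  have h3 := h.three_le
  have h4 : ¬ p ∣ orderOf u := ho ▸ fun e => by have := Nat.le_of_dvd two_pos e; omega
  obtain ⟨k, -, hk⟩ := invol_val h.perf χ.2.isCharacter (ho ▸ pow_orderOf_eq_one u) (dg_cast χ)
  have h5 := h.boundX (Finset.mem_singleton_self χ) hu (by
    rw [hC]; exact fun e => h4 (order_eq h.prime h.card e (by rintro rfl; simp at ho)).symm.dvd)
  have h6 := h.count hC (by omega) ho hθ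
  have h7 := h.two_val hθ h.reg_one
  rw [if_pos ⟨u, hu, IsConj.refl u⟩, Finset.sum_singleton, h.two_val hθ h4, hk] at h6
  rw [dg_cast, dg_cast] at h7
  refine ⟨k, hk, ?_, ?_⟩
  · rw [hk, show (dg χ - 4 * k : ℂ) = ((dg χ - 4 * k : ℤ) : ℂ) by simp, Complex.norm_intCast] at h5
    exact_mod_cast h5
  · have h8 : (dg χ : ℂ) ≠ 0 := Nat.cast_ne_zero.2 (dg_pos χ).ne'
    have h9 : (dg θ : ℂ) ≠ 0 := Nat.cast_ne_zero.2 (dg_pos θ).ne'
    have : (p * Nat.card (centralizer ({u} : Set G)) ^ 2 * (dg χ * dg θ) : ℂ) = Nat.card G * (4 * k) ^ 2 := by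
      rw [h6]
      field_simp
      rw [h7]
      rcases h.esgn with h2 | h2 <;> rw [h2] <;> push_cast <;> ring
    exact_mod_cast this

end BD

section prime
variable {α : Type*} [MulAction G α] [FaithfulSMul G α] [Finite α] {p : ℕ} [hp : Fact p.Prime] (hα : Nat.card α = p)
include hα

theorem no_fix {x : G} (hx : x ^ p = 1) (h1 : x ≠ 1) : Nat.card (fixedBy α x) = 0 := by
  have h2 := card_modEq_fixedBy (α := α) hp.out (k := 1) (by rwa [pow_one])
  rw [hα] at h2
  refine Nat.eq_zero_of_dvd_of_lt ((Nat.modEq_zero_iff_dvd.1 (h2.symm.trans (by simp [Nat.ModEq])))) ?_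
  by_contra h3
  exact h1 (SylNum.eq_one_of_card_fix (α := α) (fun _ => eq_one_of_smul_eq) (by omega))

theorem card_syl_prime (P : Sylow p G) (h : p ∣ Nat.card G) : Nat.card P = p := by
  have := Fintype.ofFinite α
  have h1 := card_dvd_of_injective (toPermHom G α) toPerm_injective
  obtain ⟨k, hk0, hk⟩ := P.2.nontrivial_iff_card.1 ((P : Subgroup G).nontrivial_iff_ne_bot.2 (P.ne_bot_of_dvd_card h))
  have h2 := (hk ▸ card_subgroup_dvd_card (P : Subgroup G)).trans h1
  rw [Nat.card_perm, hα, ← Nat.mul_factorial_pred hp.out.ne_zero] at h2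
  obtain ⟨k, rfl⟩ := Nat.exists_eq_add_of_lt hk0
  rw [pow_succ', Nat.mul_dvd_mul_iff_left hp.out.pos] at h2
  rcases k with _ | k
  · simpa using hk
  · have := hp.out.dvd_factorial.1 ((dvd_pow_self p (by omega)).trans h2)
    have := hp.out.pos
    omega

theorem trans_of_card {P : Subgroup G} (hP : Nat.card P = p) (a b : α) : ∃ x ∈ P, x • a = b := by
  obtain ⟨x, hx⟩ := ((Nat.bijective_iff_injective_and_card (fun x : P => (x : G) • a)).2 ⟨fun x y e => by
    by_contra h1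
    have h2 := no_fix hα (x := (x⁻¹ * y : P).1) (by rw [← coe_pow, ← hP, pow_card_eq_one']; rfl)
      fun e => h1 (eq_of_inv_mul_eq_one (Subtype.ext e))
    exact (Finite.card_eq_zero_iff.1 h2).false ⟨a, by
      change ((x : G)⁻¹ * y) • a = a
      rw [mul_smul, ← show _ = (y : G) • a from e, inv_smul_smul]⟩,
    hP.trans hα.symm⟩).2 b
  exact ⟨x, x.2, hx⟩

theorem cent_prime {P : Subgroup G} (hP : Nat.card P = p) : centralizer (P : Set G) = P := by
  refine le_antisymm (fun y hy => ?_) fun _ ha _ hb => comm_of_card hp.out hP hb ha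
  obtain ⟨a⟩ : Nonempty α := (Nat.card_pos_iff.1 (hα ▸ hp.out.pos)).1
  obtain ⟨z, hz, h1⟩ := trans_of_card hα hP a (y • a)
  rwa [← FaithfulSMul.eq_of_smul_eq_smul (α := α) (m₁ := z) (m₂ := y) fun b => by
    obtain ⟨w, hw, rfl⟩ := trans_of_card hα hP a b
    rw [← mul_smul, ← comm_of_card hp.out hP hw hz, mul_smul, h1, ← mul_smul, hy w hw, mul_smul]]

theorem dvd_of_normal [IsPretransitive G α] (N : Subgroup G) [N.Normal] (h : N ≠ ⊥) : p ∣ Nat.card N := by
  have := IsPreprimitive.of_prime_card (G := G) (hα ▸ hp.out)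
  have := normal_trans_of_prim (α := α) N h
  obtain ⟨a⟩ : Nonempty α := (Nat.card_pos_iff.1 (hα ▸ hp.out.pos)).1
  exact ⟨_, hα ▸ card_eq_mul_stab (G := N) a⟩

theorem top_of_burnside [IsPretransitive G α] (P : Sylow p G)
    (h : normalizer ((P : Subgroup G) : Set G) ≤ centralizer ((P : Subgroup G) : Set G)) : (P : Subgroup G) = ⊤ := by
  have h1 := MonoidHom.ker_transferSylow_isComplement' P h
  by_cases e : (MonoidHom.transferSylow P h).ker = ⊥
  · rwa [e, isComplement'_bot_left] at h1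
  · exact absurd (dvd_of_normal hα _ e) (h1.index_eq_card ▸ P.not_dvd_index)

theorem le_of_normal [IsPretransitive G α] (P : Sylow p G) (N : Subgroup G) [N.Normal] (h : N ≠ ⊥) :
    (P : Subgroup G) ≤ N := by
  have h1 := dvd_of_normal hα N h
  obtain ⟨⟨x, hx⟩, h3⟩ := exists_prime_orderOf_dvd_card' p h1
  replace h3 : orderOf x = p := (Subgroup.orderOf_coe _).trans h3
  obtain ⟨Q, hQ⟩ := (IsPGroup.of_card (G := zpowers x) (p := p) (n := 1) (by
    rw [Nat.card_zpowers, h3, pow_one])).exists_le_sylow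
  obtain ⟨c, rfl⟩ := exists_smul_eq G Q P
  rw [← zpowers_eq hp.out (card_syl_prime hα _ (h1.trans (card_subgroup_dvd_card N)))
    ((conj_mem_smul Q c x).2 (hQ (mem_zpowers x))) (fun e => by
      rw [show x = 1 by simpa using e, orderOf_one] at h3; exact hp.out.one_lt.ne h3)]
  exact zpowers_le.2 (Normal.conj_mem ‹_› x hx c)

theorem simple_of_prime [IsPretransitive G α] (P : Sylow p G) (hn : ¬ (P : Subgroup G).Normal)
    (ht : ((P : Subgroup G).relIndex (normalizer ((P : Subgroup G) : Set G))).Prime) : IsSimpleGroup G := by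
  have : Nontrivial G := by
    by_contra h
    have := not_nontrivial_iff_subsingleton.1 h
    exact hn (Subsingleton.elim ⊤ (P : Subgroup G) ▸ inferInstance)
  refine ⟨fun N hN => or_iff_not_imp_left.2 fun h0 => ?_⟩
  have h1 := le_of_normal hα P N h0
  have h2 := P.normalizer_sup_eq_top' h1
  have h3 := relIndex_mul_relIndex (P : Subgroup G) (N ⊓ normalizer ((P : Subgroup G) : Set G)) _
    (le_inf h1 le_normalizer) inf_le_right
  rcases (Nat.dvd_prime ht).1 (Dvd.intro _ h3) with h4 | h4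
  · have := IsPreprimitive.of_prime_card (G := G) (hα ▸ hp.out)
    have := normal_trans_of_prim (α := α) N h0
    have h5 := card_syl_prime hα P ((dvd_of_normal hα N h0).trans (card_subgroup_dvd_card N))
    have h6 := top_of_burnside hα (P.subtype h1) fun n hn y hy => Subtype.ext (comm_of_card hp.out h5 hy
      (relIndex_eq_one.1 h4 ⟨n.2, by rwa [P.coe_subtype, ← subgroupOf_normalizer_eq h1] at hn⟩))
    rw [P.coe_subtype, subgroupOf_eq_top] at h6
    exact absurd (le_antisymm h6 h1 ▸ hN) hn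
  · rw [h4, mul_right_eq_self₀, relIndex_eq_one] at h3
    rw [← h2]
    exact (sup_eq_right.2 ((h3.resolve_right ht.ne_zero).trans inf_le_left)).symm

omit hp hα in
theorem sl_of_sharp (h3 : IsMultiplyPretransitive G α 3) (hs : ∀ x : Fin 3 ↪ α, stabilizer G x = ⊥)
    (h5 : 5 ≤ Nat.card α) (ho : Odd (Nat.card α)) : ∃ (a : ℕ) (F : Type) (_ : Field F) (_ : Fintype F),
      Nat.card α = 2 ^ a + 1 ∧ Fintype.card F = 2 ^ a ∧ Nonempty (G ≃* GL2.SL2 F) := by
  have hZ := Zass.zass_of_sharp h3 hs h5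
  obtain ⟨-, -, a, b, hab, -⟩ := hZ.2.2.2.1
  have := Zass.card_E_of_sharp h3 hs hZ hab
  have := Zass.simple_of_odd hZ ho
  obtain ⟨F, _, _, h1, ⟨e⟩⟩ := Zass.psl_of_simple hZ hab (by omega)
  obtain ⟨r, _, n, hr, hn⟩ := FiniteField.card' F
  obtain rfl : r = 2 := (Nat.Prime.even_iff hr).1 (Nat.even_pow.1 (show Even (r ^ (n : ℕ)) by
    rw [← h1, hn] at ho; exact Nat.not_odd_iff_even.1 (Nat.odd_add_one.1 ho))).1
  exact ⟨n, F, _, _, by omega, hn, ⟨e.trans (GL2.toPEquiv (two_eq_zero hn)).symm⟩⟩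

theorem BD.perm {e : ℕ} {P : Subgroup G} {X Y : Finset (IrrCharacter G)} {δ : IrrCharacter G → ℤ} {ε : ℤ}
    {S : IrrCharacter G → Finset (P →* ℂˣ)} (h : BD p e P X Y δ ε S) [Fintype G] :
    (∃ χ ∈ X, δ χ = -1 ∧ dg χ + 1 = p ∧ classInner (pc G α) χ.1 = 1 ∧ ∀ g, pc G α g = 1 + χ.1 g) ∨
      (ε = 1 ∧ (∀ θ ∈ Y, dg θ = e) ∧ ∃ c : IrrCharacter G → ℕ, ∀ g, pc G α g = 1 + ∑ θ ∈ Y, c θ * θ.1 g) := by
  have h3 := h.three_le
  obtain ⟨f, f0, f1, fX, fY, fW⟩ := h.exists_fx (cent_prime hα h.card)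
  obtain ⟨a⟩ : Nonempty α := (Nat.card_pos_iff.1 (hα ▸ hp.out.pos)).1
  have : IsPretransitive G α := ⟨fun a b => (trans_of_card hα h.card a b).imp fun _ h => h.2⟩
  obtain ⟨c, c1, c2, c3, c4⟩ := BD.decomp f0 (isCharacter_perm α) (d := p) (m := p) (by simp [hα]) (by
    rw [Finset.sum_eq_single 1 (fun x _ hx => by
      rw [no_fix hα (by rw [← coe_pow, ← h.card, pow_card_eq_one']; rfl) fun e => hx (Subtype.ext e)]; simp) (by simp)]
    simp [hα])
  have c5 : c (irrOne G) = 1 := by exact_mod_cast (c1 (irrOne G)).symm.trans (classInner_pc_one' a)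
  have n : ∀ s : Finset (IrrCharacter G), ∀ χ ∈ s, (0 : ℤ) ≤ c χ * (p * f χ) := fun _ _ _ => by positivity
  rw [sum_split h.disj h.oneX h.oneY, c5, f1] at c4
  have := Finset.sum_nonneg (n X)
  have := Finset.sum_nonneg (n Y)
  have := Finset.sum_nonneg (n (insert (irrOne G) (X ∪ Y))ᶜ)
  have cX := (Finset.sum_eq_zero_iff_of_nonneg (n X)).1 (by push_cast at c4; linarith)
  have cY := (Finset.sum_eq_zero_iff_of_nonneg (n Y)).1 (by push_cast at c4; linarith)
  have cW : ∀ χ ∈ (insert (irrOne G) (X ∪ Y))ᶜ, c χ = 0 := fun χ hχ => by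
    have := (Finset.sum_eq_zero_iff_of_nonneg (n (insert (irrOne G) (X ∪ Y))ᶜ)).1 (by push_cast at c4; linarith) χ hχ
    rw [← Nat.cast_mul, ← fW χ hχ] at this
    simpa [(dg_pos χ).ne'] using this
  rw [sum_split h.disj h.oneX h.oneY, c5, Finset.sum_eq_zero (s := _ᶜ) fun χ hχ => by simp [cW χ hχ],
    show dg (irrOne G) = 1 by simp [charDegree]] at c3
  have n' : ∀ s : Finset (IrrCharacter G), ∀ χ ∈ s, (0 : ℤ) ≤ c χ * dg χ := fun _ _ _ => by positivity
  have hπ : ∀ g, pc G α g = 1 + ∑ χ ∈ X, c χ * χ.1 g + ∑ χ ∈ Y, c χ * χ.1 g := fun g => by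
    rw [pc, c2, sum_split h.disj h.oneX h.oneY, c5, Finset.sum_eq_zero (s := _ᶜ) fun χ hχ => by simp [cW χ hχ]]
    simp
  by_cases h1 : ∀ χ ∈ X, c χ = 0
  · obtain ⟨θ, hθ, h2⟩ : ∃ θ ∈ Y, c θ ≠ 0 := by
      by_contra! h2
      rw [Finset.sum_eq_zero fun χ hχ => by simp [h1 χ hχ], Finset.sum_eq_zero fun χ hχ => by simp [h2 χ hχ]] at c3
      omega
    have h4 := fY θ hθ
    have h5 : f θ = 0 := by simpa [h2, hp.out.ne_zero] using cY θ hθ
    have h6 : ε = 1 ∧ dg θ = e := by have := h.e_pos; rcases h.esgn with rfl | rfl <;> rw [h5] at h4 <;> omega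
    exact Or.inr ⟨h6.1, fun θ' h7 => (h.dg_eq h7 hθ).trans h6.2, c, fun g => by
      rw [hπ, Finset.sum_eq_zero fun χ hχ => by simp [h1 χ hχ], add_zero]⟩
  · push Not at h1
    obtain ⟨χ, hχ, h2⟩ := h1
    have h4 := fX χ hχ
    have h5 : f χ = 0 := by simpa [h2, hp.out.ne_zero] using cX χ hχ
    have h6 : δ χ = -1 ∧ dg χ + 1 = p := by rcases h.sgn χ hχ with h7 | h7 <;> rw [h5, h7] at h4 <;> omega
    rw [← Finset.add_sum_erase _ _ hχ] at c3
    have := Finset.sum_nonneg (n' (X.erase χ))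
    have := Finset.sum_nonneg (n' Y)
    have h7 : c χ = 1 := by
      by_contra h7
      have : (2 : ℤ) * dg χ ≤ c χ * dg χ := mul_le_mul_of_nonneg_right (by omega) (by positivity)
      omega
    rw [h7] at c3
    have z : ∀ s : Finset (IrrCharacter G), ∑ χ ∈ s, (c χ * dg χ : ℤ) = 0 → ∀ g, ∑ χ ∈ s, c χ * χ.1 g = 0 :=
      fun s hs g => Finset.sum_eq_zero fun χ hχ => by
        have := (Finset.sum_eq_zero_iff_of_nonneg (n' s)).1 hs χ hχ
        simp [show c χ = 0 by simpa [(dg_pos χ).ne'] using this]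
    refine Or.inl ⟨χ, hχ, h6.1, h6.2, (c1 χ).trans (by simp [h7]), fun g => ?_⟩
    rw [hπ, ← Finset.add_sum_erase _ _ hχ, z _ (by omega), z _ (by omega), h7]
    simp

theorem sl_of_two (hperf : commutator G = ⊤) (P : Sylow p G) (hP : Nat.card P = p)
    (hN : Nat.card (normalizer ((P : Subgroup G) : Set G)) = 2 * p) :
    ∃ (a : ℕ) (F : Type) (_ : Field F) (_ : Fintype F),
      p = 2 ^ a + 1 ∧ Fintype.card F = 2 ^ a ∧ Nonempty (G ≃* GL2.SL2 F) := by
  have := Fintype.ofFinite G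
  have hC := cent_prime hα hP
  obtain ⟨e, X, Y, δ, ε, S, h⟩ := exists_bd hperf P hP
  obtain rfl : e = 2 := by
    have h1 := Solv.card_mul_relIndex (centralizer_le_normalizer ((P : Subgroup G) : Set G))
    rw [h.he, hC, hP, hN, mul_comm] at h1
    exact Nat.eq_of_mul_eq_mul_right hp.out.pos h1
  obtain ⟨θ, hθ⟩ := h.Y_ne
  obtain ⟨χ, rfl, rfl, h1⟩ := h.two hθ
  have h2 := two_le_dg h.perf (h.ne_one (Finset.mem_union_left _ (Finset.mem_singleton_self χ)))
  have h2' := two_le_dg h.perf (h.ne_one (Finset.mem_union_right _ hθ))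
  obtain ⟨χ', hχ, h3, h4, h5, h6⟩ := (h.perm hα).resolve_right fun ⟨h3, h4, _⟩ => by have := h4 θ hθ; omega
  obtain rfl := Finset.mem_singleton.1 hχ
  obtain ⟨f, f0, f1, fX, fY, fW⟩ := h.exists_fx hC
  obtain ⟨a⟩ : Nonempty α := (Nat.card_pos_iff.1 (hα ▸ hp.out.pos)).1
  have : IsPretransitive G α := ⟨fun a b => (trans_of_card hα h.card a b).imp fun _ h => h.2⟩
  have te := h.teZ
  have tc : (Y.card : ℂ) * 2 = p - 1 := by exact_mod_cast te
  have d1 : (dg χ' : ℂ) = p - 1 := by rw [← h4]; simp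
  obtain ⟨c, c1, c2, c3, c4⟩ := BD.decomp f0 χ'.2.isCharacter.altSq (d := Y.card * (p - 2)) (m := Y.card * p)
    (by simp only [mul_one, dg_cast, d1]; push_cast; linear_combination (2 - p) / 2 * tc) (by
      rw [← Finset.add_sum_erase _ _ (Finset.mem_univ 1), Finset.sum_congr rfl (g := fun _ => 1) fun x hx => by
        have h7 : (x : G) ≠ 1 := fun e => (Finset.mem_erase.1 hx).1 (Subtype.ext e)
        rw [h.valX _ hχ _ x.2 h7, h.valX _ hχ _ (mul_mem x.2 x.2) fun e => by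
          have := orderOf_dvd_of_pow_eq_one (x := (x : G)) (n := 2) (by rw [sq, e])
          rw [order_eq hp.out hP x.2 h7] at this
          have := Nat.le_of_dvd two_pos this
          omega, h3]
        norm_num]
      simp [dg_cast, d1, ← Nat.card_eq_fintype_card, hP, hp.out.pos]
      linear_combination -(p : ℂ) / 2 * tc)
  have hr : (fun g => conj (χ'.1 g)) = χ'.1 := funext fun g => by
    rw [eq_sub_of_add_eq' (h6 g).symm]; simp
  have c5 : c (irrOne G) = 0 := by
    obtain ⟨i, j, -, h7, h8, h9⟩ := fsInd_spec χ'.2.isCharacter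
    rw [hr, χ'.2.classInner_self] at h8
    rw [fsInd_eq_one_of_odd_pc a χ'.2 hr odd_one (by simpa using h5)] at h9
    have : (j : ℂ) = 0 := by linear_combination (h9 - h8) / 2
    exact_mod_cast (c1 (irrOne G)).symm.trans (h7.trans this)
  have f2 : (p * f χ' : ℤ) = 0 := by rw [fX _ hχ, h3]; omega
  rw [sum_split h.disj h.oneX h.oneY, c5, Finset.sum_singleton] at c3 c4
  rw [Finset.sum_congr rfl (s₁ := Y) (g := fun θ => (p - 2 : ℤ) * c θ) fun θ' h7 => by
    rw [h.dg_eq h7 hθ, h1, h3, mul_comm]; congr 1; omega, ← Finset.mul_sum Y] at c3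
  rw [Finset.sum_congr rfl (s₁ := Y) (g := fun θ => (p : ℤ) * c θ) fun θ' h7 => by
    rw [fY _ h7, h.dg_eq h7 hθ, h1, h3, mul_comm]; congr 1; omega, ← Finset.mul_sum Y, f2,
    Finset.sum_congr rfl (s₁ := _ᶜ) (g := fun ψ => (c ψ * dg ψ : ℤ)) fun ψ hψ => by rw [fW ψ hψ]; simp] at c4
  have n' : ∀ χ ∈ (insert (irrOne G) ({χ'} ∪ Y))ᶜ, (0 : ℤ) ≤ c χ * dg χ := fun _ _ => by positivity
  have k1 := Finset.sum_nonneg n'
  have k2 : (0 : ℤ) ≤ c χ' * dg χ' := by positivity
  have k3 : ∑ θ ∈ Y, (c θ : ℤ) = Y.card := by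
    generalize ∑ θ ∈ Y, (c θ : ℤ) = γ at *
    have k3 : γ ≤ Y.card := le_of_mul_le_mul_left (a := (p : ℤ)) (by push_cast at c4; linarith) (by omega)
    push_cast at c3 c4
    linarith
  rw [k3] at c3
  have k4 := (Finset.sum_eq_zero_iff_of_nonneg n').1 (by push_cast at c3; linarith)
  have k5 : c χ' = 0 := by simpa [(dg_pos χ').ne'] using (show (c χ' * dg χ' : ℤ) = 0 by push_cast at c3; linarith)
  have key : ∀ g : G, ¬ p ∣ orderOf g → ((Nat.card (fixedBy α g) : ℤ) - 1) ^ 2 - (Nat.card (fixedBy α (g * g)) - 1) =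
      (p - 1) * (Nat.card (fixedBy α g) - 2) := fun g hg => by
    have k6 := c2 g
    have k7 : ∑ θ ∈ Y, (c θ : ℂ) = Y.card := by exact_mod_cast k3
    rw [sum_split h.disj h.oneX h.oneY, c5, Finset.sum_singleton, k5, Finset.sum_eq_zero (s := _ᶜ) fun ψ hψ => by
      simp [show c ψ = 0 by simpa [(dg_pos ψ).ne'] using k4 ψ hψ],
      Finset.sum_congr rfl fun θ' h7 => by rw [h.two_val h7 hg], ← Finset.sum_mul, k7, h3,
      eq_sub_of_add_eq' (h6 g).symm, eq_sub_of_add_eq' (h6 (g * g)).symm] at k6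
    have : ((Nat.card (fixedBy α g) : ℂ) - 1) ^ 2 - (Nat.card (fixedBy α (g * g)) - 1) =
        (p - 1) * (Nat.card (fixedBy α g) - 2) := by
      push_cast at k6; linear_combination 2 * k6 + (Nat.card (fixedBy α g) - 2) * tc
    exact_mod_cast this
  have hs : ∀ x : Fin 3 ↪ α, stabilizer G x = ⊥ := fun x => eq_bot_iff.2 fun g hg => by
    by_contra k6
    obtain ⟨k, hk, -⟩ := exists_prime_order_pow (isOfFinOrder_of_finite g) k6
    have k7 : 3 ≤ Nat.card (fixedBy α (g ^ k)) := by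
      exact (Nat.card_fin 3).ge.trans (Nat.card_le_card_of_injective (fun i => (⟨x i, (mem_stab_emb x _).1 (pow_mem hg k) i⟩ :
        fixedBy α (g ^ k))) fun i j e => x.injective (congrArg Subtype.val e))
    generalize g ^ k = y at hk k7
    have k8 : y ≠ 1 := by rintro rfl; simp at hk; exact Nat.not_prime_one hk
    have k9 : Nat.card (fixedBy α y) < p := by
      by_contra k9
      exact k8 (SylNum.eq_one_of_card_fix (α := α) (fun _ => eq_one_of_smul_eq) (by omega))
    have k10 := key y fun e => by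
      have := no_fix hα (x := y) (by rw [(Nat.prime_dvd_prime_iff_eq hp.out hk).1 e, pow_orderOf_eq_one]) k8
      omega
    by_cases k11 : orderOf y = 2
    · rw [show y * y = 1 by rw [← sq, ← k11, pow_orderOf_eq_one], fixedBy_one_eq_univ, Nat.card_univ, hα] at k10
      have : ((Nat.card (fixedBy α y) : ℤ) - 1) * (p - Nat.card (fixedBy α y)) = 0 := by linear_combination -k10
      rcases mul_eq_zero.1 this with e | e <;> omega
    · obtain ⟨i, hi⟩ := (mem_zpowers_pow_iff (g := y) (k := 2)).2 ((Nat.coprime_primes Nat.prime_two hk).2 (Ne.symm k11))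
      have : fixedBy α (y * y) = fixedBy α y := le_antisymm (by
        have := fixedBy_subset_fixedBy_zpow α (y ^ 2) i
        rwa [show (y ^ 2) ^ i = y from hi, sq] at this) fun a ha => by
          rw [mem_fixedBy, mul_smul, ha, ha]
      rw [this] at k10
      have : ((Nat.card (fixedBy α y) : ℤ) - 2) * (p - Nat.card (fixedBy α y)) = 0 := by linear_combination -k10
      rcases mul_eq_zero.1 this with e | e <;> omega
  have := Fintype.ofFinite α
  have k6 : p * (p - 1) * (p - 2) ∣ Nat.card G := by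
    obtain ⟨q, rfl⟩ := Nat.exists_eq_add_of_le' (show 2 ≤ p by omega)
    refine Nat.Coprime.mul_dvd_of_dvd_of_dvd (Nat.Coprime.mul_left ?_ (by simp)) (Nat.Coprime.mul_dvd_of_dvd_of_dvd
      (by simp [Nat.coprime_self_add_left (m := q + 1) (n := 1), show q + 2 = q + 1 + 1 from rfl])
      (hP ▸ card_subgroup_dvd_card _) ((show dg χ' = q + 2 - 1 by omega) ▸ dg_dvd χ'))
      ((show dg θ = q + 2 - 2 by omega) ▸ dg_dvd θ)
    exact (hp.out.coprime_iff_not_dvd).2 fun e => by have := Nat.le_of_dvd (by omega) e; omega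
  have := hp.out.odd_of_ne_two (by omega)
  refine hα ▸ sl_of_sharp (G := G) (α := α) ⟨fun x y => ?_⟩ hs (by obtain ⟨j, hj⟩ := this; omega) (hα ▸ this)
  · have k7 := card_orbit_mul_stab (G := G) x
    rw [hs, card_bot, mul_one] at k7
    exact (Set.eq_of_subset_of_ncard_le (Set.subset_univ (orbit G x)) (by
      rw [Set.ncard_univ, ← Nat.card_coe_set_eq, k7, Nat.card_eq_fintype_card, Fintype.card_embedding_eq,
        ← Nat.card_eq_fintype_card (α := α), hα]
      refine le_trans (le_of_eq ?_) (Nat.le_of_dvd Nat.card_pos k6)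
      simp [Nat.descFactorial]
      ring)).ge (Set.mem_univ y)

end prime

end Cfsg.Agent.Perm.Br
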