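import Cfsg.Agent.Lib.Perm.Br12

/-! The case `e = 2` with a character of degree `p - 1`. -/

set_option autoImplicit false

namespace Cfsg.Agent.Perm.Br.BD

open Subgroup MulAction
open Cfsg.Agent.Char
open scoped _root_.Classical ComplexConjugate Pointwise commutatorElement

attribute [-instance] Fintype.decidablePiFintype

variable {G : Type*} [Group G] [Finite G] {p : ℕ} {P : Subgroup G} {Y : Finset (IrrCharacter G)}
  {δ : IrrCharacter G → ℤ} {S : IrrCharacter G → Finset (P →* ℂˣ)} {χ θ : IrrCharacter G}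
  (h : BD p 2 P {χ} Y δ (δ χ) S) (hC : centralizer (P : Set G) = P)
include h hC

theorem two_rat (σ : ℂ →+* ℂ) (g : G) : σ (χ.1 g) = χ.1 g := by
  obtain ⟨x, hx, hx1⟩ := h.exists_x
  let ψ : IrrCharacter G := ⟨fun g => σ (χ.1 g), χ.2.map_ringHom σ⟩
  have h1 : dg ψ = dg χ := by
    have : ψ.1 1 = dg χ := by simp [ψ, dg_cast]
    exact_mod_cast (dg_cast ψ).symm.trans this
  have h2 : ψ ∈ insert (irrOne G) ({χ} ∪ Y) := by
    by_contra h2
    exact h.val_ne (Finset.mem_union_left _ (Finset.mem_singleton_self χ)) hx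
      ((map_eq_zero σ).1 (h.zero hC hx hx1 h2))
  have h3 := two_le_dg h.perf (h.ne_one (Finset.mem_union_left _ (Finset.mem_singleton_self χ)))
  simp only [Finset.mem_insert, Finset.mem_union, Finset.mem_singleton] at h2
  rcases h2 with h2 | h2 | h2
  · rw [← h1, h2] at h3; simp [charDegree] at h3
  · exact congrFun (congrArg Subtype.val h2) g
  · obtain ⟨_, h4, -, h5⟩ := h.two h2
    obtain rfl := Finset.singleton_injective h4
    rcases h.esgn with h6 | h6 <;> omega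

theorem alt_two [Fintype G] (h3 : δ χ = -1) (h4 : dg χ + 1 = p) (hf : fsInd χ.1 = 1) {g : G}
    (hg : ¬ p ∣ orderOf g) : χ.1 g ^ 2 - χ.1 (g * g) = (p - 1) * (χ.1 g - 1) := by
  have hχ := Finset.mem_singleton_self χ
  have hp := h.prime
  have hP := h.card
  have := h.three_le
  obtain ⟨θ, hθ⟩ := h.Y_ne
  obtain ⟨_, e1, -, h1⟩ := h.two hθ
  obtain rfl := Finset.singleton_injective e1
  obtain ⟨f, f0, f1, fX, fY, fW⟩ := h.exists_fx hC
  have te := h.teZ
  have tc : (Y.card : ℂ) * 2 = p - 1 := by exact_mod_cast te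
  have d1 : (dg χ : ℂ) = p - 1 := by rw [← h4]; simp
  obtain ⟨c, c1, c2, c3, c4⟩ := BD.decomp f0 χ.2.isCharacter.altSq (d := Y.card * (p - 2)) (m := Y.card * p)
    (by simp only [mul_one, dg_cast, d1]; push_cast; linear_combination (2 - p) / 2 * tc) (by
      rw [← Finset.add_sum_erase _ _ (Finset.mem_univ 1), Finset.sum_congr rfl (g := fun _ => 1) fun x hx => by
        have h7 : (x : G) ≠ 1 := fun e => (Finset.mem_erase.1 hx).1 (Subtype.ext e)
        rw [h.valX _ hχ _ x.2 h7, h.valX _ hχ _ (mul_mem x.2 x.2) fun e => by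
          have := orderOf_dvd_of_pow_eq_one (x := (x : G)) (n := 2) (by rw [pow_two, e])
          rw [order_eq hp hP x.2 h7] at this
          have := Nat.le_of_dvd two_pos this
          omega, h3]
        norm_num]
      simp [dg_cast, d1, ← Nat.card_eq_fintype_card, hP, hp.pos]
      linear_combination -(p : ℂ) / 2 * tc)
  have c5 : c (irrOne G) = 0 := by
    obtain ⟨i, j, -, h7, h8, h9⟩ := fsInd_spec χ.2.isCharacter
    rw [show (fun g => conj (χ.1 g)) = χ.1 from funext (h.two_rat hC _), χ.2.classInner_self] at h8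
    have : (j : ℂ) = 0 := by linear_combination (h9 - h8 - hf) / 2
    exact_mod_cast (c1 (irrOne G)).symm.trans (h7.trans this)
  have f2 : (p * f χ : ℤ) = 0 := by rw [fX _ hχ, h3]; omega
  rw [sum_split h.disj h.oneX h.oneY, c5, Finset.sum_singleton] at c3 c4
  rw [Finset.sum_congr rfl (s₁ := Y) (g := fun θ => (p - 2 : ℤ) * c θ) fun θ' h7 => by
    rw [h.dg_eq h7 hθ, h1, h3, mul_comm]; congr 1; omega, ← Finset.mul_sum Y] at c3
  rw [Finset.sum_congr rfl (s₁ := Y) (g := fun θ => (p : ℤ) * c θ) fun θ' h7 => by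
    rw [fY _ h7, h.dg_eq h7 hθ, h1, h3, mul_comm]; congr 1; omega, ← Finset.mul_sum Y, f2,
    Finset.sum_congr rfl (s₁ := _ᶜ) (g := fun ψ => (c ψ * dg ψ : ℤ)) fun ψ hψ => by rw [fW ψ hψ]; simp] at c4
  have n' : ∀ ψ ∈ (insert (irrOne G) ({χ} ∪ Y))ᶜ, (0 : ℤ) ≤ c ψ * dg ψ := fun _ _ => by positivity
  have k1 := Finset.sum_nonneg n'
  have k2 : (0 : ℤ) ≤ c χ * dg χ := by positivity
  have k3 : ∑ θ ∈ Y, (c θ : ℤ) = Y.card := by
    generalize ∑ θ ∈ Y, (c θ : ℤ) = γ at *
    have k3 : γ ≤ Y.card := le_of_mul_le_mul_left (a := (p : ℤ)) (by push_cast at c4; linarith) (by omega)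
    push_cast at c3 c4
    linarith
  rw [k3] at c3
  have k4 := (Finset.sum_eq_zero_iff_of_nonneg n').1 (by push_cast at c3; linarith)
  have k5 : c χ = 0 := by simpa [(dg_pos χ).ne'] using (show (c χ * dg χ : ℤ) = 0 by push_cast at c3; linarith)
  have k6 := c2 g
  have k7 : ∑ θ ∈ Y, (c θ : ℂ) = Y.card := by exact_mod_cast k3
  rw [sum_split h.disj h.oneX h.oneY, c5, Finset.sum_singleton, k5, Finset.sum_eq_zero (s := _ᶜ) fun ψ hψ => by
    simp [show c ψ = 0 by simpa [(dg_pos ψ).ne'] using k4 ψ hψ],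
    Finset.sum_congr rfl fun θ' h7 => by rw [h.two_val h7 hg], ← Finset.sum_mul, k7, h3] at k6
  push_cast at k6
  linear_combination 2 * k6 + (χ.1 g - 1) * tc

theorem order_two [Fintype G] [IsSimpleGroup G] (h3 : δ χ = -1) (h4 : dg χ + 1 = p) (hf : fsInd χ.1 = 1) :
    Nat.card G = p * (p - 1) * (p - 2) ∧ ∃ b, p = 2 ^ b + 1 := by
  have hp := h.prime
  have := h.three_le
  obtain ⟨θ, hθ⟩ := h.Y_ne
  obtain ⟨_, e1, -, h1⟩ := h.two hθ
  obtain rfl := Finset.singleton_injective e1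
  have h5 : dg θ = p - 2 := by omega
  have h6 : ∀ g : G, g ≠ 1 → Odd (orderOf g) → ¬ p ∣ orderOf g → θ.1 g = 0 := fun g h6 h7 h8 => by
    obtain ⟨σ, hσ⟩ := exists_ringEquiv_pow (orderOf_pos g).ne' (Nat.coprime_two_left.2 h7)
    have h9 := h.alt_two hC h3 h4 hf h8
    rw [← pow_two g, ← χ.2.isCharacter.ringHom_apply σ.toRingHom g hσ, h.two_rat hC] at h9
    have h10 := faithful (h.ne_one (Finset.mem_union_left _ (Finset.mem_singleton_self χ))) h6
    rw [dg_cast, show (dg χ : ℂ) = p - 1 by rw [← h4]; simp, ← sub_ne_zero] at h10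
    rw [h.two_val hθ h8, h3]
    exact mul_left_cancel₀ h10 (by push_cast; linear_combination h9)
  obtain ⟨b, n, hn, h7⟩ := Nat.exists_eq_two_pow_mul_odd (Nat.card_pos (α := G)).ne'
  have h8 : n ∣ p * (p - 2) := (Nat.dvd_iff_prime_pow_dvd_dvd _ _).2 fun r k hr hk => by
    have := Fact.mk hr
    obtain ⟨R, hR⟩ := Sylow.exists_subgroup_card_pow_prime r (hk.trans (h7 ▸ dvd_mul_left n _))
    by_cases h8 : r = p
    · subst h8
      refine Dvd.dvd.mul_right ?_ _
      have h9 := card_subgroup_dvd_card R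
      rw [← P.card_mul_index, h.card, hR] at h9
      exact (Nat.Coprime.pow_left k (hp.coprime_iff_not_dvd.2 h.syl)).dvd_of_dvd_mul_right h9
    obtain ⟨m, hm⟩ := exists_m θ.2.isCharacter R
    rw [Finset.sum_eq_single (1 : R) (fun x _ hx => h6 x (by simpa using hx)
      (hn.of_dvd_nat ((R.orderOf_dvd_natCard x.2).trans (hR ▸ hk))) fun e => h8 ((Nat.prime_dvd_prime_iff_eq hp hr).1
        (hp.dvd_of_dvd_pow (hR ▸ e.trans (R.orderOf_dvd_natCard x.2)))).symm) (by simp),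
      OneMemClass.coe_one, dg_cast, h5, hR] at hm
    exact Dvd.dvd.mul_left ⟨m, by exact_mod_cast hm⟩ _
  obtain ⟨z, hz, h9⟩ := exists_central_invol (G := G) ((show 2 ∣ dg χ by
    have := hp.odd_of_ne_two (by omega); rw [← h4, Nat.odd_add_one, Nat.not_odd_iff_even] at this
    exact this.two_dvd).trans (dg_dvd χ))
  obtain ⟨u, hu, h10⟩ := h.conj_of_two hC (by omega) rfl hz
  obtain ⟨k, -, h11, h12⟩ := h.two_count hC hθ hu ((SemiconjBy.orderOf_eq _ h10.choose_spec).symm.trans hz)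
  have h13 : 4 * k = p - 1 := by
    have : |(dg χ : ℤ) - 4 * k| ≤ 0 := by rw [h3] at h11; nlinarith [abs_nonneg ((dg χ : ℤ) - 4 * k)]
    have := abs_nonpos_iff.1 this
    omega
  rw [← card_cent_conj h10, h13, h5, show dg χ = p - 1 by omega] at h12
  have h14 := (centralizer ({z} : Set G)).card_mul_index
  obtain ⟨c, hc⟩ : 2 ^ b ∣ Nat.card (centralizer ({z} : Set G)) :=
    (Nat.Coprime.pow_left b (Nat.prime_two.coprime_iff_not_dvd.2 h9)).dvd_of_dvd_mul_right (by rw [h14, h7]; simp)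
  rw [hc, h7, mul_assoc, Nat.mul_right_inj (by positivity)] at h14
  obtain ⟨w, hw⟩ := h8
  obtain ⟨q, rfl⟩ : ∃ q, p = q + 2 := ⟨p - 2, by omega⟩
  rw [hc, h7] at h12
  simp only [Nat.add_sub_cancel, show q + 2 - 1 = q + 1 from rfl] at *
  have h15 : w * (2 ^ b * (c * c)) = q + 1 := Nat.eq_of_mul_eq_mul_left
    (show 0 < 2 ^ b * n * (q + 1) by have := hn.pos; positivity) (by
      linear_combination h12 - (2 ^ b * c) ^ 2 * (q + 1) * hw)
  have h16 : ∀ d, d ∣ (q + 2) * q → d ∣ q + 1 → d = 1 := fun d h1 h2 =>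
    Nat.dvd_one.1 ((Nat.dvd_add_right h1).1 ((show (q + 1) * (q + 1) = (q + 2) * q + 1 by ring) ▸ h2.mul_left _))
  obtain rfl := h16 w (Dvd.intro_left _ hw.symm) (Dvd.intro _ h15)
  obtain rfl := h16 c (by rw [hw, ← h14, mul_one]; simp) ⟨2 ^ b * c, by rw [← h15]; ring⟩
  exact ⟨by rw [h7, mul_right_comm, hw, ← h15]; ring, b, by omega⟩

end Cfsg.Agent.Perm.Br.BD
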