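import Cfsg.Agent.Lib.Perm.Br1

/-! General character lemmas: multiplicities, determinants, involutions. -/

set_option autoImplicit false

namespace Cfsg.Agent.Perm.Br

open Subgroup
open Cfsg.Agent.Char
open scoped Classical ComplexConjugate

variable {G : Type*} [Group G] [Finite G]

theorem det_sum {A : Type*} [Group A] [Finite A] (c : (A →* ℂˣ) → ℕ) (s : Finset (A →* ℂˣ)) (a : A) :
    IsCharacter A (∑ ω ∈ s, (c ω : ℂ) • lc ω) ∧
      detChar (∑ ω ∈ s, (c ω : ℂ) • lc ω) a = ∏ ω ∈ s, (ω a : ℂ) ^ c ω := by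
  refine ⟨IsCharacter.sum fun ω _ => (isIrr_lc ω).isCharacter.natCast_smul _, ?_⟩
  induction s using Finset.induction_on with
  | empty => simpa using detChar_zero a
  | insert ω s hω ih =>
    rw [Finset.sum_insert hω, Finset.prod_insert hω, ((isIrr_lc ω).isCharacter.natCast_smul _).detChar_add
      (IsCharacter.sum fun ω _ => (isIrr_lc ω).isCharacter.natCast_smul _), ih,
      (isIrr_lc ω).isCharacter.detChar_nsmul, detChar_units]

theorem det_eq_one (hp : commutator G = ⊤) {χ : G → ℂ} (hχ : IsCharacter G χ) (g : G) : detChar χ g = 1 := by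
  obtain ⟨δ, h⟩ := hχ.exists_detChar
  have : g ∈ δ.ker := Abelianization.commutator_subset_ker δ (hp ▸ mem_top g)
  rw [h]; simp [MonoidHom.mem_ker.1 this]

theorem mult (hp : commutator G = ⊤) {χ : G → ℂ} (hχ : IsCharacter G χ) {A : Type*} [Group A] [Fintype A]
    (hA : ∀ a b : A, a * b = b * a) (f : A →* G) : ∃ c : (A →* ℂˣ) → ℕ,
      (∀ ω, classInner (fun a => χ (f a)) (lc ω) = c ω) ∧ (∀ a, χ (f a) = ∑ ω, (c ω : ℂ) * ω a) ∧
      ∀ a, ∏ ω : A →* ℂˣ, (ω a : ℂ) ^ c ω = 1 := by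
  choose c hc using fun ω : A →* ℂˣ => (hχ.comp f).classInner_eq_nat (isIrr_lc ω).isCharacter
  have h := eq_sum_lc hA fun a => χ (f a)
  simp only [hc] at h
  refine ⟨c, hc, fun a => by simpa using congrFun h a, fun a => ?_⟩
  rw [← (det_sum c _ a).2, ← h, hχ.detChar_comp, det_eq_one hp hχ]

theorem zp_comm (y : G) (a b : zpowers y) : a * b = b * a := by
  obtain ⟨_, i, rfl⟩ := a
  obtain ⟨_, j, rfl⟩ := b
  exact Subtype.ext (Commute.zpow_zpow_self y i j)

theorem lc_eq_one {y : G} {ω : zpowers y →* ℂˣ} (h : ω ⟨y, mem_zpowers y⟩ = 1) : ω = 1 := by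
  ext ⟨_, k, rfl⟩
  have : (⟨y ^ k, k, rfl⟩ : zpowers y) = ⟨y, mem_zpowers y⟩ ^ k := rfl
  simp [this, h]

theorem invol_val (hp : commutator G = ⊤) {χ : G → ℂ} (hχ : IsCharacter G χ) {u : G} (hu : u ^ 2 = 1) {d : ℕ}
    (hd : χ 1 = d) : ∃ k : ℕ, 2 * k ≤ d ∧ χ u = d - 4 * k := by
  have := Fintype.ofFinite (zpowers u)
  obtain ⟨c, -, h2, h3⟩ := mult hp hχ (zp_comm u) (zpowers u).subtype
  set a : zpowers u := ⟨u, mem_zpowers u⟩
  have ha : ∀ ω : zpowers u →* ℂˣ, (ω a : ℂ) = 1 ∨ (ω a : ℂ) = -1 := fun ω => by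
    rw [← sq_eq_one_iff, ← Units.val_pow_eq_pow_val, ← map_pow, show a ^ 2 = 1 from Subtype.ext hu]; simp
  have h1 : d = ∑ ω, c ω := by
    have := h2 1
    simp only [map_one, hd, Units.val_one, mul_one] at this
    exact_mod_cast this
  set K := ∑ ω : zpowers u →* ℂˣ, if (ω a : ℂ) = -1 then c ω else 0 with hK
  have h4 : (-1 : ℂ) ^ K = 1 := by
    rw [hK, ← Finset.prod_pow_eq_pow_sum]
    refine Eq.trans ?_ (h3 a)
    refine Finset.prod_congr rfl fun ω _ => ?_
    rcases ha ω with h | h <;> norm_num [h]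
  obtain ⟨k, hk⟩ := (neg_one_pow_eq_one_iff_even (by norm_num)).1 h4
  refine ⟨k, ?_, ?_⟩
  · rw [two_mul, ← hk, h1]
    exact Finset.sum_le_sum fun ω _ => by split_ifs <;> simp
  · have h5 : (4 * k : ℂ) = 2 * K := by rw [hk]; push_cast; ring
    rw [h5, h1, hK, show χ u = _ from h2 a]
    push_cast
    rw [Finset.mul_sum, ← Finset.sum_sub_distrib]
    refine Finset.sum_congr rfl fun ω _ => ?_
    rcases ha ω with h | h <;> norm_num [h]
    ring

theorem stanton (hp : commutator G = ⊤) {χ : G → ℂ} (hχ : IsCharacter G χ) {P : Subgroup G} {p : ℕ} (hpp : p.Prime)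
    (hP : Nat.card P = p) {y : G} (hy : ¬ p ∣ orderOf y) (hc : ∀ x ∈ P, Commute x y)
    (hk : ∀ x ∈ P, x ≠ 1 → ∀ v ∈ zpowers y, χ (x * v) = χ x) (hne : χ y ≠ χ 1) {d : ℕ} (hd : χ 1 = d)
    (hpd : ¬ p ∣ d) : 2 * p < d := by
  have := Fintype.ofFinite (zpowers y)
  have := Fintype.ofFinite P
  obtain ⟨c, h0, h2, h3⟩ := mult hp hχ (zp_comm y) (zpowers y).subtype
  set a : zpowers y := ⟨y, mem_zpowers y⟩
  have h1 : d = ∑ ω, c ω := by
    have := h2 1
    simp only [map_one, hd, Units.val_one, mul_one] at this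
    exact_mod_cast this
  have h4 : ∀ μ, μ ≠ 1 → p ∣ c μ := by
    intro μ hμ
    have hcm : ∀ (m : P) (n : zpowers y), Commute (P.subtype m) ((zpowers y).subtype n) := by
      rintro m ⟨_, k, rfl⟩
      exact (hc m m.2).zpow_right k
    obtain ⟨n, hn⟩ := (hχ.comp (P.subtype.noncommCoprod (zpowers y).subtype hcm)).classInner_eq_nat
      (isIrr_om 1 μ).isCharacter
    have h5 : ∑ v : zpowers y, conj (μ v : ℂ) = 0 := by
      have := classInner_lc 1 μ
      rw [if_neg hμ.symm, classInner] at this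
      simpa [card_ne_zero'] using this
    have h6 := h0 μ
    rw [classInner] at hn h6
    rw [Fintype.sum_prod_type, ← Finset.add_sum_erase _ _ (Finset.mem_univ 1), Finset.sum_eq_zero (s := Finset.erase _ _),
      Nat.card_prod, hP] at hn
    · refine ⟨n, ?_⟩
      have hp0 : (p : ℂ) ≠ 0 := by exact_mod_cast hpp.ne_zero
      have : (c μ : ℂ) = p * n := by
        rw [← hn, ← h6]
        simp only [MonoidHom.noncommCoprod_apply, om_apply, MonoidHom.one_apply, Units.val_one, one_mul, map_one, add_zero]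
        push_cast
        field_simp
      exact_mod_cast this
    · intro x hx
      simp only [MonoidHom.noncommCoprod_apply, om_apply, MonoidHom.one_apply, Units.val_one, one_mul, coe_subtype]
      rw [Finset.sum_congr rfl fun v _ => by
        rw [hk x x.2 (fun h => (Finset.mem_erase.1 hx).1 (Subtype.ext h)) v v.2], ← Finset.mul_sum, h5, mul_zero]
  by_contra h5
  rw [← Finset.add_sum_erase _ _ (Finset.mem_univ 1)] at h1
  have h6 : c 1 ≠ 0 := fun h => hpd (by
    rw [h1, h, zero_add]; exact Finset.dvd_sum fun μ hμ => h4 μ (Finset.mem_erase.1 hμ).1)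
  obtain ⟨μ, hμ, h7⟩ : ∃ μ, μ ≠ 1 ∧ c μ ≠ 0 := by
    by_contra h
    push Not at h
    apply hne
    rw [show χ y = _ from h2 a, hd, h1, Finset.sum_eq_zero fun μ hμ => h μ (Finset.mem_erase.1 hμ).1,
      Finset.sum_eq_single 1 (fun μ _ hμ => by simp [h μ hμ]) (by simp)]
    simp
  rw [← Finset.add_sum_erase _ _ (a := μ) (by simp [hμ])] at h1
  have h8 := Nat.le_of_dvd (Nat.pos_of_ne_zero h7) (h4 μ hμ)
  have h9 : ∀ ν, ν ≠ 1 → ν ≠ μ → c ν = 0 := fun ν h h' => by
    by_contra h10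
    have := Nat.le_of_dvd (Nat.pos_of_ne_zero h10) (h4 ν h)
    have := Finset.single_le_sum (f := c) (s := (Finset.univ.erase 1).erase μ) (fun _ _ => Nat.zero_le _)
      (a := ν) (by simp [h, h'])
    omega
  have h10 : c μ = p := by
    obtain ⟨k, hk⟩ := h4 μ hμ
    have : k < 2 := lt_of_mul_lt_mul_left (a := p) (by omega) (Nat.zero_le _)
    interval_cases k <;> omega
  have h11 := h3 a
  rw [Finset.prod_eq_single μ (fun ν _ hν => by
    by_cases e : ν = 1
    · simp [e]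
    · simp [h9 ν e hν]) (by simp), h10] at h11
  have h12 : (μ a : ℂ) ^ orderOf y = 1 := by
    rw [← Units.val_pow_eq_pow_val, ← map_pow, show a ^ orderOf y = 1 from Subtype.ext (pow_orderOf_eq_one y)]; simp
  have h13 := pow_gcd_eq_one.2 ⟨h11, h12⟩
  rw [(Nat.Prime.coprime_iff_not_dvd hpp).2 hy, pow_one] at h13
  exact hμ (lc_eq_one (Units.ext h13))

theorem norm_sum_normal {χ : G → ℂ} (hχ : IsCharacter G χ) (N : Subgroup G) [N.Normal] [Fintype N] (s : G) :
    ‖∑ n : N, χ (n * s)‖ ≤ (∑ n : N, χ n).re := by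
  have := Fintype.ofFinite G
  obtain ⟨c, -, rfl⟩ := hχ.exists_coeff
  simp only [Finset.sum_apply, Pi.smul_apply, smul_eq_mul]
  rw [Finset.sum_comm, Finset.sum_comm (s := Finset.univ (α := N)), Complex.re_sum]
  refine (norm_sum_le _ _).trans (Finset.sum_le_sum fun ψ _ => ?_)
  rw [← Finset.mul_sum, ← Finset.mul_sum, norm_mul, Complex.norm_natCast, ← Complex.ofReal_natCast,
    Complex.re_ofReal_mul]
  refine mul_le_mul_of_nonneg_left ?_ (Nat.cast_nonneg _)
  by_cases h : N ≤ charKer ψ.1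
  · rw [Finset.sum_congr rfl fun (n : N) _ => h n.2 s,
      Finset.sum_congr rfl fun (n : N) _ => ψ.2.isCharacter.mem_charKer.1 (h n.2)]
    have := ψ.2.isCharacter.norm_le s
    simp only [dg_cast, Finset.sum_const, nsmul_eq_mul, norm_mul, Complex.norm_natCast] at this ⊢
    simpa using mul_le_mul_of_nonneg_left this (Nat.cast_nonneg _)
  · have := ψ.2.sum_mul_eq_zero h 1
    simp only [mul_one] at this
    rw [ψ.2.sum_mul_eq_zero h, this]; simp

theorem norm_sum_le_re {χ : G → ℂ} (hχ : IsCharacter G χ) (P : Subgroup G) [Fintype P] {s : G}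
    (hs : s ∈ normalizer (P : Set G)) : ‖∑ x : P, χ (x * s)‖ ≤ (∑ x : P, χ x).re := by
  have := Fintype.ofFinite (P.subgroupOf (normalizer (P : Set G)))
  have h := norm_sum_normal (hχ.res (normalizer (P : Set G))) (P.subgroupOf _) ⟨s, hs⟩
  have e := (subgroupOfEquivOfLe (le_normalizer (H := P))).toEquiv
  rw [← (subgroupOfEquivOfLe (le_normalizer (H := P))).toEquiv.sum_comp,
    ← (subgroupOfEquivOfLe (le_normalizer (H := P))).toEquiv.sum_comp]
  exact h

theorem comm_of_card {P : Subgroup G} {p : ℕ} (hpp : p.Prime) (hP : Nat.card P = p) {a b : G} (ha : a ∈ P) (hb : b ∈ P) :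
    Commute a b := by
  have := Fact.mk hpp
  have := isCyclic_of_prime_card hP
  exact congrArg Subtype.val (IsMulCommutative.is_comm.comm (⟨a, ha⟩ : P) ⟨b, hb⟩)

theorem zpowers_eq {P : Subgroup G} {p : ℕ} (hpp : p.Prime) (hP : Nat.card P = p) {x : G} (hx : x ∈ P) (h1 : x ≠ 1) :
    zpowers x = P := by
  refine eq_of_le_of_card_ge (zpowers_le.2 hx) ?_
  rcases (Nat.dvd_prime hpp).1 (hP ▸ card_dvd_of_le (zpowers_le.2 hx)) with h | h
  · exact absurd (zpowers_eq_bot.1 (card_eq_one.1 h)) h1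
  · rw [h, hP]

theorem order_eq {P : Subgroup G} {p : ℕ} (hpp : p.Prime) (hP : Nat.card P = p) {x : G} (hx : x ∈ P) (h1 : x ≠ 1) :
    orderOf x = p := by rw [← Nat.card_zpowers, zpowers_eq hpp hP hx h1, hP]

theorem mem_cent {P : Subgroup G} {p : ℕ} (hpp : p.Prime) (hP : Nat.card P = p) {x : G} (hx : x ∈ P) (h1 : x ≠ 1)
    {s : G} (h : Commute x s) : s ∈ centralizer (P : Set G) := by
  rw [← zpowers_eq hpp hP hx h1]
  rintro _ ⟨k, rfl⟩
  exact h.zpow_left k

theorem exists_conj_mul {P : Subgroup G} {p : ℕ} (hpp : p.Prime) (hP : Nat.card P = p) {s : G}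
    (hs : s ∈ normalizer (P : Set G)) (hc : s ∉ centralizer (P : Set G)) {x : G} (hx : x ∈ P) :
    ∃ z ∈ P, z * s * z⁻¹ = x * s := by
  have hm : ∀ z ∈ P, s * z * s⁻¹ ∈ P := fun z hz => (mem_normalizer_iff.1 hs z).1 hz
  let f : P → P := fun z => ⟨z * (s * (z : G)⁻¹ * s⁻¹), mul_mem z.2 (hm _ (inv_mem z.2))⟩
  have hf : Function.Injective f := fun a b h => by
    by_contra hne
    have h1 : (a : G) * (s * (a : G)⁻¹ * s⁻¹) = b * (s * (b : G)⁻¹ * s⁻¹) := congrArg Subtype.val h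
    refine hc (mem_cent hpp hP (mul_mem (inv_mem b.2) a.2) (fun e => hne (Subtype.ext (inv_mul_eq_one.1 e).symm)) ?_)
    have h2 : (b : G)⁻¹ * a = s * ((b : G)⁻¹ * a) * s⁻¹ := by
      calc (b : G)⁻¹ * a = (b : G)⁻¹ * (a * (s * (a : G)⁻¹ * s⁻¹)) * (s * a * s⁻¹) := by group
        _ = _ := by rw [h1]; group
    show _ * s = s * _
    nth_rw 1 [h2]; group
  obtain ⟨z, hz⟩ := Finite.injective_iff_surjective.1 hf ⟨x, hx⟩
  refine ⟨z, z.2, ?_⟩
  rw [← show (z : G) * (s * (z : G)⁻¹ * s⁻¹) = x from congrArg Subtype.val hz]; group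

/-- the value at an element normalising but not centralising `P` is bounded by the dimension of the fixed space -/
theorem norm_le_fix {χ : G → ℂ} (hχ : IsCharacter G χ) {P : Subgroup G} [Fintype P] {p : ℕ} (hpp : p.Prime)
    (hP : Nat.card P = p) {s : G} (hs : s ∈ normalizer (P : Set G)) (hc : s ∉ centralizer (P : Set G)) :
    p * ‖χ s‖ ≤ (∑ x : P, χ x).re := by
  have h := norm_sum_le_re hχ P hs
  rw [Finset.sum_congr rfl (g := fun _ => χ s) fun x _ => by
    obtain ⟨z, -, hz⟩ := exists_conj_mul hpp hP hs hc x.2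
    rw [← hz, hχ.apply_conj]] at h
  simpa [← Nat.card_eq_fintype_card, hP] using h

end Cfsg.Agent.Perm.Br
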