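import Cfsg.Agent.Lib.Perm.Br2

/-! Consequences of the block data. -/

set_option autoImplicit false

namespace Cfsg.Agent.Perm.Br

open Subgroup
open Cfsg.Agent.Char
open scoped Classical ComplexConjugate

variable {G : Type*} [Group G] [Finite G]

theorem sum_lc_zero {A : Type*} [Group A] [Fintype A] {m : A →* ℂˣ} (h : m ≠ 1) : ∑ x, (m x : ℂ) = 0 := by
  have := classInner_lc m 1
  rw [if_neg h, classInner] at this
  simpa [card_ne_zero'] using this

theorem exists_m {χ : G → ℂ} (hχ : IsCharacter G χ) (P : Subgroup G) [Fintype P] :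
    ∃ m : ℕ, ∑ x : P, χ x = Nat.card P * m := by
  obtain ⟨m, hm⟩ := (hχ.res P).classInner_eq_nat isCharacter_one
  rw [classInner_one_right] at hm
  exact ⟨m, by rw [← hm, mul_inv_cancel_left₀ (card_ne_zero' P)]⟩

theorem sum_split {M : Type*} [AddCommMonoid M] {X Y : Finset (IrrCharacter G)} (h : Disjoint X Y) (h1 : irrOne G ∉ X)
    (h2 : irrOne G ∉ Y) (F : IrrCharacter G → M) :
    ∑ χ, F χ = F (irrOne G) + ∑ χ ∈ X, F χ + ∑ χ ∈ Y, F χ + ∑ χ ∈ (insert (irrOne G) (X ∪ Y))ᶜ, F χ := by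
  rw [← Finset.sum_add_sum_compl (insert (irrOne G) (X ∪ Y)), Finset.sum_insert (by simp [h1, h2]), Finset.sum_union h,
    ← add_assoc]

theorem cnt_eq {P : Subgroup G} {p : ℕ} (hpp : p.Prime) (hP : Nat.card P = p) (hC : centralizer (P : Set G) = P)
    {x : G} (hx : x ∈ P) (hx1 : x ≠ 1) (h2 : p ≠ 2) {u : G} (hu : orderOf u = 2) :
    Nat.card {q : G × G // IsConj u q.1 ∧ IsConj u q.2 ∧ q.1 * q.2 = x} =
      if ∃ t ∈ normalizer (P : Set G), IsConj u t then p else 0 := by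
  have ho : ∀ a, IsConj u a → a * a = 1 ∧ a ∉ P := fun a ha => by
    have h3 : orderOf a = 2 := by
      obtain ⟨c, rfl⟩ := isConj_iff.1 ha
      rw [← hu]; exact (MulAut.conj c).orderOf_eq u
    refine ⟨by rw [← sq, ← h3, pow_orderOf_eq_one], fun h4 => h2 ?_⟩
    rw [← order_eq hpp hP h4 (by rintro rfl; simp at h3), h3]
  have hinv : ∀ a b, IsConj u a → IsConj u b → a * b = x → a * x * a⁻¹ = x⁻¹ := by
    rintro a b ha hb rfl
    rw [← mul_assoc, (ho a ha).1, one_mul, mul_inv_rev, inv_eq_of_mul_eq_one_right (ho b hb).1]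
  split_ifs with h
  · obtain ⟨t, ht, hut⟩ := h
    have htc : t ∉ centralizer (P : Set G) := hC.symm ▸ (ho t hut).2
    have hc : ∀ z ∈ P, IsConj u (z * t) := fun z hz => by
      obtain ⟨w, -, hw⟩ := exists_conj_mul hpp hP ht htc hz
      exact hut.trans (isConj_iff.2 ⟨w, hw⟩)
    have hm : ∀ z ∈ P, t * z * t⁻¹ ∈ P := fun z hz => (mem_normalizer_iff.1 ht z).1 hz
    have hti : t⁻¹ = t := inv_eq_of_mul_eq_one_right (ho t hut).1
    have htx : t * x * t⁻¹ = x⁻¹ := by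
      rw [hti, eq_inv_iff_mul_eq_one]
      have := (ho _ (hc x hx)).1
      calc t * x * t * x = t * (x * t * (x * t)) * t⁻¹ := by group
        _ = _ := by rw [this, mul_one, mul_inv_cancel]
    rw [← hP]
    have k1 : ∀ z : P, IsConj u (t * (z : G)⁻¹ * x) := fun z => by
      have := hc _ (hm _ (mul_mem (inv_mem z.2) hx))
      rwa [inv_mul_cancel_right, ← mul_assoc] at this
    have k2 : ∀ z : P, z * t * (t * (z : G)⁻¹ * x) = x := fun z =>
      calc z * t * (t * (z : G)⁻¹ * x) = z * (t * t) * (z : G)⁻¹ * x := by group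
        _ = x := by rw [(ho t hut).1]; group
    refine (Nat.card_congr (Equiv.ofBijective (fun z : P => ⟨(z * t, t * (z : G)⁻¹ * x), hc _ z.2, k1 z, k2 z⟩)
      ⟨fun a b hab => ?_, ?_⟩)).symm
    · exact Subtype.ext (mul_right_cancel (b := t) (congrArg (fun q => q.1.1) hab))
    · rintro ⟨⟨a, b⟩, ha, hb, hab⟩
      have h3 := hinv a b ha hb hab
      have h4 : a * t ∈ P := by
        rw [← hC]
        refine mem_cent hpp hP hx hx1 ?_
        show x * (a * t) = a * t * x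
        calc x * (a * t) = (a * x * a⁻¹)⁻¹⁻¹⁻¹⁻¹⁻¹ * (a * t) := by rw [h3]; group
          _ = a * x⁻¹ * t := by group
          _ = _ := by rw [← htx]; group
      refine ⟨⟨_, h4⟩, Subtype.ext (Prod.ext ?_ ?_)⟩
      · show a * t * t = a
        rw [mul_assoc, (ho t hut).1, mul_one]
      · show t * (a * t)⁻¹ * x = b
        rw [← show a * b = x from hab]; group
  · rw [Nat.card_eq_zero]
    refine Or.inl ⟨fun ⟨⟨a, b⟩, ha, hb, hab⟩ => h ⟨a, ?_, ha⟩⟩
    have h3 := hinv a b ha hb hab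
    rw [← zpowers_eq hpp hP hx hx1]
    refine mem_normalizer_fintype ?_
    rintro _ ⟨k, rfl⟩
    rw [← conj_zpow, h3]
    exact zpow_mem (inv_mem (mem_zpowers x)) k

namespace BD

variable {p e : ℕ} {P : Subgroup G} {X Y : Finset (IrrCharacter G)} {δ : IrrCharacter G → ℤ} {ε : ℤ}
  {S : IrrCharacter G → Finset (P →* ℂˣ)} (h : BD p e P X Y δ ε S) {χ θ θ' : IrrCharacter G} {x y : G}
include h

theorem exists_x : ∃ x ∈ P, x ≠ 1 := by
  have : Nontrivial P := Finite.one_lt_card_iff_nontrivial.1 (h.card ▸ h.prime.one_lt)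
  obtain ⟨x, hx⟩ := exists_ne (1 : P)
  exact ⟨x, x.2, fun e => hx (Subtype.ext e)⟩

theorem reg_one : ¬ p ∣ orderOf (1 : G) := by simpa using h.prime.one_lt.ne'

theorem e_pos : 0 < e := by have := h.cardX; omega

theorem Y_ne : Y.Nonempty := Finset.card_pos.1 (Nat.pos_of_ne_zero fun h1 => by
  have := h.cardY; have := h.prime.one_lt; simp_all)

theorem dg_eq (h1 : θ ∈ Y) (h2 : θ' ∈ Y) : dg θ = dg θ' := by
  have := h.agree θ h1 θ' h2 1 h.reg_one
  rw [dg_cast, dg_cast] at this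
  exact_mod_cast this

theorem relZ (h1 : θ ∈ Y) : ε * dg θ = 1 + ∑ χ ∈ X, δ χ * dg χ := by
  have := h.rel θ h1 1 h.reg_one
  simp only [dg_cast] at this
  exact_mod_cast this

theorem ne_one (h1 : χ ∈ X ∪ Y) : χ ≠ irrOne G := by
  rintro rfl
  simp [h.oneX, h.oneY] at h1

theorem mX [Fintype P] (h1 : χ ∈ X) : ∑ x : P, χ.1 x = dg χ + (p - 1) * δ χ := by
  rw [← Finset.add_sum_erase _ _ (Finset.mem_univ 1), Finset.sum_congr rfl (g := fun _ => (δ χ : ℂ)) fun (x : P) hx =>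
    h.valX χ h1 x x.2 fun e => (Finset.mem_erase.1 hx).1 (Subtype.ext e)]
  simp [dg_cast, ← Nat.card_eq_fintype_card, h.card, h.prime.pos]

theorem mY [Fintype P] (h1 : θ ∈ Y) : ∑ x : P, θ.1 x = dg θ - ε * e := by
  rw [← Finset.add_sum_erase _ _ (Finset.mem_univ 1), Finset.sum_congr rfl fun x hx =>
    h.valY θ h1 x (Finset.mem_erase.1 hx).1, ← Finset.mul_sum, Finset.sum_comm,
    Finset.sum_congr rfl (g := fun _ => (-1 : ℂ)) fun m hm => by
      have := sum_lc_zero (m := m) (by rintro rfl; exact h.oneS θ h1 hm)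
      rw [← Finset.add_sum_erase _ _ (Finset.mem_univ 1)] at this
      simp only [map_one, Units.val_one] at this
      linear_combination this]
  simp [dg_cast, h.cardS θ h1, sub_eq_add_neg]

theorem fixX (h1 : χ ∈ X) : ∃ m : ℕ, (dg χ : ℤ) + (p - 1) * δ χ = p * m := by
  have := Fintype.ofFinite P
  obtain ⟨m, hm⟩ := exists_m χ.2.isCharacter P
  rw [h.mX h1, h.card] at hm
  exact ⟨m, by exact_mod_cast hm⟩

theorem fixY (h1 : θ ∈ Y) : ∃ m : ℕ, (dg θ : ℤ) - ε * e = p * m := by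
  have := Fintype.ofFinite P
  obtain ⟨m, hm⟩ := exists_m θ.2.isCharacter P
  rw [h.mY h1, h.card] at hm
  exact ⟨m, by exact_mod_cast hm⟩

theorem dvdX (h1 : χ ∈ X) : (p : ℤ) ∣ dg χ - δ χ := by
  obtain ⟨m, hm⟩ := h.fixX h1
  exact ⟨m - δ χ, by linear_combination hm⟩

theorem e_lt : e < p := by
  have := h.cardY
  have := Nat.le_mul_of_pos_left e h.Y_ne.card_pos
  omega

theorem not_dvd (h1 : χ ∈ X ∪ Y) : ¬ p ∣ dg χ := fun h2 => by
  have h3 : (p : ℤ) ∣ dg χ := by exact_mod_cast h2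
  have h6 := h.prime.one_lt
  rcases Finset.mem_union.1 h1 with h1 | h1
  · have h4 := (dvd_sub_right h3).1 (h.dvdX h1)
    rcases h.sgn χ h1 with h5 | h5 <;> simp [h5, Int.natCast_dvd] at h4 <;> omega
  · obtain ⟨m, hm⟩ := h.fixY h1
    have h4 := (dvd_sub_right h3).1 ⟨_, hm⟩
    have := h.e_pos
    have := h.e_lt
    rcases h.esgn with h5 | h5 <;> simp [h5, Int.natCast_dvd_natCast] at h4 <;> exact absurd (Nat.le_of_dvd ‹_› h4) (by omega)

theorem val_ne (h1 : χ ∈ X ∪ Y) (hx : x ∈ P) : χ.1 x ≠ 0 :=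
  χ.2.isCharacter.ne_zero_of_not_dvd h.prime (k := 1) (by
    rw [pow_one, ← h.card]; exact congrArg Subtype.val (pow_card_eq_one' (x := (⟨x, hx⟩ : P)))) (dg_cast χ) (h.not_dvd h1)

theorem sumY (hx : x ∈ P) (hx1 : x ≠ 1) : ∑ θ ∈ Y, θ.1 x = -ε := by
  have := Fintype.ofFinite P
  have hc : ∀ a b : P, a * b = b * a := fun a b => Subtype.ext (comm_of_card h.prime h.card a.2 b.2)
  have hd : (Y : Set (IrrCharacter G)).PairwiseDisjoint S := fun θ h1 θ' h2 h3 => h.disjS θ h1 θ' h2 h3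
  have h1 : (⟨x, hx⟩ : P) ≠ 1 := fun e => hx1 (congrArg Subtype.val e)
  rw [Finset.sum_congr rfl fun θ hθ => h.valY θ hθ ⟨x, hx⟩ h1, ← Finset.mul_sum, ← Finset.sum_biUnion hd,
    Finset.eq_of_subset_of_card_le (s := Y.biUnion S) (t := Finset.univ.erase 1), Blk.sum_erase_lc hc h1]
  · simp
  · intro m hm
    obtain ⟨θ, h2, h3⟩ := Finset.mem_biUnion.1 hm
    exact Finset.mem_erase.2 ⟨by rintro rfl; exact h.oneS θ h2 h3, Finset.mem_univ _⟩
  · rw [Finset.card_biUnion hd, Finset.sum_congr rfl h.cardS, Finset.card_erase_of_mem (Finset.mem_univ _),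
      Finset.card_univ, ← Nat.card_eq_fintype_card, card_lc hc, h.card, ← h.cardY]
    simp

theorem sq_le (h1 : θ ∈ Y) : 1 + ∑ χ ∈ X, dg χ ^ 2 + Y.card * dg θ ^ 2 ≤ Nat.card G := by
  rw [← sum_charDegree_sq, sum_split h.disj h.oneX h.oneY,
    Finset.sum_congr rfl (s₁ := Y) (g := fun _ => dg θ ^ 2) fun θ' h2 => by rw [h.dg_eq h1 h2]]
  simp [charDegree]

theorem cent_eq (hC : centralizer (P : Set G) = P) (hx : x ∈ P) (hx1 : x ≠ 1) : centralizer ({x} : Set G) = P :=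
  le_antisymm (fun _ hs => hC ▸ mem_cent h.prime h.card hx hx1 (mem_centralizer_singleton_iff.1 hs).symm)
    fun _ hs => mem_centralizer_singleton_iff.2 (comm_of_card h.prime h.card hs hx)

theorem zero (hC : centralizer (P : Set G) = P) (hx : x ∈ P) (hx1 : x ≠ 1) (h1 : χ ∉ insert (irrOne G) (X ∪ Y)) :
    χ.1 x = 0 := by
  have h2 := column_orthogonality x x
  have h3 := h.sq x hx hx1
  rw [if_pos (IsConj.refl x), h.cent_eq hC hx hx1, h.card, sum_split h.disj h.oneX h.oneY, ← h3,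
    Finset.sum_union h.disj] at h2
  simp only [irrOne_apply, map_one, mul_one, add_assoc, add_eq_left, Complex.mul_conj, add_right_inj] at h2
  norm_cast at h2
  exact Complex.normSq_eq_zero.1 ((Finset.sum_eq_zero_iff_of_nonneg fun _ _ => Complex.normSq_nonneg _).1 h2 χ
    (Finset.mem_compl.2 h1))

theorem big (h1 : χ ∈ X ∪ Y) (hy : y ∈ centralizer (P : Set G)) (hp : ¬ p ∣ orderOf y) (hne : χ.1 y ≠ χ.1 1) :
    2 * p < dg χ :=
  stanton h.perf χ.2.isCharacter h.prime h.card hp (fun x hx => hy x hx) (fun x hx hx1 _ ⟨k, hk⟩ =>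
    h.const χ h1 x hx hx1 _ (hk ▸ Commute.zpow_right (hy x hx) k)
      fun h2 => hp (h2.trans (orderOf_dvd_of_mem_zpowers ⟨k, hk⟩))) hne (dg_cast χ) (h.not_dvd h1)

theorem not_full (h1 : χ ∈ X ∪ Y) (hy : y ∈ centralizer (P : Set G)) {r n : ℕ} (hr : r.Prime) (hrp : r ≠ p)
    (ho : orderOf y = r) (hn : ¬ r ^ (n + 1) ∣ Nat.card G) : ¬ r ^ n ∣ dg χ := fun h2 => by
  obtain ⟨x, hx, hx1⟩ := h.exists_x
  have hc : Commute x y := hy x hx
  have h3 : ¬ p ∣ orderOf y := ho ▸ fun h4 => hrp ((Nat.prime_dvd_prime_iff_eq h.prime hr).1 h4).symm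
  refine h.val_ne h1 hx (h.const χ h1 x hx hx1 y hc h3 ▸ χ.2.eq_zero_of_defect_zero hr hn (dg_cast χ) h2 ?_)
  rw [hc.orderOf_mul_eq_mul_orderOf_of_coprime (by
    rw [order_eq h.prime h.card hx hx1]; exact (h.prime.coprime_iff_not_dvd).2 h3), ho]
  exact dvd_mul_left _ _

/-- class multiplication by an involution -/
theorem count (hC : centralizer (P : Set G) = P) (h2 : p ≠ 2) {u : G} (hu : orderOf u = 2) (h1 : θ ∈ Y) :
    ((if ∃ t ∈ normalizer (P : Set G), IsConj u t then p else 0 : ℕ) : ℂ) * Nat.card (centralizer ({u} : Set G)) ^ 2 =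
      Nat.card G * (1 + ∑ χ ∈ X, δ χ * χ.1 u ^ 2 / dg χ - ε * θ.1 u ^ 2 / dg θ) := by
  obtain ⟨x, hx, hx1⟩ := h.exists_x
  have hu2 : ¬ p ∣ orderOf u := hu ▸ fun h3 => h2 ((Nat.prime_dvd_prime_iff_eq h.prime Nat.prime_two).1 h3)
  rw [← cnt_eq h.prime h.card hC hx hx1 h2 hu, card_class_mul, sum_split h.disj h.oneX h.oneY,
    Finset.sum_eq_zero (s := _ᶜ) fun χ hχ => by rw [h.zero hC hx hx1 (Finset.mem_compl.1 hχ)]; simp,
    Finset.sum_congr rfl (s₁ := X) (g := fun χ => δ χ * χ.1 u ^ 2 / dg χ) fun χ hχ => by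
      rw [h.valX χ hχ x hx hx1, dg_cast]; simp; ring,
    Finset.sum_congr rfl (s₁ := Y) (g := fun χ => θ.1 u ^ 2 / dg θ * conj (χ.1 x)) fun χ hχ => by
      rw [h.agree χ hχ θ h1 u hu2, dg_cast, h.dg_eq hχ h1]; ring,
    ← Finset.mul_sum, ← map_sum, h.sumY hx hx1, ← (centralizer ({u} : Set G)).index_mul_card]
  have := card_ne_zero' (centralizer ({u} : Set G))
  have : ((centralizer ({u} : Set G)).index : ℂ) ≠ 0 := by exact_mod_cast index_ne_zero_of_finite
  simp only [irrOne_apply, map_one, map_neg, map_intCast]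
  push_cast
  field_simp
  ring

theorem boundX (h1 : χ ∈ X) {s : G} (hs : s ∈ normalizer (P : Set G)) (hc : s ∉ centralizer (P : Set G)) :
    p * ‖χ.1 s‖ ≤ dg χ + (p - 1) * δ χ := by
  have := Fintype.ofFinite P
  simpa [h.mX h1] using norm_le_fix χ.2.isCharacter h.prime h.card hs hc

theorem boundY (h1 : θ ∈ Y) {s : G} (hs : s ∈ normalizer (P : Set G)) (hc : s ∉ centralizer (P : Set G)) :
    p * ‖θ.1 s‖ ≤ dg θ - ε * e := by
  have := Fintype.ofFinite P
  simpa [h.mY h1] using norm_le_fix θ.2.isCharacter h.prime h.card hs hc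

end BD

end Cfsg.Agent.Perm.Br
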