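import Cfsg.Agent.Lib.Perm.Br3
import Cfsg.Agent.Lib.Perm.SylNum3

/-! Complement of a self-centralising Sylow subgroup of prime order; determinants; simple groups. -/

set_option autoImplicit false

namespace Cfsg.Agent.Perm.Br

open Subgroup
open Cfsg.Agent.Char
open scoped Classical ComplexConjugate

variable {G : Type*} [Group G] [Finite G]

theorem exists_compl_gen {P : Subgroup G} {p e : ℕ} (hpp : p.Prime) (hP : Nat.card P = p)
    (hC : centralizer (P : Set G) = P) (he : (centralizer (P : Set G)).relIndex (normalizer (P : Set G)) = e) :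
    ∃ s ∈ normalizer (P : Set G), orderOf s = e ∧ (∀ k : ℤ, s ^ k ∈ P → s ^ k = 1) ∧
      ∀ n ∈ normalizer (P : Set G), ∃ z ∈ P, ∃ k : ℕ, n = z * s ^ k := by
  have := Fact.mk hpp
  have := isCyclic_of_prime_card hP
  have hc : IsCyclic (MulAut P) := (IsCyclic.mulAutMulEquiv P).isCyclic.2 (by rw [hP]; infer_instance)
  let φ := P.normalizerMonoidHom
  have hk : ∀ n, φ n = 1 ↔ (n : G) ∈ P := fun n => by
    rw [← MonoidHom.mem_ker, normalizerMonoidHom_ker, mem_subgroupOf, hC]
  have hr : Nat.card φ.range = e := by rw [← index_ker, normalizerMonoidHom_ker]; exact he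
  obtain ⟨⟨_, s, rfl⟩, hs⟩ := IsCyclic.exists_ofOrder_eq_natCard (α := φ.range)
  rw [hr, ← Subgroup.orderOf_coe] at hs
  have hd : e ∣ p - 1 := he ▸ SylNum.relIndex_centralizer_dvd hpp hP
  have hcop : e.Coprime p := (Nat.Coprime.coprime_dvd_left hd
    ((Nat.coprime_self_sub_left hpp.pos).2 (Nat.coprime_one_left p)))
  have h1 : orderOf (φ (s ^ p)) = e := by rw [map_pow, Nat.Coprime.orderOf_pow (hs.symm ▸ hcop), hs]
  have h2 : (s : G) ^ e ∈ P := (hk (s ^ e)).1 (by rw [map_pow, ← hs]; exact pow_orderOf_eq_one _)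
  have h3 : ((s : G) ^ p) ^ e = 1 := by
    rw [← pow_mul, mul_comm, pow_mul, ← hP]
    exact congrArg Subtype.val (pow_card_eq_one' (x := (⟨_, h2⟩ : P)))
  have h4 : orderOf ((s : G) ^ p) = e := Nat.dvd_antisymm (orderOf_dvd_of_pow_eq_one h3) (by
    rw [← h1, ← coe_pow, Subgroup.orderOf_coe]; exact orderOf_map_dvd _ _)
  refine ⟨(s : G) ^ p, (s ^ p).2, h4, fun k h5 => ?_, fun n hn => ?_⟩
  · have := (hk ((s ^ p) ^ k)).2 h5
    rw [map_zpow, ← orderOf_dvd_iff_zpow_eq_one, h1] at this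
    rwa [← orderOf_dvd_iff_zpow_eq_one, h4]
  · have h5 : zpowers (φ (s ^ p)) = φ.range := eq_of_le_of_card_ge (zpowers_le.2 ⟨_, rfl⟩) (by
      rw [Nat.card_zpowers, h1, hr])
    obtain ⟨k, hk'⟩ := (mem_powers_iff_mem_zpowers).2 (h5.ge ⟨⟨n, hn⟩, rfl⟩)
    refine ⟨n * (((s : G) ^ p) ^ k)⁻¹, (hk (⟨n, hn⟩ * ((s ^ p) ^ k)⁻¹)).1 ?_, k, by simp⟩
    rw [map_mul, map_inv, map_pow, ← hk', mul_inv_cancel]

theorem prod_lc {s : G} (h : Even (orderOf s)) : ∏ ω : zpowers s →* ℂˣ, (ω ⟨s, mem_zpowers s⟩ : ℂ) = -1 := by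
  have h0 := orderOf_pos s
  have hz := Complex.isPrimitiveRoot_exp _ h0.ne'
  have hi : Function.Injective fun ω : zpowers s →* ℂˣ => (ω ⟨s, mem_zpowers s⟩ : ℂ) := fun a b hab =>
    mul_inv_eq_one.1 (lc_eq_one (by simp [Units.ext hab]))
  have h1 := congrArg (Polynomial.eval 0) (Polynomial.X_pow_sub_one_eq_prod h0 hz)
  rw [← Finset.prod_image (f := fun z => z) fun a _ b _ hab => hi hab,
    Finset.eq_of_subset_of_card_le (s := Finset.image _ _) (t := Polynomial.nthRootsFinset (orderOf s) 1)]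
  · simp only [Polynomial.eval_sub, Polynomial.eval_pow, Polynomial.eval_X, zero_pow h0.ne', Polynomial.eval_one,
      Polynomial.eval_prod, Polynomial.eval_C, zero_sub] at h1
    rw [h1, Finset.prod_neg, hz.card_nthRootsFinset, h.neg_one_pow, one_mul]
  · intro z hz
    obtain ⟨ω, -, rfl⟩ := Finset.mem_image.1 hz
    rw [Polynomial.mem_nthRootsFinset h0, ← Units.val_pow_eq_pow_val, ← map_pow,
      show (⟨s, mem_zpowers s⟩ : zpowers s) ^ orderOf s = 1 from Subtype.ext (pow_orderOf_eq_one s)]; simp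
  · rw [hz.card_nthRootsFinset, Finset.card_image_of_injective _ hi, Finset.card_univ, ← Nat.card_eq_fintype_card,
      card_lc (zp_comm s), Nat.card_zpowers]

/-- a multiple of the regular character of a cyclic subgroup of even order -/
theorem even_of_reg (hp : commutator G = ⊤) {χ : G → ℂ} (hχ : IsCharacter G χ) {s : G} (h : Even (orderOf s)) {t : ℕ}
    (h1 : χ 1 = t * orderOf s) (h0 : ∀ k : ℤ, s ^ k ≠ 1 → χ (s ^ k) = 0) : Even t := by
  have := Fintype.ofFinite (zpowers s)
  obtain ⟨c, h2, -, h3⟩ := mult hp hχ (zp_comm s) (zpowers s).subtype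
  have h4 : ∀ ω, c ω = t := fun ω => by
    have := h2 ω
    rw [classInner, Finset.sum_eq_single 1 (fun ⟨_, k, hk⟩ _ hne => by
      subst hk; simp [h0 k fun e => hne (Subtype.ext e)]) (by simp), Nat.card_zpowers] at this
    have h5 : (orderOf s : ℂ) ≠ 0 := by exact_mod_cast (orderOf_pos s).ne'
    simp only [map_one, h1, lc_apply, Units.val_one, mul_one] at this
    field_simp at this
    exact_mod_cast this.symm
  have h5 := h3 ⟨s, mem_zpowers s⟩
  simp only [h4] at h5
  rwa [Finset.prod_pow, prod_lc h, neg_one_pow_eq_one_iff_even (by norm_num)] at h5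

theorem BD.even_t {p e : ℕ} {P : Subgroup G} {X Y : Finset (IrrCharacter G)} {δ : IrrCharacter G → ℤ} {ε : ℤ}
    {S : IrrCharacter G → Finset (P →* ℂˣ)} (h : BD p e P X Y δ ε S) (hC : centralizer (P : Set G) = P) (h2 : p ≠ 2)
    (he : 1 < e) {χ : IrrCharacter G} (h1 : χ ∈ X ∪ Y) (hd : dg χ + 1 = p) : Even Y.card := by
  obtain ⟨s, hs, ho, hk, -⟩ := exists_compl_gen h.prime h.card hC h.he
  have h3 := h.cardY
  by_contra h4
  have h5 : Even (Y.card * e) := by
    have := h.prime.odd_of_ne_two h2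
    rw [← h3] at this
    exact Nat.not_odd_iff_even.1 (Nat.odd_add_one.1 this)
  refine h4 (even_of_reg h.perf χ.2.isCharacter (ho ▸ (Nat.even_mul.1 h5).resolve_left h4) (by
    rw [dg_cast, ho]; norm_cast; omega) fun k hk1 => ?_)
  have hc : s ^ k ∉ centralizer (P : Set G) := by rw [hC]; exact fun e => hk1 (hk k e)
  have hp : (0 : ℝ) < p := by exact_mod_cast h.prime.pos
  have hd' : (dg χ : ℤ) = p - 1 := by omega
  have h6 := h.prime.two_le
  rw [← norm_le_zero_iff, ← mul_le_mul_iff_right₀ hp, mul_zero]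
  rcases Finset.mem_union.1 h1 with h1 | h1
  · refine (h.boundX h1 (zpow_mem hs k) hc).trans ?_
    obtain ⟨m, hm⟩ := h.dvdX h1
    rcases h.sgn χ h1 with h7 | h7
    · rw [h7, hd'] at hm
      have : (p : ℤ) ∣ 2 := ⟨1 - m, by linear_combination -hm⟩
      exact absurd ((Nat.prime_dvd_prime_iff_eq h.prime Nat.prime_two).1 (by exact_mod_cast this)) h2
    · rw [h7, ← hd]; simp
  · refine (h.boundY h1 (zpow_mem hs k) hc).trans ?_
    obtain ⟨m, hm⟩ := h.fixY h1
    have := h.e_lt
    have h8 : (dg χ : ℤ) - ε * e ≤ 0 := by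
      rw [hm]
      rw [hd'] at hm
      rcases h.esgn with h7 | h7 <;> subst h7
      · have : (m : ℤ) < 1 := lt_of_mul_lt_mul_left (a := (p : ℤ)) (by omega) (by positivity)
        simp [show m = 0 by omega]
      · have : (m : ℤ) < 2 := lt_of_mul_lt_mul_left (a := (p : ℤ)) (by omega) (by positivity)
        have : (1 : ℤ) < m := lt_of_mul_lt_mul_left (a := (p : ℤ)) (by omega) (by positivity)
        omega
    exact_mod_cast h8

section Simple
variable [IsSimpleGroup G]

theorem perf_of_simple (hG : ¬ IsMulCommutative G) : commutator G = ⊤ :=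
  (Subgroup.Normal.eq_bot_or_eq_top inferInstance).resolve_left fun h =>
    hG ⟨⟨fun a b => commutatorElement_eq_one_iff_mul_comm.1 (mem_bot.1 (h ▸ commutator_mem_commutator trivial trivial))⟩⟩

theorem noncomm_of_card (h : ¬ (Nat.card G).Prime) : ¬ IsMulCommutative G := fun hc =>
  h (@IsSimpleGroup.prime_card G { (inferInstance : Group G) with mul_comm := hc.1.1 } _)

theorem faithful {χ : IrrCharacter G} (h : χ ≠ irrOne G) {g : G} (hg : g ≠ 1) : χ.1 g ≠ χ.1 1 := fun e =>
  hg (mem_bot.1 ((χ.2.isCharacter.normal_charKer.eq_bot_or_eq_top.resolve_right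
    (χ.2.charKer_ne_top fun e' => h (Subtype.ext e'))) ▸ χ.2.isCharacter.mem_charKer.2 e))

theorem exists_emb (hG : ¬ IsMulCommutative G) (H : Subgroup G) (hH : H ≠ ⊤) :
    ∃ f : G →* alternatingGroup (Fin H.index), Function.Injective f := by
  let e : G ⧸ H ≃ Fin H.index := Finite.equivFinOfCardEq rfl
  let f : G →* Equiv.Perm (Fin H.index) := e.permCongrHom.toMonoidHom.comp (MulAction.toPermHom G (G ⧸ H))
  have h1 : ∀ g, f g ∈ alternatingGroup _ := fun g =>
    Abelianization.commutator_subset_ker (Equiv.Perm.sign.comp f) (perf_of_simple hG ▸ mem_top g)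
  refine ⟨f.codRestrict _ h1, fun a b hab => ?_⟩
  have h2 : (MulAction.toPermHom G (G ⧸ H)).ker = ⊥ := (Subgroup.Normal.eq_bot_or_eq_top inferInstance).resolve_right
    fun h => hH (top_le_iff.1 (h ▸ H.normalCore_eq_ker ▸ H.normalCore_le))
  exact (MonoidHom.ker_eq_bot_iff _).1 h2 (e.permCongrHom.injective (congrArg Subtype.val hab))

theorem two_mul_dvd (hG : ¬ IsMulCommutative G) (H : Subgroup G) (hH : H ≠ ⊤) : 2 * Nat.card G ∣ H.index.factorial := by
  obtain ⟨f, hf⟩ := exists_emb hG H hH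
  have : Nontrivial (Fin H.index) := Fin.nontrivial_iff_two_le.2 (one_lt_index_of_ne_top hH)
  have h1 := two_mul_nat_card_alternatingGroup (α := Fin H.index)
  rw [Nat.card_perm, Nat.card_fin] at h1
  rw [← h1]
  exact mul_dvd_mul_left _ (card_dvd_of_injective f hf)

theorem normal_eq (hG : ¬ IsMulCommutative G) {p : ℕ} [hp : Fact p.Prime] {N : Subgroup G} (hN : N.Normal)
    (h : IsPGroup p N) : N = ⊥ := hN.eq_bot_or_eq_top.resolve_right fun e => by
  subst e
  have h1 := h.of_equiv topEquiv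
  have := h1.center_nontrivial
  refine hG ⟨⟨fun a b => ?_⟩⟩
  exact (mem_center_iff.1 (((Subgroup.Normal.eq_bot_or_eq_top inferInstance).resolve_left
    ((center G).nontrivial_iff_ne_bot.1 this)).ge (mem_top b)) a)

theorem one_lt_syl (hG : ¬ IsMulCommutative G) {p : ℕ} [hp : Fact p.Prime] (h : p ∣ Nat.card G) :
    1 < Nat.card (Sylow p G) := by
  by_contra h1
  have : Subsingleton (Sylow p G) := Finite.card_le_one_iff_subsingleton.1 (by omega)
  obtain ⟨P⟩ : Nonempty (Sylow p G) := inferInstance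
  exact P.ne_bot_of_dvd_card h (normal_eq hG P.normal_of_subsingleton P.2)

theorem syl_faithful (hG : ¬ IsMulCommutative G) {p : ℕ} [hp : Fact p.Prime] (h : p ∣ Nat.card G) (g : G)
    (hg : ∀ P : Sylow p G, g • P = P) : g = 1 := by
  have h1 := one_lt_syl hG h
  have h2 : (MulAction.toPermHom G (Sylow p G)).ker = ⊥ := (Subgroup.Normal.eq_bot_or_eq_top inferInstance).resolve_right
    fun e => by
      obtain ⟨P, Q, hPQ⟩ := Finite.one_lt_card_iff_nontrivial.1 h1
      obtain ⟨g, rfl⟩ := MulAction.exists_smul_eq G P Q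
      exact hPQ (congrArg (· P) (MonoidHom.mem_ker.1 (e.ge (mem_top g)))).symm
  exact mem_bot.1 (h2 ▸ MonoidHom.mem_ker.2 (Equiv.ext hg))

theorem not_burnside (hG : ¬ IsMulCommutative G) {p : ℕ} [hp : Fact p.Prime] (P : Sylow p G) (h : p ∣ Nat.card G) :
    ¬ normalizer ((P : Subgroup G) : Set G) ≤ centralizer ((P : Subgroup G) : Set G) := fun hN => by
  have h1 := MonoidHom.ker_transferSylow_isComplement' P hN
  rcases Subgroup.Normal.eq_bot_or_eq_top (inferInstance : (MonoidHom.transferSylow P hN).ker.Normal) with e | e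
  · rw [e, isComplement'_bot_left] at h1
    exact P.ne_bot_of_dvd_card h (normal_eq hG (h1 ▸ inferInstance) P.2)
  · rw [e, isComplement'_top_left] at h1
    exact P.ne_bot_of_dvd_card h h1

end Simple

end Cfsg.Agent.Perm.Br
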