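import Cfsg.Agent.Lib.Perm.Br4
import Cfsg.Agent.S0144
import Cfsg.Agent.S0204
import Cfsg.Agent.S1991

/-! A verified arithmetic sieve for the orders of simple groups. -/

set_option autoImplicit false

namespace Cfsg.Agent.Perm.Br

abbrev T4 := ℤ × ℤ × ℤ × ℤ

def ad (s o : T4) (j : ℕ) : T4 := (s.1 + j * o.1, s.2.1 + j * o.2.1, s.2.2.1 + j * o.2.2.1, s.2.2.2 + j * o.2.2.2)

def go (N : ℤ) (fin : T4 → Bool) : List T4 → ℕ → T4 → Bool
  | [], k, s => k == 0 && fin s
  | o :: os, k, s => (List.range (k + 1)).any fun j => decide ((ad s o j).2.1 < N) && go N fin os (k - j) (ad s o j)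

def dvs (B N : ℕ) : List ℕ :=
  (List.range B).flatMap fun d => if d * d ≤ N ∧ N % d = 0 then (if d * d = N then [d] else [d, N / d]) else []

def isP (B r : ℕ) : Bool := decide (2 ≤ r) && (List.range B).all fun d => decide (d < 2 ∨ r < d * d ∨ r % d ≠ 0)

def good (ps : List ℕ) (N p e w d : ℕ) : Bool :=
  decide ((if w = 1 then 2 else 2 * p + 1) ≤ d ∧ N / p % d = 0 ∧ d * d < N ∧
    ¬ (w = 1 ∧ (p - 1) / e % 2 = 1 ∧ d + 1 = p)) && ps.all fun r => decide (w % r ≠ 0 ∨ N / d % r = 0)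

def opt (N p d : ℕ) (δ v : ℤ) : T4 := (δ * d, d * d, δ * v, δ * v * v * (N / p / d : ℕ))

def opts (ds ps : List ℕ) (N p e w : ℕ) : List T4 :=
  ds.flatMap fun d : ℕ => [1, -1].flatMap fun δ : ℤ => if ((d : ℤ) - δ) % p = 0 && good ps N p e w d then
    if w = 1 ∧ e % 2 = 0 then (List.range (d / 2 + 1)).flatMap fun k : ℕ =>
      if p * |(d : ℤ) - 4 * k| ≤ d + (p - 1) * δ then [opt N p d δ (d - 4 * k)] else []
    else [opt N p d δ 0] else []

def fin (ds ps : List ℕ) (N p e w : ℕ) (s : T4) : Bool :=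
  [1, -1].any fun ε : ℤ => decide (0 < ε * (1 + s.1)) && good ps N p e w (1 + s.1).natAbs &&
    decide (1 + s.2.1 + ((p - 1) / e : ℕ) * (1 + s.1) ^ 2 ≤ N) &&
    (decide (¬ (w = 1 ∧ e % 2 = 0)) ||
      decide (p * |1 + s.2.2.1| ≤ ε * (1 + s.1 - e) ∧ (s.1 - s.2.2.1) % 4 = 0) && ds.any fun c =>
        decide ((c : ℤ) * c = (N / p : ℕ) + s.2.2.2 - ε * (1 + s.2.2.1) ^ 2 * (N / p / (1 + s.1).natAbs : ℕ) ∧
          (e = 2 → N / c % 2 = 1)))

def bchk (ds ps : List ℕ) (N p n : ℕ) : Bool :=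
  ds.all fun e => !decide (1 < e ∧ (p - 1) % e = 0 ∧ N % (n * p * e) = 0) ||
    !go N (fin ds ps N p e (N / (n * p * e))) (opts ds ps N p e (N / (n * p * e))) (e - 1) (0, 0, 0, 0)

def elim (ds ps : List ℕ) (N p n : ℕ) : Bool :=
  !decide (n % p = 1 ∧ 1 < n) || decide (n ≤ 30) && decide (n.factorial % (2 * N) ≠ 0) ||
    decide (N % (p * p) = 0 ∧ n ≤ p * p) || decide (5 ≤ p) && (ps.all fun r => decide (r = p ∨ N / n % r ≠ 0)) ||
    decide (N % (p * p) ≠ 0 ∧ p ≠ 2) && bchk ds ps N p n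

def chk' (ds ps : List ℕ) (N : ℕ) : Bool :=
  (ps.any fun p => ps.any fun q => ps.all fun r => decide (r = p ∨ r = q)) || ps.any fun p => ds.all (elim ds ps N p)

def chk (B N : ℕ) : Bool := decide (N % 4 ≠ 0) || chk' (dvs B N) ((dvs B N).filter (isP B)) N

theorem ad_eq (s o : T4) (j : ℕ) : ad s o j = s + j • o := by
  ext <;> simp [ad]

theorem go_sound {N : ℤ} {fin : T4 → Bool} (os : List T4) (m : Multiset T4) (s : T4) (h1 : ∀ o ∈ m, o ∈ os)
    (h2 : ∀ o ∈ m, 0 ≤ o.2.1) (h3 : (s + m.sum).2.1 < N) (h4 : fin (s + m.sum) = true) :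
    go N fin os m.card s = true := by
  induction os generalizing m s with
  | nil =>
    obtain rfl : m = 0 := Multiset.eq_zero_of_forall_notMem fun o ho => by simpa using h1 o ho
    simpa [go] using h4
  | cons o os ih =>
    have e := Multiset.filter_add_not (o = ·) m
    rw [Multiset.filter_eq] at e
    set m' := m.filter fun a => ¬ o = a
    have hs : m.sum = m.count o • o + m'.sum := by
      conv_lhs => rw [← e]
      simp
    have hc : m.card - m.count o = m'.card := by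
      have := congrArg Multiset.card e
      simp only [Multiset.card_add, Multiset.card_replicate] at this
      omega
    have h5 : ∀ a ∈ m', a ∈ m := fun a ha => (Multiset.mem_filter.1 ha).1
    rw [hs, ← add_assoc] at h3 h4
    simp only [go, List.any_eq_true, List.mem_range, Bool.and_eq_true, decide_eq_true_eq, ad_eq]
    refine ⟨m.count o, Nat.lt_succ_of_le (Multiset.count_le_card _ _), lt_of_le_of_lt ?_ h3, ?_⟩
    · have : 0 ≤ m'.sum.2.1 := Multiset.sum_induction (fun a : T4 => 0 ≤ a.2.1) m' (fun a b => add_nonneg) le_rfl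
        fun a ha => h2 a (h5 a ha)
      exact le_add_of_nonneg_right this
    · rw [hc]
      exact ih m' _ (fun a ha => (List.mem_cons.1 (h1 a (h5 a ha))).resolve_left
        fun e => (Multiset.mem_filter.1 ha).2 e.symm) (fun a ha => h2 a (h5 a ha)) h3 h4

theorem mem_dvs {B N n : ℕ} (h0 : 0 < N) (hB : N < B * B) : n ∈ dvs B N ↔ n ∣ N := by
  simp only [dvs, List.mem_flatMap, List.mem_range]
  constructor
  · rintro ⟨d, -, h⟩
    split_ifs at h with h1 h2
    · simp only [List.mem_singleton] at h; exact h ▸ Nat.dvd_of_mod_eq_zero h1.2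
    · simp only [List.mem_cons, List.not_mem_nil, or_false] at h
      rcases h with rfl | rfl
      · exact Nat.dvd_of_mod_eq_zero h1.2
      · exact Nat.div_dvd_of_dvd (Nat.dvd_of_mod_eq_zero h1.2)
    · simp at h
  · rintro ⟨k, rfl⟩
    rcases le_or_gt n k with h | h
    · have := Nat.mul_le_mul_left n h
      refine ⟨n, Nat.mul_self_lt_mul_self_iff.1 (by omega), ?_⟩
      rw [if_pos ⟨this, by simp⟩]
      split_ifs <;> simp
    · have hk : 0 < k := Nat.pos_of_mul_pos_left h0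
      have := Nat.mul_lt_mul_of_pos_right h hk
      refine ⟨k, Nat.mul_self_lt_mul_self_iff.1 (by omega), ?_⟩
      rw [if_pos ⟨this.le, by simp⟩, if_neg this.ne]
      simp [hk]

theorem isP_iff {B r : ℕ} (hB : r < B * B) : isP B r = true ↔ r.Prime := by
  simp only [isP, Bool.and_eq_true, decide_eq_true_eq, List.all_eq_true, List.mem_range, Nat.prime_def_le_sqrt,
    Nat.le_sqrt]
  refine and_congr_right fun _ => ⟨fun h m h1 h2 h3 => ?_, fun h m _ => ?_⟩
  · have := h m (Nat.mul_self_lt_mul_self_iff.1 (by omega))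
    have := Nat.mod_eq_zero_of_dvd h3
    omega
  · by_contra h1
    push Not at h1
    exact h m h1.1 h1.2.1 (Nat.dvd_of_mod_eq_zero h1.2.2)

end Cfsg.Agent.Perm.Br
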