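import Cfsg.Agent.Lib.Perm.Br6

/-! Degrees in the principal block when the number of Sylow subgroups is small. -/

set_option autoImplicit false

namespace Cfsg.Agent.Perm.Br

open Subgroup
open Cfsg.Agent.Char
open scoped Classical ComplexConjugate

variable {G : Type*} [Group G] [Finite G]

/-- Brauer's representation of `n` -/
def Rep (p n : ℕ) : Prop := ∃ h u : ℕ, 0 < h ∧ 0 < u ∧ n * (u + 1) = h * u * p + u ^ 2 + u + h

theorem rep_of_mul {p n u v : ℕ} (hp : 2 ≤ p) (hu : 0 < u) (hv : 2 ≤ v)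
    (h : ((u : ℤ) * p + 1) * (v * p - 1) = (p - 1) * (n * p + 1)) : Rep p n := by
  have h1 : ((n : ℤ) - u * v) * (p - 1) = (u + 1) * (v - 1) := by
    have : (p : ℤ) * (((n : ℤ) - u * v) * (p - 1)) = p * ((u + 1) * (v - 1)) := by linear_combination -h
    exact mul_left_cancel₀ (by omega) this
  have h2 : 0 < (n : ℤ) - u * v := by
    have : 0 < ((u : ℤ) + 1) * (v - 1) := mul_pos (by omega) (by omega)
    exact (pos_iff_pos_of_mul_pos (h1 ▸ this)).2 (by omega)
  obtain ⟨k, hk⟩ := Int.eq_ofNat_of_zero_le h2.le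
  refine ⟨k, u, by omega, hu, ?_⟩
  rw [hk] at h1
  have h3 : (n : ℤ) = k + u * v := by omega
  zify
  rw [h3]
  linear_combination -(u : ℤ) * h1

theorem pos_cases {p n D E : ℕ} (hp : 2 ≤ p) (hr : ¬ Rep p n) (h : (D : ℤ) * E = (p - 1) * (n * p + 1))
    (hD : (p : ℤ) ∣ D - 1) : D = 1 ∨ D = n * p + 1 := by
  obtain ⟨u, hu⟩ := hD
  have h0 : (0 : ℤ) < (p - 1) * (n * p + 1) := mul_pos (by omega) (by positivity)
  have hD0 : D ≠ 0 := by rintro rfl; rw [← h] at h0; simp at h0
  have hE0 : E ≠ 0 := by rintro rfl; rw [← h] at h0; simp at h0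
  have hu0 : 0 ≤ u := nonneg_of_mul_nonneg_right (a := (p : ℤ)) (by omega) (by omega)
  obtain ⟨u, rfl⟩ := Int.eq_ofNat_of_zero_le hu0
  obtain ⟨v, hv⟩ : (p : ℤ) ∣ E + 1 := ⟨(p - 1) * n + 1 - u * E, by linear_combination h - E * hu⟩
  have hv0 : 0 < v := (pos_iff_pos_of_mul_pos (a := (p : ℤ)) (by omega)).1 (by omega)
  obtain ⟨v, rfl⟩ := Int.eq_ofNat_of_zero_le hv0.le
  rcases Nat.eq_zero_or_pos u with rfl | hu1
  · left; simp at hu; omega
  · right
    by_cases hv1 : v = 1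
    · subst hv1
      have : (E : ℤ) = p - 1 := by simp at hv; omega
      rw [this, mul_comm] at h
      exact_mod_cast mul_left_cancel₀ (by omega) h
    · exact absurd (rep_of_mul (u := u) (v := v) hp hu1 (by omega) (by
        rw [← h, show (D : ℤ) = u * p + 1 by linear_combination hu, show (E : ℤ) = v * p - 1 by
          linear_combination hv])) hr

theorem neg_cases {p n D E : ℕ} (hp : 2 ≤ p) (hr : ¬ Rep p n) (h : (D : ℤ) * E = (p - 1) * (n * p + 1))
    (hD : (p : ℤ) ∣ D + 1) : D + 1 = p ∨ (D : ℤ) = (p - 1) * (n * p + 1) := by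
  obtain ⟨v, hv⟩ := hD
  rcases pos_cases (D := E) (E := D) hp hr (by rw [← h, mul_comm])
    ⟨v * E - (p - 1) * n - 1, by linear_combination E * hv - h⟩ with rfl | rfl
  · right; simpa using h
  · left
    push_cast at h
    have := mul_right_cancel₀ (by positivity) h
    omega

theorem le_of_rep {p n : ℕ} (h : Rep p n) : p + 3 ≤ 2 * n := by
  obtain ⟨k, u, hk, hu, h⟩ := h
  by_contra h1
  have h2 : 2 * n * (u + 1) ≤ (p + 2) * (u + 1) := Nat.mul_le_mul_right _ (by omega)
  have h3 : u * p ≤ k * u * p := by rw [mul_assoc]; exact Nat.le_mul_of_pos_left _ hk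
  have h4 : p ≤ u * p := Nat.le_mul_of_pos_left _ hu
  nlinarith

namespace BD

variable {p e : ℕ} {P : Subgroup G} {X Y : Finset (IrrCharacter G)} {δ : IrrCharacter G → ℤ} {ε : ℤ}
  {S : IrrCharacter G → Finset (P →* ℂˣ)} (h : BD p e P X Y δ ε S) {χ θ θ' : IrrCharacter G} {x y : G}
include h

theorem one_lt_e : 1 < e := by
  by_contra h1
  obtain ⟨θ, hθ⟩ := h.Y_ne
  have h2 := h.relZ hθ
  rw [Finset.card_eq_zero.1 (show X.card = 0 by have := h.cardX; omega)] at h2
  have := two_le_dg h.perf (h.ne_one (Finset.mem_union_right _ hθ))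
  rcases h.esgn with rfl | rfl <;> simp at h2 <;> omega

theorem three_le : 3 ≤ p := by have := h.one_lt_e; have := h.e_lt; omega

theorem cent_x (hx : x ∈ P) (hx1 : x ≠ 1) : centralizer ({x} : Set G) = centralizer (P : Set G) :=
  le_antisymm (fun _ hs => mem_cent h.prime h.card hx hx1 (mem_centralizer_singleton_iff.1 hs).symm)
    (centralizer_le (by simpa using hx))

theorem dg_dvd_eM (h1 : χ ∈ X ∪ Y) : dg χ ∣ e * (normalizer (P : Set G)).index := by
  obtain ⟨x, hx, hx1⟩ := h.exists_x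
  have h2 : ∀ χ : IrrCharacter G, IsIntegral ℤ (((e * (normalizer (P : Set G)).index : ℕ) : ℂ) * χ.1 x / dg χ) :=
    fun χ => by
      have := χ.2.isIntegral_centralChar x
      rwa [centralChar, h.cent_x hx hx1, dg_cast, ← relIndex_mul_index (centralizer_le_normalizer _), h.he] at this
  refine nat_dvd_of_isIntegral_div (dg_pos χ).ne' ?_
  rcases Finset.mem_union.1 h1 with h1 | h1
  · have h3 := h2 χ
    rw [h.valX χ h1 x hx hx1] at h3
    rcases h.sgn χ h1 with h4 | h4 <;> rw [h4] at h3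
    · simpa using h3
    · simpa [neg_div] using h3.neg
  · have h3 := IsIntegral.sum (s := Y) _ fun θ _ => h2 θ
    rw [Finset.sum_congr rfl (g := fun θ => ((e * (normalizer (P : Set G)).index : ℕ) : ℂ) / dg χ * θ.1 x)
      fun θ hθ => by rw [h.dg_eq hθ h1]; ring, ← Finset.mul_sum, h.sumY hx hx1] at h3
    rcases h.esgn with rfl | rfl
    · simpa using h3.neg
    · simpa using h3

theorem teZ : (Y.card : ℤ) * e = p - 1 := by have := h.cardY; omega

theorem deg {n : ℕ} (hM : (normalizer (P : Set G)).index = n * p + 1) (hn : 0 < n) (hr : ¬ Rep p n) (hθ : θ ∈ Y) :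
    (∀ χ ∈ X, (δ χ = 1 ∧ dg χ = n * p + 1) ∨ (δ χ = -1 ∧ dg χ + 1 = p)) ∧
      ((ε = 1 ∧ dg θ = e) ∨ (ε = -1 ∧ Y.card * dg θ = n * p + 1)) := by
  have h3 := h.three_le
  have te := h.teZ
  have ht := h.Y_ne.card_pos
  have he := h.e_pos
  have hX : ∀ χ ∈ X, (δ χ = 1 ∧ dg χ = n * p + 1) ∨
      (δ χ = -1 ∧ (dg χ + 1 = p ∨ (Y.card = 1 ∧ (dg χ : ℤ) = e * (n * p + 1)))) := fun χ hχ => by
    obtain ⟨k, hk⟩ := h.dg_dvd_eM (Finset.mem_union_left _ hχ)
    rw [hM] at hk
    have hk' : (dg χ : ℤ) * (k * Y.card : ℕ) = (p - 1) * (n * p + 1) := by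
      zify at hk; push_cast; linear_combination (n * p + 1) * te - Y.card * hk
    have h4 := h.dvdX hχ
    have := two_le_dg h.perf (h.ne_one (Finset.mem_union_left _ hχ))
    refine (h.sgn χ hχ).imp (fun h5 => ⟨h5, (pos_cases (by omega) hr hk' (h5 ▸ h4)).resolve_left (by omega)⟩)
      fun h5 => ⟨h5, (neg_cases (by omega) hr hk' (by simpa [h5] using h4)).imp_right fun h6 => ?_⟩
    rw [h6] at hk'
    have h7 : k * Y.card = 1 := by
      exact_mod_cast (mul_eq_left₀ (mul_pos (by omega) (by positivity)).ne').1 hk'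
    have h8 := Nat.eq_one_of_mul_eq_one_left h7
    exact ⟨h8, by rw [h6, ← te, h8]; simp⟩
  have hY : (ε = -1 ∧ Y.card * dg θ = n * p + 1) ∨ (ε = 1 ∧ (dg θ = e ∨ (dg θ : ℤ) = e * (n * p + 1))) := by
    obtain ⟨k, hk⟩ := h.dg_dvd_eM (Finset.mem_union_right _ hθ)
    rw [hM] at hk
    have hk' : ((Y.card * dg θ : ℕ) : ℤ) * k = (p - 1) * (n * p + 1) := by
      zify at hk; push_cast; linear_combination (n * p + 1) * te - Y.card * hk
    obtain ⟨m, hm⟩ := h.fixY hθ
    have := two_le_dg h.perf (h.ne_one (Finset.mem_union_right _ hθ))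
    rcases h.esgn with rfl | rfl
    · refine Or.inr ⟨rfl, (neg_cases (by omega) hr hk' ⟨Y.card * m + 1, by
        push_cast; linear_combination Y.card * hm + te⟩).imp (fun h5 => ?_) fun h5 => ?_⟩
      · have := h.cardY
        exact Nat.eq_of_mul_eq_mul_left ht (by omega)
      · push_cast at h5
        exact mul_left_cancel₀ (a := (Y.card : ℤ)) (by omega) (by linear_combination h5 - (n * p + 1) * te)
    · refine Or.inl ⟨rfl, (pos_cases (by omega) hr hk' ⟨Y.card * m - 1, by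
        push_cast; linear_combination Y.card * hm - te⟩).resolve_left fun h5 => ?_⟩
      have := Nat.eq_one_of_mul_eq_one_left h5
      omega
  have hb : ∀ χ ∈ X, δ χ * dg χ ≤ n * p + 1 := fun χ hχ => by
    rcases hX χ hχ with ⟨h4, h5⟩ | ⟨h4, -⟩
    · rw [h4, h5]; simp
    · rw [h4]; have : (0 : ℤ) ≤ n * p := by positivity
      omega
  have hr := h.relZ hθ
  have hc : (X.card : ℤ) = e - 1 := by have := h.cardX; omega
  have hnp : (0 : ℤ) < n * p := by positivity
  refine ⟨fun χ hχ => (hX χ hχ).imp_right fun ⟨h4, h5⟩ => ⟨h4, h5.resolve_right fun ⟨h6, h7⟩ => ?_⟩,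
    hY.symm.imp_left fun ⟨h4, h5⟩ => ⟨h4, h5.resolve_right fun h6 => ?_⟩⟩
  · rw [← Finset.add_sum_erase _ _ hχ, h4, h7] at hr
    have h8 := Finset.sum_le_card_nsmul (X.erase χ) _ _ fun χ h => hb χ (Finset.mem_of_mem_erase h)
    rw [Finset.card_erase_of_mem hχ, nsmul_eq_mul, Nat.cast_sub (Finset.card_pos.2 ⟨χ, hχ⟩), hc] at h8
    rcases hY with ⟨rfl, h9⟩ | ⟨rfl, -⟩
    · rw [h6, one_mul] at h9
      rw [h9] at hr
      push_cast at hr h8
      nlinarith
    · push_cast at hr h8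
      nlinarith
  · have h8 := Finset.sum_le_card_nsmul X _ _ hb
    rw [nsmul_eq_mul, hc] at h8
    rw [h4, h6] at hr
    nlinarith

end BD

end Cfsg.Agent.Perm.Br
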