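import Cfsg.Agent.Lib.Perm.Br7

/-! Character-theoretic part of Brauer's theorem on groups with few Sylow subgroups. -/

set_option autoImplicit false

namespace Cfsg.Agent.Perm.Br

open Subgroup MulAction
open Cfsg.Agent.Char
open scoped Classical ComplexConjugate

attribute [-instance] Fintype.decidablePiFintype

variable {G : Type*} [Group G]

theorem avg [Fintype G] {χ : G → ℂ} (hχ : IsCharacter G χ) {P : Subgroup G} {p : ℕ} (hpp : p.Prime)
    (hP : Nat.card P = p) (hC : centralizer (P : Set G) = P) {m c : ℕ} (hm : ∑ x : P, χ x = p * m)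
    (hc : classInner (fun _ : normalizer (P : Set G) => (1 : ℂ)) (fun g => χ g) = c) :
    c ≤ m ∧ (c = m → ∀ g ∈ normalizer (P : Set G), g ∉ P → χ g = m) := by
  rw [← conj_classInner, classInner_one_right] at hc
  have h1 : ∑ g : normalizer (P : Set G), χ g = Nat.card (normalizer (P : Set G)) * c := by
    have := congrArg conj hc
    rw [Complex.conj_conj, map_natCast] at this
    rw [← this, mul_inv_cancel_left₀ (card_ne_zero' _)]
  set sN := Finset.univ.filter (· ∈ normalizer (P : Set G))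
  set sP := Finset.univ.filter (· ∈ P)
  have hs : sP ⊆ sN := fun x hx => by simpa [sN] using le_normalizer (by simpa [sP] using hx : x ∈ P)
  rw [← Finset.sum_subtype sN (by simp [sN]) χ, ← Finset.sum_sdiff hs, Finset.sum_subtype sP (p := (· ∈ P))
    (F := inferInstance) (by simp [sP]) χ, hm] at h1
  have h2 : ((sN \ sP).card : ℝ) + p = Nat.card (normalizer (P : Set G)) := by
    rw [← hP, Nat.card_eq_fintype_card, Nat.card_eq_fintype_card, Fintype.card_subtype, Fintype.card_subtype]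
    exact_mod_cast Finset.card_sdiff_add_card_eq_card hs
  have h3 : ∀ g ∈ sN \ sP, ‖χ g‖ ≤ m := fun g hg => by
    simp only [sN, sP, Finset.mem_sdiff, Finset.mem_filter, Finset.mem_univ, true_and] at hg
    have := norm_le_fix hχ hpp hP hg.1 (hC.symm ▸ hg.2)
    rw [hm] at this
    exact le_of_mul_le_mul_left (by simpa using this) (by exact_mod_cast hpp.pos : (0 : ℝ) < p)
  have h4 : ∀ g ∈ sN \ sP, 0 ≤ m - (χ g).re := fun g hg => sub_nonneg.2 ((Complex.re_le_norm _).trans (h3 g hg))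
  have h5 : ∑ g ∈ sN \ sP, (m - (χ g).re) = Nat.card (normalizer (P : Set G)) * ((m : ℝ) - c) := by
    have := congrArg Complex.re h1
    simp only [Complex.add_re, Complex.re_sum, ← Nat.cast_mul, Complex.natCast_re] at this
    rw [Finset.sum_sub_distrib, Finset.sum_const, nsmul_eq_mul]
    push_cast at this
    linear_combination m * h2 - this
  refine ⟨?_, fun h6 g hg hg' => ?_⟩
  · have := Finset.sum_nonneg h4
    rw [h5] at this
    exact_mod_cast sub_nonneg.1 (nonneg_of_mul_nonneg_right this (by exact_mod_cast Nat.card_pos))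
  · have hg2 : g ∈ sN \ sP := by simp [sN, sP, hg, hg']
    rw [h6, sub_self, mul_zero] at h5
    have h7 := (Finset.sum_eq_zero_iff_of_nonneg h4).1 h5 g hg2
    have h8 := h3 g hg2
    have h9 := Complex.sq_norm_sub_sq_re (χ g)
    refine Complex.ext (by simpa using (sub_eq_zero.1 h7).symm) ?_
    have : ‖χ g‖ ^ 2 ≤ (χ g).re ^ 2 := pow_le_pow_left₀ (norm_nonneg _) (by linarith) 2
    simpa using pow_eq_zero_iff (n := 2) (by norm_num) |>.1 (le_antisymm (by linarith) (sq_nonneg (χ g).im))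

variable [Finite G]

theorem eq_of_fix {p : ℕ} [hp : Fact p.Prime] {P Q : Sylow p G} (hP : Nat.card P = p) {x : G}
    (hx : x ∈ P) (hx1 : x ≠ 1) (h : x • Q = Q) : Q = P := by
  have h1 : x ∈ (P : Subgroup G) ⊓ Q := P.2.inf_normalizer_sylow Q ▸ ⟨hx, SylNum.smul_eq_iff.1 h⟩
  exact Sylow.ext ((zpowers_eq hp.out ((Sylow.card_eq_multiplicity Q).trans
    ((Sylow.card_eq_multiplicity P).symm.trans hP)) h1.2 hx1).symm.trans (zpowers_eq hp.out hP hx hx1))

namespace BD

variable {p e : ℕ} {P : Subgroup G} {X Y : Finset (IrrCharacter G)} {δ : IrrCharacter G → ℤ} {ε : ℤ}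
  {S : IrrCharacter G → Finset (P →* ℂˣ)} (h : BD p e P X Y δ ε S) {χ θ θ' : IrrCharacter G} {x y : G}
include h

theorem exists_fx [Fintype P] (hC : centralizer (P : Set G) = P) : ∃ f : IrrCharacter G → ℕ,
    (∀ χ, ∑ x : P, χ.1 x = p * f χ) ∧ f (irrOne G) = 1 ∧ (∀ χ ∈ X, (p * f χ : ℤ) = dg χ + (p - 1) * δ χ) ∧
    (∀ θ ∈ Y, (p * f θ : ℤ) = dg θ - ε * e) ∧ ∀ ψ ∈ (insert (irrOne G) (X ∪ Y))ᶜ, dg ψ = p * f ψ := by
  choose f hf using fun χ : IrrCharacter G => exists_m χ.2.isCharacter P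
  rw [h.card] at hf
  refine ⟨f, hf, ?_, fun χ h1 => ?_, fun θ h1 => ?_, fun ψ h1 => ?_⟩
  · have := hf (irrOne G)
    simp only [irrOne_apply, Finset.sum_const, Finset.card_univ, ← Nat.card_eq_fintype_card, h.card, nsmul_eq_mul] at this
    exact_mod_cast (mul_left_cancel₀ (Nat.cast_ne_zero.2 h.prime.ne_zero) this).symm
  · exact_mod_cast (hf χ).symm.trans (h.mX h1)
  · exact_mod_cast (hf θ).symm.trans (h.mY h1)
  · have := hf ψ
    rw [Finset.sum_eq_single 1 (fun x _ hx => h.zero hC x.2 (fun e => hx (Subtype.ext e)) (Finset.mem_compl.1 h1))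
      (by simp), OneMemClass.coe_one, dg_cast] at this
    exact_mod_cast this

omit h in
theorem decomp [Fintype G] [Fintype P] {f : IrrCharacter G → ℕ} (hf : ∀ χ, ∑ x : P, χ.1 x = p * f χ) {φ : G → ℂ}
    (hφ : IsCharacter G φ) {d m : ℤ} (hd : φ 1 = d) (hm : ∑ x : P, φ x = m) : ∃ c : IrrCharacter G → ℕ,
      (∀ χ : IrrCharacter G, classInner φ χ = c χ) ∧ (∀ g, φ g = ∑ χ, c χ * χ.1 g) ∧
        d = ∑ χ, (c χ * dg χ : ℤ) ∧ m = ∑ χ, (c χ * (p * f χ) : ℤ) := by
  obtain ⟨c, h1, h2⟩ := hφ.exists_coeff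
  have h3 : ∀ g, φ g = ∑ χ, c χ * χ.1 g := fun g => by rw [h2]; simp
  refine ⟨c, h1, h3, ?_, ?_⟩
  · rw [h3] at hd
    simp only [dg_cast] at hd
    exact_mod_cast hd.symm
  · simp only [h3] at hm
    rw [Finset.sum_comm] at hm
    simp only [← Finset.mul_sum, hf] at hm
    exact_mod_cast hm.symm

theorem pos_case (hC : centralizer (P : Set G) = P) {n : ℕ} (hn : 0 < n) (hθ : θ ∈ Y)
    (hX : ∀ χ ∈ X, (δ χ = 1 ∧ dg χ = n * p + 1) ∨ (δ χ = -1 ∧ dg χ + 1 = p)) (hε : ε = 1) (hY : dg θ = e) :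
    n = 1 ∧ Y.card = 2 := by
  have := Fintype.ofFinite G
  have h3 := h.three_le
  have he := h.one_lt_e
  have te := h.teZ
  have ht : 2 ≤ Y.card := by
    by_contra h1
    have h2 : Y.card = 1 := by have := h.Y_ne.card_pos; omega
    have := h.even_t hC (by omega) he (Finset.mem_union_right _ hθ) (by rw [hY, ← h.cardY, h2, one_mul])
    simp [h2] at this
  obtain ⟨f, f0, f1, fX, fY, fW⟩ := h.exists_fx hC
  have hv : (fun x : P => θ.1 x) = ∑ m ∈ S θ, lc m := funext fun x => by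
    by_cases hx : x = 1
    · simp [hx, dg_cast, hY, h.cardS θ hθ, lc]
    · simp [h.valY θ hθ x hx, hε, lc]
  have hs : ∑ x : P, θ.1 x * conj (θ.1 x) = (p * e : ℤ) := by
    have : classInner (fun x : P => θ.1 x) (fun x : P => θ.1 x) = e := by
      rw [hv, classInner_sum_left, Finset.sum_congr rfl (g := fun _ => 1) fun m hm => by
        rw [classInner_sum_right]; simp [classInner_lc, hm]]
      simp [h.cardS θ hθ]
    rw [classInner, inv_mul_eq_iff_eq_mul₀ (card_ne_zero' P), h.card] at this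
    exact_mod_cast this
  obtain ⟨c, c1, -, c2, c3⟩ := decomp f0 (θ.2.isCharacter.mul θ.2.isCharacter.conj) (d := e * e)
    (by simp [dg_cast, hY]) hs
  have c4 : c (irrOne G) = 1 := by
    have := c1 (irrOne G)
    rw [classInner_mul_left, coe_irrOne] at this
    simp only [Complex.conj_conj] at this
    rw [show (fun g => θ.1 g) * (fun _ => 1) = θ.1 by ext; simp, θ.2.classInner_self] at this
    exact_mod_cast this.symm
  have c5 : (e : ℤ) = ∑ χ, (c χ * f χ : ℤ) := mul_left_cancel₀ (a := (p : ℤ)) (by omega) (by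
    rw [c3, Finset.mul_sum]; exact Finset.sum_congr rfl fun _ _ => by ring)
  have c6 : (p * e - e * e : ℤ) ≤ (p - 1) * (1 + ∑ χ ∈ X, c χ * δ χ) := by
    rw [c2, c3, ← Finset.sum_sub_distrib, sum_split h.disj h.oneX h.oneY,
      Finset.sum_eq_zero (s := _ᶜ) fun ψ hψ => by rw [fW ψ hψ]; simp,
      Finset.sum_congr rfl (s₁ := X) (g := fun χ => (p - 1) * (c χ * δ χ)) fun χ hχ => by rw [fX χ hχ]; ring,
      ← Finset.mul_sum, c4, f1]
    have : ∑ θ ∈ Y, (c θ * (p * f θ) - c θ * dg θ : ℤ) ≤ 0 := Finset.sum_nonpos fun θ hθ => by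
      rw [fY θ hθ, hε]; nlinarith
    rw [show dg (irrOne G) = 1 by simp [charDegree]]
    push_cast
    linarith
  have c7 : (n + 1) * ∑ χ ∈ X, c χ * δ χ ≤ e - 1 := by
    rw [c5, sum_split h.disj h.oneX h.oneY, c4, f1, Finset.mul_sum]
    have h4 : ∑ χ ∈ X, (n + 1) * (c χ * δ χ) ≤ ∑ χ ∈ X, (c χ * f χ : ℤ) := Finset.sum_le_sum fun χ hχ => by
      have h5 := fX χ hχ
      rcases hX χ hχ with ⟨h6, h7⟩ | ⟨h6, -⟩
      · rw [h6, h7] at h5
        rw [h6, mul_left_cancel₀ (a := (p : ℤ)) (b := f χ) (c := n + 1) (by omega) (by push_cast at h5; linarith)]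
        linarith
      · rw [h6]; nlinarith
    have : 0 ≤ ∑ χ ∈ Y, (c χ * f χ : ℤ) := by positivity
    have : 0 ≤ ∑ χ ∈ (insert (irrOne G) (X ∪ Y))ᶜ, (c χ * f χ : ℤ) := by positivity
    push_cast
    linarith
  generalize ∑ χ ∈ X, c χ * δ χ = α at c6 c7
  generalize Y.card = t at *
  have c8 : ((t : ℤ) - 1) * (e - 1) ≤ t * α := by
    rw [← te] at c6
    have : (e : ℤ) * ((t - 1) * (e - 1)) ≤ e * (t * α) := by nlinarith
    exact le_of_mul_le_mul_left this (by omega)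
  have c9 : ((n : ℤ) + 1) * (t - 1) ≤ t := by
    have : ((e : ℤ) - 1) * ((n + 1) * (t - 1)) ≤ (e - 1) * t := by nlinarith
    exact le_of_mul_le_mul_left this (by omega)
  constructor <;> nlinarith

end BD

theorem exists_fix_of_dvd {p : ℕ} [hp : Fact p.Prime] {P : Sylow p G} (hP : Nat.card P = p) {g : G}
    (h : p ∣ orderOf g) : ∃ Q : Sylow p G, g • Q = Q ∧ ∃ x ∈ Q, x ≠ 1 ∧ Commute x g := by
  have h1 : orderOf (g ^ (orderOf g / p)) = p := orderOf_pow_orderOf_div (orderOf_pos g).ne' h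
  obtain ⟨Q, hQ⟩ := (IsPGroup.of_card (G := zpowers (g ^ (orderOf g / p))) (p := p) (n := 1) (by
    rw [Nat.card_zpowers, h1, pow_one])).exists_le_sylow
  have h2 : g ^ (orderOf g / p) ≠ 1 := fun e => by rw [e, orderOf_one] at h1; exact hp.out.one_lt.ne h1
  have h3 := (Sylow.card_eq_multiplicity Q).trans ((Sylow.card_eq_multiplicity P).symm.trans hP)
  exact ⟨Q, SylNum.smul_eq_iff.2 (centralizer_le_normalizer _ (mem_cent hp.out h3 (hQ (mem_zpowers _)) h2
    (Commute.pow_self _ _))), _, hQ (mem_zpowers _), h2, Commute.pow_self _ _⟩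

theorem BD.neg_case {p e : ℕ} [hp : Fact p.Prime] {P : Sylow p G} {X Y : Finset (IrrCharacter G)}
    {δ : IrrCharacter G → ℤ} {ε : ℤ} {S : IrrCharacter G → Finset (P →* ℂˣ)} (h : BD p e P X Y δ ε S)
    (hC : centralizer ((P : Subgroup G) : Set G) = P) {n : ℕ} (hM : Nat.card (Sylow p G) = n * p + 1)
    {θ : IrrCharacter G} (hθ : θ ∈ Y) (hX : ∀ χ ∈ X, (δ χ = 1 ∧ dg χ = n * p + 1) ∨ (δ χ = -1 ∧ dg χ + 1 = p))
    (hε : ε = -1) (hY : Y.card * dg θ = n * p + 1) :
    Even Y.card ∧ (∃ a m, Y.card * m = n + 1 ∧ e = 1 + a * (n + 1) + m) ∧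
    (∀ g ∈ normalizer ((P : Subgroup G) : Set G), g ∉ P → Nat.card (fixedBy (Sylow p G) g) = n + 1) ∧
    ∃ Z : G → ℂ, IsCharacter G Z ∧ (∃ b : ℕ, Z 1 = b * (p - 1)) ∧
      (∀ g ∈ normalizer ((P : Subgroup G) : Set G), g ∉ P → Z g = 0) ∧ ∀ g, (∀ Q : Sylow p G, g • Q ≠ Q) → Z g = 1 := by
  have := Fintype.ofFinite G
  subst hε
  have h3 := h.three_le
  have hp0 : (p : ℤ) ≠ 0 := by omega
  have he := h.one_lt_e
  have te := h.teZ
  obtain ⟨f, f0, f1, fX, fY, fW⟩ := h.exists_fx hC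
  set A := X.filter (δ · = 1)
  set B := X.filter (¬ δ · = 1)
  set W := (insert (irrOne G) (X ∪ Y))ᶜ
  have hA : ∀ χ ∈ A, δ χ = 1 ∧ dg χ = n * p + 1 ∧ f χ = n + 1 := fun χ hχ => by
    obtain ⟨h1, h2⟩ := Finset.mem_filter.1 hχ
    have h4 := fX χ h1
    obtain ⟨-, h5⟩ := (hX χ h1).resolve_right (by omega)
    rw [h2, h5] at h4
    exact ⟨h2, h5, by exact_mod_cast mul_left_cancel₀ (b := (f χ : ℤ)) (c := n + 1) hp0 (by push_cast at h4; linarith)⟩
  have hB : ∀ χ ∈ B, δ χ = -1 ∧ (dg χ : ℤ) = p - 1 ∧ f χ = 0 := fun χ hχ => by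
    obtain ⟨h1, h2⟩ := Finset.mem_filter.1 hχ
    have h4 := fX χ h1
    obtain ⟨h5, h6⟩ := (hX χ h1).resolve_left (by omega)
    rw [h5] at h4
    exact ⟨h5, by omega, by exact_mod_cast mul_left_cancel₀ (b := (f χ : ℤ)) (c := 0) hp0 (by omega)⟩
  have hF : ∀ θ' ∈ Y, dg θ' = dg θ ∧ f θ' = f θ := fun θ' h1 => ⟨h.dg_eq h1 hθ, by
    exact_mod_cast mul_left_cancel₀ (b := (f θ' : ℤ)) (c := f θ) hp0 (by rw [fY _ h1, fY _ hθ, h.dg_eq h1 hθ])⟩
  have sp : ∀ {M : Type} [AddCommMonoid M] (F : IrrCharacter G → M), ∑ χ ∈ X, F χ = ∑ χ ∈ A, F χ + ∑ χ ∈ B, F χ :=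
    fun F => (Finset.sum_filter_add_sum_filter_not _ _ F).symm
  have hab : (A.card : ℤ) + B.card = e - 1 := by
    have : A.card + B.card = _ := Finset.card_filter_add_card_filter_not (s := X) (δ · = 1)
    have := h.cardX
    omega
  have hm := fY θ hθ
  have hr := h.relZ hθ
  rw [sp, Finset.sum_congr rfl (s₁ := A) (g := fun _ => (n * p + 1 : ℤ)) fun χ hχ => by simp [hA χ hχ],
    Finset.sum_congr rfl (s₁ := B) (g := fun _ => (1 - p : ℤ)) fun χ hχ => by simp [hB χ hχ]] at hr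
  simp only [Finset.sum_const, nsmul_eq_mul] at hr
  have hY' : (Y.card : ℤ) * dg θ = n * p + 1 := by exact_mod_cast hY
  have ht : (Y.card : ℤ) * f θ = n + 1 := mul_left_cancel₀ hp0 (by linear_combination Y.card * hm + hY' + te)
  have hE : (e : ℤ) = 1 + A.card * (n + 1) + f θ := mul_left_cancel₀ hp0 (by
    linear_combination -hm + hr - (p - 1) * hab)
  have d1 : dg (irrOne G) = 1 := by simp [charDegree]
  obtain ⟨w, -, hw, hw1, -⟩ := h.exists_w
  rw [hw1.2 hC, mul_one, ← SylNum.card_syl P, hM] at hw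
  have hW : ∑ ψ ∈ W, (f ψ * f ψ : ℤ) = n := by
    obtain ⟨c, c1, -, -, c3⟩ := BD.decomp f0 isCharacter_regChar (d := Nat.card G) (m := Nat.card G)
      (by simp [regChar_one]) (by
        rw [Finset.sum_eq_single 1 (fun x _ hx => regChar_of_ne fun e => hx (Subtype.ext e)) (by simp)]
        simp [regChar_one])
    have c4 : ∀ χ, c χ = dg χ := fun χ => by
      have := c1 χ
      rw [classInner_regChar_left, dg_cast, map_natCast] at this
      exact_mod_cast this.symm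
    simp only [c4] at c3
    rw [hw, sum_split h.disj h.oneX h.oneY, sp, d1, f1,
      Finset.sum_congr rfl (s₁ := A) (g := fun _ => ((n * p + 1) * (p * (n + 1)) : ℤ)) fun χ hχ => by simp [hA χ hχ],
      Finset.sum_eq_zero (s := B) fun χ hχ => by simp [hB χ hχ],
      Finset.sum_congr rfl (s₁ := Y) (g := fun _ => (dg θ * (p * f θ) : ℤ)) fun χ hχ => by simp [hF χ hχ],
      Finset.sum_congr rfl (s₁ := W) (g := fun ψ => (p * p * (f ψ * f ψ) : ℤ)) fun χ hχ => by
        rw [fW χ hχ]; push_cast; ring, ← Finset.mul_sum W] at c3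
    simp only [Finset.sum_const, nsmul_eq_mul] at c3
    push_cast at c3
    exact mul_left_cancel₀ (mul_ne_zero hp0 hp0) (by
      linear_combination -c3 + (n * p + 1) * p * hE - p * f θ * hY')
  obtain ⟨c, c1, c2, c3, c4⟩ := BD.decomp f0 (isCharacter_perm (Sylow p G)) (d := n * p + 1) (m := p * (n + 1))
    (by simp [← Nat.card_eq_fintype_card, hM]) (by
      rw [← Finset.add_sum_erase _ _ (Finset.mem_univ 1), Finset.sum_congr rfl (g := fun _ => 1) fun x hx => by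
        have : fixedBy (Sylow p G) (x : G) = {P} := Set.eq_singleton_iff_unique_mem.2
          ⟨SylNum.smul_eq_iff.2 (le_normalizer x.2), fun Q hQ =>
            eq_of_fix h.card x.2 (fun e => (Finset.mem_erase.1 hx).1 (Subtype.ext e)) hQ⟩
        simp [this]]
      simp [hM, ← Nat.card_eq_fintype_card, h.card, h.prime.pos]
      ring)
  have c5 := fun χ : IrrCharacter G => avg χ.2.isCharacter h.prime h.card hC (f0 χ) (c := c χ) (by
    rw [← frobenius_left _ _ χ.2.isClassFunction, ← c1]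
    congr 1
    rw [← funext (indFun_one_eq_card_fixedBy _ P), P.stabilizer_eq_normalizer]
    rfl)
  have c6 : c (irrOne G) = 1 := by
    have h1 := c1 (irrOne G)
    rw [← funext (indFun_one_eq_card_fixedBy _ P), frobenius_left _ _ (irrOne G).2.isClassFunction] at h1
    exact_mod_cast h1.symm.trans isIrrCharacter_one.classInner_self
  have cB : ∀ χ ∈ B, c χ = 0 := fun χ hχ => by have := (c5 χ).1; rw [(hB χ hχ).2.2] at this; omega
  have c7 : ∑ χ ∈ A, (c χ * (p - 1) : ℤ) + ∑ χ ∈ Y, (c χ * e : ℤ) = 0 := by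
    have h1 : (p - 1 : ℤ) = ∑ χ, (c χ * (p * f χ) - c χ * dg χ : ℤ) := by
      rw [Finset.sum_sub_distrib, ← c3, ← c4]; ring
    rw [sum_split h.disj h.oneX h.oneY, sp, d1, f1, c6,
      Finset.sum_congr rfl (s₁ := A) (g := fun χ => (c χ * (p - 1) : ℤ)) fun χ hχ => by simp [hA χ hχ]; ring,
      Finset.sum_eq_zero (s := B) fun χ hχ => by simp [cB χ hχ],
      Finset.sum_congr rfl (s₁ := Y) (g := fun χ => (c χ * e : ℤ)) fun χ hχ => by rw [fY χ hχ]; ring,
      Finset.sum_eq_zero (s := W) fun χ hχ => by rw [fW χ hχ]; simp] at h1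
    push_cast at h1
    linarith
  have n1 : ∀ χ ∈ A, (0 : ℤ) ≤ c χ * (p - 1) := fun _ _ => mul_nonneg (by omega) (by omega)
  have n2 : ∀ χ ∈ Y, (0 : ℤ) ≤ c χ * e := fun _ _ => by positivity
  obtain ⟨c8, c9⟩ := (add_eq_zero_iff_of_nonneg (Finset.sum_nonneg n1) (Finset.sum_nonneg n2)).1 c7
  have cA : ∀ χ ∈ A, c χ = 0 := fun χ hχ => by
    simpa [show (p - 1 : ℤ) ≠ 0 by omega] using (Finset.sum_eq_zero_iff_of_nonneg n1).1 c8 χ hχ
  have cY : ∀ χ ∈ Y, c χ = 0 := fun χ hχ => by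
    simpa [show e ≠ 0 by omega] using (Finset.sum_eq_zero_iff_of_nonneg n2).1 c9 χ hχ
  have cW : ∀ ψ ∈ W, c ψ = f ψ := fun ψ hψ => by
    rw [sum_split h.disj h.oneX h.oneY, sp, f1, c6, Finset.sum_eq_zero (s := A) fun χ hχ => by simp [cA χ hχ],
      Finset.sum_eq_zero (s := B) fun χ hχ => by simp [cB χ hχ],
      Finset.sum_eq_zero (s := Y) fun χ hχ => by simp [cY χ hχ],
      Finset.sum_congr rfl (s₁ := W) (g := fun ψ => (p * (c ψ * f ψ) : ℤ)) fun χ hχ => by ring, ← Finset.mul_sum] at c4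
    have h1 : ∑ ψ ∈ W, (c ψ * f ψ : ℤ) = ∑ ψ ∈ W, (f ψ * f ψ : ℤ) :=
      mul_left_cancel₀ hp0 (by rw [hW]; push_cast at c4; linarith)
    have h2 := (Finset.sum_eq_sum_iff_of_le fun ψ _ => mul_le_mul_of_nonneg_right
      (by exact_mod_cast (c5 ψ).1) (by positivity)).1 h1 ψ hψ
    have h4 := (c5 ψ).1
    rcases mul_eq_mul_right_iff.1 h2 with h5 | h5 <;> omega
  have hπ : ∀ g, (Nat.card (fixedBy (Sylow p G) g) : ℂ) = 1 + ∑ ψ ∈ W, f ψ * ψ.1 g := fun g => by
    rw [c2, sum_split h.disj h.oneX h.oneY, sp, c6, Finset.sum_eq_zero (s := A) fun χ hχ => by simp [cA χ hχ],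
      Finset.sum_eq_zero (s := B) fun χ hχ => by simp [cB χ hχ],
      Finset.sum_eq_zero (s := Y) fun χ hχ => by simp [cY χ hχ],
      Finset.sum_congr rfl (s₁ := W) fun χ hχ => by rw [cW χ hχ]]
    simp
  refine ⟨?_, ⟨A.card, f θ, by exact_mod_cast ht, by exact_mod_cast hE⟩, fun g hg hg' => ?_, ∑ χ ∈ B, χ.1,
    IsCharacter.sum fun χ _ => χ.2.isCharacter, ⟨B.card, ?_⟩, fun g hg hg' => ?_, fun g hg => ?_⟩
  · obtain ⟨χ, hχ⟩ : B.Nonempty := Finset.card_pos.1 (Nat.pos_of_ne_zero fun h1 => by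
      rw [h1] at hr
      have : (0 : ℤ) ≤ A.card * (n * p + 1) := by positivity
      omega)
    have := (hB χ hχ).2.1
    exact h.even_t hC (by omega) he (Finset.mem_union_left _ (Finset.mem_filter.1 hχ).1) (by omega)
  · have h1 := hπ g
    rw [Finset.sum_congr rfl (g := fun ψ => (f ψ * f ψ : ℂ)) fun ψ hψ => by rw [(c5 ψ).2 (cW ψ hψ) g hg hg']] at h1
    have h2 : ∑ ψ ∈ W, (f ψ * f ψ : ℂ) = n := by exact_mod_cast hW
    rw [h2, add_comm] at h1
    exact_mod_cast h1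
  · rw [Finset.sum_apply, Finset.sum_congr rfl (g := fun _ => (p - 1 : ℂ)) fun χ hχ => by
      rw [dg_cast]; exact_mod_cast (hB χ hχ).2.1, Finset.sum_const, nsmul_eq_mul]
  · rw [Finset.sum_apply]
    exact Finset.sum_eq_zero fun χ hχ => by
      simpa [(hB χ hχ).2.2] using (c5 χ).2 ((cB χ hχ).trans (hB χ hχ).2.2.symm) g hg hg'
  · have hg1 : ¬ p ∣ orderOf g := fun h1 => (exists_fix_of_dvd h.card h1).elim fun Q hQ => hg Q hQ.1
    have h1 := hπ g
    have : IsEmpty (fixedBy (Sylow p G) g) := ⟨fun Q => hg Q.1 Q.2⟩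
    rw [Nat.card_of_isEmpty] at h1
    have h2 := h.rel θ hθ g hg1
    have h4 := sum_degree_mul g
    rw [regChar_of_ne fun e => hg P (by simp [e]), sum_split h.disj h.oneX h.oneY, sp,
      Finset.sum_congr rfl (s₁ := A) (g := fun χ => (n * p + 1) * χ.1 g) fun χ hχ => by simp [dg_cast, hA χ hχ],
      Finset.sum_congr rfl (s₁ := B) (g := fun χ => (p - 1) * χ.1 g) fun χ hχ => by
        rw [dg_cast]; congr 1; exact_mod_cast (hB χ hχ).2.1,
      Finset.sum_congr rfl (s₁ := Y) (g := fun χ => dg θ * θ.1 g) fun χ hχ => by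
        rw [dg_cast, (hF χ hχ).1, h.agree χ hχ θ hθ g hg1],
      Finset.sum_congr rfl (s₁ := W) (g := fun χ => p * (f χ * χ.1 g)) fun χ hχ => by
        rw [dg_cast, fW χ hχ]; push_cast; ring] at h4
    rw [sp, Finset.sum_congr rfl (s₁ := A) (g := fun χ => χ.1 g) fun χ hχ => by simp [hA χ hχ],
      Finset.sum_congr rfl (s₁ := B) (g := fun χ => -χ.1 g) fun χ hχ => by simp [hB χ hχ]] at h2
    simp only [← Finset.mul_sum, Finset.sum_const, nsmul_eq_mul, Finset.sum_neg_distrib, irrOne_apply] at h2 h4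
    have h5 : (Y.card : ℂ) * dg θ = n * p + 1 := by exact_mod_cast hY
    rw [Finset.sum_apply]
    refine mul_left_cancel₀ (a := (((n + 1) * p : ℕ) : ℂ)) (Nat.cast_ne_zero.2 (by positivity)) ?_
    push_cast at h1 h2 ⊢
    linear_combination h4 + (n * p + 1) * h2 + p * h1 - θ.1 g * h5

end Cfsg.Agent.Perm.Br
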