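import Cfsg.Agent.Lib.Perm.Br8
import Cfsg.Agent.Lib.Char.Zass8

/-! Zassenhaus groups from self-centralising Sylow subgroups. -/

set_option autoImplicit false

namespace Cfsg.Agent.Perm.Br

open Subgroup MulAction
open Cfsg.Agent.Char
open scoped Classical ComplexConjugate Pointwise commutatorElement

variable {G : Type*} [Group G] [Finite G]

theorem card_ne_add {α : Type*} [Finite α] (a : α) : Nat.card {x // x ≠ a} + 1 = Nat.card α := by
  classical
  rw [← Finite.card_option, Nat.card_congr (Equiv.optionSubtypeNe a)]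

omit [Finite G] in
theorem conj_mem_smul {r : ℕ} (S : Sylow r G) (c v : G) : c * v * c⁻¹ ∈ c • S ↔ v ∈ S :=
  Subgroup.smul_mem_pointwise_smul_iff (a := MulAut.conj c) (S := (S : Subgroup G)) (x := v)

theorem cent_all {r : ℕ} [Fact r.Prime] {S : Sylow r G} (hC : ∀ v ∈ S, v ≠ 1 → centralizer ({v} : Set G) = S)
    (T : Sylow r G) (v : G) (hv : v ∈ T) (h1 : v ≠ 1) : centralizer ({v} : Set G) = T := by
  obtain ⟨c, rfl⟩ := exists_smul_eq G S T
  obtain ⟨w, rfl⟩ : ∃ w, v = c * w * c⁻¹ := ⟨c⁻¹ * v * c, by group⟩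
  ext g
  obtain ⟨k, rfl⟩ : ∃ w, g = c * w * c⁻¹ := ⟨c⁻¹ * g * c, by group⟩
  refine Iff.trans ?_ (conj_mem_smul S c k).symm
  change _ ↔ k ∈ (S : Subgroup G)
  rw [← hC w ((conj_mem_smul S c w).1 hv) (by rintro rfl; simp at h1), mem_centralizer_singleton_iff,
    mem_centralizer_singleton_iff, conj_mul, conj_mul, mul_left_inj, mul_right_inj]

theorem zass_syl {r : ℕ} [Fact r.Prime] (S : Sylow r G) (hC : ∀ v ∈ S, v ≠ 1 → centralizer ({v} : Set G) = S)
    (hn : Nat.card (Sylow r G) = Nat.card S + 1) (hS : 2 ≤ Nat.card S)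
    (hN : normalizer ((S : Subgroup G) : Set G) ≠ S)
    (hR : ∀ R : Subgroup G, R.Normal → Nat.card R = Nat.card S + 1 →
      R ⊔ normalizer ((S : Subgroup G) : Set G) ≠ ⊤) : IsZassenhausGroup G (Sylow r G) ∧
      ∃ T, S ≠ T ∧ Nat.card S * Nat.card (Zass.E G S T) = Nat.card (normalizer ((S : Subgroup G) : Set G)) := by
  have hb : ∀ (T U : Sylow r G), ∀ v ∈ T, v • U = U → U ≠ T → v = 1 := fun T U v hv h h1 => by
    by_contra h2
    exact h1 (Sylow.ext ((cent_all hC U v ((SylNum.smul_eq_iff_mem T.2 hv).1 h) h2).symm.trans (cent_all hC T v hv h2)))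
  have hf : ∀ (T : Sylow r G), ∀ v ∈ T, v • T = T := fun T v hv => SylNum.smul_eq_iff.2 (le_normalizer hv)
  have hc : ∀ T U V : Sylow r G, U ≠ T → V ≠ T → ∃ v ∈ T, v • U = V := fun T U V hU hV => by
    have := (Nat.bijective_iff_injective_and_card (fun v : (T : Subgroup G) => (⟨(v : G) • U, fun e => hU
      (smul_left_cancel _ (e.trans (hf T v v.2).symm))⟩ : {V // V ≠ T}))).2 ⟨fun a b hab => ?_, ?_⟩
    · obtain ⟨v, hv⟩ := this.2 ⟨V, hV⟩
      exact ⟨v, v.2, congrArg Subtype.val hv⟩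
    · refine Subtype.ext (eq_of_inv_mul_eq_one (hb T U _ (mul_mem (inv_mem a.2) b.2) ?_ hU))
      rw [mul_smul, ← show _ = (b : G) • U from congrArg Subtype.val hab, inv_smul_smul]
    · have := card_ne_add T
      rw [SylNum.card_syl_eq T S]
      omega
  have h3 : ∀ g : G, ∀ a b c : Sylow r G, a ≠ b → b ≠ c → a ≠ c → g • a = a → g • b = b → g • c = c → g = 1 :=
    fun g a b c hab hbc hac ha hb' hc' => by
      obtain ⟨v, hv, h⟩ := hc a b c hab.symm hac.symm
      have h1 : g * v * g⁻¹ ∈ a := ha ▸ (conj_mem_smul a g v).2 hv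
      have h2 := hb a b _ (mul_mem (inv_mem hv) h1) (by
        rw [mul_smul, mul_smul, mul_smul, inv_smul_eq_iff.2 hb'.symm, h, hc', inv_smul_eq_iff, h]) hab.symm
      refine hb a b g ?_ hb' hab.symm
      change g ∈ (a : Subgroup G)
      rw [← cent_all hC a v hv (by rintro rfl; exact hbc (by simpa using h)), mem_centralizer_singleton_iff]
      exact mul_inv_eq_iff_eq_mul.1 (eq_of_inv_mul_eq_one h2).symm
  have := Fintype.ofFinite (Sylow r G)
  obtain ⟨a, b, c, hab, hac, hbc⟩ := Fintype.two_lt_card_iff.1 (show 2 < Fintype.card (Sylow r G) by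
    rw [← Nat.card_eq_fintype_card]; omega)
  obtain ⟨T, hT⟩ : ∃ T, T ≠ S := by
    by_cases e : a = S
    · exact ⟨b, e ▸ hab.symm⟩
    · exact ⟨a, e⟩
  have hZ : IsZassenhausGroup G (Sylow r G) := by
    refine ⟨⟨fun {g h} e => eq_of_inv_mul_eq_one (h3 _ a b c hab hbc hac ?_ ?_ ?_)⟩,
      is_two_pretransitive_iff.2 fun {a b c d} hab hcd => ?_, h3, ?_, fun R hR1 hR2 => ?_⟩
    · rw [mul_smul, ← e, inv_smul_smul]
    · rw [mul_smul, ← e, inv_smul_smul]
    · rw [mul_smul, ← e, inv_smul_smul]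
    · obtain ⟨g, rfl⟩ := exists_smul_eq G a c
      obtain ⟨v, hv, h⟩ := hc (g • a) (g • b) d (by simpa using hab.symm) hcd.symm
      exact ⟨v * g, by rw [mul_smul, hf _ v hv], by rw [mul_smul, h]⟩
    · obtain ⟨g, hg, hg'⟩ := SetLike.exists_of_lt (lt_of_le_of_ne le_normalizer hN.symm)
      have h1 := SylNum.smul_eq_iff.2 hg
      obtain ⟨v, hv, h⟩ := hc S T (g • T) hT fun e => hT (smul_left_cancel g (e.trans h1.symm))
      exact ⟨v⁻¹ * g, fun e => hg' (eq_of_inv_mul_eq_one e ▸ hv), S, T, hT.symm,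
        by rw [mul_smul, h1, hf S _ (inv_mem hv)], by rw [mul_smul, ← h, inv_smul_smul]⟩
    · by_contra! h
      refine hR R hR1 ?_ (eq_top_iff.2 fun g _ => ?_)
      · rw [← hn, ← index_stabilizer_of_transitive R S, h, index_bot]
      · obtain ⟨x, hx⟩ := exists_smul_eq R S (g • S)
        rw [← mul_inv_cancel_left (x : G) g]
        refine mul_mem_sup x.2 (SylNum.smul_eq_iff.1 ?_)
        rw [mul_smul, ← hx]
        exact inv_smul_smul (x : G) S
  refine ⟨hZ, T, hT.symm, ?_⟩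
  have := Zass.card_stab hZ hT.symm
  rw [hn, S.stabilizer_eq_normalizer] at this
  exact this.symm

theorem comm_le_cent {p : ℕ} (hp : p.Prime) {P : Subgroup G} (hP : Nat.card P = p) :
    ⁅normalizer (P : Set G), normalizer (P : Set G)⁆ ≤ centralizer (P : Set G) := by
  have := Fact.mk hp
  have := isCyclic_of_prime_card hP
  have hc : IsCyclic (MulAut P) := (IsCyclic.mulAutMulEquiv P).isCyclic.2 (by rw [hP]; infer_instance)
  refine commutator_le.2 fun a ha b hb => ?_
  have : ⁅(⟨a, ha⟩ : normalizer (P : Set G)), ⟨b, hb⟩⁆ ∈ (normalizerMonoidHom _).ker := by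
    rw [MonoidHom.mem_ker, map_commutatorElement, commutatorElement_eq_one_iff_mul_comm]
    exact hc.isMulCommutative.1.1 _ _
  rwa [normalizerMonoidHom_ker, mem_subgroupOf] at this

theorem psl_of_one {p e : ℕ} [hp : Fact p.Prime] (hperf : commutator G = ⊤) {P : Sylow p G} (hP : Nat.card P = p)
    (hC : centralizer ((P : Subgroup G) : Set G) = P) (hn : Nat.card (Sylow p G) = p + 1)
    (hN : Nat.card (normalizer ((P : Subgroup G) : Set G)) = p * e) (he : 1 < e) (h : 2 * e + 1 = p) :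
    ∃ (F : Type) (_ : Field F) (_ : Fintype F), Fintype.card F = p ∧ Nonempty (G ≃* GL2.PSL2 F) := by
  have h1 : ∀ K : Subgroup G, Nat.card K ≤ p → normalizer ((P : Subgroup G) : Set G) ≠ K := by
    rintro _ h1 rfl
    nlinarith
  obtain ⟨hZ, T, hT, h2⟩ := zass_syl P (fun v hv hv1 => le_antisymm
    (fun _ hs => hC ▸ mem_cent hp.out hP hv hv1 (mem_centralizer_singleton_iff.1 hs).symm)
    fun _ hs => mem_centralizer_singleton_iff.2 (comm_of_card hp.out hP hs hv)) (by rw [hn, hP]) (by omega)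
    (h1 _ hP.le) fun R _ hR h2 => by
      have h3 := comm_le_cent hp.out hP
      rw [hC] at h3
      have h4 : (normalizer ((P : Subgroup G) : Set G)).map (QuotientGroup.mk' R) = ⊤ := by
        have := congrArg (Subgroup.map (QuotientGroup.mk' R)) h2
        rwa [Subgroup.map_sup, QuotientGroup.map_mk'_self, bot_sup_eq, map_top_of_surjective _ (QuotientGroup.mk'_surjective R)]
          at this
      have h5 : ⊤ ≤ (P : Subgroup G).map (QuotientGroup.mk' R) := by
        refine le_trans (le_of_eq ?_) (map_mono h3)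
        rw [map_commutator, h4, ← map_top_of_surjective _ (QuotientGroup.mk'_surjective R), ← map_commutator]
        exact congrArg _ hperf.symm
      have h6 := (card_le_of_le h5).trans (Nat.le_of_dvd Nat.card_pos (card_map_dvd _ _))
      have h7 := R.card_mul_index
      rw [SylNum.card_eq_mul P, hn, hN, hR, hP] at h7
      rw [card_top, hP, ← index_eq_card, Nat.eq_of_mul_eq_mul_left (by omega) h7] at h6
      nlinarith
  rw [hP, hN] at h2
  obtain ⟨F, _, _, h3, h4⟩ := Zass.psl_of_half hZ hT (by rw [Nat.eq_of_mul_eq_mul_left hp.out.pos h2]; omega)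
  exact ⟨F, _, _, by omega, h4⟩

theorem psl_of_two {q : ℕ} (H : Sylow 2 G) (hH : Nat.card H = q + 1) (hq : 1 < q) (hG : Nat.card G = (q + 1) * q * (q + 2))
    (hC : ∀ v ∈ H, v ≠ 1 → centralizer ({v} : Set G) = H) (h2 : ∀ v ∈ H, v * v = 1)
    (hc : ∀ u v : G, orderOf u = 2 → orderOf v = 2 → IsConj u v) (hR : ∀ R : Subgroup G, R.Normal → Nat.card R ≠ q + 2) :
    ∃ (F : Type) (_ : Field F) (_ : Fintype F), Fintype.card F = q + 1 ∧ Nonempty (G ≃* GL2.PSL2 F) := by
  have ho : ∀ (T : Sylow 2 G), ∀ v ∈ T, v ≠ 1 → orderOf v = 2 := fun T v hv h1 => by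
    obtain ⟨c, rfl⟩ := exists_smul_eq G H T
    obtain ⟨w, rfl⟩ : ∃ w, v = c * w * c⁻¹ := ⟨c⁻¹ * v * c, by group⟩
    exact orderOf_eq_prime (by rw [sq, conj_mul, h2 w ((conj_mem_smul H c w).1 hv)]; simp) h1
  obtain ⟨⟨u, hu⟩, hu1⟩ := (ne_bot_iff_exists_ne_one (H := (H : Subgroup G))).1 (fun e => by simp [e] at hH; omega)
  replace hu1 : u ≠ 1 := fun e => hu1 (Subtype.ext e)
  have hn : Nat.card (Sylow 2 G) = q + 2 := by
    have h3 := card_isConj_mul_card_centralizer u
    have := Fintype.ofFinite (Sylow 2 G)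
    rw [hC u hu hu1, hH, hG, ← Nat.card_eq_of_bijective (fun x : Σ T : Sylow 2 G, {v : (T : Subgroup G) // v ≠ 1} =>
      (⟨x.2.1.1, hc _ _ (ho H u hu hu1) (ho x.1 _ x.2.1.2 fun e => x.2.2 (Subtype.ext e))⟩ : {x // IsConj u x})),
      Nat.card_sigma, Finset.sum_congr rfl (g := fun _ => q) fun T _ => by
        have := card_ne_add (1 : (T : Subgroup G))
        rw [SylNum.card_syl_eq T H, hH] at this
        omega] at h3
    · simp only [Finset.sum_const, Finset.card_univ, ← Nat.card_eq_fintype_card, smul_eq_mul] at h3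
      exact Nat.eq_of_mul_eq_mul_right (show 0 < q * (q + 1) by positivity) (by linarith)
    · constructor
      · rintro ⟨T, ⟨v, hv⟩, h1⟩ ⟨U, ⟨w, hw⟩, h1'⟩ e
        obtain rfl : v = w := congrArg Subtype.val e
        replace h1 : v ≠ 1 := fun e => h1 (Subtype.ext e)
        obtain rfl : T = U := Sylow.ext ((cent_all hC T v hv h1).symm.trans (cent_all hC U v hw h1))
        rfl
      · rintro ⟨x, hx⟩
        obtain ⟨c, rfl⟩ := isConj_iff.1 hx
        exact ⟨⟨c • H, ⟨_, (conj_mem_smul H c u).2 hu⟩, fun e => hu1 (by simpa using congrArg Subtype.val e)⟩, rfl⟩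
  have h3 := SylNum.card_eq_mul H
  rw [hn, hG, mul_comm] at h3
  replace h3 := Nat.eq_of_mul_eq_mul_left (by omega) h3
  obtain ⟨hZ, T, hT, h4⟩ := zass_syl H hC (by rw [hn, hH]) (by omega) (fun e => by rw [e, hH] at h3; nlinarith)
    fun R h4 h5 _ => hR R h4 (by rw [h5, hH])
  rw [hH, ← h3] at h4
  obtain ⟨k, hk⟩ := H.2.exists_card_eq
  have := Zass.simple_of_odd hZ (by
    rw [hn, show q + 2 = 2 ^ k + 1 by omega]
    exact (Nat.even_pow.2 ⟨even_two, by rintro rfl; omega⟩).add_one)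
  obtain ⟨F, _, _, h5, h6⟩ := Zass.psl_of_simple hZ hT (by rw [Nat.eq_of_mul_eq_mul_left (by omega) h4]; omega)
  exact ⟨F, _, _, by omega, h6⟩

end Cfsg.Agent.Perm.Br
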