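import Mathlib
import Cfsg.Agent.Lib.PermCert.Cox

/-! Carmichael's relations bound the order of a group by that of the alternating group. -/

set_option autoImplicit false

namespace Cfsg.Agent.Perm.Carm
open Equiv Cfsg.Agent.PC

variable {G : Type*} [Group G]

/-- Carmichael's relations -/
structure Car (y : ℕ → G) (m : ℕ) : Prop where
  zero : y 0 = 1
  cube : ∀ i ≤ m, y i ^ 3 = 1
  sq : ∀ i ≤ m, ∀ j ≤ m, i ≠ 0 → j ≠ 0 → i ≠ j → (y i * y j) ^ 2 = 1

theorem aux1 {a b : G} (h : (a * b) ^ 2 = 1) : a * b * a = b⁻¹ := by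
  rw [eq_inv_iff_mul_eq_one, ← h, pow_two]; group

theorem aux2 {a : G} (h : a ^ 3 = 1) : a⁻¹ = a * a := by
  rw [inv_eq_iff_mul_eq_one, ← h]; simp only [pow_succ, pow_zero, one_mul, mul_assoc]

theorem aux3 {a b : G} (ha : a ^ 3 = 1) (h : (a * b) ^ 2 = 1) : a⁻¹ * b = a * b⁻¹ * a⁻¹ := by
  rw [← aux1 h]; nth_rw 1 [aux2 ha]; group

theorem Car.r2 {y : ℕ → G} {m : ℕ} (h : Car y m) {i j : ℕ} (hi : i ≤ m) (hj : j ≤ m) (e : i ≠ j) :
    ((y i)⁻¹ * y j) ^ 3 = 1 := by
  by_cases h0 : i = 0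
  · rw [h0, h.zero]; simpa using h.cube j hj
  by_cases h1 : j = 0
  · rw [h1, h.zero]; simpa using h.cube i hi
  rw [aux3 (h.cube i hi) (h.sq i hi j hj h0 h1 e), conj_pow, inv_pow, h.cube j hj]; simp

theorem Car.r3 {y : ℕ → G} {m : ℕ} (h : Car y m) {i j k : ℕ} (hi : i ≤ m) (hj : j ≤ m) (hk : k ≤ m)
    (e1 : i ≠ j) (e2 : i ≠ k) (e3 : j ≠ k) : ((y i)⁻¹ * y j * (y i)⁻¹ * y k) ^ 2 = 1 := by
  by_cases h0 : i = 0
  · subst h0; rw [h.zero]; simpa using h.sq j hj k hk e1.symm e2.symm e3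
  have ci := h.cube i hi
  by_cases h1 : j = 0
  · subst h1
    rw [h.zero, mul_one, ← mul_inv_rev, ← aux2 ci, inv_inv]; exact h.sq i hi k hk h0 e3.symm e2
  have a1 := aux1 (h.sq j hj i hi h1 h0 e1.symm)
  by_cases h2 : k = 0
  · subst h2
    have : (y i)⁻¹ * y j * (y i)⁻¹ * ((y i)⁻¹ * y j * (y i)⁻¹) =
        (y i)⁻¹ * (y j * (y i * y i)⁻¹ * y j) * (y i)⁻¹ := by group
    rw [h.zero, mul_one, pow_two, this, ← aux2 ci, inv_inv, a1, ← inv_pow_three, ci, inv_one]
  have a2 := aux1 (h.sq i hi k hk h0 h2 e2)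
  have a3 := aux1 (h.sq j hj k hk h1 h2 e3)
  have e : (y i)⁻¹ * y j * (y i)⁻¹ = y i * (y j)⁻¹ * y i := by
    rw [aux3 ci (h.sq i hi j hj h0 h1 e1), mul_assoc (y i * _), ← mul_inv_rev, ← aux2 ci, inv_inv]
  have : y i * (y j)⁻¹ * y i * y k * (y i * (y j)⁻¹ * y i * y k) =
      y i * ((y j)⁻¹ * (y i * y k * y i) * (y j)⁻¹) * y i * y k := by group
  rw [e, pow_two, this, a2]
  have : (y j)⁻¹ * (y k)⁻¹ * (y j)⁻¹ = (y j * y k * y j)⁻¹ := by group
  rw [this, a3, inv_inv, a2, inv_mul_cancel]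
where inv_pow_three : ∀ {a : G}, (a ^ 3)⁻¹ = a⁻¹ * a⁻¹ * a⁻¹ := by intro a; group

theorem Car.inv {y : ℕ → G} {m : ℕ} (h : Car y m) : Car (fun i => (y i)⁻¹) m :=
  ⟨by simp [h.zero], fun i hi => by simp [h.cube i hi], fun i hi j hj a b c => by
    rw [← mul_inv_rev, inv_pow, h.sq j hj i hi b a c.symm, inv_one]⟩

theorem Car.map {H : Type*} [Group H] {y : ℕ → G} {m : ℕ} (h : Car y m) (f : G →* H) :
    Car (fun i => f (y i)) m :=
  ⟨by simp [h.zero], fun i hi => by rw [← map_pow, h.cube i hi, map_one], fun i hi j hj a b c => by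
    rw [← map_mul, ← map_pow, h.sq i hi j hj a b c, map_one]⟩

theorem Car.prod {y y' : ℕ → G} {m : ℕ} (h : Car y m) (h' : Car y' m) :
    Car (fun i => (y i, y' i)) m :=
  ⟨Prod.ext h.zero h'.zero, fun i hi => Prod.ext (h.cube i hi) (h'.cube i hi),
    fun i hi j hj a b c => Prod.ext (h.sq i hi j hj a b c) (h'.sq i hi j hj a b c)⟩

/-- Coxeter generators from star generators -/
def cx (t : ℕ → G) : ℕ → G
  | 0 => t 0
  | i + 1 => t i * t (i + 1) * t i

theorem cox_star {t : ℕ → G} {m : ℕ} (h1 : ∀ i ≤ m, t i * t i = 1)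
    (h2 : ∀ i ≤ m, ∀ j ≤ m, i ≠ j → t i * t j * t i = t j * t i * t j)
    (h3 : ∀ i ≤ m, ∀ j ≤ m, ∀ k ≤ m, i ≠ j → i ≠ k → j ≠ k → Commute (t i * t j * t i) (t k)) :
    CoxA (cx t) (m + 1) ∧ ∀ i ≤ m, t i ∈ gen (cx t) (m + 1) := by
  have cj : ∀ i ≤ m, ∀ a b, t i * a * t i * (t i * b * t i) = t i * (a * b) * t i := fun i hi a b => by
    rw [mul_assoc (t i * a), ← mul_assoc (t i), ← mul_assoc (t i), h1 i hi]; group
  refine ⟨⟨fun i hi => ?_, fun i hi => ?_, fun i j hij hj => ?_⟩, fun i => ?_⟩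
  · cases i with
    | zero => exact h1 0 (by omega)
    | succ i => rw [cx, cj i (by omega), h1 _ (by omega), mul_one, h1 _ (by omega)]
  · cases i with
    | zero =>
      have : t 0 = t 0 * t 0 * t 0 := by rw [h1 0 (by omega), one_mul]
      rw [cx, cx, this, ← this]
      conv_lhs => rw [this, ← this]; arg 1; arg 1; rw [this]
      conv_lhs => arg 2; rw [this]
      conv_rhs => arg 1; arg 2; rw [this]
      simp only [cj 0 (by omega)]
      rw [h2 0 (by omega) (0 + 1) (by omega) (by omega)]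
    | succ i =>
      rw [cx, cx, h2 i (by omega) (i + 1) (by omega) (by omega)]
      simp only [cj (i + 1) (by omega)]
      rw [h2 i (by omega) (i + 1 + 1) (by omega) (by omega)]
  · obtain ⟨j, rfl⟩ : ∃ k, j = k + 1 := ⟨j - 1, by omega⟩
    cases i with
    | zero => exact (h3 j (by omega) (j + 1) (by omega) 0 (by omega) (by omega) (by omega) (by omega)).symm
    | succ i =>
      have a := h3 i (by omega) (i + 1) (by omega) j (by omega) (by omega) (by omega) (by omega)
      have b := h3 i (by omega) (i + 1) (by omega) (j + 1) (by omega) (by omega) (by omega) (by omega)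
      exact (a.mul_right b).mul_right a
  · induction i with
    | zero => exact fun _ => mem_gen (cx t) (j := 0) (by omega)
    | succ i ih =>
      intro hi
      have a := ih (by omega)
      have b := mem_gen (cx t) (j := i + 1) (m := m + 1) (by omega)
      have : t (i + 1) = t i * cx t (i + 1) * t i := by
        rw [cx, ← mul_assoc, ← mul_assoc, h1 i (by omega), one_mul, mul_assoc, h1 i (by omega), mul_one]
      rw [this]; exact mul_mem (mul_mem a b) a

/-- two commuting regular actions -/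
def dbl : G × G →* Perm (G × Bool) :=
  MonoidHom.mk' (fun p => Equiv.prodCongrLeft fun b => Equiv.mulLeft (cond b p.1 p.2)) fun p q => by
    ext ⟨x, b⟩ <;> cases b <;> simp [mul_assoc]

/-- the swap -/
def th : Perm (G × Bool) := Equiv.prodCongrRight fun _ => Equiv.boolNot

theorem Car.card [Finite G] {y : ℕ → G} {m : ℕ} (h : Car y m) :
    2 * Nat.card (gen y (m + 1)) ≤ (m + 2).factorial := by
  let Y : ℕ → G × G := fun i => (y i, (y i)⁻¹)
  have hY : Car (fun i => dbl (Y i)) m := (h.prod h.inv).map dbl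
  set z : ℕ → Perm (G × Bool) := fun i => dbl (Y i)
  have t1 : (th : Perm (G × Bool)) * th = 1 := by ext ⟨x, b⟩ <;> simp [th]
  have t2 : ∀ i, z i * th = th * (z i)⁻¹ := fun i => by
    rw [← map_inv]; ext ⟨x, b⟩ <;> cases b <;> simp [th, z, Y, dbl]
  have t3 : ∀ i j, th * z i * (th * z j) = (z i)⁻¹ * z j := fun i j => by
    rw [← mul_assoc, mul_assoc th, t2, ← mul_assoc, t1, one_mul]
  have t4 : ∀ i, th * z i * (th * z i) = 1 := fun i => by rw [t3, inv_mul_cancel]
  have t5 : ∀ i, (th * z i)⁻¹ = th * z i := fun i => inv_eq_of_mul_eq_one_right (t4 i)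
  obtain ⟨hc, hm⟩ := cox_star (t := fun i => th * z i) (m := m) (fun i _ => t4 i)
    (fun i hi j hj e => by
      have := hY.r2 hi hj e
      rw [← t3] at this
      rw [← mul_inv_eq_one, ← this]
      simp only [mul_inv_rev (_ * _) (_ * _), t5]
      simp only [pow_succ, pow_zero, one_mul, mul_assoc])
    (fun i hi j hj k hk e1 e2 e3 => by
      have := hY.r3 hi hj hk e1 e2 e3
      rw [mul_assoc, ← t3, ← t3] at this
      rw [← commutatorElement_eq_one_iff_commute, commutatorElement_def, ← this]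
      simp only [mul_inv_rev (_ * _) (_ * _), t5]
      simp only [pow_succ, pow_zero, one_mul, mul_assoc])
  set K := gen (cx fun i => th * z i) (m + 1)
  have hth : th ∈ K := by simpa [hY.zero] using hm 0 (by omega)
  have hle : gen z (m + 1) ≤ K := gen_le fun j hj => by
    have := mul_mem hth (hm j (by omega))
    rwa [← mul_assoc, t1, one_mul] at this
  have nth : th ∉ gen z (m + 1) := fun h => by
    rw [← gen_map dbl Y] at h
    obtain ⟨p, -, hp⟩ := h
    simpa [dbl, th] using congrArg (fun σ : Perm (G × Bool) => (σ (1, true)).2) hp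
  have lt : gen z (m + 1) < K := lt_of_le_of_ne hle fun e => nth (e ▸ hth)
  have inj : Function.Injective (dbl : G × G →* _) := (injective_iff_map_eq_one _).2 fun p hp =>
    Prod.ext (by simpa [dbl] using congrArg (fun σ : Perm (G × Bool) => (σ (1, true)).1) hp)
      (by simpa [dbl] using congrArg (fun σ : Perm (G × Bool) => (σ (1, false)).1) hp)
  have c1 : Nat.card (gen y (m + 1)) ≤ Nat.card (gen z (m + 1)) := by
    have e1 : gen z (m + 1) = (gen Y (m + 1)).map (dbl : G × G →* Perm (G × Bool)) :=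
      (gen_map (dbl : G × G →* Perm (G × Bool)) Y (m + 1)).symm
    have e2 : gen y (m + 1) = (gen Y (m + 1)).map (MonoidHom.fst G G) :=
      (gen_map (MonoidHom.fst G G) Y _).symm
    rw [e1, e2, Subgroup.card_map_of_injective inj]
    exact Nat.card_le_card_of_surjective _ ((MonoidHom.fst G G).subgroupMap_surjective _)
  have c2 := hc.card.2
  obtain ⟨k, hk⟩ := Subgroup.card_dvd_of_le hle
  have k2 : 2 ≤ k := by
    by_contra hk2
    have := Nat.card_pos (α := K)
    interval_cases k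
    · omega
    · exact lt.ne (Subgroup.eq_of_le_of_card_ge hle (by omega))
  nlinarith

end Cfsg.Agent.Perm.Carm
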