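import Cfsg.Agent.Lib.Perm.GL2b
import Cfsg.Agent.Lib.Char.Integral

/-! The characters of `GL₂` over a finite field. -/

namespace Cfsg.Agent.Perm.GL2

open Matrix Cfsg.Agent.Char
open Matrix.SpecialLinearGroup (toGL toGL_injective)
open scoped ComplexConjugate

section General
variable {G : Type*} [Group G]

theorem extendByZero_conj {H : Subgroup G} {θ : H → ℂ} (hθ : IsClassFunction H θ) (h : H) (y : G) :
    extendByZero H θ ((h : G)⁻¹ * y * h) = extendByZero H θ y := by
  by_cases hy : y ∈ H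
  · rw [extendByZero_of_mem H θ hy, ← hθ.apply_conj' ⟨y, hy⟩ h, ← extendByZero_coe H θ]; rfl
  · rw [extendByZero_of_not_mem H θ hy, extendByZero_of_not_mem]
    intro h'
    apply hy
    have := mul_mem (mul_mem h.2 h') (inv_mem h.2)
    simpa [mul_assoc] using this

theorem indFun_eq_sum_transversal [Fintype G] (H : Subgroup G) {θ : H → ℂ}
    (hθ : IsClassFunction H θ) {ι : Type*} [Fintype ι] (r : ι → G)
    (hr : Function.Bijective fun p : ι × H => r p.1 * p.2) (g : G) :
    indFun H θ g = ∑ i, extendByZero H θ ((r i)⁻¹ * g * r i) := by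
  classical
  rw [indFun_apply, ← (Equiv.ofBijective _ hr).sum_comp, Fintype.sum_prod_type]
  have : ∀ (i : ι) (h : H), extendByZero H θ (((Equiv.ofBijective _ hr) (i, h))⁻¹ * g *
      (Equiv.ofBijective _ hr) (i, h)) = extendByZero H θ ((r i)⁻¹ * g * r i) := by
    intro i h
    rw [← extendByZero_conj hθ h ((r i)⁻¹ * g * r i)]
    simp [mul_assoc]
  simp only [this, Finset.sum_const, Finset.card_univ, nsmul_eq_mul, ← Finset.mul_sum]
  rw [← Nat.card_eq_fintype_card, inv_mul_cancel_left₀ (card_ne_zero' H)]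

open Classical in
theorem card_conj_fiber [Fintype G] (g y : G) :
    (Finset.univ.filter fun x => x⁻¹ * g * x = y).card =
      if IsConj g y then Nat.card (cent g) else 0 := by
  split_ifs with h
  · obtain ⟨x0, hx0⟩ := isConj_iff.1 h.symm
    rw [← Fintype.card_subtype, ← Nat.card_eq_fintype_card]
    refine Nat.card_congr ⟨fun x => ⟨x.1 * x0⁻¹, mem_cent.2 ?_⟩,
      fun c => ⟨c.1 * x0, ?_⟩, fun x => by simp, fun c => by simp⟩
    · have := x.2
      calc x.1 * x0⁻¹ * g = x.1 * x0⁻¹ * (x0 * y * x0⁻¹) := by rw [hx0]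
        _ = x.1 * (x.1⁻¹ * g * x.1) * x0⁻¹ := by rw [this]; group
        _ = g * (x.1 * x0⁻¹) := by group
    · have := mem_cent.1 c.2
      calc (c.1 * x0)⁻¹ * g * (c.1 * x0) = x0⁻¹ * (c.1⁻¹ * (g * c.1)) * x0 := by group
        _ = x0⁻¹ * g * x0 := by rw [← this]; group
        _ = y := by rw [← hx0]; group
  · rw [Finset.card_eq_zero, Finset.filter_eq_empty_iff]
    intro x _ hx
    exact h (isConj_iff.2 ⟨x⁻¹, by rw [inv_inv, hx]⟩)

open Classical in
theorem indFun_eq_sum_isConj [Fintype G] (H : Subgroup G) [Fintype H] (θ : H → ℂ) (g : G) :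
    indFun H θ g = (Nat.card H : ℂ)⁻¹ * Nat.card (cent g) *
      ∑ h : H, if IsConj g h then θ h else 0 := by
  rw [indFun_apply, mul_assoc]
  congr 1
  rw [← Finset.sum_fiberwise' Finset.univ (fun x => x⁻¹ * g * x) (extendByZero H θ)]
  simp only [Finset.sum_const, card_conj_fiber, nsmul_eq_mul]
  simp only [mul_comm _ (extendByZero H θ _)]
  rw [sum_extendByZero_mul, Finset.mul_sum]
  refine Finset.sum_congr rfl fun h _ => ?_
  split_ifs <;> simp [mul_comm]

open Classical in
theorem sum_hom_mul_conj [Fintype G] (θ θ' : G →* ℂˣ) :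
    ∑ a, (θ a : ℂ) * conj (θ' a : ℂ) = if θ = θ' then (Nat.card G : ℂ) else 0 := by
  have h := (isIrrCharacter_units θ).classInner_eq_ite (isIrrCharacter_units θ')
  rw [classInner, inv_mul_eq_iff_eq_mul₀ (card_ne_zero' G)] at h
  rw [h]
  by_cases h' : θ = θ'
  · simp [h']
  · rw [if_neg h', if_neg, mul_zero]
    intro h2
    exact h' (MonoidHom.ext fun a => Units.ext (congrFun h2 a))

theorem card_hom_units [Finite G] (hG : ∀ a b : G, a * b = b * a) :
    Nat.card (G →* ℂˣ) = Nat.card G := by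
  letI : CommGroup G := { (inferInstance : Group G) with mul_comm := hG }
  exact CommGroup.card_monoidHom_of_hasEnoughRootsOfUnity G ℂ

theorem finite_hom_units [Finite G] (hG : ∀ a b : G, a * b = b * a) : Finite (G →* ℂˣ) :=
  Nat.finite_of_card_ne_zero (by rw [card_hom_units hG]; exact Nat.card_pos.ne')

open Classical in
theorem sum_hom_apply [Finite G] (hG : ∀ a b : G, a * b = b * a) [Fintype (G →* ℂˣ)] (a : G) :
    ∑ θ : G →* ℂˣ, (θ a : ℂ) = if a = 1 then (Nat.card G : ℂ) else 0 := by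
  split_ifs with h
  · simp [h, ← card_hom_units hG]
  · letI : CommGroup G := { (inferInstance : Group G) with mul_comm := hG }
    obtain ⟨φ, hφ⟩ := CommGroup.exists_apply_ne_one_of_hasEnoughRootsOfUnity G ℂ h
    let ev : (G →* ℂˣ) →* ℂ := (Units.coeHom ℂ).comp (MonoidHom.eval a)
    refine sum_hom_units_eq_zero ev fun h1 => hφ (Units.ext ?_)
    exact DFunLike.congr_fun h1 φ

theorem exists_hom_extend [Finite G] (hG : ∀ a b : G, a * b = b * a) {A : Type*} [Group A]
    (f : A →* G) (hf : Function.Injective f) (θ : A →* ℂˣ) :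
    ∃ θ' : G →* ℂˣ, ∀ a, θ' (f a) = θ a := by
  letI : CommGroup G := { (inferInstance : Group G) with mul_comm := hG }
  obtain ⟨θ', h⟩ := MonoidHom.domRestrict_surjective ℂ f.range
    (θ.comp (MonoidHom.ofInjective hf).symm.toMonoidHom)
  refine ⟨θ', fun a => ?_⟩
  have := DFunLike.congr_fun h (MonoidHom.ofInjective hf a)
  simpa [MonoidHom.ofInjective_apply] using this

theorem card_eq_two_mul_of_invol {A B : Type*} [Finite A] (f : A → B) (hf : Function.Surjective f)
    (σ : A → A) (hσ : ∀ a, σ a ≠ a) (h : ∀ a a', f a' = f a ↔ a' = a ∨ a' = σ a) :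
    Nat.card A = 2 * Nat.card B := by
  classical
  haveI := Finite.of_surjective f hf
  haveI := Fintype.ofFinite A
  haveI := Fintype.ofFinite B
  rw [Nat.card_eq_fintype_card, Nat.card_eq_fintype_card, ← Finset.card_univ,
    Finset.card_eq_sum_card_fiberwise (f := f) (t := Finset.univ) (fun _ _ => Finset.mem_univ _),
    Finset.sum_congr rfl (g := fun _ => 2), Finset.sum_const, smul_eq_mul, mul_comm,
    Finset.card_univ]
  intro b _
  obtain ⟨a, rfl⟩ := hf b
  rw [← Finset.card_pair (hσ a).symm]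
  congr 1
  ext a'
  simp [h]

theorem eq_or_eq_of_inner_add [Fintype G] {χ φ ψ : G → ℂ} (hχ : IsIrrCharacter G χ)
    (hφ : IsIrrCharacter G φ) (hψ : IsIrrCharacter G ψ) {a b : ℂ}
    (h : classInner χ (a • φ + b • ψ) ≠ 0) : χ = φ ∨ χ = ψ := by
  by_contra hc
  push Not at hc
  apply h
  rw [classInner_add_right, classInner_smul_right, classInner_smul_right,
    hχ.classInner_of_ne hφ hc.1, hχ.classInner_of_ne hψ hc.2]
  simp

end General

variable {F : Type*} [Field F]

/-- coset representatives for the Borel subgroup -/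
def rS : Option F → SL2 F
  | none => 1
  | some t => ⟨!![t, -1; 1, 0], by simp [det_fin_two]⟩

theorem rS_some_inv (t : F) : (((rS (some t))⁻¹ : SL2 F) : M2 F) = !![0, 1; -1, t] := by
  rw [Matrix.SpecialLinearGroup.coe_inv, adjugate_fin_two]; simp [rS]

theorem rS_some (t : F) : ((rS (some t) : SL2 F) : M2 F) = !![t, -1; 1, 0] := rfl

/-- upper left entry, on the Borel subgroup -/
def e0 {G : Type*} [Group G] (f : G →* GL (Fin 2) F) (H : Subgroup G)
    (hH : ∀ g ∈ H, (f g : M2 F) 1 0 = 0) : H →* F where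
  toFun b := (f b : M2 F) 0 0
  map_one' := by simp
  map_mul' a b := by simp [mul_apply2, hH b b.2]

/-- lower right entry, on the Borel subgroup -/
def e1 {G : Type*} [Group G] (f : G →* GL (Fin 2) F) (H : Subgroup G)
    (hH : ∀ g ∈ H, (f g : M2 F) 1 0 = 0) : H →* F where
  toFun b := (f b : M2 F) 1 1
  map_one' := by simp
  map_mul' a b := by simp [mul_apply2, hH a a.2]

theorem hom_conj {H : Type*} [Group H] (e : H →* F) (g h : H) : e (h * g * h⁻¹) = e g := by
  rw [map_mul, map_mul, mul_right_comm, ← map_mul, mul_inv_cancel, map_one, one_mul]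

theorem isClassFunction_entries {G : Type*} [Group G] (f : G →* GL (Fin 2) F) (H : Subgroup G)
    (hH : ∀ g ∈ H, (f g : M2 F) 1 0 = 0) (φ : F → F → ℂ) :
    IsClassFunction H (fun b : H => φ ((f b : M2 F) 0 0) ((f b : M2 F) 1 1)) := fun g h =>
  congrArg₂ φ (hom_conj (e0 f H hH) g h) (hom_conj (e1 f H hH) g h)

/-- scalar matrices in the centraliser of `e` -/
def scC (e : GL (Fin 2) F) : Fˣ →* cent e :=
  (GeneralLinearGroup.scalar (Fin 2)).codRestrict _ fun a => scal_mem_cent (isScal_sc a) e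

open Classical in
/-- restriction of a function on the non-split torus to the scalars -/
noncomputable def res {e : GL (Fin 2) F} (θ : cent e → ℂ) (a : F) : ℂ :=
  if h : IsUnit a then θ (scC e h.unit) else 0

theorem res_coe {e : GL (Fin 2) F} (θ : cent e → ℂ) (a : Fˣ) : res θ a = θ (scC e a) := by
  simp [res]

theorem res_scal {e : GL (Fin 2) F} (θ : cent e → ℂ) {g : GL (Fin 2) F} (h : IsScal (g : M2 F)) :
    res θ ((g : M2 F) 0 0) = θ ⟨g, scal_mem_cent h e⟩ := by
  obtain ⟨a, rfl⟩ := isScal_iff_sc.1 h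
  rw [sc_apply00, res_coe]; rfl

/-- the adjugate on the non-split torus -/
def barC {e : GL (Fin 2) F} (he : IsEll (e : M2 F)) : cent e →* cent e :=
  MonoidHom.mk' (fun c => ⟨bar c, bar_mem_cent c.2⟩) fun a b => Subtype.ext (by
    show bar ((a : GL (Fin 2) F) * (b : GL (Fin 2) F)) = bar (a : GL (Fin 2) F) * bar (b : GL (Fin 2) F)
    rw [cent_comm he.not_scal a.2 b.2, bar_mul])

theorem barC_barC {e : GL (Fin 2) F} (he : IsEll (e : M2 F)) (c : cent e) :
    barC he (barC he c) = c := Subtype.ext (bar_bar _)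

theorem barC_scal {e : GL (Fin 2) F} (he : IsEll (e : M2 F)) {c : cent e}
    (h : IsScal ((c : GL (Fin 2) F) : M2 F)) : barC he c = c := Subtype.ext (bar_scal h)

theorem centC_comm {e : GL (Fin 2) F} (he : IsEll (e : M2 F)) (a b : cent e) : a * b = b * a :=
  Subtype.ext (cent_comm he.not_scal a.2 b.2)

variable [Fintype F] [DecidableEq F]

/-- explicit formula for characters induced from the Borel subgroup -/
noncomputable def rt (φ : F → F → ℂ) (m : M2 F) : ℂ :=
  (if m 1 0 = 0 then φ (m 0 0) (m 1 1) else 0) +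
    ∑ t : F, if t * (m 1 0 * t + m 1 1) - (m 0 0 * t + m 0 1) = 0 then
      φ (m 1 0 * t + m 1 1) (m 0 0 - t * m 1 0) else 0

theorem indFun_borel {G : Type*} [Group G] [Fintype G] (f : G →* GL (Fin 2) F) (H : Subgroup G)
    (hH : ∀ g, g ∈ H ↔ (f g : M2 F) 1 0 = 0) (r : Option F → G) (hr : ∀ i, f (r i) = toGL (rS i))
    (φ : F → F → ℂ) (g : G) :
    indFun H (fun b : H => φ ((f b : M2 F) 0 0) ((f b : M2 F) 1 1)) g = rt φ (f g) := by
  have hinv : ∀ i, ((f (r i)⁻¹ : GL (Fin 2) F) : M2 F) = ((rS i)⁻¹ : SL2 F) := by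
    intro i; rw [map_inv, hr, ← map_inv]; rfl
  have hr' : ∀ i, ((f (r i) : GL (Fin 2) F) : M2 F) = (rS i : SL2 F) := by
    intro i; rw [hr]; rfl
  rw [indFun_eq_sum_transversal H (isClassFunction_entries f H (fun g => (hH g).1) φ) r]
  · rw [Fintype.sum_option, rt]
    have key : ∀ y : G, extendByZero H (fun b : H => φ ((f b : M2 F) 0 0) ((f b : M2 F) 1 1)) y =
        if (f y : M2 F) 1 0 = 0 then φ ((f y : M2 F) 0 0) ((f y : M2 F) 1 1) else 0 := by
      intro y
      split_ifs with h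
      · exact extendByZero_of_mem _ _ ((hH y).2 h)
      · exact extendByZero_of_not_mem _ _ fun h' => h ((hH y).1 h')
    simp only [key, map_mul, Units.val_mul, hinv, hr', rS_some_inv, rS_some, mul_apply2]
    congr 1
    · simp [rS]
    · refine Finset.sum_congr rfl fun t _ => ?_
      simp only [of_apply, cons_val', cons_val_zero, cons_val_one, cons_val_fin_one]
      congr 1
      · congr 1; ring
      · congr 1 <;> ring
  · constructor
    · rintro ⟨i, h⟩ ⟨j, h'⟩ he
      simp only at he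
      have h1 : (r j)⁻¹ * r i ∈ H := by
        have : (r j)⁻¹ * r i = h' * h⁻¹ := by
          rw [inv_mul_eq_iff_eq_mul, ← mul_assoc, ← he]; simp
        rw [this]; exact mul_mem h'.2 (inv_mem h.2)
      rw [hH, map_mul, Units.val_mul, hinv, hr', mul_apply2] at h1
      have hij : i = j := by
        cases i <;> cases j
        · rfl
        · simp only [rS_some_inv] at h1
          simp [rS] at h1
        · simp [rS] at h1
        · simp only [rS_some_inv, rS_some] at h1
          simp at h1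
          rw [neg_add_eq_zero.1 h1]
      subst hij
      rw [Subtype.ext (mul_left_cancel he)]
    · intro y
      by_cases hy : (f y : M2 F) 1 0 = 0
      · refine ⟨(none, ⟨(r none)⁻¹ * y, ?_⟩), by simp⟩
        rw [hH, map_mul, Units.val_mul, hinv, mul_apply2]
        simp [rS, hy]
      · refine ⟨(some ((f y : M2 F) 0 0 / (f y : M2 F) 1 0), 
          ⟨(r (some ((f y : M2 F) 0 0 / (f y : M2 F) 1 0)))⁻¹ * y, ?_⟩), by simp⟩
        rw [hH, map_mul, Units.val_mul, hinv, mul_apply2, rS_some_inv]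
        simp [hy]

theorem rt_scal (φ : F → F → ℂ) {m : M2 F} (h : IsScal m) :
    rt φ m = (Fintype.card F + 1) * φ (m 0 0) (m 0 0) := by
  simp [rt, h.1, h.2.1, ← h.2.2, mul_comm]; ring

theorem rt_jord (φ : F → F → ℂ) {m : M2 F} (h : IsJord m) : rt φ m = φ (m 0 0) (m 0 0) := by
  simp [rt, h.1, ← h.2.1, mul_comm, h.2.2]

theorem rt_upper (φ : F → F → ℂ) {m : M2 F} (h : m 1 0 = 0) (hne : m 0 0 ≠ m 1 1) :
    rt φ m = φ (m 0 0) (m 1 1) + φ (m 1 1) (m 0 0) := by
  have h1 : m 1 1 - m 0 0 ≠ 0 := sub_ne_zero.2 hne.symm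
  have : ∀ t : F, (t * (m 1 0 * t + m 1 1) - (m 0 0 * t + m 0 1) = 0) ↔
      t = m 0 1 / (m 1 1 - m 0 0) := by
    intro t
    rw [eq_div_iff h1, h]
    constructor <;> intro h' <;> linear_combination h'
  simp only [rt, this]
  simp [h]

theorem rt_ell (φ : F → F → ℂ) {m : M2 F} (h : IsEll m) : rt φ m = 0 := by
  rw [rt, if_neg h.ne10, zero_add]
  refine Finset.sum_eq_zero fun t _ => if_neg fun h' => ?_
  apply isEll_iff.1 h (m 1 0 * t + m 1 1)
  rw [trace_fin_two, det_fin_two]
  linear_combination m 1 0 * h'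

/-- Harish-Chandra induction from the diagonal torus -/
noncomputable def RT (φ : F → F → ℂ) : GL (Fin 2) F → ℂ :=
  indFun (upperTriangularGL 2 F) fun b =>
    φ (((b : GL (Fin 2) F) : M2 F) 0 0) (((b : GL (Fin 2) F) : M2 F) 1 1)

theorem RT_apply (φ : F → F → ℂ) (g : GL (Fin 2) F) : RT φ g = rt φ g :=
  indFun_borel (MonoidHom.id _) _ (fun _ => mem_B) (fun i => toGL (rS i)) (fun _ => rfl) φ g

theorem indFun_B1 (φ : F → F → ℂ) (g : SL2 F) :
    indFun ((upperTriangularGL 2 F).comap (toGL : SL2 F →* GL (Fin 2) F))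
      (fun b => φ (((b : SL2 F) : M2 F) 0 0) (((b : SL2 F) : M2 F) 1 1)) g = RT φ (toGL g) := by
  rw [RT_apply]
  exact indFun_borel toGL _ (fun _ => mem_B) rS (fun _ => rfl) φ g

theorem isClassFunction_RT (φ : F → F → ℂ) : IsClassFunction _ (RT φ) :=
  isClassFunction_indFun _ _

theorem RT_scal (φ : F → F → ℂ) {g : GL (Fin 2) F} (h : IsScal (g : M2 F)) :
    RT φ g = (Fintype.card F + 1) * φ ((g : M2 F) 0 0) ((g : M2 F) 0 0) := by
  rw [RT_apply, rt_scal φ h]

theorem RT_jord (φ : F → F → ℂ) {g : GL (Fin 2) F} (h : IsJord (g : M2 F)) :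
    RT φ g = φ ((g : M2 F) 0 0) ((g : M2 F) 0 0) := by
  rw [RT_apply, rt_jord φ h]

theorem RT_upper (φ : F → F → ℂ) {g : GL (Fin 2) F} (h : (g : M2 F) 1 0 = 0)
    (hne : (g : M2 F) 0 0 ≠ (g : M2 F) 1 1) :
    RT φ g = φ ((g : M2 F) 0 0) ((g : M2 F) 1 1) + φ ((g : M2 F) 1 1) ((g : M2 F) 0 0) := by
  rw [RT_apply, rt_upper φ h hne]

theorem RT_ell (φ : F → F → ℂ) {g : GL (Fin 2) F} (h : IsEll (g : M2 F)) : RT φ g = 0 := by
  rw [RT_apply, rt_ell φ h]

omit [DecidableEq F] in
theorem classFun_ext {e : GL (Fin 2) F} (he : IsEll (e : M2 F)) {f f' : GL (Fin 2) F → ℂ}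
    (hf : IsClassFunction _ f) (hf' : IsClassFunction _ f')
    (h1 : ∀ g : GL (Fin 2) F, IsScal (g : M2 F) → f g = f' g)
    (h2 : ∀ g : GL (Fin 2) F, IsJord (g : M2 F) → f g = f' g)
    (h3 : ∀ g : GL (Fin 2) F, IsDiag (g : M2 F) → f g = f' g)
    (h4 : ∀ g ∈ cent e, ¬ IsScal (g : M2 F) → f g = f' g) : f = f' := by
  funext g
  rcases classify g with h | h | ⟨h, hc, hj⟩ | ⟨h, hc, hj⟩
  · exact h1 g h
  · obtain ⟨c, hc, h'⟩ := he.exists_isConj h
    rw [hf.eq_of_isConj h', hf'.eq_of_isConj h', h4 c hc (isEll_of_isConj h' h).not_scal]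
  · rw [hf.eq_of_isConj hc, hf'.eq_of_isConj hc, h2 h hj]
  · rw [hf.eq_of_isConj hc, hf'.eq_of_isConj hc, h3 h hj]

theorem RT_congr {φ φ' : F → F → ℂ} (h : ∀ a d : F, a ≠ 0 → d ≠ 0 → φ a d = φ' a d) :
    RT φ = RT φ' := by
  unfold RT
  congr 1
  funext b
  exact h _ _ (upper_ne (mem_B.1 b.2)).1 (upper_ne (mem_B.1 b.2)).2

theorem RT_swap (φ : F → F → ℂ) : RT (fun a d => φ d a) = RT φ := by
  obtain ⟨e, he⟩ := exists_ell (F := F)
  refine classFun_ext he (isClassFunction_RT _) (isClassFunction_RT _) (fun g h => ?_)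
    (fun g h => ?_) (fun g h => ?_) (fun g hg h => ?_)
  · rw [RT_scal _ h, RT_scal _ h]
  · rw [RT_jord _ h, RT_jord _ h]
  · rw [RT_upper _ h.2.1 h.2.2, RT_upper _ h.2.1 h.2.2, add_comm]
  · rw [RT_ell _ (he.of_mem_cent hg h), RT_ell _ (he.of_mem_cent hg h)]

theorem RT_mul_det (φ : F → F → ℂ) (l : F → ℂ) :
    RT (fun a d => φ a d * l (a * d)) = RT φ * fun g : GL (Fin 2) F => l (g : M2 F).det := by
  rw [RT, RT, ← indFun_mul_res]
  · congr 1
    funext b
    rw [det_fin_two, mem_B.1 b.2, mul_zero, sub_zero]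
  · intro g h
    simp only [Units.val_mul, det_conj'']

theorem cast_q_ne : (Fintype.card F : ℂ) ≠ 0 := by exact_mod_cast Fintype.card_ne_zero

theorem cast_q_sub_one_ne : (Fintype.card F : ℂ) - 1 ≠ 0 := by
  rw [sub_ne_zero]; exact_mod_cast Fintype.one_lt_card.ne'

theorem cast_q_add_one_ne : (Fintype.card F : ℂ) + 1 ≠ 0 := by
  exact_mod_cast Nat.succ_ne_zero (Fintype.card F)

theorem cast_q_sub_one : ((Fintype.card F - 1 : ℕ) : ℂ) = Fintype.card F - 1 := by
  rw [Nat.cast_sub Fintype.card_pos, Nat.cast_one]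

theorem cast_card_GL2 : (Nat.card (GL (Fin 2) F) : ℂ) =
    Fintype.card F * (Fintype.card F + 1) * (Fintype.card F - 1) ^ 2 := by
  rw [card_GL2]; push_cast [cast_q_sub_one]; ring

theorem cast_card_SL2 : (Nat.card (SL2 F) : ℂ) =
    Fintype.card F * (Fintype.card F + 1) * (Fintype.card F - 1) := by
  rw [card_SL2]; push_cast [cast_q_sub_one]; ring

theorem IsEll.cast_card_cent {e : GL (Fin 2) F} (he : IsEll (e : M2 F)) :
    (Nat.card (cent e) : ℂ) = (Fintype.card F + 1) * (Fintype.card F - 1) := by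
  rw [he.card_cent, sq_sub_one_eq]; push_cast [cast_q_sub_one]; ring

theorem inner_ind_B (θ : upperTriangularGL 2 F → ℂ) {f : GL (Fin 2) F → ℂ}
    (hf : IsClassFunction _ f) : classInner (indFun (upperTriangularGL 2 F) θ) f =
      ((Fintype.card F : ℂ) * (Fintype.card F - 1) ^ 2)⁻¹ *
        ∑ a : Fˣ, ∑ d : Fˣ, ∑ x : F, θ (borelEquiv (a, d, x)) * conj (f (up a d x)) := by
  classical
  rw [frobenius_left _ _ hf, classInner, card_B, ← borelEquiv.sum_comp]
  simp only [Fintype.sum_prod_type]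
  push_cast [cast_q_sub_one]
  rfl

theorem inner_RT_left (φ : F → F → ℂ) {f : GL (Fin 2) F → ℂ} (hf : IsClassFunction _ f) :
    classInner (RT φ) f = ((Fintype.card F : ℂ) * (Fintype.card F - 1) ^ 2)⁻¹ *
      ∑ a : Fˣ, ∑ d : Fˣ, φ a d * conj (∑ x : F, f (up a d x)) := by
  rw [RT, inner_ind_B _ hf]
  simp only [map_sum, Finset.mul_sum]
  rfl

theorem sum_up_self (f : GL (Fin 2) F → ℂ) (a : Fˣ) (c : ℂ)
    (h : ∀ x : F, x ≠ 0 → f (up a a x) = c) :
    ∑ x : F, f (up a a x) = f (up a a 0) + (Fintype.card F - 1) * c := by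
  rw [← Finset.add_sum_erase _ _ (Finset.mem_univ 0), Finset.sum_congr rfl
    (fun x hx => h x (Finset.ne_of_mem_erase hx)), Finset.sum_const,
    Finset.card_erase_of_mem (Finset.mem_univ _), Finset.card_univ, nsmul_eq_mul, cast_q_sub_one]

omit [Fintype F] [DecidableEq F] in
theorem isScal_up (a : Fˣ) : IsScal (up a a 0 : M2 F) := ⟨by simp, by simp, by simp⟩

omit [Fintype F] [DecidableEq F] in
theorem isJord_up (a : Fˣ) {x : F} (hx : x ≠ 0) : IsJord (up a a x : M2 F) :=
  ⟨by simp, by simp, by simpa using hx⟩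

theorem sum_RT_up (φ : F → F → ℂ) (a d : Fˣ) :
    ∑ x : F, RT φ (up a d x) = Fintype.card F * (φ a d + φ d a) := by
  by_cases h : a = d
  · subst h
    rw [sum_up_self _ a (φ a a) fun x hx => by rw [RT_jord _ (isJord_up a hx)]; simp,
      RT_scal _ (isScal_up a)]
    simp; ring
  · rw [Finset.sum_congr rfl (g := fun _ => φ a d + φ d a) fun x _ => by
      rw [RT_upper _ (by simp) (by simpa using fun h' => h (Units.ext h'))]; simp]
    simp [mul_add]

theorem inner_RT_RT (φ φ' : F → F → ℂ) : classInner (RT φ) (RT φ') =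
    (((Fintype.card F : ℂ) - 1) ^ 2)⁻¹ * ∑ a : Fˣ, ∑ d : Fˣ, φ a d * conj (φ' a d + φ' d a) := by
  rw [inner_RT_left _ (isClassFunction_RT _)]
  simp only [sum_RT_up, map_mul, map_natCast, mul_left_comm _ (Fintype.card F : ℂ),
    ← Finset.mul_sum]
  have := cast_q_ne (F := F)
  field_simp

theorem IC_scal {e : GL (Fin 2) F} (he : IsEll (e : M2 F)) (θ : cent e → ℂ) {g : GL (Fin 2) F}
    (h : IsScal (g : M2 F)) : indFun (cent e) θ g =
      Fintype.card F * (Fintype.card F - 1) * θ ⟨g, scal_mem_cent h e⟩ := by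
  classical
  rw [indFun_eq_sum_isConj, Finset.sum_eq_single ⟨g, scal_mem_cent h e⟩, if_pos (IsConj.refl _),
    cent_scal h, Subgroup.card_top, cast_card_GL2, he.cast_card_cent]
  · have := cast_q_sub_one_ne (F := F)
    have := cast_q_add_one_ne (F := F)
    field_simp
  · intro b _ hb
    exact if_neg fun hc => hb (Subtype.ext (eq_of_isConj_scal hc h))
  · simp

theorem IC_mem {e : GL (Fin 2) F} (he : IsEll (e : M2 F)) (θ : cent e → ℂ) (c : cent e)
    (h : ¬ IsScal ((c : GL (Fin 2) F) : M2 F)) :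
    indFun (cent e) θ c = θ c + θ (barC he c) := by
  classical
  have hne : c ≠ barC he c := fun h' =>
    (he.of_mem_cent c.2 h).ne_bar (congrArg Subtype.val h').symm
  rw [indFun_eq_sum_isConj, cent_eq_cent he.not_scal c.2 h,
    inv_mul_cancel₀ (card_ne_zero' _), one_mul, ← Finset.sum_pair hne,
    ← Finset.sum_subset (Finset.subset_univ {c, barC he c})]
  · refine Finset.sum_congr rfl fun x hx => if_pos ?_
    rw [he.isConj_iff c.2 x.2]
    simp only [Finset.mem_insert, Finset.mem_singleton] at hx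
    rcases hx with rfl | rfl
    · exact Or.inl rfl
    · exact Or.inr rfl
  · intro x _ hx
    refine if_neg fun h' => hx ?_
    rw [he.isConj_iff c.2 x.2] at h'
    simp only [Finset.mem_insert, Finset.mem_singleton]
    exact h'.imp Subtype.ext Subtype.ext

theorem IC_zero {e : GL (Fin 2) F} (he : IsEll (e : M2 F)) (θ : cent e → ℂ) {g : GL (Fin 2) F}
    (h : ¬ IsScal (g : M2 F)) (h' : ¬ IsEll (g : M2 F)) : indFun (cent e) θ g = 0 := by
  refine indFun_eq_zero _ _ _ fun x hx => ?_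
  have hc : IsConj (x * g * x⁻¹) g := (isConj_iff.2 ⟨x, rfl⟩).symm
  exact (h' (isEll_of_isConj hc (he.of_mem_cent hx fun hs => h (isScal_of_isConj hc hs)))).elim

/-- The cuspidal class function attached to a function on the non-split torus. -/
noncomputable def XC {e : GL (Fin 2) F} (θ : cent e → ℂ) : GL (Fin 2) F → ℂ :=
  RT (fun a _ => res θ a) * (RT (fun _ _ => 1) - fun _ => 2) - indFun (cent e) θ

theorem isClassFunction_XC {e : GL (Fin 2) F} (θ : cent e → ℂ) : IsClassFunction _ (XC θ) :=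
  ((isClassFunction_RT _).mul ((isClassFunction_RT _).sub (IsClassFunction.const 2))).sub
    (isClassFunction_indFun _ _)

theorem XC_scal {e : GL (Fin 2) F} (he : IsEll (e : M2 F)) (θ : cent e → ℂ) {g : GL (Fin 2) F}
    (h : IsScal (g : M2 F)) : XC θ g = (Fintype.card F - 1) * res θ ((g : M2 F) 0 0) := by
  simp only [XC, Pi.sub_apply, Pi.mul_apply, RT_scal _ h, IC_scal he θ h, res_scal θ h]
  ring

theorem XC_jord {e : GL (Fin 2) F} (he : IsEll (e : M2 F)) (θ : cent e → ℂ) {g : GL (Fin 2) F}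
    (h : IsJord (g : M2 F)) : XC θ g = -res θ ((g : M2 F) 0 0) := by
  simp only [XC, Pi.sub_apply, Pi.mul_apply, RT_jord _ h, IC_zero he θ h.not_scal h.not_ell]
  ring

theorem XC_upper {e : GL (Fin 2) F} (he : IsEll (e : M2 F)) (θ : cent e → ℂ) {g : GL (Fin 2) F}
    (h : (g : M2 F) 1 0 = 0) (hne : (g : M2 F) 0 0 ≠ (g : M2 F) 1 1) : XC θ g = 0 := by
  simp only [XC, Pi.sub_apply, Pi.mul_apply, RT_upper _ h hne,
    IC_zero he θ (fun hs => hne hs.2.2) (fun h' => h'.ne10 h)]
  ring

theorem XC_mem {e : GL (Fin 2) F} (he : IsEll (e : M2 F)) (θ : cent e → ℂ) (c : cent e)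
    (h : ¬ IsScal ((c : GL (Fin 2) F) : M2 F)) : XC θ c = -(θ c + θ (barC he c)) := by
  simp only [XC, Pi.sub_apply, Pi.mul_apply, RT_ell _ (he.of_mem_cent c.2 h), IC_mem he θ c h]
  ring

theorem sum_XC_up {e : GL (Fin 2) F} (he : IsEll (e : M2 F)) (θ : cent e → ℂ) (a d : Fˣ) :
    ∑ x : F, XC θ (up a d x) = 0 := by
  by_cases h : a = d
  · subst h
    rw [sum_up_self _ a (-res θ a) fun x hx => by rw [XC_jord he _ (isJord_up a hx)]; simp,
      XC_scal he _ (isScal_up a)]
    simp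
  · exact Finset.sum_eq_zero fun x _ =>
      XC_upper he _ (by simp) (by simpa using fun h' => h (Units.ext h'))

theorem inner_RT_XC {e : GL (Fin 2) F} (he : IsEll (e : M2 F)) (φ : F → F → ℂ) (θ : cent e → ℂ) :
    classInner (RT φ) (XC θ) = 0 := by
  rw [inner_RT_left _ (isClassFunction_XC _)]
  simp [sum_XC_up he]

open Classical in
theorem sum_scal_cent {e : GL (Fin 2) F} [Fintype (cent e)] (f : cent e → ℂ) :
    ∑ c : cent e, (if IsScal ((c : GL (Fin 2) F) : M2 F) then f c else 0) =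
      ∑ a : Fˣ, f (scC e a) := by
  rw [← Finset.sum_filter]
  symm
  refine Finset.sum_bij (fun a _ => scC e a) (fun a _ => ?_) (fun a _ b _ h => ?_)
    (fun c hc => ?_) (fun _ _ => rfl)
  · exact Finset.mem_filter.2 ⟨Finset.mem_univ _, isScal_sc a⟩
  · exact sc_injective (congrArg Subtype.val h)
  · obtain ⟨a, ha⟩ := isScal_iff_sc.1 (Finset.mem_filter.1 hc).2
    exact ⟨a, Finset.mem_univ _, Subtype.ext ha.symm⟩

theorem inner_XC_XC {e : GL (Fin 2) F} (he : IsEll (e : M2 F)) [Fintype (cent e)]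
    (θ θ' : cent e → ℂ) : classInner (XC θ) (XC θ') =
      (((Fintype.card F : ℂ) + 1) * (Fintype.card F - 1))⁻¹ *
        ∑ c, θ c * conj (θ' c + θ' (barC he c)) := by
  classical
  have h1 : ∀ a d : Fˣ, ∑ x : F, res θ a * ((RT (fun _ _ => 1) - fun _ => 2 : GL (Fin 2) F → ℂ)
      (up a d x)) * conj (XC θ' (up a d x)) = if a = d then
        Fintype.card F * (Fintype.card F - 1) * (θ (scC e a) * conj (θ' (scC e a))) else 0 := by
    intro a d
    split_ifs with h
    · subst h
      rw [sum_up_self (fun g => res θ a * ((RT (fun _ _ => 1) - fun _ => 2 : GL (Fin 2) F → ℂ) g)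
        * conj (XC θ' g)) a (θ (scC e a) * conj (θ' (scC e a)))]
      · simp only [Pi.sub_apply, RT_scal _ (isScal_up a), XC_scal he _ (isScal_up a)]
        simp [res_coe]; ring
      · intro x hx
        simp only [Pi.sub_apply, RT_jord _ (isJord_up a hx), XC_jord he _ (isJord_up a hx)]
        simp [res_coe]; ring
    · refine Finset.sum_eq_zero fun x _ => ?_
      rw [XC_upper he _ (by simp) (by simpa using fun h' => h (Units.ext h'))]; simp
  have h2 : ∀ c : cent e, θ c * conj (XC θ' c) = -(θ c * conj (θ' c + θ' (barC he c))) +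
      (Fintype.card F + 1) * if IsScal ((c : GL (Fin 2) F) : M2 F) then θ c * conj (θ' c)
        else 0 := by
    intro c
    split_ifs with h
    · rw [XC_scal he _ h, res_scal _ h, barC_scal he h]; simp; ring
    · rw [XC_mem he _ c h]; simp; ring
  nth_rewrite 1 [XC]
  rw [RT, ← indFun_mul_res _ _ ((isClassFunction_RT _).sub (IsClassFunction.const 2)),
    classInner_sub_left, inner_ind_B _ (isClassFunction_XC _),
    frobenius_left _ _ (isClassFunction_XC _), classInner, he.cast_card_cent]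
  have h3 := fun a d => h1 a d
  erw [Finset.sum_congr rfl fun a _ => Finset.sum_congr rfl fun d _ => h1 a d]
  simp only [h2, Finset.sum_ite_eq, Finset.mem_univ, if_true, Finset.sum_add_distrib,
    Finset.sum_neg_distrib, ← Finset.mul_sum, sum_scal_cent]
  have := cast_q_sub_one_ne (F := F)
  have := cast_q_add_one_ne (F := F)
  have := cast_q_ne (F := F)
  field_simp
  ring

theorem XC_bar {e : GL (Fin 2) F} (he : IsEll (e : M2 F)) (θ : cent e → ℂ) :
    XC (fun c => θ (barC he c)) = XC θ := by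
  have hres : ∀ a : F, res (fun c => θ (barC he c)) a = res θ a := by
    intro a
    unfold res
    split_ifs with h
    · exact congrArg θ (barC_scal he (c := scC e h.unit) (isScal_sc _))
    · rfl
  refine classFun_ext he (isClassFunction_XC _) (isClassFunction_XC _) (fun g h => ?_)
    (fun g h => ?_) (fun g h => ?_) (fun g hg h => ?_)
  · rw [XC_scal he _ h, XC_scal he _ h, hres]
  · rw [XC_jord he _ h, XC_jord he _ h, hres]
  · rw [XC_upper he _ h.2.1 h.2.2, XC_upper he _ h.2.1 h.2.2]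
  · have h1 := XC_mem he θ ⟨g, hg⟩ h
    have h2 := XC_mem he (fun c => θ (barC he c)) ⟨g, hg⟩ h
    simp only [barC_barC] at h1 h2
    rw [h1, h2, add_comm]

theorem XC_mul_det {e : GL (Fin 2) F} (he : IsEll (e : M2 F)) (θ : cent e → ℂ) (l : F → ℂ) :
    XC (fun c => θ c * l ((c : GL (Fin 2) F) : M2 F).det) =
      XC θ * fun g : GL (Fin 2) F => l (g : M2 F).det := by
  have hres : ∀ g : GL (Fin 2) F, (g : M2 F) 1 0 = 0 → (g : M2 F) 0 0 = (g : M2 F) 1 1 →
      res (fun c => θ c * l ((c : GL (Fin 2) F) : M2 F).det) ((g : M2 F) 0 0) =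
        res θ ((g : M2 F) 0 0) * l (g : M2 F).det := by
    intro g h1 h2
    have := res_coe θ (Units.mk0 _ (upper_ne h1).1)
    have h3 := res_coe (fun c => θ c * l ((c : GL (Fin 2) F) : M2 F).det)
      (Units.mk0 _ (upper_ne h1).1)
    rw [Units.val_mk0] at this h3
    rw [this, h3]
    congr 2
    show ((sc (Units.mk0 _ (upper_ne h1).1) : GL (Fin 2) F) : M2 F).det = _
    rw [coe_sc]
    simp [det_fin_two, h1, ← h2, sq]
  refine classFun_ext he (isClassFunction_XC _) ((isClassFunction_XC _).mul ?_) (fun g h => ?_)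
    (fun g h => ?_) (fun g h => ?_) (fun g hg h => ?_)
  · intro g h
    simp only [Units.val_mul, det_conj'']
  · rw [Pi.mul_apply, XC_scal he _ h, XC_scal he _ h, hres g h.2.1 h.2.2, mul_assoc]
  · rw [Pi.mul_apply, XC_jord he _ h, XC_jord he _ h, hres g h.1 h.2.1, neg_mul]
  · rw [Pi.mul_apply, XC_upper he _ h.2.1 h.2.2, XC_upper he _ h.2.1 h.2.2, zero_mul]
  · have h1 := XC_mem he θ ⟨g, hg⟩ h
    have h2 := XC_mem he (fun c => θ c * l ((c : GL (Fin 2) F) : M2 F).det) ⟨g, hg⟩ h
    simp only at h1 h2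
    rw [Pi.mul_apply, h1, h2]
    have : (((barC he ⟨g, hg⟩ : cent e) : GL (Fin 2) F) : M2 F).det = (g : M2 F).det := det_bar g
    rw [this]; ring

end Cfsg.Agent.Perm.GL2
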