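import Cfsg.Agent.Lib.Perm.GL2c

/-! The irreducible characters of `GL₂` over a finite field. -/

namespace Cfsg.Agent.Perm.GL2

open Matrix Cfsg.Agent.Char
open Matrix.SpecialLinearGroup (toGL toGL_injective)
open scoped ComplexConjugate

variable {F : Type*} [Field F]

/-- a character of the non-split torus as a complex valued function -/
abbrev cf {A : Type*} [Group A] (θ : A →* ℂˣ) : A → ℂ := fun c => (θ c : ℂ)

theorem res_cf {e : GL (Fin 2) F} (θ : cent e →* ℂˣ) (a : F) :
    res (cf θ) a = MulChar.ofUnitHom (θ.comp (scC e)) a := by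
  by_cases h : IsUnit a
  · obtain ⟨a, rfl⟩ := h
    rw [res_coe, MulChar.ofUnitHom_eq, MulChar.equivToUnitHom_symm_coe]; rfl
  · rw [MulChar.map_nonunit _ h, res, dif_neg h]

variable [Fintype F] [DecidableEq F]

open Classical in
theorem sum_mulChar_conj (α β : MulChar F ℂ) :
    ∑ a : Fˣ, α a * conj (β a) = if α = β then (Fintype.card F : ℂ) - 1 else 0 := by
  have := sum_hom_mul_conj (MulChar.equivToUnitHom α) (MulChar.equivToUnitHom β)
  simp only [MulChar.coe_equivToUnitHom, EmbeddingLike.apply_eq_iff_eq] at this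
  rw [this, Nat.card_eq_fintype_card, Fintype.card_units, cast_q_sub_one]

omit [Fintype F] [DecidableEq F] in
theorem card_mulChar [Fintype F] : Nat.card (MulChar F ℂ) = Fintype.card F - 1 := by
  classical
  rw [Nat.card_congr MulChar.equivToUnitHom, card_hom_units mul_comm, Nat.card_eq_fintype_card,
    Fintype.card_units]

open Classical in
theorem sum_mulChar_apply [Fintype (MulChar F ℂ)] {a : F} (ha : a ≠ 0) :
    ∑ α : MulChar F ℂ, α a = if a = 1 then (Fintype.card F : ℂ) - 1 else 0 := by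
  haveI := finite_hom_units (G := Fˣ) mul_comm
  haveI := Fintype.ofFinite (Fˣ →* ℂˣ)
  have := sum_hom_apply (G := Fˣ) mul_comm (Units.mk0 a ha)
  rw [← MulChar.equivToUnitHom.sum_comp] at this
  simp only [MulChar.coe_equivToUnitHom, Units.val_mk0] at this
  rw [this, Nat.card_eq_fintype_card, Fintype.card_units, cast_q_sub_one]
  simp [Units.ext_iff]

theorem ite_aux (P Q : Prop) [Decidable P] [Decidable Q] :
    (((Fintype.card F : ℂ) - 1) ^ 2)⁻¹ * ((if P then (Fintype.card F : ℂ) - 1 else 0) *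
      if Q then (Fintype.card F : ℂ) - 1 else 0) = if P ∧ Q then 1 else 0 := by
  have := cast_q_sub_one_ne (F := F)
  by_cases h1 : P <;> by_cases h2 : Q <;> simp [h1, h2]
  field_simp

/-- principal series -/
noncomputable def WC (α β : MulChar F ℂ) : GL (Fin 2) F → ℂ := RT fun a d => α a * β d

/-- linear characters -/
noncomputable def UC (α : MulChar F ℂ) : GL (Fin 2) F → ℂ := fun g => α (g : M2 F).det

/-- twists of the Steinberg character -/
noncomputable def VC (α : MulChar F ℂ) : GL (Fin 2) F → ℂ := WC α α - UC α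

theorem isCharacter_WC (α β : MulChar F ℂ) : IsCharacter _ (WC α β) :=
  (isIrrCharacter_monoidHom
    ((α.toMonoidHom.comp (e0 (MonoidHom.id _) (upperTriangularGL 2 F) fun _ => mem_B.1)) *
     (β.toMonoidHom.comp (e1 (MonoidHom.id _) (upperTriangularGL 2 F)
      fun _ => mem_B.1)))).isCharacter.ind

omit [Fintype F] [DecidableEq F] in
theorem isIrr_UC (α : MulChar F ℂ) : IsIrrCharacter _ (UC α) :=
  isIrrCharacter_monoidHom (α.toMonoidHom.comp ((Units.coeHom F).comp GeneralLinearGroup.det))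

theorem RT_one : RT (fun _ _ : F => 1) = WC 1 1 :=
  RT_congr fun a d ha hd => by
    rw [MulChar.one_apply (Ne.isUnit ha), MulChar.one_apply (Ne.isUnit hd), one_mul]

theorem isGen_XC {e : GL (Fin 2) F} (θ : cent e →* ℂˣ) : IsGeneralizedCharacter _ (XC (cf θ)) := by
  refine IsGeneralizedCharacter.sub (IsGeneralizedCharacter.mul ?_ (IsGeneralizedCharacter.sub ?_
    ?_)) (isIrrCharacter_units θ).isGen.ind
  · rw [RT_congr (φ' := fun a d => MulChar.ofUnitHom (θ.comp (scC e)) a * (1 : MulChar F ℂ) d)]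
    · exact (isCharacter_WC _ _).isGen
    · intro a d _ hd
      rw [res_cf, MulChar.one_apply (Ne.isUnit hd), mul_one]
  · rw [RT_one]; exact (isCharacter_WC _ _).isGen
  · have := (isCharacter_one (G := GL (Fin 2) F)).isGen
    convert this.add this using 1
    funext; norm_num

theorem WC_comm (α β : MulChar F ℂ) : WC α β = WC β α := by
  rw [WC, WC, ← RT_swap]
  congr 1
  funext a d
  exact mul_comm _ _

open Classical in
theorem inner_WC_WC (α β α' β' : MulChar F ℂ) : classInner (WC α β) (WC α' β') =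
    (if α = α' ∧ β = β' then 1 else 0) + (if α = β' ∧ β = α' then 1 else 0) := by
  rw [WC, WC, inner_RT_RT]
  have : ∀ a d : Fˣ, α a * β d * conj (α' a * β' d + α' d * β' a) =
      (α a * conj (α' a)) * (β d * conj (β' d)) + (α a * conj (β' a)) * (β d * conj (α' d)) := by
    intro a d; simp only [map_add, map_mul]; ring
  simp only [this, Finset.sum_add_distrib, ← Finset.sum_mul_sum, sum_mulChar_conj, mul_add,
    ite_aux]

open Classical in
theorem inner_WC_UC (α β γ : MulChar F ℂ) : classInner (WC α β) (UC γ) =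
    if α = γ ∧ β = γ then 1 else 0 := by
  rw [WC, inner_RT_left _ (isIrr_UC γ).isClassFunction]
  have : ∀ a d : Fˣ, α a * β d * conj (∑ x : F, UC γ (up a d x)) =
      Fintype.card F * ((α a * conj (γ a)) * (β d * conj (γ d))) := by
    intro a d; simp [UC, det_fin_two]; ring
  simp only [this, ← Finset.mul_sum, ← Finset.sum_mul, sum_mulChar_conj]
  rw [← ite_aux (F := F)]
  have := cast_q_ne (F := F)
  field_simp

theorem isScal_one : IsScal ((1 : GL (Fin 2) F) : M2 F) := by simp [IsScal]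

theorem WC_one (α β : MulChar F ℂ) : WC α β 1 = Fintype.card F + 1 := by
  rw [WC, RT_scal _ isScal_one]; simp

omit [Fintype F] [DecidableEq F] in
theorem UC_one (α : MulChar F ℂ) : UC α 1 = 1 := by simp [UC]

theorem VC_one (α : MulChar F ℂ) : VC α 1 = Fintype.card F := by
  simp [VC, WC_one, UC_one]

theorem XC_one {e : GL (Fin 2) F} (he : IsEll (e : M2 F)) (θ : cent e →* ℂˣ) :
    XC (cf θ) 1 = Fintype.card F - 1 := by
  rw [XC_scal he _ isScal_one, res_cf]; simp

theorem isIrr_WC {α β : MulChar F ℂ} (h : α ≠ β) : IsIrrCharacter _ (WC α β) :=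
  (isCharacter_WC α β).isIrr_of_classInner_self (by rw [inner_WC_WC]; simp [h])

theorem isGen_VC (α : MulChar F ℂ) : IsGeneralizedCharacter _ (VC α) :=
  (isCharacter_WC α α).isGen.sub (isIrr_UC α).isGen

theorem isIrr_VC (α : MulChar F ℂ) : IsIrrCharacter _ (VC α) := by
  refine (isGen_VC α).isIrr_of_re_nonneg ?_ (by simp [VC_one])
  rw [VC, classInner_sub_left, classInner_sub_right, classInner_sub_right, inner_WC_WC, inner_WC_UC,
    (isIrr_UC α).isCharacter.classInner_comm (isCharacter_WC α α), inner_WC_UC,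
    (isIrr_UC α).classInner_self]
  simp

open Classical in
theorem inner_XC_cf {e : GL (Fin 2) F} (he : IsEll (e : M2 F)) (θ θ' : cent e →* ℂˣ) :
    classInner (XC (cf θ)) (XC (cf θ')) =
      (if θ = θ' then 1 else 0) + if θ = θ'.comp (barC he) then 1 else 0 := by
  rw [inner_XC_XC he]
  simp only [map_add, mul_add, Finset.sum_add_distrib]
  have h1 := sum_hom_mul_conj θ θ'
  have h2 := sum_hom_mul_conj θ (θ'.comp (barC he))
  simp only [MonoidHom.comp_apply] at h2
  rw [h1, h2, he.cast_card_cent]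
  have := cast_q_sub_one_ne (F := F)
  have := cast_q_add_one_ne (F := F)
  split_ifs <;> field_simp <;> simp

theorem isIrr_XC {e : GL (Fin 2) F} (he : IsEll (e : M2 F)) {θ : cent e →* ℂˣ}
    (h : θ ≠ θ.comp (barC he)) : IsIrrCharacter _ (XC (cf θ)) := by
  refine (isGen_XC θ).isIrr_of_re_nonneg ?_ ?_
  · rw [inner_XC_cf he]; simp [h]
  · rw [XC_one he]
    have : 1 ≤ Fintype.card F := Fintype.card_pos
    simpa using this

theorem WC_scal (α β : MulChar F ℂ) {g : GL (Fin 2) F} (h : IsScal (g : M2 F)) :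
    WC α β g = (Fintype.card F + 1) * (α ((g : M2 F) 0 0) * β ((g : M2 F) 0 0)) := RT_scal _ h

theorem WC_jord (α β : MulChar F ℂ) {g : GL (Fin 2) F} (h : IsJord (g : M2 F)) :
    WC α β g = α ((g : M2 F) 0 0) * β ((g : M2 F) 0 0) := RT_jord _ h

theorem WC_diag (α β : MulChar F ℂ) {g : GL (Fin 2) F} (h : IsDiag (g : M2 F)) :
    WC α β g = α ((g : M2 F) 0 0) * β ((g : M2 F) 1 1) + α ((g : M2 F) 1 1) * β ((g : M2 F) 0 0) :=
  RT_upper _ h.2.1 h.2.2

theorem WC_ell (α β : MulChar F ℂ) {g : GL (Fin 2) F} (h : IsEll (g : M2 F)) : WC α β g = 0 :=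
  RT_ell _ h

theorem VC_scal (α : MulChar F ℂ) {g : GL (Fin 2) F} (h : IsScal (g : M2 F)) :
    VC α g = Fintype.card F * α (g : M2 F).det := by
  simp only [VC, Pi.sub_apply, WC_scal _ _ h, UC, det_fin_two, h.1, ← h.2.2, zero_mul, sub_zero,
    map_mul]
  ring

theorem VC_jord (α : MulChar F ℂ) {g : GL (Fin 2) F} (h : IsJord (g : M2 F)) : VC α g = 0 := by
  simp only [VC, Pi.sub_apply, WC_jord _ _ h, UC, det_fin_two, h.1, ← h.2.1, mul_zero, sub_zero,
    map_mul, sub_self]

theorem VC_diag (α : MulChar F ℂ) {g : GL (Fin 2) F} (h : IsDiag (g : M2 F)) :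
    VC α g = α (g : M2 F).det := by
  simp only [VC, Pi.sub_apply, WC_diag _ _ h, UC, det_fin_two, h.1, zero_mul, sub_zero, map_mul]
  ring

theorem VC_ell (α : MulChar F ℂ) {g : GL (Fin 2) F} (h : IsEll (g : M2 F)) :
    VC α g = -α (g : M2 F).det := by
  simp only [VC, Pi.sub_apply, WC_ell _ _ h, UC, zero_sub]

theorem XC_diag {e : GL (Fin 2) F} (he : IsEll (e : M2 F)) (θ : cent e → ℂ) {g : GL (Fin 2) F}
    (h : IsDiag (g : M2 F)) : XC θ g = 0 := XC_upper he θ h.2.1 h.2.2

omit [DecidableEq F] in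
theorem exists_eq_mul_bar_inv {e : GL (Fin 2) F} (he : IsEll (e : M2 F)) (c : cent e)
    (hc : ((c : GL (Fin 2) F) : M2 F).det = 1) : ∃ x : cent e, x * (barC he x)⁻¹ = c := by
  classical
  letI : CommGroup (cent e) := { (inferInstance : Group (cent e)) with mul_comm := centC_comm he }
  let f : cent e →* cent e := MonoidHom.id _ * (barC he)⁻¹
  let d : cent e →* Fˣ := GeneralLinearGroup.det.comp (cent e).subtype
  have h1 : f.range ≤ d.ker := by
    rintro _ ⟨x, rfl⟩
    show GeneralLinearGroup.det ((x : GL (Fin 2) F) * (bar x)⁻¹) = 1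
    rw [map_mul, map_inv, mul_inv_eq_one]
    exact Units.ext (det_bar _).symm
  have h2 : f.ker = (scC e).range := by
    ext x
    show x * (barC he x)⁻¹ = 1 ↔ _
    rw [mul_inv_eq_one]
    constructor
    · intro h
      by_cases hs : IsScal ((x : GL (Fin 2) F) : M2 F)
      · obtain ⟨a, ha⟩ := isScal_iff_sc.1 hs
        exact ⟨a, Subtype.ext ha.symm⟩
      · exact ((he.of_mem_cent x.2 hs).ne_bar (congrArg Subtype.val h).symm).elim
    · rintro ⟨a, rfl⟩
      exact (barC_scal he (c := scC e a) (isScal_sc a)).symm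
  have h3 : Nat.card f.ker = Nat.card Fˣ := by
    rw [h2]
    exact (Nat.card_congr (MonoidHom.ofInjective (f := scC e)
      fun a b h => sc_injective (congrArg Subtype.val h)).toEquiv).symm
  have h4 : d.range = ⊤ := eq_top_iff.2 fun n _ => by
    obtain ⟨c, hc, h⟩ := he.exists_det n
    exact ⟨⟨c, hc⟩, h⟩
  have h5 := f.ker.card_mul_index
  have h6 := d.ker.card_mul_index
  rw [Subgroup.index_ker, h3] at h5
  rw [Subgroup.index_ker, h4, Subgroup.card_top, ← h5, mul_comm] at h6
  have h7 := Subgroup.eq_of_le_of_card_ge h1 (Nat.eq_of_mul_eq_mul_left Nat.card_pos h6).le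
  have : c ∈ f.range := h7 ▸ (Units.ext hc : GeneralLinearGroup.det (c : GL (Fin 2) F) = 1)
  exact this

omit [DecidableEq F] in
theorem exists_mulChar_of_bar {e : GL (Fin 2) F} (he : IsEll (e : M2 F)) {θ : cent e →* ℂˣ}
    (h : θ = θ.comp (barC he)) :
    ∃ α : MulChar F ℂ, ∀ c : cent e, (θ c : ℂ) = α ((c : GL (Fin 2) F) : M2 F).det := by
  let d : cent e →* Fˣ := GeneralLinearGroup.det.comp (cent e).subtype
  have h4 : Function.Surjective d := fun n => by
    obtain ⟨c, hc, h⟩ := he.exists_det n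
    exact ⟨⟨c, hc⟩, h⟩
  have h1 : d.ker ≤ θ.ker := by
    intro c hc
    obtain ⟨x, rfl⟩ := exists_eq_mul_bar_inv he c (congrArg Units.val hc)
    rw [MonoidHom.mem_ker, map_mul, map_inv, mul_inv_eq_one]
    exact DFunLike.congr_fun h x
  refine ⟨MulChar.ofUnitHom (d.liftOfSurjective h4 ⟨θ, h1⟩), fun c => ?_⟩
  have : ((c : GL (Fin 2) F) : M2 F).det = (d c : F) := rfl
  rw [this, MulChar.ofUnitHom_eq, MulChar.equivToUnitHom_symm_coe,
    MonoidHom.liftOfRightInverse_comp_apply]

theorem XC_one_fun {e : GL (Fin 2) F} (he : IsEll (e : M2 F)) :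
    XC (fun _ : cent e => 1) = RT (fun _ _ => 1) - fun _ => 2 := by
  have hres : ∀ g : GL (Fin 2) F, (g : M2 F) 1 0 = 0 →
      res (fun _ : cent e => 1) ((g : M2 F) 0 0) = 1 := fun g h =>
    res_coe (fun _ : cent e => 1) (Units.mk0 _ (upper_ne h).1)
  refine classFun_ext he (isClassFunction_XC _)
    ((isClassFunction_RT _).sub (IsClassFunction.const 2)) (fun g h => ?_)
    (fun g h => ?_) (fun g h => ?_) (fun g hg h => ?_)
  · rw [XC_scal he _ h, Pi.sub_apply, RT_scal _ h, hres g h.2.1]; ring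
  · rw [XC_jord he _ h, Pi.sub_apply, RT_jord _ h, hres g h.1]; ring
  · rw [XC_diag he _ h, Pi.sub_apply, RT_upper _ h.2.1 h.2.2]; ring
  · rw [XC_mem he _ ⟨g, hg⟩ h, Pi.sub_apply, RT_ell _ (he.of_mem_cent hg h)]; ring

theorem WC_mul_det (α β γ : MulChar F ℂ) : WC (α * γ) (β * γ) = WC α β * UC γ := by
  unfold UC
  rw [WC, WC, ← RT_mul_det]
  congr 1
  funext a d
  simp only [MulChar.mul_apply, map_mul]; ring

theorem XC_of_det {e : GL (Fin 2) F} (he : IsEll (e : M2 F)) {θ : cent e → ℂ} {α : MulChar F ℂ}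
    (h : ∀ c : cent e, θ c = α ((c : GL (Fin 2) F) : M2 F).det) : XC θ = VC α - UC α := by
  have h1 := XC_mul_det he (fun _ => 1) α
  have h2 := WC_mul_det 1 1 α
  simp only [one_mul] at h1 h2
  rw [funext h, h1, XC_one_fun he, RT_one, VC, h2]
  funext g
  simp only [Pi.mul_apply, Pi.sub_apply, UC]; ring

theorem reg_eq {e : GL (Fin 2) F} (he : IsEll (e : M2 F)) [Fintype (cent e →* ℂˣ)]
    [Fintype (MulChar F ℂ)] : (2 : ℂ) • regChar (GL (Fin 2) F) =
      ((Fintype.card F : ℂ) - 1) • ∑ θ : cent e →* ℂˣ, XC (cf θ) +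
        ((Fintype.card F : ℂ) + 1) • ∑ α : MulChar F ℂ, ∑ β : MulChar F ℂ, WC α β := by
  classical
  have hres : ∀ g : GL (Fin 2) F, (g : M2 F) 1 0 = 0 →
      ∑ θ : cent e →* ℂˣ, res (cf θ) ((g : M2 F) 0 0) = if (g : M2 F) 0 0 = 1 then
        ((Fintype.card F : ℂ) + 1) * (Fintype.card F - 1) else 0 := by
    intro g h
    have : ∀ θ : cent e →* ℂˣ, res (cf θ) ((g : M2 F) 0 0) =
        θ (scC e (Units.mk0 _ (upper_ne h).1)) := fun θ =>
      res_coe (cf θ) (Units.mk0 _ (upper_ne h).1)
    simp only [this]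
    rw [sum_hom_apply (centC_comm he), he.cast_card_cent,
      map_eq_one_iff _ fun a b h => sc_injective (congrArg Subtype.val h)]
    simp [Units.ext_iff]
  refine classFun_ext he (isCharacter_regChar.isClassFunction.smul _)
    (((IsClassFunction.sum fun θ _ => isClassFunction_XC _).smul _).add
      ((IsClassFunction.sum fun α _ => IsClassFunction.sum fun β _ =>
        (isCharacter_WC _ _).isClassFunction).smul _)) (fun g h => ?_)
    (fun g h => ?_) (fun g h => ?_) (fun g hg h => ?_) <;>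
    simp only [Pi.add_apply, Pi.smul_apply, Finset.sum_apply, smul_eq_mul]
  · simp only [XC_scal he _ h, WC_scal _ _ h, ← Finset.mul_sum, ← Finset.sum_mul, hres g h.2.1,
      sum_mulChar_apply (upper_ne h.2.1).1]
    split_ifs with h1
    · have : g = 1 := Units.ext (by rw [h.eq, h1]; simp)
      rw [this, regChar_one, cast_card_GL2]; ring
    · rw [regChar_of_ne (by rintro rfl; simp at h1)]; ring
  · simp only [XC_jord he _ h, WC_jord _ _ h, ← Finset.mul_sum, ← Finset.sum_mul,
      Finset.sum_neg_distrib, hres g h.1, sum_mulChar_apply (upper_ne h.1).1]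
    rw [regChar_of_ne (by rintro rfl; exact h.not_scal isScal_one)]
    split_ifs <;> ring
  · simp only [XC_diag he _ h, WC_diag _ _ h, ← Finset.mul_sum, ← Finset.sum_mul,
      Finset.sum_add_distrib, sum_mulChar_apply (upper_ne h.2.1).1,
      sum_mulChar_apply (upper_ne h.2.1).2]
    rw [regChar_of_ne (by rintro rfl; exact h.not_scal isScal_one)]
    have := h.2.2
    split_ifs with h1 h2
    · exact (this (h1.trans h2.symm)).elim
    all_goals simp
  · have h1 := fun θ : cent e →* ℂˣ => XC_mem he (cf θ) ⟨g, hg⟩ h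
    simp only at h1
    simp only [h1, WC_ell _ _ (he.of_mem_cent hg h), Finset.sum_neg_distrib,
      Finset.sum_add_distrib, sum_hom_apply (centC_comm he)]
    rw [regChar_of_ne (by rintro rfl; exact h isScal_one), if_neg, if_neg]
    · simp
    · intro h2
      have h3 : bar g = 1 := congrArg Subtype.val h2
      exact h (isScal_bar.1 (h3 ▸ isScal_one))
    · intro h2
      have h3 : g = 1 := congrArg Subtype.val h2
      exact h (h3 ▸ isScal_one)

theorem exists_constituent {e : GL (Fin 2) F} (he : IsEll (e : M2 F)) {G : Type*} [Group G]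
    [Fintype G] (f : G →* GL (Fin 2) F) (hf : Function.Injective f) {χ : G → ℂ}
    (hχ : IsIrrCharacter G χ) :
    (∃ α β : MulChar F ℂ, classInner χ (fun g => WC α β (f g)) ≠ 0) ∨
      ∃ θ : cent e →* ℂˣ, classInner χ (fun g => XC (cf θ) (f g)) ≠ 0 := by
  classical
  haveI := finite_hom_units (centC_comm he)
  haveI := Fintype.ofFinite (cent e →* ℂˣ)
  haveI := Fintype.ofFinite (MulChar F ℂ)
  by_contra hc
  push Not at hc
  have h1 : (fun g => ((2 : ℂ) • regChar (GL (Fin 2) F)) (f g)) =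
      ((2 * Nat.card (GL (Fin 2) F) / Nat.card G : ℂ)) • regChar G := by
    funext g
    by_cases hg : g = 1
    · subst hg
      have := card_ne_zero' G
      simp only [map_one, Pi.smul_apply, regChar_one, smul_eq_mul]
      field_simp
    · simp [regChar_of_ne hg, regChar_of_ne ((map_eq_one_iff f hf).not.2 hg)]
  have h2 : (fun g => ((2 : ℂ) • regChar (GL (Fin 2) F)) (f g)) =
      ((Fintype.card F : ℂ) - 1) • ∑ θ : cent e →* ℂˣ, (fun g => XC (cf θ) (f g)) +
        ((Fintype.card F : ℂ) + 1) • ∑ α : MulChar F ℂ, ∑ β : MulChar F ℂ,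
          (fun g => WC α β (f g)) := by
    rw [reg_eq he]
    funext g
    simp only [Pi.add_apply, Pi.smul_apply, Finset.sum_apply]
  have h3 := congrArg (classInner χ) (h1.symm.trans h2)
  simp only [classInner_smul_right, classInner_add_right, classInner_sum_right, hc.1, hc.2,
    classInner_regChar_right, Finset.sum_const_zero, mul_zero, add_zero] at h3
  refine mul_ne_zero ?_ hχ.apply_one_ne_zero h3
  rw [map_ne_zero]
  exact div_ne_zero (mul_ne_zero two_ne_zero (card_ne_zero' _)) (card_ne_zero' _)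

theorem irr_GL2 {e : GL (Fin 2) F} (he : IsEll (e : M2 F)) {χ : GL (Fin 2) F → ℂ}
    (hχ : IsIrrCharacter _ χ) : (∃ α, χ = UC α) ∨ (∃ α, χ = VC α) ∨
      (∃ α β, α ≠ β ∧ χ = WC α β) ∨
      ∃ θ : cent e →* ℂˣ, θ ≠ θ.comp (barC he) ∧ χ = XC (cf θ) := by
  rcases exists_constituent he (MonoidHom.id _) Function.injective_id hχ with ⟨α, β, h⟩ | ⟨θ, h⟩
  · by_cases hαβ : α = β
    · subst hαβ
      rcases eq_or_eq_of_inner_add hχ (isIrr_UC α) (isIrr_VC α) (a := 1) (b := 1)
        (by simpa [VC] using h) with h | h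
      · exact Or.inl ⟨α, h⟩
      · exact Or.inr (Or.inl ⟨α, h⟩)
    · exact Or.inr (Or.inr (Or.inl ⟨α, β, hαβ, hχ.eq_of_classInner_ne_zero (isIrr_WC hαβ) h⟩))
  · by_cases hθ : θ = θ.comp (barC he)
    · obtain ⟨α, hα⟩ := exists_mulChar_of_bar he hθ
      have := XC_of_det he (θ := cf θ) hα
      rcases eq_or_eq_of_inner_add hχ (isIrr_UC α) (isIrr_VC α) (a := -1) (b := 1)
        (by rw [neg_smul, one_smul, one_smul, neg_add_eq_sub, ← this]; exact h) with h | h
      · exact Or.inl ⟨α, h⟩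
      · exact Or.inr (Or.inl ⟨α, h⟩)
    · exact Or.inr (Or.inr (Or.inr ⟨θ, hθ, hχ.eq_of_classInner_ne_zero (isIrr_XC he hθ) h⟩))

theorem WC_eq_iff {α β α' β' : MulChar F ℂ} :
    WC α β = WC α' β' ↔ (α = α' ∧ β = β') ∨ (α = β' ∧ β = α') := by
  constructor
  · intro h
    by_contra hc
    push Not at hc
    have h1 := inner_WC_WC α β α' β'
    rw [← h, inner_WC_WC, if_neg (not_and.2 hc.1), if_neg (not_and.2 hc.2),
      if_pos ⟨rfl, rfl⟩] at h1
    split_ifs at h1 <;> norm_num at h1
  · rintro (⟨rfl, rfl⟩ | ⟨rfl, rfl⟩)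
    · rfl
    · exact WC_comm _ _

theorem XC_eq_iff {e : GL (Fin 2) F} (he : IsEll (e : M2 F)) {θ θ' : cent e →* ℂˣ} :
    XC (cf θ) = XC (cf θ') ↔ θ = θ' ∨ θ = θ'.comp (barC he) := by
  constructor
  · intro h
    by_contra hc
    push Not at hc
    have h1 := inner_XC_cf he θ θ'
    rw [← h, inner_XC_cf he, if_neg hc.1, if_neg hc.2, if_pos rfl] at h1
    split_ifs at h1 <;> norm_num at h1
  · rintro (rfl | rfl)
    · rfl
    · exact XC_bar he (cf θ')

omit [Fintype F] [DecidableEq F] in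
theorem UC_injective : Function.Injective (UC : MulChar F ℂ → _) := by
  intro α β h
  ext a
  simpa [UC, det_fin_two] using congrFun h (up a 1 0)

theorem VC_injective : Function.Injective (VC : MulChar F ℂ → _) := by
  intro α β h
  ext a
  by_cases ha : a = 1
  · simp [ha]
  · have hd : IsDiag (up a 1 0 : M2 F) := ⟨by simp, by simp, by simpa using ha⟩
    have := congrFun h (up a 1 0)
    rw [VC_diag _ hd, VC_diag _ hd] at this
    simpa [det_fin_two] using this

end Cfsg.Agent.Perm.GL2
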