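import Cfsg.Agent.Lib.Perm.GL2d

/-! Counting the irreducible characters of `GL₂` over a finite field. -/

namespace Cfsg.Agent.Perm.GL2

open Matrix Cfsg.Agent.Char
open scoped ComplexConjugate

theorem card_irr_subtype {G : Type*} [Group G] (P : (G → ℂ) → Prop) :
    Nat.card {χ : IrrCharacter G // P χ} = {χ | IsIrrCharacter G χ ∧ P χ}.ncard := by
  rw [← Nat.card_coe_set_eq]
  exact Nat.card_congr (Equiv.subtypeSubtypeEquivSubtypeInter (IsIrrCharacter G) P)

theorem card_conjClasses_eq {G : Type*} [Group G] [Finite G] :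
    Nat.card (ConjClasses G) = {χ | IsIrrCharacter G χ}.ncard := by
  rw [← card_irr_eq_card_conjClasses, ← Nat.card_coe_set_eq]; rfl

theorem two_mul_ncard_image {A B : Type*} [Finite A] (f : A → B) (S : Set A) (σ : A → A)
    (hS : ∀ a ∈ S, σ a ∈ S) (hσ : ∀ a ∈ S, σ a ≠ a)
    (h : ∀ a ∈ S, ∀ a' ∈ S, f a' = f a ↔ a' = a ∨ a' = σ a) : 2 * (f '' S).ncard = S.ncard := by
  rw [← Nat.card_coe_set_eq, ← Nat.card_coe_set_eq]
  symm
  refine card_eq_two_mul_of_invol (A := S) (B := f '' S) (fun a => ⟨f a, a, a.2, rfl⟩) ?_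
    (fun a => ⟨σ a, hS a a.2⟩) (fun a h' => hσ a a.2 (congrArg Subtype.val h')) ?_
  · rintro ⟨_, a, ha, rfl⟩
    exact ⟨⟨a, ha⟩, rfl⟩
  · intro a a'
    simp only [Subtype.ext_iff]
    exact h a a.2 a' a'.2

variable {F : Type*} [Field F] [Fintype F] [DecidableEq F]

/-- the irreducible principal series characters -/
def famW (F : Type*) [Field F] [Fintype F] [DecidableEq F] : Set (GL (Fin 2) F → ℂ) :=
  (fun p : MulChar F ℂ × MulChar F ℂ => WC p.1 p.2) '' {p | p.1 ≠ p.2}

/-- the cuspidal characters -/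
def famX {e : GL (Fin 2) F} (he : IsEll (e : M2 F)) : Set (GL (Fin 2) F → ℂ) :=
  (fun θ : cent e →* ℂˣ => XC (cf θ)) '' {θ | θ ≠ θ.comp (barC he)}

theorem ncard_famU : (Set.range (UC : MulChar F ℂ → _)).ncard = Fintype.card F - 1 := by
  rw [Set.ncard_range_of_injective UC_injective, card_mulChar]

theorem ncard_famV : (Set.range (VC : MulChar F ℂ → _)).ncard = Fintype.card F - 1 := by
  rw [Set.ncard_range_of_injective VC_injective, card_mulChar]

theorem ncard_famW : 2 * (famW F).ncard = (Fintype.card F - 1) * (Fintype.card F - 2) := by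
  rw [famW, two_mul_ncard_image _ _ Prod.swap]
  · have h1 : ({p : MulChar F ℂ × MulChar F ℂ | p.1 ≠ p.2}) =
        (Set.range fun a : MulChar F ℂ => (a, a))ᶜ := by
      ext ⟨a, b⟩
      simp only [Set.mem_setOf_eq, Set.mem_compl_iff, Set.mem_range, Prod.mk.injEq, not_exists]
      exact ⟨fun h x hx => h (hx.1.symm.trans hx.2), fun h h' => h a ⟨rfl, h'⟩⟩
    rw [h1, Set.ncard_compl, Set.ncard_range_of_injective fun a b h => congrArg Prod.fst h,
      Nat.card_prod, card_mulChar, show Fintype.card F - 2 = Fintype.card F - 1 - 1 from rfl,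
      Nat.mul_sub_one (Fintype.card F - 1) (Fintype.card F - 1)]
  · exact fun a ha => Ne.symm ha
  · exact fun a ha h => ha (congrArg Prod.snd h)
  · intro a _ a' _
    simp only [WC_eq_iff, Prod.ext_iff, Prod.fst_swap, Prod.snd_swap]

omit [DecidableEq F] in
theorem ncard_fixed_bar {e : GL (Fin 2) F} (he : IsEll (e : M2 F)) :
    {θ : cent e →* ℂˣ | θ = θ.comp (barC he)}.ncard = Fintype.card F - 1 := by
  let d : cent e →* Fˣ := GeneralLinearGroup.det.comp (cent e).subtype
  have h4 : Function.Surjective d := fun n => by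
    obtain ⟨c, hc, h⟩ := he.exists_det n
    exact ⟨⟨c, hc⟩, h⟩
  rw [← card_mulChar, ← Set.ncard_range_of_injective
    (f := fun α : MulChar F ℂ => (MulChar.equivToUnitHom α).comp d)]
  · congr 1
    ext θ
    constructor
    · intro h
      obtain ⟨α, hα⟩ := exists_mulChar_of_bar he h
      exact ⟨α, MonoidHom.ext fun c => Units.ext (hα c).symm⟩
    · rintro ⟨α, rfl⟩
      refine MonoidHom.ext fun c => congrArg (MulChar.equivToUnitHom α) ?_
      exact Units.ext (det_bar _).symm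
  · intro α β h
    exact MulChar.equivToUnitHom.injective ((MonoidHom.cancel_right h4).1 h)

theorem ncard_famX {e : GL (Fin 2) F} (he : IsEll (e : M2 F)) :
    2 * (famX he).ncard = Fintype.card F * (Fintype.card F - 1) := by
  haveI := finite_hom_units (centC_comm he)
  have hb : ∀ θ : cent e →* ℂˣ, (θ.comp (barC he)).comp (barC he) = θ := fun θ =>
    MonoidHom.ext fun c => congrArg θ (barC_barC he c)
  rw [famX, two_mul_ncard_image _ _ fun θ => θ.comp (barC he)]
  · have h1 : {θ : cent e →* ℂˣ | θ ≠ θ.comp (barC he)} = {θ | θ = θ.comp (barC he)}ᶜ := rfl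
    rw [h1, Set.ncard_compl, ncard_fixed_bar he, card_hom_units (centC_comm he), he.card_cent,
      sq_sub_one_eq, add_mul, one_mul, Nat.add_sub_cancel]
  · intro θ h h'
    rw [hb] at h'
    exact h h'.symm
  · exact fun θ h => Ne.symm h
  · exact fun θ _ θ' _ => XC_eq_iff he

theorem irr_GL2_eq {e : GL (Fin 2) F} (he : IsEll (e : M2 F)) :
    {χ | IsIrrCharacter (GL (Fin 2) F) χ} =
      Set.range UC ∪ Set.range VC ∪ famW F ∪ famX he := by
  ext χ
  constructor
  · intro h
    rcases irr_GL2 he h with ⟨α, rfl⟩ | ⟨α, rfl⟩ | ⟨α, β, h', rfl⟩ | ⟨θ, h', rfl⟩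
    · exact Or.inl (Or.inl (Or.inl ⟨α, rfl⟩))
    · exact Or.inl (Or.inl (Or.inr ⟨α, rfl⟩))
    · exact Or.inl (Or.inr ⟨(α, β), h', rfl⟩)
    · exact Or.inr ⟨θ, h', rfl⟩
  · rintro (((⟨α, rfl⟩ | ⟨α, rfl⟩) | ⟨p, h, rfl⟩) | ⟨θ, h, rfl⟩)
    · exact isIrr_UC α
    · exact isIrr_VC α
    · exact isIrr_WC h
    · exact isIrr_XC he h

omit [DecidableEq F] in
theorem q_facts : (Fintype.card F : ℂ) ≠ 1 ∧ (Fintype.card F : ℂ) + 1 ≠ 1 ∧
    (Fintype.card F : ℂ) + 1 ≠ Fintype.card F ∧ (Fintype.card F : ℂ) - 1 ≠ Fintype.card F ∧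
    (Fintype.card F : ℂ) - 1 ≠ Fintype.card F + 1 := by
  have h := Fintype.one_lt_card (α := F)
  refine ⟨by exact_mod_cast h.ne', ?_, by simp, ?_, ?_⟩
  · simp
  · intro h; have := congrArg (· - (Fintype.card F : ℂ)) h; simp at this
  · intro h; have := congrArg (· - (Fintype.card F : ℂ)) h; simp at this; norm_num at this

theorem card_conjClasses_GL2 :
    Nat.card (ConjClasses (GL (Fin 2) F)) = Fintype.card F ^ 2 - 1 := by
  obtain ⟨e, he⟩ := exists_ell (F := F)
  obtain ⟨q1, q2, q3, q4, q5⟩ := q_facts (F := F)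
  haveI := finite_hom_units (centC_comm he)
  rw [card_conjClasses_eq, irr_GL2_eq he, Set.ncard_union_eq (t := famX he) _ _ (Set.toFinite _ |>.image _),
    Set.ncard_union_eq (t := famW F) _ _ (Set.toFinite _ |>.image _), Set.ncard_union_eq, ncard_famU, ncard_famV]
  · have h1 := ncard_famW (F := F)
    have h2 := ncard_famX he
    have h3 := Fintype.one_lt_card (α := F)
    obtain ⟨k, hk⟩ : ∃ k, Fintype.card F = k + 2 := ⟨Fintype.card F - 2, by omega⟩
    rw [hk] at h1 h2 ⊢
    simp only [Nat.add_sub_cancel, show k + 2 - 1 = k + 1 from rfl] at h1 h2 ⊢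
    have : (k + 2) ^ 2 = (k + 1) * (k + 3) + 1 := by ring
    rw [this, Nat.add_sub_cancel]
    nlinarith
  · rw [Set.disjoint_left]
    rintro _ ⟨α, rfl⟩ ⟨β, h⟩
    exact q1 (by rw [← VC_one β, h, UC_one])
  · rw [Set.disjoint_left]
    rintro _ (⟨α, rfl⟩ | ⟨α, rfl⟩) ⟨β, -, h⟩
    · exact q2 (by rw [← WC_one β.1 β.2, show WC β.1 β.2 = UC α from h, UC_one])
    · exact q3 (by rw [← WC_one β.1 β.2, show WC β.1 β.2 = VC α from h, VC_one])
  · exact Set.toFinite _
  · rw [Set.disjoint_left]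
    rintro _ ((⟨α, rfl⟩ | ⟨α, rfl⟩) | ⟨p, -, rfl⟩) ⟨θ, -, h⟩
    · have h1 := inner_WC_UC α α α
      rw [← show XC (cf θ) = UC α from h, WC, inner_RT_XC he] at h1
      simp at h1
    · exact q4 (by rw [← XC_one he θ, show XC (cf θ) = VC α from h, VC_one])
    · exact q5 (by rw [← XC_one he θ, show XC (cf θ) = WC p.1 p.2 from h, WC_one])
  · exact ((Set.toFinite _).union (Set.toFinite _)).union ((Set.toFinite _).image _)

end Cfsg.Agent.Perm.GL2
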