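import Cfsg.Agent.Lib.Perm.GL2e
import Cfsg.Agent.Lib.Char.Clifford

/-! The characters of `SL₂` over a finite field. -/

namespace Cfsg.Agent.Perm.GL2

open Matrix Cfsg.Agent.Char
open Matrix.SpecialLinearGroup (toGL toGL_injective)
open scoped ComplexConjugate

section General
variable {G : Type*} [Group G]

theorem hom_sq_eq_one_iff (θ : G →* ℂˣ) : θ ^ 2 = 1 ↔ ∀ c, θ c ^ 2 = 1 := by
  rw [MonoidHom.ext_iff]; rfl

theorem hom_one_sq : (1 : G →* ℂˣ) ^ 2 = 1 := (hom_sq_eq_one_iff _).2 fun _ => one_pow 2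

theorem units_sq_eq_one {u : ℂˣ} (h : u ^ 2 = 1) : u = 1 ∨ u = -1 := by
  have : (u : ℂ) ^ 2 = 1 := by rw [← Units.val_pow_eq_pow_val, h, Units.val_one]
  rcases sq_eq_one_iff.1 this with h | h
  · exact Or.inl (Units.ext h)
  · exact Or.inr (Units.ext h)

theorem hom_eq_one_of_odd [Finite G] (h : Odd (Nat.card G)) {θ : G →* ℂˣ} (hθ : θ ^ 2 = 1) :
    θ = 1 := by
  ext c
  obtain ⟨k, hk⟩ := h
  have h1 : θ c ^ (2 * k + 1) = 1 := by rw [← hk, ← map_pow, pow_card_eq_one', map_one]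
  rw [pow_succ, pow_mul, (hom_sq_eq_one_iff θ).1 hθ, one_pow, one_mul] at h1
  simp [h1]

theorem hom_gen_eq_neg_one {g : G} (hg : ∀ x, x ∈ Subgroup.zpowers g) {θ : G →* ℂˣ}
    (hθ : θ ^ 2 = 1) (h1 : θ ≠ 1) : θ g = -1 := by
  rcases units_sq_eq_one ((hom_sq_eq_one_iff θ).1 hθ g) with h | h
  · refine (h1 (MonoidHom.ext fun x => ?_)).elim
    obtain ⟨k, rfl⟩ := hg x
    simp [h]
  · exact h

theorem hom_sq_unique (hG : IsCyclic G) {θ θ' : G →* ℂˣ} (hθ : θ ^ 2 = 1) (h1 : θ ≠ 1)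
    (hθ' : θ' ^ 2 = 1) (h1' : θ' ≠ 1) : θ = θ' := by
  obtain ⟨g, hg⟩ := hG.exists_generator
  refine MonoidHom.ext fun x => ?_
  obtain ⟨k, rfl⟩ := hg x
  simp only [map_zpow, hom_gen_eq_neg_one hg hθ h1, hom_gen_eq_neg_one hg hθ' h1']

theorem exists_hom_sq [Finite G] (hG : IsCyclic G) (h : Even (Nat.card G)) :
    ∃ θ : G →* ℂˣ, θ ^ 2 = 1 ∧ θ ≠ 1 := by
  have hc : ∀ a b : G, a * b = b * a := fun a b => hG.commGroup.mul_comm a b
  haveI := finite_hom_units hc
  haveI : Fact (Nat.Prime 2) := ⟨Nat.prime_two⟩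
  obtain ⟨θ, hθ⟩ := exists_prime_orderOf_dvd_card' (G := G →* ℂˣ) 2
    (by rw [card_hom_units hc]; exact h.two_dvd)
  refine ⟨θ, by rw [← hθ, pow_orderOf_eq_one], ?_⟩
  rintro rfl
  simp at hθ

theorem ncard_sq_ne_even [Finite G] (hG : IsCyclic G) (h : Even (Nat.card G)) :
    {θ : G →* ℂˣ | θ ^ 2 ≠ 1}.ncard = Nat.card G - 2 := by
  have hc : ∀ a b : G, a * b = b * a := fun a b => hG.commGroup.mul_comm a b
  haveI := finite_hom_units hc
  obtain ⟨θ, h1, h2⟩ := exists_hom_sq hG h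
  have : {θ : G →* ℂˣ | θ ^ 2 ≠ 1} = {1, θ}ᶜ := by
    ext φ
    simp only [Set.mem_setOf_eq, Set.mem_compl_iff, Set.mem_insert_iff, Set.mem_singleton_iff]
    refine not_congr ⟨fun h => ?_, ?_⟩
    · by_cases h' : φ = 1
      · exact Or.inl h'
      · exact Or.inr (hom_sq_unique hG h h' h1 h2)
    · rintro (rfl | rfl)
      · exact hom_one_sq
      · exact h1
  rw [this, Set.ncard_compl, card_hom_units hc, Set.ncard_pair h2.symm]

theorem ncard_sq_ne_odd [Finite G] (hc : ∀ a b : G, a * b = b * a) (h : Odd (Nat.card G)) :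
    {θ : G →* ℂˣ | θ ^ 2 ≠ 1}.ncard = Nat.card G - 1 := by
  haveI := finite_hom_units hc
  have : {θ : G →* ℂˣ | θ ^ 2 ≠ 1} = {1}ᶜ := by
    ext φ
    simp only [Set.mem_setOf_eq, Set.mem_compl_iff, Set.mem_singleton_iff]
    exact not_congr ⟨hom_eq_one_of_odd h, fun h => by rw [h, hom_one_sq]⟩
  rw [this, Set.ncard_compl, card_hom_units hc, Set.ncard_singleton]

theorem hom_sq_apply_eq_one_iff [Finite G] (hG : IsCyclic G) {θ : G →* ℂˣ} (hθ : θ ^ 2 = 1)
    (h1 : θ ≠ 1) {n : ℕ} (hn : Nat.card G = 2 * n) (c : G) : θ c = 1 ↔ c ^ n = 1 := by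
  obtain ⟨g, hg⟩ := hG.exists_generator
  obtain ⟨k, rfl⟩ := (mem_powers_iff_mem_zpowers.2 (hg c))
  have ho : orderOf g = 2 * n := by rw [orderOf_eq_card_of_forall_mem_zpowers hg, hn]
  have hn0 : 0 < n := by have := Nat.card_pos (α := G); omega
  simp only
  rw [map_pow, hom_gen_eq_neg_one hg hθ h1, ← pow_mul, ← orderOf_dvd_iff_pow_eq_one (x := g), ho,
    Nat.mul_dvd_mul_iff_right hn0, neg_one_pow_eq_one_iff_even, even_iff_two_dvd]
  intro h
  have := congrArg Units.val h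
  norm_num at this

theorem exists_pair_of_norm_two [Fintype G] {φ : G → ℂ} (hφ : IsCharacter G φ)
    (h : classInner φ φ = 2) :
    ∃ χ₁ χ₂, IsIrrCharacter G χ₁ ∧ IsIrrCharacter G χ₂ ∧ χ₁ ≠ χ₂ ∧ φ = χ₁ + χ₂ := by
  obtain ⟨χ, hχ, h1⟩ := hφ.exists_irr_constituent (by rintro rfl; simp at h)
  have h2 := hφ.sub_irr hχ h1
  obtain ⟨m, hm⟩ := hφ.classInner_eq_nat hχ.isCharacter
  obtain ⟨k, hk⟩ := h2.classInner_eq_nat h2
  have hm0 : m ≠ 0 := by rintro rfl; exact h1 (by simpa using hm)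
  have h3 := hk
  rw [classInner_sub_left, classInner_sub_right, classInner_sub_right, h,
    hχ.isCharacter.classInner_comm hφ, hm, hχ.classInner_self] at h3
  have h4 : (k : ℤ) = 3 - 2 * m := by
    have : ((k : ℤ) : ℂ) = ((3 - 2 * m : ℤ) : ℂ) := by push_cast; rw [← h3]; ring
    exact_mod_cast this
  have h5 : m = 1 := by omega
  have h6 : k = 1 := by omega
  subst h5 h6
  refine ⟨χ, φ - χ, hχ, h2.isIrr_of_classInner_self (by simpa using hk), fun h7 => ?_, by simp⟩
  have h8 : classInner (φ - χ) χ = 1 := by rw [← h7, hχ.classInner_self]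
  rw [classInner_sub_left, hm, hχ.classInner_self] at h8
  simp at h8

theorem inner_eq_zero_of_add [Fintype G] {χ₁ χ₂ ψ : G → ℂ} (h1 : IsCharacter G χ₁)
    (h2 : IsCharacter G χ₂) (h3 : IsCharacter G ψ) (h : classInner (χ₁ + χ₂) ψ = 0) :
    classInner χ₁ ψ = 0 := by
  obtain ⟨a, ha⟩ := h1.classInner_eq_nat h3
  obtain ⟨b, hb⟩ := h2.classInner_eq_nat h3
  rw [classInner_add_left, ha, hb] at h
  have : a + b = 0 := by exact_mod_cast h
  rw [ha, show a = 0 by omega, Nat.cast_zero]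

end General

variable {F : Type*} [Field F]

/-- conjugation of an element of `SL₂` by an element of `GL₂` -/
def cjF (x : GL (Fin 2) F) (g : SL2 F) : SL2 F := ⟨(x * toGL g * x⁻¹ : GL (Fin 2) F), by
    rw [Units.val_mul, Units.val_mul, det_conj'', coe_toGL, g.2]⟩

theorem toGL_cjF (x : GL (Fin 2) F) (g : SL2 F) : toGL (cjF x g) = x * toGL g * x⁻¹ :=
  Units.ext rfl

/-- conjugation of `SL₂` by an element of `GL₂` -/
def cjG (x : GL (Fin 2) F) : SL2 F ≃* SL2 F where
  toFun := cjF x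
  invFun := cjF x⁻¹
  left_inv g := toGL_injective (by simp only [toGL_cjF]; group)
  right_inv g := toGL_injective (by simp only [toGL_cjF]; group)
  map_mul' g h := toGL_injective (by simp only [toGL_cjF, map_mul]; group)

theorem toGL_cjG (x : GL (Fin 2) F) (g : SL2 F) : toGL (cjG x g) = x * toGL g * x⁻¹ :=
  toGL_cjF x g

theorem cjG_mul (x y : GL (Fin 2) F) (g : SL2 F) : cjG (x * y) g = cjG x (cjG y g) :=
  toGL_injective (by simp only [toGL_cjG]; group)

theorem cjG_toGL (x g : SL2 F) : cjG (toGL x) g = x * g * x⁻¹ :=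
  toGL_injective (by simp only [toGL_cjG, map_mul, map_inv])

theorem cjG_sc (a : Fˣ) (g : SL2 F) : cjG (sc a) g = g :=
  toGL_injective (by rw [toGL_cjG, sc_comm, mul_inv_cancel_right])

theorem isConj_cjG_of_isSquare {x : GL (Fin 2) F} (h : IsSquare (x : M2 F).det) :
    ∃ s : SL2 F, ∀ g, cjG x g = s * g * s⁻¹ := by
  obtain ⟨c, hc⟩ := h
  have hc0 : c ≠ 0 := by rintro rfl; exact det_ne x (by simpa using hc)
  obtain ⟨s, hs⟩ := exists_toGL (g := x * (sc (Units.mk0 c hc0))⁻¹) (by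
    rw [← map_inv, Units.val_mul, det_mul, coe_sc, hc]
    simp
    field_simp)
  refine ⟨s, fun g => ?_⟩
  rw [← cjG_toGL, hs, cjG_mul, ← map_inv, cjG_sc]

theorem coe_cjG_up (a : Fˣ) (g : SL2 F) : ((cjG (up a 1 0) g : SL2 F) : M2 F) =
    !![(g : M2 F) 0 0, a * (g : M2 F) 0 1; (a : F)⁻¹ * (g : M2 F) 1 0, (g : M2 F) 1 1] :=
  conj_up_entries a (toGL g)

theorem isConj_cjG [Finite F] (x : GL (Fin 2) F) {g : SL2 F}
    (hg : ¬ ∃ h : SL2 F, IsConj g h ∧ IsJord (h : M2 F)) : IsConj g (cjG x g) := by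
  have h0 : IsConj (toGL g) (toGL (cjG x g)) := isConj_iff.2 ⟨x, (toGL_cjG x g).symm⟩
  have ht := trace_eq_of_isConj h0
  rcases classify_SL g with h | h | h | ⟨h, h1, h2⟩
  · have := eq_of_isConj_scal h0 h
    rw [toGL_injective this]
  · exact h.isConj_SL ht
  · exact (hg h).elim
  · refine h1.trans (h2.isConj_SL (fun hs => ?_) ((trace_eq_of_isConj_SL h1).symm.trans ht))
    exact h2.not_scal (isScal_of_isConj_SL h1 (isScal_of_isConj h0.symm hs))

/-- the norm one elements of the non-split torus -/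
abbrev C1 (e : GL (Fin 2) F) : Subgroup (SL2 F) := (cent e).comap toGL

/-- the inclusion of the norm one torus -/
def incC (e : GL (Fin 2) F) : C1 e →* cent e :=
  ((toGL : SL2 F →* GL (Fin 2) F).comp (C1 e).subtype).codRestrict _ fun x => x.2

theorem incC_injective (e : GL (Fin 2) F) : Function.Injective (incC e) :=
  fun _ _ h => Subtype.ext (toGL_injective (congrArg Subtype.val h))

theorem barC_incC {e : GL (Fin 2) F} (he : IsEll (e : M2 F)) (c : C1 e) :
    barC he (incC e c) = incC e c⁻¹ :=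
  Subtype.ext (by
    show bar (toGL (c : SL2 F)) = toGL (c : SL2 F)⁻¹
    rw [bar_eq_inv (c : SL2 F).2, map_inv])

theorem comp_bar_incC {e : GL (Fin 2) F} (he : IsEll (e : M2 F)) (θ : cent e →* ℂˣ) :
    (θ.comp (barC he)).comp (incC e) = (θ.comp (incC e))⁻¹ :=
  MonoidHom.ext fun c => by
    simp only [MonoidHom.comp_apply, barC_incC, map_inv, MonoidHom.inv_apply]

theorem C1_comm {e : GL (Fin 2) F} (he : IsEll (e : M2 F)) (a b : C1 e) : a * b = b * a :=
  incC_injective e (by rw [map_mul, map_mul, centC_comm he])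

/-- a multiplicative character composed with the norm -/
noncomputable def detC (e : GL (Fin 2) F) (γ : MulChar F ℂ) : cent e →* ℂˣ :=
  (MulChar.equivToUnitHom γ).comp (GeneralLinearGroup.det.comp (cent e).subtype)

theorem detC_apply (e : GL (Fin 2) F) (γ : MulChar F ℂ) (c : cent e) :
    (detC e γ c : ℂ) = γ ((c : GL (Fin 2) F) : M2 F).det := rfl

theorem detC_incC (e : GL (Fin 2) F) (γ : MulChar F ℂ) (c : C1 e) : detC e γ (incC e c) = 1 :=
  Units.ext (by
    rw [detC_apply]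
    show γ ((c : SL2 F) : M2 F).det = 1
    rw [(c : SL2 F).2, map_one])

variable [Fintype F]

theorem detC_injective {e : GL (Fin 2) F} (he : IsEll (e : M2 F)) :
    Function.Injective (detC e) := by
  intro α β h
  refine MulChar.equivToUnitHom.injective ((MonoidHom.cancel_right fun n => ?_).1 h)
  obtain ⟨c, hc, h⟩ := he.exists_det n
  exact ⟨⟨c, hc⟩, h⟩

theorem exists_detC {e : GL (Fin 2) F} (he : IsEll (e : M2 F)) {θ θ' : cent e →* ℂˣ} :
    (∃ γ, θ * detC e γ = θ') ↔ θ.comp (incC e) = θ'.comp (incC e) := by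
  constructor
  · rintro ⟨γ, rfl⟩
    exact MonoidHom.ext fun c => by simp [detC_incC]
  · intro h
    have : θ⁻¹ * θ' = (θ⁻¹ * θ').comp (barC he) := by
      refine MonoidHom.ext fun x => ?_
      obtain ⟨s, hs⟩ := exists_toGL (g := (x : GL (Fin 2) F) * (bar x)⁻¹) (by
        have : GeneralLinearGroup.det ((x : GL (Fin 2) F) * (bar x)⁻¹) = 1 := by
          rw [map_mul, map_inv, mul_inv_eq_one]
          exact Units.ext (det_bar _).symm
        exact congrArg Units.val this)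
      have hs' : s ∈ C1 e := by
        show toGL s ∈ cent e
        rw [hs]; exact (cent e).mul_mem x.2 ((cent e).inv_mem (bar_mem_cent x.2))
      have h1 : incC e ⟨s, hs'⟩ = x * (barC he x)⁻¹ := Subtype.ext hs
      have h2 := DFunLike.congr_fun h ⟨s, hs'⟩
      simp only [MonoidHom.comp_apply, h1, map_mul, map_inv] at h2
      simp only [MonoidHom.comp_apply, MonoidHom.mul_apply, MonoidHom.inv_apply]
      rw [mul_inv_eq_iff_eq_mul] at h2
      rw [h2]
      exact Additive.ofMul.injective (by simp only [ofMul_mul, ofMul_inv]; abel)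
    obtain ⟨α, hα⟩ := exists_mulChar_of_bar he this
    refine ⟨α, MonoidHom.ext fun c => ?_⟩
    have : (θ⁻¹ * θ') c = detC e α c := Units.ext (hα c)
    rw [MonoidHom.mul_apply, ← this]
    simp

/-- an extension of a character of the norm one torus -/
noncomputable def extC {e : GL (Fin 2) F} (he : IsEll (e : M2 F)) (θ : C1 e →* ℂˣ) :
    cent e →* ℂˣ := (exists_hom_extend (centC_comm he) (incC e) (incC_injective e) θ).choose

theorem extC_incC {e : GL (Fin 2) F} (he : IsEll (e : M2 F)) (θ : C1 e →* ℂˣ) (c : C1 e) :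
    extC he θ (incC e c) = θ c :=
  (exists_hom_extend (centC_comm he) (incC e) (incC_injective e) θ).choose_spec c

theorem extC_comp {e : GL (Fin 2) F} (he : IsEll (e : M2 F)) (θ : C1 e →* ℂˣ) :
    (extC he θ).comp (incC e) = θ := MonoidHom.ext (extC_incC he θ)

variable [DecidableEq F]

theorem inner_SL [Fintype (MulChar F ℂ)] (f f' : GL (Fin 2) F → ℂ) :
    classInner (fun g : SL2 F => f (toGL g)) (fun g => f' (toGL g)) =
      ∑ γ : MulChar F ℂ, classInner (f * UC γ) f' := by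
  classical
  rw [← classInner_sum_left, ← Finset.mul_sum]
  unfold classInner
  have h1 : ∀ g : GL (Fin 2) F, (f * ∑ γ : MulChar F ℂ, UC γ) g * conj (f' g) =
      if (g : M2 F).det = 1 then ((Fintype.card F : ℂ) - 1) * (f g * conj (f' g)) else 0 := by
    intro g
    simp only [Pi.mul_apply, Finset.sum_apply, UC, sum_mulChar_apply (det_ne g)]
    split_ifs <;> ring
  have h2 : ∑ g : SL2 F, f (toGL g) * conj (f' (toGL g)) =
      ∑ g ∈ Finset.univ.filter fun g : GL (Fin 2) F => (g : M2 F).det = 1, f g * conj (f' g) := by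
    refine Finset.sum_bij (fun g _ => toGL g) (fun g _ => by simp [g.2])
      (fun _ _ _ _ h => toGL_injective h) (fun g hg => ?_) (fun _ _ => rfl)
    obtain ⟨s, hs⟩ := exists_toGL (Finset.mem_filter.1 hg).2
    exact ⟨s, Finset.mem_univ _, hs⟩
  simp only [h1]
  rw [← Finset.sum_filter, ← Finset.mul_sum, h2, cast_card_GL2, cast_card_SL2]
  have := cast_q_sub_one_ne (F := F)
  have := cast_q_add_one_ne (F := F)
  have := cast_q_ne (F := F)
  field_simp

/-- principal series of `SL₂` -/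
noncomputable def WS (α : MulChar F ℂ) : SL2 F → ℂ := fun g => WC α 1 (toGL g)

/-- the Steinberg character of `SL₂` -/
noncomputable def StS (F : Type*) [Field F] [Fintype F] [DecidableEq F] : SL2 F → ℂ :=
  fun g => VC 1 (toGL g)

/-- discrete series of `SL₂` -/
noncomputable def XS {e : GL (Fin 2) F} (he : IsEll (e : M2 F)) (θ : C1 e →* ℂˣ) : SL2 F → ℂ :=
  fun g => XC (cf (extC he θ)) (toGL g)

theorem indFun_eq_WS (α : MulChar F ℂ) :
    indFun ((upperTriangularGL 2 F).comap (toGL : SL2 F →* GL (Fin 2) F))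
      (fun b => α (((b : SL2 F) : M2 F) 0 0)) = WS α := by
  funext g
  rw [indFun_B1 (fun a _ => α a) g, WS, WC, RT_congr]
  intro a d _ hd
  rw [MulChar.one_apply (Ne.isUnit hd), mul_one]

omit [Fintype F] [DecidableEq F] in
theorem UC_toGL (γ : MulChar F ℂ) (g : SL2 F) : UC γ (toGL g) = 1 := by
  rw [UC, coe_toGL, g.2, map_one]

theorem WC_res (α β : MulChar F ℂ) : (fun g : SL2 F => WC α β (toGL g)) = WS (α * β⁻¹) := by
  funext g
  have := congrFun (WC_mul_det (α * β⁻¹) 1 β) (toGL g)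
  rw [inv_mul_cancel_right, one_mul, Pi.mul_apply, UC_toGL, mul_one] at this
  exact this

theorem XC_mul_detC {e : GL (Fin 2) F} (he : IsEll (e : M2 F)) (θ : cent e →* ℂˣ)
    (γ : MulChar F ℂ) : XC (cf (θ * detC e γ)) = XC (cf θ) * UC γ :=
  XC_mul_det he (cf θ) γ

theorem XC_res {e : GL (Fin 2) F} (he : IsEll (e : M2 F)) (θ : cent e →* ℂˣ) :
    (fun g : SL2 F => XC (cf θ) (toGL g)) = XS he (θ.comp (incC e)) := by
  obtain ⟨γ, hγ⟩ := (exists_detC he).2 (extC_comp he (θ.comp (incC e)))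
  funext g
  conv_lhs => rw [← hγ]
  rw [XC_mul_detC he, Pi.mul_apply, UC_toGL, mul_one, XS]

open Classical in
theorem inner_WS (α β : MulChar F ℂ) : classInner (WS α) (WS β) =
    (if α = β then 1 else 0) + (if α = β⁻¹ then 1 else 0) := by
  haveI := Fintype.ofFinite (MulChar F ℂ)
  unfold WS
  rw [inner_SL]
  simp only [← WC_mul_det, inner_WC_WC, one_mul, Finset.sum_add_distrib]
  congr 1
  · rw [Finset.sum_eq_single 1] <;> simp +contextual
  · rw [Finset.sum_eq_single β]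
    · simp [mul_eq_one_iff_eq_inv]
    · simp +contextual
    · simp

open Classical in
theorem sum_detC {e : GL (Fin 2) F} (he : IsEll (e : M2 F)) [Fintype (MulChar F ℂ)]
    (θ θ' : cent e →* ℂˣ) : ∑ γ : MulChar F ℂ, (if θ * detC e γ = θ' then (1 : ℂ) else 0) =
      if θ.comp (incC e) = θ'.comp (incC e) then 1 else 0 := by
  split_ifs with h
  · obtain ⟨γ, rfl⟩ := (exists_detC he).2 h
    simp [(detC_injective he).eq_iff]
  · rw [← exists_detC he, not_exists] at h
    simp [h]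

open Classical in
theorem inner_XS {e : GL (Fin 2) F} (he : IsEll (e : M2 F)) (θ θ' : C1 e →* ℂˣ) :
    classInner (XS he θ) (XS he θ') = (if θ = θ' then 1 else 0) + (if θ = θ'⁻¹ then 1 else 0) := by
  haveI := Fintype.ofFinite (MulChar F ℂ)
  unfold XS
  rw [inner_SL]
  simp only [← XC_mul_detC he, inner_XC_cf he, Finset.sum_add_distrib, sum_detC he, comp_bar_incC,
    extC_comp]

theorem inner_WS_XS {e : GL (Fin 2) F} (he : IsEll (e : M2 F)) (α : MulChar F ℂ)
    (θ : C1 e →* ℂˣ) : classInner (WS α) (XS he θ) = 0 := by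
  haveI := Fintype.ofFinite (MulChar F ℂ)
  unfold WS XS
  rw [inner_SL]
  simp only [← WC_mul_det]
  exact Finset.sum_eq_zero fun γ _ => inner_RT_XC he _ _

open Classical in
theorem inner_WS_one (α : MulChar F ℂ) :
    classInner (WS α) (fun _ => 1) = if α = 1 then 1 else 0 := by
  haveI := Fintype.ofFinite (MulChar F ℂ)
  have : (fun _ : SL2 F => (1 : ℂ)) = fun g => UC 1 (toGL g) := funext fun g => (UC_toGL 1 g).symm
  unfold WS
  rw [this, inner_SL]
  simp only [← WC_mul_det, inner_WC_UC, one_mul]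
  rw [Finset.sum_eq_single 1] <;> simp +contextual

theorem isCharacter_WS (α : MulChar F ℂ) : IsCharacter _ (WS α) := (isCharacter_WC α 1).comp _

theorem isGen_XS {e : GL (Fin 2) F} (he : IsEll (e : M2 F)) (θ : C1 e →* ℂˣ) :
    IsGeneralizedCharacter _ (XS he θ) := (isGen_XC _).comp _

theorem WS_one_eq : WS (1 : MulChar F ℂ) = (fun _ => 1) + StS F := by
  funext g
  simp [WS, StS, VC, UC_toGL]

theorem XS_one_eq {e : GL (Fin 2) F} (he : IsEll (e : M2 F)) :
    XS he 1 = StS F - fun _ => 1 := by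
  have h1 := XC_res he 1
  rw [MonoidHom.one_comp] at h1
  rw [← h1, XC_of_det he (α := 1) fun c => by
    rw [MulChar.one_apply (Ne.isUnit (det_ne _))]; rfl]
  funext g
  simp [StS, UC_toGL]

theorem isIrr_WS_iff {α : MulChar F ℂ} : IsIrrCharacter _ (WS α) ↔ α ^ 2 ≠ 1 := by
  rw [(isCharacter_WS α).isIrr_iff, inner_WS, sq, Ne, mul_eq_one_iff_eq_inv]
  by_cases h : α = α⁻¹
  · rw [if_pos rfl, if_pos h]; simp [← h]
  · rw [if_pos rfl, if_neg h]; simp [h]

theorem isIrr_StS : IsIrrCharacter _ (StS F) := by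
  have h0 : StS F = WS 1 - fun _ => 1 := by rw [WS_one_eq]; simp
  refine ((isIrr_VC 1).isCharacter.comp _).isIrr_of_classInner_self ?_
  change classInner (StS F) (StS F) = 1
  rw [h0, classInner_sub_left, classInner_sub_right, classInner_sub_right, inner_WS,
    isCharacter_one.classInner_comm (isCharacter_WS 1), inner_WS_one,
    isIrrCharacter_one.classInner_self]
  simp

theorem WS_one (α : MulChar F ℂ) : WS α 1 = Fintype.card F + 1 := by
  rw [WS, map_one, WC_one]

theorem StS_one : StS F 1 = Fintype.card F := by rw [StS, map_one, VC_one]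

theorem XS_one {e : GL (Fin 2) F} (he : IsEll (e : M2 F)) (θ : C1 e →* ℂˣ) :
    XS he θ 1 = Fintype.card F - 1 := by rw [XS, map_one, XC_one he]

theorem extC_ne_bar {e : GL (Fin 2) F} (he : IsEll (e : M2 F)) {θ : C1 e →* ℂˣ} (h : θ ≠ 1) :
    extC he θ ≠ (extC he θ).comp (barC he) := by
  intro h1
  obtain ⟨α, hα⟩ := exists_mulChar_of_bar he h1
  refine h (MonoidHom.ext fun c => ?_)
  rw [← extC_incC he, show extC he θ (incC e c) = detC e α (incC e c) from Units.ext (hα _),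
    detC_incC, MonoidHom.one_apply]

theorem isCharacter_XS {e : GL (Fin 2) F} (he : IsEll (e : M2 F)) {θ : C1 e →* ℂˣ} (h : θ ≠ 1) :
    IsCharacter _ (XS he θ) := (isIrr_XC he (extC_ne_bar he h)).isCharacter.comp _

theorem isIrr_XS {e : GL (Fin 2) F} (he : IsEll (e : M2 F)) {θ : C1 e →* ℂˣ} (h : θ ^ 2 ≠ 1) :
    IsIrrCharacter _ (XS he θ) := by
  refine (isCharacter_XS he (by rintro rfl; exact h hom_one_sq)).isIrr_of_classInner_self ?_
  rw [sq, Ne, mul_eq_one_iff_eq_inv] at h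
  rw [inner_XS, if_pos rfl, if_neg h, add_zero]

theorem WS_scal (α : MulChar F ℂ) {g : SL2 F} (h : IsScal (g : M2 F)) :
    WS α g = (Fintype.card F + 1) * α ((g : M2 F) 0 0) := by
  rw [WS, WC_scal _ _ h, coe_toGL, MulChar.one_apply (Ne.isUnit (upper_ne_SL h.2.1)), mul_one]

theorem WS_jord (α : MulChar F ℂ) {g : SL2 F} (h : IsJord (g : M2 F)) :
    WS α g = α ((g : M2 F) 0 0) := by
  rw [WS, WC_jord _ _ h, coe_toGL, MulChar.one_apply (Ne.isUnit (upper_ne_SL h.1)), mul_one]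

theorem WS_diag (α : MulChar F ℂ) {g : SL2 F} (h : IsDiag (g : M2 F)) :
    WS α g = α ((g : M2 F) 0 0) + α ((g : M2 F) 1 1) := by
  have := upper_ne (g := toGL g) h.2.1
  rw [WS, WC_diag _ _ h, MulChar.one_apply (Ne.isUnit this.1),
    MulChar.one_apply (Ne.isUnit this.2), mul_one, mul_one, coe_toGL]

theorem WS_ell (α : MulChar F ℂ) {g : SL2 F} (h : IsEll (g : M2 F)) : WS α g = 0 :=
  WC_ell _ _ h

theorem StS_scal {g : SL2 F} (h : IsScal (g : M2 F)) : StS F g = Fintype.card F := by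
  rw [StS, VC_scal _ h, coe_toGL, g.2, map_one, mul_one]

theorem StS_jord {g : SL2 F} (h : IsJord (g : M2 F)) : StS F g = 0 := VC_jord _ h

theorem StS_diag {g : SL2 F} (h : IsDiag (g : M2 F)) : StS F g = 1 := by
  rw [StS, VC_diag _ h, coe_toGL, g.2, map_one]

theorem StS_ell {g : SL2 F} (h : IsEll (g : M2 F)) : StS F g = -1 := by
  rw [StS, VC_ell _ h, coe_toGL, g.2, map_one]

theorem XS_scal {e : GL (Fin 2) F} (he : IsEll (e : M2 F)) (θ : C1 e →* ℂˣ) (c : C1 e)
    (h : IsScal ((c : SL2 F) : M2 F)) : XS he θ c = (Fintype.card F - 1) * θ c := by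
  rw [XS, XC_scal he _ h, res_scal _ h, ← extC_incC he]; rfl

theorem XS_jord {e : GL (Fin 2) F} (he : IsEll (e : M2 F)) (θ : C1 e →* ℂˣ) (c : C1 e)
    (hc : IsScal ((c : SL2 F) : M2 F)) {g : SL2 F} (h : IsJord (g : M2 F))
    (h1 : (g : M2 F) 0 0 = ((c : SL2 F) : M2 F) 0 0) : XS he θ g = -θ c := by
  rw [XS, XC_jord he _ h, coe_toGL, h1, ← coe_toGL, res_scal _ hc, ← extC_incC he]; rfl

theorem XS_jord_one {e : GL (Fin 2) F} (he : IsEll (e : M2 F)) (θ : C1 e →* ℂˣ) {g : SL2 F}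
    (h : IsJord (g : M2 F)) (h1 : (g : M2 F) 0 0 = 1) : XS he θ g = -1 := by
  rw [XS_jord he θ 1 (isScal_SL_iff.2 (Or.inl rfl)) h (by simpa using h1)]; simp

theorem XS_diag {e : GL (Fin 2) F} (he : IsEll (e : M2 F)) (θ : C1 e →* ℂˣ) {g : SL2 F}
    (h : IsDiag (g : M2 F)) : XS he θ g = 0 := XC_diag he _ h

theorem XS_mem {e : GL (Fin 2) F} (he : IsEll (e : M2 F)) (θ : C1 e →* ℂˣ) (c : C1 e)
    (h : ¬ IsScal ((c : SL2 F) : M2 F)) : XS he θ c = -(θ c + (θ c)⁻¹.val) := by
  have := XC_mem he (cf (extC he θ)) (incC e c) h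
  rw [barC_incC] at this
  simp only [cf, extC_incC] at this
  rw [map_inv] at this
  exact this

theorem WS_eq_iff {α β : MulChar F ℂ} : WS α = WS β ↔ α = β ∨ α = β⁻¹ := by
  constructor
  · intro h
    by_contra hc
    push Not at hc
    have h1 := inner_WS α β
    rw [if_neg hc.1, if_neg hc.2, h, inner_WS, if_pos rfl] at h1
    split_ifs at h1 <;> norm_num at h1
  · rintro (rfl | rfl)
    · rfl
    · have := WC_res (1 : MulChar F ℂ) β
      rw [one_mul, WC_comm] at this
      exact this.symm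

theorem XS_eq_iff {e : GL (Fin 2) F} (he : IsEll (e : M2 F)) {θ θ' : C1 e →* ℂˣ} :
    XS he θ = XS he θ' ↔ θ = θ' ∨ θ = θ'⁻¹ := by
  constructor
  · intro h
    by_contra hc
    push Not at hc
    have h1 := inner_XS he θ θ'
    rw [if_neg hc.1, if_neg hc.2, h, inner_XS, if_pos rfl] at h1
    split_ifs at h1 <;> norm_num at h1
  · rintro (rfl | rfl)
    · rfl
    · have := XC_res he ((extC he θ').comp (barC he))
      rw [comp_bar_incC, extC_comp] at this
      rw [← this]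
      exact funext fun g => congrFun (XC_bar he (cf (extC he θ'))) (toGL g)

end Cfsg.Agent.Perm.GL2
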