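import Cfsg.Agent.Lib.Perm.GL2h
import Cfsg.Agent.Lib.Perm.GL2g
import Cfsg.Agent.Lib.Char.Kernel
import Cfsg.Prelude.Def_DegreeGraph

/-! Character degrees of the two-dimensional special linear groups. -/

set_option autoImplicit false
set_option linter.unusedSectionVars false
set_option linter.style.haveILetI false

namespace Cfsg.Agent.Perm.GL2

open Matrix Cfsg.Agent.Char

theorem exists_hom_four {C : Type*} [Group C] [Finite C] (hC : IsCyclic C) (h : ¬ Nat.card C ∣ 4) :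
    ∃ θ : C →* ℂˣ, (θ ^ 2) ^ 2 ≠ 1 := by
  classical
  have hc : ∀ a b : C, a * b = b * a := hC.isMulCommutative.1.1
  have := finite_hom_units hc
  have := Fintype.ofFinite (C →* ℂˣ)
  obtain ⟨c, hc'⟩ := hC.exists_generator
  by_contra h1
  push Not at h1
  have h2 := sum_hom_apply hc (c ^ 4)
  rw [if_neg (fun e => h (orderOf_eq_card_of_forall_mem_zpowers hc' ▸ orderOf_dvd_of_pow_eq_one e)),
    Finset.sum_congr rfl (g := fun _ => 1) (fun θ _ => by
      have := DFunLike.congr_fun (h1 θ) c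
      simp only [MonoidHom.pow_apply, MonoidHom.one_apply, ← pow_mul] at this
      rw [map_pow, this, Units.val_one])] at h2
  simp at h2

theorem charDegree_eq {G : Type*} [Group G] {χ : G → ℂ} {n : ℕ} (h : χ 1 = n) : charDegree χ = n := by
  simp [charDegree, h]

theorem charDegrees_congr {G H : Type*} [Group G] [Group H] (e : G ≃* H) :
    charDegrees G = charDegrees H := by
  ext d
  constructor
  · rintro ⟨χ, rfl⟩
    exact ⟨⟨_, χ.2.comp_equiv e.symm⟩, by simp [charDegree]⟩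
  · rintro ⟨χ, rfl⟩
    exact ⟨⟨_, χ.2.comp_equiv e⟩, by simp [charDegree]⟩

variable {F : Type*} [Field F] [Fintype F]

theorem deg_cases {χ : SL2 F → ℂ} (hχ : IsIrrCharacter _ χ) : charDegree χ = Fintype.card F ∨
    charDegree χ ∣ Fintype.card F + 1 ∨ charDegree χ ∣ Fintype.card F - 1 := by
  classical
  obtain ⟨e, he⟩ := exists_ell (F := F)
  rcases irr_SL2 he hχ with h | h | h | h | h | h
  · rw [charDegree_eq (n := 1) (by simp [h])]; simp
  · exact Or.inl (charDegree_eq (by rw [h, StS_one]))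
  · rw [charDegree_eq (n := Fintype.card F + 1) (by simp [(famWS_irr h).2])]; simp
  · rw [charDegree_eq (n := Fintype.card F - 1) (by rw [(famXS_irr h).2, cast_q_sub_one])]; simp
  · have ho := odd_of_two_ne_zero (halfW_irr h).2.2
    rw [charDegree_eq (n := (Fintype.card F + 1) / 2) (by rw [(halfW_irr h).2.1, cast_half_add ho])]
    exact Or.inr (Or.inl (Nat.div_dvd_of_dvd ho.add_one.two_dvd))
  · have ho := odd_of_two_ne_zero (halfX_irr h).2.2
    rw [charDegree_eq (n := (Fintype.card F - 1) / 2) (by rw [(halfX_irr h).2.1, cast_half_sub ho])]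
    exact Or.inr (Or.inr (Nat.div_dvd_of_dvd (Nat.Odd.sub_odd ho odd_one).two_dvd))

theorem exists_descend_P {χ : SL2 F → ℂ} (hχ : IsIrrCharacter _ χ)
    (h : ∀ g : SL2 F, IsScal (g : M2 F) → χ g = χ 1) :
    ∃ ψ : PSL2 F → ℂ, IsIrrCharacter _ ψ ∧ ∀ g, ψ (toP g) = χ g :=
  hχ.exists_descend toP toP_surjective fun g hg => hχ.isCharacter.mem_charKer.2 (h g (toP_eq_one.1 hg))

theorem mem_degrees_P {χ : SL2 F → ℂ} (hχ : IsIrrCharacter _ χ)
    (h : ∀ g : SL2 F, IsScal (g : M2 F) → χ g = χ 1) {n : ℕ} (hn : χ 1 = n) :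
    n ∈ charDegrees (PSL2 F) := by
  obtain ⟨ψ, h1, h2⟩ := exists_descend_P hχ h
  exact ⟨⟨ψ, h1⟩, charDegree_eq (by rw [← hn, ← h2, map_one])⟩

theorem degrees_P_subset : charDegrees (PSL2 F) ⊆ charDegrees (SL2 F) := by
  rintro _ ⟨χ, rfl⟩
  exact ⟨⟨_, χ.2.comp_surjective toP toP_surjective⟩, by simp [charDegree]⟩

theorem q_mem_P : Fintype.card F ∈ charDegrees (PSL2 F) := by
  classical
  exact mem_degrees_P isIrr_StS (fun g hg => by rw [StS_scal hg, StS_one]) StS_one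

theorem q_add_mem_P (h : ¬ Fintype.card F - 1 ∣ 4) : Fintype.card F + 1 ∈ charDegrees (PSL2 F) := by
  classical
  obtain ⟨θ, hθ⟩ := exists_hom_four (C := Fˣ) inferInstance (by rwa [card_units_eq])
  let α : MulChar F ℂ := MulChar.ofUnitHom θ
  have h1 : (α ^ 2) ^ 2 ≠ 1 := fun e => hθ (by
    ext a
    have := DFunLike.congr_fun e (a : F)
    simp only [MulChar.pow_apply_coe, α, MulChar.ofUnitHom_coe, MulChar.one_apply_coe] at this
    simpa using this)
  refine mem_degrees_P (isIrr_WS_iff.2 h1) (fun g hg => ?_) (by rw [WS_one]; simp)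
  rw [WS_scal _ hg, WS_one, MulChar.pow_apply' _ two_ne_zero, ← map_pow]
  rcases isScal_SL_iff.1 hg with rfl | rfl <;> simp

theorem q_sub_mem_P (h : 4 ≤ Fintype.card F) : Fintype.card F - 1 ∈ charDegrees (PSL2 F) := by
  classical
  obtain ⟨e, he⟩ := exists_ell (F := F)
  obtain ⟨θ, hθ⟩ := exists_hom_four (C := C1 e) he.isCyclic_comap (by
    rw [he.card_comap]; exact fun h' => by have := Nat.le_of_dvd (by norm_num) h'; omega)
  refine mem_degrees_P (isIrr_XS he hθ) (fun g hg => ?_) (by rw [XS_one, cast_q_sub_one])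
  have := XS_scal he (θ ^ 2) ⟨g, scal_mem_cent hg e⟩ hg
  rw [this, XS_one, MonoidHom.pow_apply, ← map_pow]
  have h1 : (⟨g, scal_mem_cent hg e⟩ : C1 e) ^ 2 = 1 := Subtype.ext (by
    rcases isScal_SL_iff.1 hg with rfl | rfl <;> simp)
  rw [h1]; simp

/-- The degrees of `SL₂` and `PSL₂`. -/
theorem deg_facts (h4 : 4 ≤ Fintype.card F) (h5 : Fintype.card F ≠ 5) {S : Type*} [Group S]
    (hS : Nonempty (S ≃* PSL2 F) ∨ Nonempty (S ≃* SL2 F)) :
    (∀ d ∈ charDegrees S, d = Fintype.card F ∨ d ∣ Fintype.card F + 1 ∨ d ∣ Fintype.card F - 1) ∧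
    Fintype.card F ∈ charDegrees S ∧ Fintype.card F + 1 ∈ charDegrees S ∧
      Fintype.card F - 1 ∈ charDegrees S := by
  have h1 : ¬ Fintype.card F - 1 ∣ 4 := fun h => by
    have := Nat.le_of_dvd (by norm_num) h
    have h2 : Fintype.card F - 1 = 3 := by omega
    rw [h2] at h; omega
  have h2 : ∀ d ∈ charDegrees (SL2 F), d = Fintype.card F ∨ d ∣ Fintype.card F + 1 ∨
      d ∣ Fintype.card F - 1 := by
    rintro _ ⟨χ, rfl⟩; exact deg_cases χ.2
  rcases hS with ⟨⟨e⟩⟩ | ⟨⟨e⟩⟩ <;> rw [charDegrees_congr e]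
  · exact ⟨fun d hd => h2 d (degrees_P_subset hd), q_mem_P, q_add_mem_P h1, q_sub_mem_P h4⟩
  · exact ⟨h2, degrees_P_subset q_mem_P, degrees_P_subset (q_add_mem_P h1),
      degrees_P_subset (q_sub_mem_P h4)⟩

theorem graph_facts (h4 : 4 ≤ Fintype.card F) (h5 : Fintype.card F ≠ 5) {S : Type*} [Group S]
    (hS : Nonempty (S ≃* PSL2 F) ∨ Nonempty (S ≃* SL2 F)) :
    degreePrimes S = {r : ℕ | r.Prime ∧ r ∣ Fintype.card F * (Fintype.card F ^ 2 - 1)} ∧
    ∀ r s : ℕ, (degreeGraph S).Adj r s ↔ (r ≠ s ∧ r.Prime ∧ s.Prime ∧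
      ((r ∣ Fintype.card F + 1 ∧ s ∣ Fintype.card F + 1) ∨
        (r ∣ Fintype.card F - 1 ∧ s ∣ Fintype.card F - 1))) := by
  obtain ⟨h1, h2, h3, h6⟩ := deg_facts h4 h5 hS
  refine ⟨Set.ext fun r => and_congr_right fun hr => ?_, fun r s => and_congr_right fun hrs =>
    and_congr_right fun hr => and_congr_right fun hs => ⟨?_, ?_⟩⟩
  · rw [sq_sub_one_eq, hr.dvd_mul, hr.dvd_mul]
    constructor
    · rintro ⟨d, hd, h⟩
      rcases h1 d hd with e | e | e
      · exact Or.inl (e ▸ h)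
      · exact Or.inr (Or.inl (h.trans e))
      · exact Or.inr (Or.inr (h.trans e))
    · rintro (h | h | h)
      exacts [⟨_, h2, h⟩, ⟨_, h3, h⟩, ⟨_, h6, h⟩]
  · rintro ⟨d, hd, h⟩
    rcases h1 d hd with e | e | e
    · obtain ⟨p, hp, n, hp', hn⟩ := FiniteField.card' F
      rw [e, hn] at h
      exact (hrs (((Nat.prime_dvd_prime_iff_eq hr hp').1 (hr.dvd_of_dvd_pow (dvd_of_mul_right_dvd h))).trans
        ((Nat.prime_dvd_prime_iff_eq hs hp').1 (hs.dvd_of_dvd_pow (dvd_of_mul_left_dvd h))).symm)).elim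
    · exact Or.inl ⟨dvd_of_mul_right_dvd (h.trans e), dvd_of_mul_left_dvd (h.trans e)⟩
    · exact Or.inr ⟨dvd_of_mul_right_dvd (h.trans e), dvd_of_mul_left_dvd (h.trans e)⟩
  · have hc := (Nat.coprime_primes hr hs).2 hrs
    rintro (h | h)
    exacts [⟨_, h3, hc.mul_dvd_of_dvd_of_dvd h.1 h.2⟩, ⟨_, h6, hc.mul_dvd_of_dvd_of_dvd h.1 h.2⟩]

end Cfsg.Agent.Perm.GL2
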