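import Cfsg.Agent.Lib.Leech.HS
import Cfsg.Agent.Lib.Steiner.HS
import Cfsg.Agent.Lib.Steiner.Aut
import Cfsg.Agent.S1584
import Cfsg.Agent.S0414
import Cfsg.Agent.S0428
import Cfsg.Agent.S0430

/-! The automorphism group of the graph on one hundred vertices. -/

set_option autoImplicit false

namespace Cfsg.Agent.Perm.HSG

open Cfsg.Agent.Leech Cfsg.Agent.Steiner Cfsg.Agent.PC MulAction Finset
open scoped Pointwise

/-- a group acting by graph automorphisms -/
def toAut {K X : Type*} [Group K] [MulAction K X] {Γ : SimpleGraph X}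
    (h : ∀ g : K, ∀ a b, Γ.Adj (g • a) (g • b) ↔ Γ.Adj a b) : K →* (Γ ≃g Γ) where
  toFun g := ⟨MulAction.toPerm g, h g _ _⟩
  map_one' := RelIso.ext fun a => one_smul K a
  map_mul' g g' := RelIso.ext fun a => mul_smul g g' a

/-- transport of automorphism groups -/
def cjA {X Y : Type*} {Γ : SimpleGraph X} {Δ : SimpleGraph Y} (e : Γ ≃g Δ) : (Γ ≃g Γ) ≃* (Δ ≃g Δ) where
  toFun φ := (e.symm.trans φ).trans e
  invFun φ := (e.trans φ).trans e.symm
  left_inv φ := RelIso.ext fun a => by simp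
  right_inv φ := RelIso.ext fun a => by simp
  map_mul' φ ψ := RelIso.ext fun a => by simp

theorem srg3 {X : Type*} [Fintype X] {Γ : SimpleGraph X} [DecidableRel Γ.Adj] (h1 : Fintype.card X = 100)
    (h2 : ∀ v, {w | Γ.Adj v w}.ncard = 22) (h3 : ∀ u v w, Γ.Adj u v → Γ.Adj u w → ¬ Γ.Adj v w)
    (h4 : ∀ v w w', w ≠ v → ¬ Γ.Adj v w → w' ≠ v → ¬ Γ.Adj v w' → ∃ φ : Γ ≃g Γ, φ v = v ∧ φ w = w') :
    Γ.IsSRGWith 100 22 0 6 := by
  classical
  have n : ∀ (p : X → Prop) [DecidablePred p], {x | p x}.ncard = (univ.filter p).card := fun p _ => by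
    rw [← Set.ncard_coe_finset]; congr 1; ext; simp
  refine srg_of (by rw [Set.ncard_univ, Nat.card_eq_fintype_card, h1]) h2 fun v w hvw => ?_
  split_ifs with a
  · rw [Set.ncard_eq_zero, Set.eq_empty_iff_forall_notMem]
    exact fun x hx => h3 v w x a hx.1 hx.2
  have d : ∀ v, (univ.filter (Γ.Adj v)).card = 22 := fun v => (n _).symm.trans (h2 v)
  have c : ((univ.filter (Γ.Adj v))ᶜ.erase v).card = 77 := by
    rw [card_erase_of_mem (by simp), card_compl, d, h1]
  have k := card_mul_eq_card_mul (s := univ.filter (Γ.Adj v)) (t := (univ.filter (Γ.Adj v))ᶜ.erase v) Γ.Adj (m := 21)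
    (n := {x | Γ.Adj v x ∧ Γ.Adj w x}.ncard) (fun u hu => ?_) fun y hy => ?_
  · rw [d, c] at k; omega
  · have hu' := (mem_filter.1 hu).2
    rw [show bipartiteAbove Γ.Adj ((univ.filter (Γ.Adj v))ᶜ.erase v) u = (univ.filter (Γ.Adj u)).erase v from Finset.ext fun y => by
      simp only [mem_bipartiteAbove, mem_erase, mem_compl, mem_filter, mem_univ, true_and]
      exact ⟨fun h => ⟨h.1.1, h.2⟩, fun h => ⟨⟨h.1, fun e => h3 v u y hu' e h.2⟩, h.2⟩⟩,
      card_erase_of_mem (by simpa using hu'.symm), d]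
  · simp only [mem_erase, mem_compl, mem_filter, mem_univ, true_and] at hy
    obtain ⟨φ, p, q⟩ := h4 v y w hy.1 hy.2 hvw.symm a
    rw [n]
    refine card_bij (fun x _ => φ x) (fun x hx => ?_) (fun _ _ _ _ e => φ.injective e) fun x hx => ⟨φ.symm x, ?_, by simp⟩
    · simp only [mem_bipartiteBelow, mem_filter, mem_univ, true_and] at hx ⊢
      rw [← p, ← q, φ.map_adj_iff, φ.map_adj_iff]
      exact ⟨p ▸ hx.1, hx.2.symm⟩
    · simp only [mem_bipartiteBelow, mem_filter, mem_univ, true_and] at hx ⊢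
      rw [← φ.map_adj_iff, ← φ.map_adj_iff (v := φ.symm x), p, q, RelIso.apply_symm_apply]
      exact ⟨hx.1, hx.2.symm⟩

def sm : SubMulAction KHS L := ⟨S100, fun g _ hx => smul_100 g.2 hx⟩

def gr : SimpleGraph sm where
  Adj x y := dotInt (x.1 : V) y.1 = 8
  symm := ⟨fun x y h => (dot_comm _ _).trans h⟩
  loopless := ⟨fun x h => by
    have := x.2.1
    rw [dot_self] at h
    omega⟩

theorem gr_inv (g : KHS) (a b : sm) : gr.Adj (g • a) (g • b) ↔ gr.Adj a b := by
  show dotInt ((g.1 • a.1 : L) : V) (g.1 • b.1 : L) = 8 ↔ dotInt _ _ = 8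
  rw [dot_smul_smul]

theorem hsA {X : Type*} [Fintype X] {Γ : SimpleGraph X} [DecidableRel Γ.Adj] (h : Γ.IsSRGWith 100 22 0 6) :
    ∃ φ : KHS →* (Γ ≃g Γ), Function.Injective φ ∧ ∀ a b, ∃ g, φ g a = b := by
  classical
  haveI : Finite sm := fin100
  haveI := Fintype.ofFinite sm
  have m : ∀ x : L, x ∈ {x : L | sqNorm (x : V) = 32 ∧ dotInt (U0 : V) x = 24 ∧ dotInt ((-U1 : L) : V) x = -24} ↔ x ∈ S100 :=
    fun x => by rw [Set.mem_setOf_eq, dot_neg_left, neg_inj]; rfl
  have r := fun x : sm => S1584.result U0 (-U1) x nU0 ((norm_neg' _).trans nU1)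
    (by rw [AddSubgroup.coe_neg, dot_neg, dUU]) ((m _).2 x.2)
  have c : Fintype.card sm = 100 := by rw [← Nat.card_eq_fintype_card]; exact card100
  have s : gr.IsSRGWith 100 22 0 6 := srg3 c (fun v => ?_) (fun u v w a b c => ?_) fun v w w' a b a' b' => ?_
  · obtain ⟨e⟩ := S0430.result s h
    have t : ∀ a : sm, ∃ g : KHS, g • (⟨X0, X0_100⟩ : sm) = a := fun a => by
      obtain ⟨g, hg⟩ := orbit100.ge a.2
      exact ⟨g, Subtype.ext hg⟩
    have t2 : ∀ a b : sm, ∃ g : KHS, g • a = b := fun a b => by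
      obtain ⟨g, rfl⟩ := t a
      obtain ⟨g', rfl⟩ := t b
      exact ⟨g' * g⁻¹, by rw [mul_smul, inv_smul_smul]⟩
    refine ⟨(cjA e).toMonoidHom.comp (toAut gr_inv), (cjA e).injective.comp ?_, fun a b => ?_⟩
    · haveI := KHS_simple.1
      refine (MonoidHom.ker_eq_bot_iff _).1 (((toAut gr_inv).normal_ker.eq_bot_or_eq_top).resolve_right fun k => ?_)
      obtain ⟨a, b, ab⟩ := Fintype.exists_pair_of_one_lt_card (show 1 < Fintype.card sm by omega)
      obtain ⟨g, rfl⟩ := t2 a b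
      have : toAut gr_inv g = 1 := (k.ge (Subgroup.mem_top g) :)
      exact ab (RelIso.ext_iff.1 this a).symm
    · obtain ⟨g, hg⟩ := t2 (e.symm a) (e.symm b)
      exact ⟨g, show e (g • e.symm a) = b by rw [hg]; simp⟩
  · rw [← (r v).1, ← Set.ncard_image_of_injective _ Subtype.val_injective]
    congr 1
    ext y
    exact ⟨fun ⟨z, h1, h2⟩ => h2 ▸ ⟨(m _).2 z.2, h1⟩, fun h => ⟨⟨y, (m _).1 h.1⟩, h.2, rfl⟩⟩
  · obtain ⟨u1, u2, u3⟩ := u.2
    obtain ⟨v1, v2, v3⟩ := v.2
    obtain ⟨w1, w2, w3⟩ := w.2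
    change dotInt _ _ = 8 at a b c
    have e : sqNorm ((U0 + U1 - (u.1 + v.1 + w.1) : L) : V) = 16 := by
      have al : ∀ x y z : V, dotInt (x + y) z = dotInt x z + dotInt y z := fun x y z => by
        rw [dot_comm, dot_add, dot_comm z, dot_comm z]
      simp only [AddSubgroup.coe_sub, AddSubgroup.coe_add, sqNorm_sub, sqNorm_add, dot_add, al, nU0, nU1, dUU]
      omega
    have := min_norm (U0 + U1 - (u.1 + v.1 + w.1) : L).2 fun z => by rw [z] at e; simp [sqNorm] at e
    omega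
  · obtain ⟨g, g0, g1, g2, g3⟩ := (r v).2.2 w ((m _).2 w.2) w' ((m _).2 w'.2) (fun e => a (Subtype.ext e))
      (fun e => a' (Subtype.ext e)) (iff_of_false b b')
    rw [smul_neg, neg_inj] at g1
    exact ⟨toAut gr_inv ⟨g, g0, g1⟩, Subtype.ext g2, Subtype.ext g3⟩

section
variable {α : Type*} [Fintype α] [DecidableEq α] {B : Set (Finset α)}

theorem stab_card (hB : IsSteinerSystem 3 6 B) :
    Nat.card (stabilizer (pointBlockGraph B ≃g pointBlockGraph B) (none : Option (α ⊕ B))) = Nat.card (setSystemAut B) := by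
  haveI : Finite (pointBlockGraph B ≃g pointBlockGraph B) := Finite.of_injective _ RelIso.toEquiv_injective
  apply le_antisymm
  · have p : ∀ φ : stabilizer (pointBlockGraph B ≃g pointBlockGraph B) (none : Option (α ⊕ B)), ∃ σ : setSystemAut B,
        (∀ a, φ.1 (some (.inl a)) = some (.inl (σ.1 a))) ∧ ∀ b : B, ∃ c : B, φ.1 (some (.inr b)) = some (.inr c) ∧ c.1 = σ.1 • b.1 := by
      rintro ⟨φ, hφ⟩
      change φ none = none at hφ
      have p1 : ∀ a, ∃ a', φ (some (.inl a)) = some (.inl a') := fun a => by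
        have := φ.map_adj_iff.2 (pb_np (B := B) a)
        rw [hφ] at this
        rcases e : φ (some (.inl a)) with _ | a' | b
        · exact absurd (e ▸ this) pb_nn
        · exact ⟨a', rfl⟩
        · exact absurd (e ▸ this) (pb_nb b)
      choose f hf using p1
      have fi : Function.Injective f := fun a a' e =>
        Sum.inl_injective (Option.some_injective _ (φ.injective ((hf a).trans (e ▸ (hf a').symm))))
      let σ : Equiv.Perm α := Equiv.ofBijective f (Finite.injective_iff_bijective.1 fi)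
      have p2 : ∀ b : B, ∃ c : B, φ (some (.inr b)) = some (.inr c) ∧ c.1 = σ • b.1 := fun b => by
        rcases e : φ (some (.inr b)) with _ | a' | c
        · exact absurd (φ.injective (e.trans hφ.symm)) (by simp)
        · exact absurd (φ.map_adj_iff.1 (by rw [hφ, e]; exact pb_np a')) (pb_nb b)
        · refine ⟨c, rfl, Finset.ext fun a => ?_⟩
          obtain ⟨a, rfl⟩ := σ.surjective a
          rw [← Equiv.Perm.smul_def, smul_mem_smul_finset_iff, ← pb_pb, ← pb_pb, ← e, ← φ.map_adj_iff (v := some (.inl a)), hf]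
          rfl
      exact ⟨⟨σ, mem_aut_of fun b hb => let ⟨c, _, h⟩ := p2 ⟨b, hb⟩; h ▸ c.2⟩, hf, p2⟩
    choose F h1 h2 using p
    refine Nat.card_le_card_of_injective F fun φ ψ e => Subtype.ext (RelIso.ext ?_)
    rintro (_ | a | b)
    · exact (φ.2 : φ.1 none = none).trans (ψ.2 : ψ.1 none = none).symm
    · rw [h1, h1, e]
    · obtain ⟨c, c1, c2⟩ := h2 φ b
      obtain ⟨d, d1, d2⟩ := h2 ψ b
      rw [c1, d1, show c = d from Subtype.ext (by rw [c2, d2, e])]
  · have p : ∀ σ : setSystemAut B, ∃ φ : stabilizer (pointBlockGraph B ≃g pointBlockGraph B) (none : Option (α ⊕ B)),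
        ∀ a, φ.1 (some (.inl a)) = some (.inl (σ.1 a)) := fun σ => by
      let eB : B ≃ B := (MulAction.toPerm σ.1 : Finset α ≃ Finset α).subtypeEquiv fun b =>
        ⟨aut_smul σ.2, fun h => by simpa using aut_smul (inv_mem σ.2) h⟩
      have h2 : ∀ b : B, (eB b).1 = σ.1 • b.1 := fun _ => rfl
      have h3 : ∀ (a : α) (b : Finset α), σ.1 a ∈ σ.1 • b ↔ a ∈ b := fun a b => smul_mem_smul_finset_iff σ.1
      have h4 : ∀ b c : Finset α, Disjoint (σ.1 • b) (σ.1 • c) ↔ Disjoint b c := fun b c => by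
        rw [smul_finset_def, smul_finset_def, disjoint_image (MulAction.injective σ.1)]
      refine ⟨⟨⟨(Equiv.sumCongr σ.1 eB).optionCongr, ?_⟩, rfl⟩, fun a => rfl⟩
      rintro (_ | a | b) (_ | a' | b') <;>
        simp [pb_nn, pb_np, pb_pn, pb_nb, pb_bn, pb_pp, pb_pb, pb_bp, pb_bb hB, h2, h3, h4]
    choose F h1 using p
    exact Nat.card_le_card_of_injective F fun σ τ e => Subtype.ext (Equiv.ext fun a =>
      Sum.inl_injective (Option.some_injective _ ((h1 σ a).symm.trans (e ▸ h1 τ a))))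

theorem cardA (hα : Fintype.card α = 22) (hB : IsSteinerSystem 3 6 B) :
    Nat.card (pointBlockGraph B ≃g pointBlockGraph B) = 88704000 := by
  classical
  haveI := Fintype.ofFinite B
  have s := S0428.result hα hB
  obtain ⟨φ, -, t⟩ := hsA s
  haveI : IsPretransitive (pointBlockGraph B ≃g pointBlockGraph B) (Option (α ⊕ B)) :=
    ⟨fun a b => let ⟨g, h⟩ := t a b; ⟨φ g, h⟩⟩
  rw [← (stabilizer (pointBlockGraph B ≃g pointBlockGraph B) (none : Option (α ⊕ B))).index_mul_card,
    index_stabilizer_of_transitive, stab_card hB, (S0414.result hα hB).1, Nat.card_eq_fintype_card, s.card]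

end

end Cfsg.Agent.Perm.HSG
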