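/-
Maximal abelian normal subgroups of solvable groups and the next layer above them.
-/
import Mathlib
import Cfsg.Agent.Lib.Perm.SylNum3
import Cfsg.Agent.Lib.Comp.SylIn
import Cfsg.Agent.Lib.Solv.Coprime

set_option autoImplicit false

namespace Cfsg.Agent.Perm.Hp

open Subgroup Cfsg.Agent.Comp
open scoped commutatorElement

universe u

variable {G : Type u} [Group G] [Finite G]

structure St (A F : Subgroup G) : Prop where
  nA : A.Normal
  nF : F.Normal
  le : A ≤ F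
  cent : F ≤ centralizer (A : Set G)
  der : ⁅F, F⁆ ≤ A
  ker : ∀ c ∈ centralizer (A : Set G), (∀ f ∈ F, ⁅c, f⁆ ∈ A) → c ∈ F
  ctr : F ⊓ centralizer (F : Set G) ≤ A

theorem exists_st (hs : Group.IsSolvable G) : ∃ A F : Subgroup G, St A F := by
  obtain ⟨A, ⟨hA1, hA2⟩, hAm⟩ := exists_maximal_of_wellFoundedGT
    (fun A : Subgroup G => A.Normal ∧ A ≤ centralizer (A : Set G)) ⟨⊥, inferInstance, bot_le⟩
  have hab : ∀ B : Subgroup G, B.Normal → B ≤ centralizer (A : Set G) → B ≤ centralizer (B : Set G) → B ≤ A := by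
    intro B h1 h2 h3
    refine le_sup_right.trans (hAm (y := A ⊔ B) ⟨inferInstance, ?_⟩ le_sup_left)
    rw [centralizer_sup]
    exact sup_le (le_inf hA2 (le_centralizer_iff.1 h2)) (le_inf h2 h3)
  obtain ⟨F, ⟨hF1, hF2, hF3, hF4⟩, hFm⟩ := exists_maximal_of_wellFoundedGT
    (fun F : Subgroup G => F.Normal ∧ A ≤ F ∧ F ≤ centralizer (A : Set G) ∧ ⁅F, F⁆ ≤ A)
    ⟨A, hA1, le_rfl, hA2, commutator_le_left _ _⟩
  refine ⟨A, F, hA1, hF1, hF2, hF3, hF4, ?_, hab _ inferInstance (inf_le_left.trans hF3)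
    (inf_le_right.trans (centralizer_mono inf_le_left))⟩
  let B : Subgroup G := centralizer (A : Set G) ⊓ actKer A F
  have hB : ∀ c, c ∈ B ↔ c ∈ centralizer (A : Set G) ∧ ∀ f ∈ F, ⁅c, f⁆ ∈ A := fun c =>
    ⟨fun h => ⟨h.1, h.2.2⟩, fun h => ⟨h.1, normal_iff_top_le_normalizer.1 hA1 (mem_top _), h.2⟩⟩
  have hBn : B.Normal := ⟨fun c hc g => (hB _).2 ⟨Normal.conj_mem inferInstance _ hc.1 g, fun f hf => by
    have := hA1.conj_mem _ (hc.2.2 _ (hF1.conj_mem' f hf g)) g
    convert this using 1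
    simp only [commutatorElement_def]; group⟩⟩
  have hFB : F ≤ B := fun f hf => (hB _).2 ⟨hF3 hf, fun g hg => hF4 (commutator_mem_commutator hf hg)⟩
  suffices h : B ≤ F from fun c h1 h2 => h ((hB c).2 ⟨h1, h2⟩)
  by_contra hne
  let π := QuotientGroup.mk' F
  have hk : π.ker = F := QuotientGroup.ker_mk' F
  obtain ⟨N', h1, h2, h3, h4⟩ := exists_abelian_normal (M := ⊤) (N := B.map π) inferInstance
    (fun h => hne (by rwa [Subgroup.map_eq_bot_iff, hk] at h))
    (normal_iff_top_le_normalizer.1 (hBn.map π (QuotientGroup.mk'_surjective F)))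
  have h5 : N'.Normal := normal_iff_top_le_normalizer.2 h3
  set N := N'.comap π with hN
  have hNn : N.Normal := h5.comap π
  have hFN : F ≤ N := by rw [← hk]; exact ker_le_comap _ _
  have hNB : N ≤ B := by
    refine (comap_mono h1).trans ?_
    rw [comap_map_eq, hk, sup_of_le_left hFB]
  have h6 : ⁅N, N⁆ ≤ F := by
    rw [← hk, ← Subgroup.map_eq_bot_iff, Subgroup.map_commutator, eq_bot_iff, ← commutator_eq_bot_iff_le_centralizer.2 h4]
    exact commutator_mono (map_comap_le _ _) (map_comap_le _ _)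
  have h7 : ⁅⁅N, N⁆, N⁆ ≤ A := by
    rw [Subgroup.commutator_comm]
    exact commutator_le.2 fun n hn f hf => (hNB hn).2.2 f (h6 hf)
  have h8 : ⁅A, N⁆ = ⊥ := commutator_eq_bot_iff'.2 (hNB.trans inf_le_left)
  have h9 : ⁅⁅⁅N, N⁆, N⁆, N⁆ = ⊥ := eq_bot_iff.2 (h8 ▸ commutator_mono h7 le_rfl)
  have h10 : ⁅⁅N, N⁆, ⁅N, N⁆⁆ = ⊥ :=
    commutator_commutator_eq_bot_of_rotate (by rw [Subgroup.commutator_comm N ⁅N, N⁆]; exact h9) h9
  have h11 : ⁅N, N⁆ ≤ A := hab _ inferInstance (h6.trans hF3) (commutator_eq_bot_iff_le_centralizer.1 h10)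
  have h12 : N ≤ F := hFm (y := N) ⟨hNn, hF2.trans hFN, hNB.trans inf_le_left, h11⟩ hFN
  refine h2 (eq_bot_iff.2 fun x hx => ?_)
  obtain ⟨g, rfl⟩ := QuotientGroup.mk'_surjective F x
  have : g ∈ π.ker := hk.symm ▸ h12 hx
  exact this

omit [Finite G] in
theorem comm_mul_right {A : Subgroup G} {x y z : G} (h1 : ⁅x, z⁆ ∈ A) (h2 : y ∈ centralizer (A : Set G)) :
    ⁅x, y * z⁆ = ⁅x, y⁆ * ⁅x, z⁆ := by
  have := h2 _ h1
  calc ⁅x, y * z⁆ = ⁅x, y⁆ * (y * ⁅x, z⁆) * y⁻¹ := by simp only [commutatorElement_def]; group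
    _ = _ := by rw [← this]; group

omit [Finite G] in
theorem comm_mul_left {A : Subgroup G} {x y z : G} (h1 : ⁅y, z⁆ ∈ A) (h3 : ⁅x, z⁆ ∈ A) (h2 : x ∈ centralizer (A : Set G))
    (h4 : A ≤ centralizer (A : Set G)) : ⁅x * y, z⁆ = ⁅x, z⁆ * ⁅y, z⁆ := by
  have := h2 _ h1
  have h5 := h4 h1 _ h3
  calc ⁅x * y, z⁆ = (x * ⁅y, z⁆) * x⁻¹ * ⁅x, z⁆ := by simp only [commutatorElement_def]; group
    _ = _ := by rw [← this, h5]; group

theorem exists_chi {A : Type*} [Group A] [Finite A] (hc : IsCyclic A) : ∃ χ : A →* ℂ, Function.Injective χ := by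
  have : NeZero (Nat.card A) := ⟨Nat.card_pos.ne'⟩
  let e := mulEquivOfCyclicCardEq (G := A) (G' := rootsOfUnity (Nat.card A) ℂ) (Complex.card_rootsOfUnity _).symm
  exact ⟨((Units.coeHom ℂ).comp (rootsOfUnity _ ℂ).subtype).comp e.toMonoidHom,
    (Units.val_injective.comp Subtype.val_injective).comp e.injective⟩

theorem sum_aux {H : Type*} [Group H] [Fintype H] (f : H →* ℂ) (P : Prop) [Decidable P] (h : P ↔ f = 1) :
    ∑ g, f g = if P then (Fintype.card H : ℂ) else 0 := by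
  split_ifs with hP
  · simp [h.1 hP]
  · exact sum_hom_units_eq_zero f fun e => hP (h.2 e)

/-- Double counting for the commutator pairing. -/
theorem pair_count {A D X Y : Subgroup G} (hc : IsCyclic A) (h1 : A ≤ D) (h2 : D ≤ centralizer (A : Set G))
    (h3 : ⁅D, D⁆ ≤ A) (hX : X ≤ D) (hY : Y ≤ D) :
    Nat.card X * Nat.card (Y ⊓ centralizer (X : Set G) : Subgroup G) =
      Nat.card Y * Nat.card (X ⊓ centralizer (Y : Set G) : Subgroup G) := by
  classical
  obtain ⟨χ, hχ⟩ := exists_chi hc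
  have := Fintype.ofFinite G
  have hm : ∀ {x y}, x ∈ D → y ∈ D → ⁅x, y⁆ ∈ A := fun hx hy => h3 (commutator_mem_commutator hx hy)
  let β : X → Y → ℂ := fun x y => χ ⟨⁅(x : G), (y : G)⁆, hm (hX x.2) (hY y.2)⟩
  have hone : ∀ x y, β x y = 1 ↔ (x : G) * y = y * x := fun x y => by
    rw [← commutatorElement_eq_one_iff_mul_comm]
    constructor
    · intro h
      exact congrArg Subtype.val (hχ (h.trans (map_one χ).symm))
    · intro h
      show χ _ = 1
      rw [← map_one χ]; congr 1; exact Subtype.ext h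
  have e1 : ∀ x : X, ∑ y : Y, β x y = if (x : G) ∈ centralizer (Y : Set G) then (Fintype.card Y : ℂ) else 0 := by
    intro x
    let f : Y →* ℂ := MonoidHom.mk ⟨fun y => β x y, (hone x 1).2 (by simp)⟩ (fun y z => by
      show χ _ = χ _ * χ _
      rw [← map_mul]; congr 1
      exact Subtype.ext (comm_mul_right (hm (hX x.2) (hY z.2)) (h2 (hY y.2))))
    refine sum_aux f _ ⟨fun h => MonoidHom.ext fun y => (hone x y).2 (h y y.2).symm, fun h y hy => ?_⟩
    exact ((hone x ⟨y, hy⟩).1 (DFunLike.congr_fun h ⟨y, hy⟩)).symm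
  have e2 : ∀ y : Y, ∑ x : X, β x y = if (y : G) ∈ centralizer (X : Set G) then (Fintype.card X : ℂ) else 0 := by
    intro y
    let f : X →* ℂ := MonoidHom.mk ⟨fun x => β x y, (hone 1 y).2 (by simp)⟩ (fun x z => by
      show χ _ = χ _ * χ _
      rw [← map_mul]; congr 1
      exact Subtype.ext (comm_mul_left (hm (hX z.2) (hY y.2)) (hm (hX x.2) (hY y.2)) (h2 (hX x.2)) (h1.trans h2)))
    refine sum_aux f _ ⟨fun h => MonoidHom.ext fun x => (hone x y).2 (h x x.2), fun h x hx => ?_⟩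
    exact (hone ⟨x, hx⟩ y).1 (DFunLike.congr_fun h ⟨x, hx⟩)
  have e3 : ∀ U W : Subgroup G, (Finset.univ.filter fun x : U => (x : G) ∈ W).card = Nat.card (U ⊓ W : Subgroup G) := by
    intro U W
    rw [← Fintype.card_subtype, ← Nat.card_eq_fintype_card, inf_comm, ← subgroupOf_map_subtype, card_map_subtype]
    rfl
  have e4 : ∑ x : X, ∑ y : Y, β x y = ∑ y : Y, ∑ x : X, β x y := Finset.sum_comm
  simp only [e1, e2, ← Finset.sum_filter, Finset.sum_const, e3, nsmul_eq_mul] at e4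
  rw [Nat.card_eq_fintype_card (α := X), Nat.card_eq_fintype_card (α := Y), mul_comm, mul_comm (Fintype.card Y)]
  exact_mod_cast e4.symm

theorem sq {A D : Subgroup G} (hc : IsCyclic A) (h1 : A ≤ D) (h2 : D ≤ centralizer (A : Set G))
    (h3 : ⁅D, D⁆ ≤ A) (h4 : D ⊓ centralizer (D : Set G) ≤ A) : ∃ e, Nat.card D = Nat.card A * e ^ 2 := by
  obtain ⟨M, ⟨hM1, hM2, hM3⟩, hMm⟩ := exists_maximal_of_wellFoundedGT
    (fun M : Subgroup G => A ≤ M ∧ M ≤ D ∧ M ≤ centralizer (M : Set G)) ⟨A, le_rfl, h1, h1.trans h2⟩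
  have h5 : D ⊓ centralizer (M : Set G) = M := by
    refine le_antisymm (fun d hd => ?_) (le_inf hM2 hM3)
    have h6 : zpowers d ≤ centralizer (M : Set G) := zpowers_le.2 hd.2
    refine hMm (y := M ⊔ zpowers d) ⟨hM1.trans le_sup_left, sup_le hM2 (zpowers_le.2 hd.1), ?_⟩ le_sup_left
      (mem_sup_right (mem_zpowers d))
    rw [centralizer_sup]
    refine sup_le (le_inf hM3 (le_centralizer_iff.1 h6)) (le_inf h6 ?_)
    rw [centralizer_zpowers, zpowers_le]
    exact mem_centralizer_singleton_iff.2 rfl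
  have h6 : M ⊓ centralizer (D : Set G) = A :=
    le_antisymm ((inf_le_inf_right _ hM2).trans h4) (le_inf hM1 (le_centralizer_iff.1 h2))
  have h7 := pair_count hc h1 h2 h3 le_rfl hM2
  rw [h5, h6] at h7
  obtain ⟨e, he⟩ := card_dvd_of_le hM1
  refine ⟨e, Nat.eq_of_mul_eq_mul_right (Nat.card_pos (α := A)) ?_⟩
  rw [h7, he]; ring

namespace St

variable {A F : Subgroup G} (h : St A F)
include h

omit [Finite G] in
theorem ab : A ≤ centralizer (A : Set G) := h.le.trans h.cent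

omit [Finite G] in
theorem mem_of_cent {x : G} (hx : x ∈ centralizer (F : Set G)) : x ∈ A :=
  h.ctr ⟨h.ker x (centralizer_mono h.le hx) fun f hf => by
    rw [commutatorElement_eq_one_iff_mul_comm.2 (hx f hf).symm]; exact A.one_mem, hx⟩

theorem fixed (hc : IsCyclic A) {x : G} (hx : x ∈ centralizer (A : Set G)) (hco : (orderOf x).Coprime (Nat.card F)) :
    ∃ f, Nat.card (F ⊓ centralizer (zpowers x : Set G) : Subgroup G) = Nat.card A * f ^ 2 := by
  have := h.nF
  set X := zpowers x with hX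
  set D := F ⊓ centralizer (X : Set G) with hD
  have hXA : A ≤ centralizer (X : Set G) := le_centralizer_iff.1 (zpowers_le.2 hx)
  refine sq hc (le_inf h.le hXA) (inf_le_left.trans h.cent)
    ((commutator_mono inf_le_left inf_le_left).trans h.der) ?_
  have h1 := Solv.coprime_commutator_sup_centralizer (A := X) (K := F)
    (le_top.trans (normal_iff_top_le_normalizer.1 this)) (by rwa [Nat.card_zpowers]) (Or.inl inferInstance)
  set Y := D ⊓ centralizer (D : Set G) with hY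
  have hYD : Y ≤ D := inf_le_left
  have h2 : ⁅⁅F, X⁆, Y⁆ = ⊥ := by
    refine commutator_commutator_eq_bot_of_rotate ?_ ?_
    · rw [commutator_eq_bot_iff'.2 (hYD.trans inf_le_right), commutator_bot_left]
    · refine eq_bot_iff.2 ((commutator_mono ((commutator_mono (hYD.trans inf_le_left) le_rfl).trans h.der) le_rfl).trans ?_)
      rw [commutator_eq_bot_iff_le_centralizer.2 hXA]
  refine le_trans (le_inf (hYD.trans inf_le_left) ?_) h.ctr
  have h3 : Y ≤ centralizer ((⁅F, X⁆ ⊔ D : Subgroup G) : Set G) := by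
    rw [centralizer_sup]
    exact le_inf (commutator_eq_bot_iff'.1 h2) inf_le_right
  rwa [h1] at h3

omit [Finite G] in
theorem pow_mem {g : G} (hg : g ∈ F) : g ^ Nat.card A ∈ A := by
  refine h.ctr ⟨F.pow_mem hg _, fun f hf => ?_⟩
  have h1 : ∀ n : ℕ, ⁅f, g ^ n⁆ = ⁅f, g⁆ ^ n := by
    intro n
    induction n with
    | zero => simp
    | succ n ih =>
      rw [pow_succ, comm_mul_right (h.der (commutator_mem_commutator hf hg)) (h.cent (F.pow_mem hg n)), ih, pow_succ]
  rw [← commutatorElement_eq_one_iff_mul_comm, h1]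
  exact congrArg Subtype.val (pow_card_eq_one' (x := (⟨⁅f, g⁆, h.der (commutator_mem_commutator hf hg)⟩ : A)))

theorem dvd_of_dvd {e r : ℕ} (he : Nat.card F = Nat.card A * e) (hr : r.Prime) (h1 : r ∣ e) : r ∣ Nat.card A := by
  have := Fact.mk hr
  have := h.nA
  have h2 : Nat.card (F ⧸ A.subgroupOf F) = e := by
    have h3 := relIndex_mul_card h.le
    rw [he, mul_comm] at h3
    exact Nat.eq_of_mul_eq_mul_left Nat.card_pos h3
  obtain ⟨y, hy⟩ := exists_prime_orderOf_dvd_card' (G := F ⧸ A.subgroupOf F) r (h2 ▸ h1)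
  obtain ⟨g, rfl⟩ := QuotientGroup.mk_surjective y
  rw [← hy, orderOf_dvd_iff_pow_eq_one, ← QuotientGroup.mk_pow, QuotientGroup.eq_one_iff]
  exact h.pow_mem g.2

end St

end Cfsg.Agent.Perm.Hp
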