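/-
Linear groups transitive on the non-zero vectors: the ring spanned by an abelian normal subgroup.
-/
import Mathlib
import Cfsg.Agent.Lib.Perm.Hup1
import Cfsg.Agent.Lib.Perm.Count
import Cfsg.Agent.Lib.Transfer.FC9

set_option autoImplicit false

namespace Cfsg.Agent.Perm.Hp

open Subgroup Cfsg.Agent.Comp MulAction
open scoped commutatorElement

universe u

variable {p : ℕ} [hp : Fact p.Prime] {V : Type*} [AddCommGroup V] [Module (ZMod p) V]
  {G : Type u} [Group G] (ρ : G →* (V ≃ₗ[ZMod p] V))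

/-- The representation, with values in the endomorphism ring. -/
def tau : G →* Module.End (ZMod p) V := LinearEquiv.automorphismGroup.toLinearMapMonoidHom.comp ρ

theorem tau_apply (g : G) (v : V) : tau ρ g v = ρ g v := rfl

/-- The ring spanned by `A`. -/
def Rg (A : Subgroup G) : Subring (Module.End (ZMod p) V) := Subring.closure (tau ρ '' A)

variable {ρ} {A F : Subgroup G}

theorem mem_Rg {a : G} (h : a ∈ A) : tau ρ a ∈ Rg ρ A := Subring.subset_closure ⟨a, h, rfl⟩

theorem comm_Rg {T : Module.End (ZMod p) V} (h : ∀ a ∈ A, T * tau ρ a = tau ρ a * T) {r : Module.End (ZMod p) V}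
    (hr : r ∈ Rg ρ A) : T * r = r * T :=
  (Subring.closure_le (t := Subring.centralizer {T})).2
    (by rintro _ ⟨a, ha, rfl⟩ _ rfl; exact h a ha) hr T rfl

theorem comm_of_cent {c : G} (h : c ∈ centralizer (A : Set G)) {r : Module.End (ZMod p) V}
    (hr : r ∈ Rg ρ A) : tau ρ c * r = r * tau ρ c :=
  comm_Rg (fun a ha => by rw [← map_mul, ← map_mul, h a ha]) hr

theorem Rg_comm (hab : A ≤ centralizer (A : Set G)) {r s : Module.End (ZMod p) V} (hr : r ∈ Rg ρ A)
    (hs : s ∈ Rg ρ A) : r * s = s * r :=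
  comm_Rg (fun _ ha => (comm_of_cent (hab ha) hr).symm) hs

theorem tau_inv_mul (g : G) : tau ρ g⁻¹ * tau ρ g = 1 := by rw [← map_mul, inv_mul_cancel, map_one]

theorem tau_mul_inv (g : G) : tau ρ g * tau ρ g⁻¹ = 1 := by rw [← map_mul, mul_inv_cancel, map_one]

theorem conj_mem [hA : A.Normal] (g : G) {r : Module.End (ZMod p) V} (hr : r ∈ Rg ρ A) :
    tau ρ g * r * tau ρ g⁻¹ ∈ Rg ρ A := by
  induction hr using Subring.closure_induction with
  | mem x hx =>
    obtain ⟨a, ha, rfl⟩ := hx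
    rw [← map_mul, ← map_mul]
    exact mem_Rg (hA.conj_mem a ha g)
  | zero => simp
  | one => rw [mul_one, tau_mul_inv]; exact one_mem _
  | add x y _ _ h1 h2 => rw [mul_add, add_mul]; exact add_mem h1 h2
  | neg x _ h1 => rw [mul_neg, neg_mul]; exact neg_mem h1
  | mul x y _ _ h1 h2 =>
    have := mul_mem h1 h2
    rwa [show tau ρ g * x * tau ρ g⁻¹ * (tau ρ g * y * tau ρ g⁻¹) =
      tau ρ g * x * (tau ρ g⁻¹ * tau ρ g) * y * tau ρ g⁻¹ by noncomm_ring, tau_inv_mul, mul_one, mul_assoc (tau ρ g)] at this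

/-- The conjugation action on the ring spanned by a normal subgroup. -/
@[reducible] def actRg (ρ : G →* (V ≃ₗ[ZMod p] V)) (A : Subgroup G) [A.Normal] : MulAction G (Rg ρ A) where
  smul g r := ⟨tau ρ g * r * tau ρ g⁻¹, conj_mem g r.2⟩
  one_smul r := Subtype.ext (by
    show tau ρ 1 * r * tau ρ 1⁻¹ = r
    simp)
  mul_smul g h r := Subtype.ext (by
    show tau ρ (g * h) * r * tau ρ (g * h)⁻¹ = tau ρ g * (tau ρ h * r * tau ρ h⁻¹) * tau ρ g⁻¹
    rw [mul_inv_rev, map_mul, map_mul]; noncomm_ring)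

theorem Rg_inv {W : Submodule (ZMod p) V} (h : Transfer.FC.Inv ρ A W) {r : Module.End (ZMod p) V} (hr : r ∈ Rg ρ A) :
    ∀ v ∈ W, r v ∈ W := by
  induction hr using Subring.closure_induction with
  | mem x hx =>
    obtain ⟨a, ha, rfl⟩ := hx
    exact h a ha
  | zero => simp
  | one => simp
  | add x y _ _ h1 h2 => exact fun v hv => W.add_mem (h1 v hv) (h2 v hv)
  | neg x _ h1 => exact fun v hv => W.neg_mem (h1 v hv)
  | mul x y _ _ h1 h2 => exact fun v hv => h1 _ (h2 v hv)

variable [Finite V]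

theorem finite_End : Finite (Module.End (ZMod p) V) := Finite.of_injective _ DFunLike.coe_injective

theorem card_End {n : ℕ} (hn : Nat.card V = p ^ n) : Nat.card (Module.End (ZMod p) V) = p ^ (n * n) := by
  have := finite_End (p := p) (V := V)
  have h1 : Module.finrank (ZMod p) V = n := by
    rw [Module.natCard_eq_pow_finrank (K := ZMod p), Nat.card_zmod] at hn
    exact Nat.pow_right_injective hp.out.two_le hn
  rw [Module.natCard_eq_pow_finrank (K := ZMod p), Nat.card_zmod, Module.finrank_linearMap, h1]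

theorem card_sub (S : AddSubgroup (Module.End (ZMod p) V)) : ∃ k, Nat.card S = p ^ k := by
  have := finite_End (p := p) (V := V)
  have h1 := AddSubgroup.card_addSubgroup_dvd_card S
  rw [Module.natCard_eq_pow_finrank (K := ZMod p) (V := Module.End (ZMod p) V), Nat.card_zmod] at h1
  obtain ⟨k, -, h⟩ := (Nat.dvd_prime_pow hp.out).1 h1
  exact ⟨k, h⟩

/-- The standing hypotheses. -/
structure Tr (ρ : G →* (V ≃ₗ[ZMod p] V)) (A : Subgroup G) : Prop where
  inj : Function.Injective ρ
  tr : ∀ v w : V, v ≠ 0 → w ≠ 0 → ∃ g : G, ρ g v = w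
  nt : Nontrivial V
  nA : A.Normal
  ab : A ≤ centralizer (A : Set G)

namespace Tr

variable (h : Tr ρ A)
include h

omit [Finite V] in
theorem tau_inj : Function.Injective (tau ρ) := fun a b e =>
  h.inj (LinearEquiv.ext fun v => LinearMap.congr_fun e v)

theorem eq_zero {r : Module.End (ZMod p) V} (hr : r ∈ Rg ρ A) {v : V} (hv : v ≠ 0) (e : r v = 0) : r = 0 := by
  have := finite_End (p := p) (V := V)
  have := h.nA
  let An : V → Set (Module.End (ZMod p) V) := fun v => {r | r ∈ Rg ρ A ∧ r v = 0}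
  have h1 : ∀ v w, v ≠ 0 → w ≠ 0 → (An v).ncard ≤ (An w).ncard := by
    intro v w hv hw
    obtain ⟨g, rfl⟩ := h.tr v w hv hw
    refine Set.ncard_le_ncard_of_injOn (fun r => tau ρ g * r * tau ρ g⁻¹) (fun r hr => ⟨conj_mem g hr.1, ?_⟩) ?_
    · show tau ρ g (r ((tau ρ g⁻¹ * tau ρ g) v)) = 0
      rw [tau_inv_mul, Module.End.one_apply, hr.2, map_zero]
    · intro r _ s _ e
      have e' := congrArg (fun t => tau ρ g⁻¹ * t * tau ρ g) e
      simpa only [← mul_assoc, tau_inv_mul, one_mul, mul_assoc _ (tau ρ g⁻¹), mul_one] using e'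
  have h2 : ∀ v w, v ≠ 0 → w ≠ 0 → An v ⊆ An w → An v = An w := fun v w hv hw hs =>
    Set.eq_of_subset_of_ncard_le hs (h1 w v hw hv)
  have h3 : ∀ v, ∀ s ∈ Rg ρ A, An v ⊆ An (s v) := fun v s hs r hr => ⟨hr.1, by
    show (r * s) v = 0
    rw [Rg_comm h.ab hr.1 hs, Module.End.mul_apply, hr.2, map_zero]⟩
  have h4 : ∀ w, w ≠ 0 → An v = An w := by
    intro w hw
    by_cases h0 : v + w = 0
    · obtain rfl : w = -v := (neg_eq_of_add_eq_zero_right h0).symm
      ext r
      simp [An]
    by_cases h5 : ∀ s ∈ An (v + w), s v = 0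
    · rw [← h2 _ v h0 hv fun s hs => ⟨hs.1, h5 s hs⟩]
      refine h2 _ w h0 hw fun s hs => ⟨hs.1, ?_⟩
      have := hs.2
      rwa [map_add, h5 s hs, zero_add] at this
    · push Not at h5
      obtain ⟨s, hs, h6⟩ := h5
      have h7 : (-s) w = s v := by
        have := hs.2
        rw [map_add] at this
        exact (eq_neg_of_add_eq_zero_left this).symm
      rw [h2 v _ hv h6 (h3 v s hs.1)]
      exact (h2 w _ hw h6 (h7 ▸ h3 w (-s) (neg_mem hs.1))).symm
  ext w
  by_cases hw : w = 0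
  · simp [hw]
  · exact (show r ∈ An w from h4 w hw ▸ ⟨hr, e⟩).2

theorem dom {r s : Module.End (ZMod p) V} (hr : r ∈ Rg ρ A) (hs : s ∈ Rg ρ A) (e : r * s = 0) (h0 : s ≠ 0) : r = 0 := by
  have := h.nt
  obtain ⟨v, hv⟩ := exists_ne (0 : V)
  exact h.eq_zero hr (fun e' => h0 (h.eq_zero hs hv e')) (LinearMap.congr_fun e v)

theorem cyc [Finite G] : IsCyclic A := by
  have := h.nt
  let _ : CommRing (Rg ρ A) := { (inferInstance : Ring (Rg ρ A)) with
    mul_comm := fun x y => Subtype.ext (Rg_comm h.ab x.2 y.2) }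
  have : NoZeroDivisors (Rg ρ A) := ⟨fun {x y} e => or_iff_not_imp_right.2 fun hy =>
    Subtype.ext (h.dom x.2 y.2 (congrArg Subtype.val e) fun e' => hy (Subtype.ext e'))⟩
  have : IsDomain (Rg ρ A) := NoZeroDivisors.to_isDomain _
  let f : A →* Rg ρ A :=
    { toFun := fun a => ⟨tau ρ a, mem_Rg a.2⟩
      map_one' := Subtype.ext (map_one _)
      map_mul' := fun a b => Subtype.ext (map_mul _ _ _) }
  exact isCyclic_of_injective_ringHom f fun a b e => Subtype.ext (h.tau_inj (congrArg Subtype.val e))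

theorem fpf {a : G} (ha : a ∈ A) {v : V} (hv : v ≠ 0) (e : ρ a v = v) : a = 1 := by
  have := h.eq_zero (sub_mem (mem_Rg ha) (one_mem _)) hv (by
    rw [LinearMap.sub_apply, tau_apply, e]; simp)
  exact h.tau_inj (by rw [sub_eq_zero.1 this, map_one])

theorem card_dvd {W : Submodule (ZMod p) V} (hW : Transfer.FC.Inv ρ A W) : Nat.card A ∣ Nat.card W - 1 := by
  let _ : MulAction G V := MulAction.compHom V ρ
  have := card_dvd_ncard_of_semiregular (G := A) (S := (W : Set V) \ {0}) (Set.toFinite _)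
    (fun g x hx => ⟨hW g g.2 x hx.1, fun e => hx.2 ((ρ g).map_eq_zero_iff.1 e)⟩)
    (fun x hx g e => Subtype.ext (h.fpf g.2 hx.2 e))
  rwa [Set.ncard_diff_singleton_of_mem W.zero_mem] at this

theorem card_G_dvd : Nat.card V - 1 ∣ Nat.card G := by
  have := h.nt
  let _ : MulAction G V := MulAction.compHom V ρ
  obtain ⟨v, hv⟩ := exists_ne (0 : V)
  have h1 : orbit G v = Set.univ \ {0} := by
    ext w
    constructor
    · rintro ⟨g, rfl⟩
      exact ⟨trivial, fun e => hv ((ρ g).map_eq_zero_iff.1 e)⟩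
    · exact fun hw => h.tr v w hv hw.2
  rw [← card_orbit_mul_stab (G := G) v, h1, Nat.card_coe_set_eq, Set.ncard_diff_singleton_of_mem (Set.mem_univ _),
    Set.ncard_univ]
  exact dvd_mul_right _ _

theorem card_Rg_le {W : Submodule (ZMod p) V} (hW : Transfer.FC.Inv ρ A W) (h0 : W ≠ ⊥) :
    Nat.card (Rg ρ A) ≤ Nat.card W := by
  obtain ⟨v, hv, h1⟩ := W.exists_mem_ne_zero_of_ne_bot h0
  refine Nat.card_le_card_of_injective (fun r : Rg ρ A => (⟨r.1 v, Rg_inv hW r.2 v hv⟩ : W)) fun r s e => ?_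
  have e' : r.1 v = s.1 v := congrArg Subtype.val e
  exact Subtype.ext (sub_eq_zero.1 (h.eq_zero (sub_mem r.2 s.2) h1 (by rw [LinearMap.sub_apply, e', sub_self])))

theorem card_lt [Finite G] : Nat.card A < Nat.card (Rg ρ A) := by
  have := finite_End (p := p) (V := V)
  have := h.nt
  rw [Nat.lt_iff_add_one_le, ← Finite.card_option]
  refine Nat.card_le_card_of_injective (fun o : Option A => match o with
    | none => (0 : Rg ρ A)
    | some a => ⟨tau ρ a, mem_Rg a.2⟩) ?_
  have h0 : ∀ a : G, tau ρ a ≠ 0 := fun a e => by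
    have := tau_mul_inv (ρ := ρ) a
    rw [e, zero_mul] at this
    exact zero_ne_one this
  rintro (_ | a) (_ | b) e
  · rfl
  · exact absurd (congrArg Subtype.val e).symm (h0 b)
  · exact absurd (congrArg Subtype.val e) (h0 a)
  · exact congrArg some (Subtype.ext (h.tau_inj (congrArg Subtype.val e)))

theorem indep (hs : St A F) (s : Finset G) (h1 : ∀ g ∈ s, g ∈ F) (h2 : ∀ g ∈ s, ∀ g' ∈ s, g⁻¹ * g' ∈ A → g = g')
    (c : G → Module.End (ZMod p) V) (hc : ∀ g, c g ∈ Rg ρ A) (e : ∑ g ∈ s, c g * tau ρ g = 0) : ∀ g ∈ s, c g = 0 := by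
  classical
  induction s using Finset.induction_on generalizing c with
  | empty => simp
  | insert a s ha ih =>
    have hm : ∀ {x y}, x ∈ F → y ∈ F → ⁅x, y⁆ ∈ A := fun hx hy => hs.der (commutator_mem_commutator hx hy)
    have haF := h1 a (Finset.mem_insert_self _ _)
    have hsF : ∀ g ∈ s, g ∈ F := fun g hg => h1 g (Finset.mem_insert_of_mem hg)
    have h3 : ∀ b ∈ s, c b = 0 := by
      intro b hb
      obtain ⟨k, hk, hne⟩ : ∃ k ∈ F, ⁅k, b⁆ ≠ ⁅k, a⁆ := by
        by_contra hcon
        push Not at hcon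
        refine ha (h2 a (Finset.mem_insert_self _ _) b (Finset.mem_insert_of_mem hb)
          (hs.ctr ⟨F.mul_mem (F.inv_mem haF) (hsF b hb), fun k hk => ?_⟩) ▸ hb)
        have := hcon k⁻¹ (F.inv_mem hk)
        simp only [commutatorElement_def, inv_inv] at this
        calc k * (a⁻¹ * b) = a⁻¹ * k * (k⁻¹ * a * k * a⁻¹) * b := by group
          _ = _ := by rw [← this]; group
      let c' : G → Module.End (ZMod p) V := fun g => if g ∈ F then c g * (tau ρ ⁅k, g⁆ - tau ρ ⁅k, a⁆) else 0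
      have hc' : ∀ g, c' g ∈ Rg ρ A := fun g => by
        by_cases hg : g ∈ F
        · simp only [c', if_pos hg]
          exact mul_mem (hc g) (sub_mem (mem_Rg (hm hk hg)) (mem_Rg (hm hk haF)))
        · simp only [c', if_neg hg]; exact zero_mem _
      have h4 : ∀ g ∈ F, c' g * tau ρ g = tau ρ k * (c g * tau ρ g) * tau ρ k⁻¹ - tau ρ ⁅k, a⁆ * (c g * tau ρ g) := by
        intro g hg
        simp only [c', if_pos hg]
        rw [← mul_assoc (tau ρ k), comm_of_cent (hs.cent hk) (hc g), ← mul_assoc (tau ρ ⁅k, a⁆),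
          Rg_comm h.ab (mem_Rg (hm hk haF)) (hc g), mul_sub, sub_mul]
        simp only [mul_assoc, ← map_mul]
        congr 3
        simp only [commutatorElement_def]; group
      have h5 : ∑ g ∈ insert a s, c' g * tau ρ g = 0 := by
        rw [Finset.sum_congr rfl fun g hg => h4 g (h1 g hg), Finset.sum_sub_distrib, ← Finset.sum_mul, ← Finset.mul_sum,
          ← Finset.mul_sum, e]
        simp
      rw [Finset.sum_insert ha, show c' a = 0 by simp [c'], zero_mul, zero_add] at h5
      have h6 := ih hsF (fun g hg g' hg' => h2 g (Finset.mem_insert_of_mem hg) g' (Finset.mem_insert_of_mem hg'))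
        c' hc' h5 b hb
      simp only [c', if_pos (hsF b hb)] at h6
      exact h.dom (hc b) (sub_mem (mem_Rg (hm hk (hsF b hb))) (mem_Rg (hm hk haF))) h6
        fun e' => hne (h.tau_inj (sub_eq_zero.1 e'))
    rw [Finset.sum_insert ha, Finset.sum_eq_zero fun g hg => by rw [h3 g hg, zero_mul], add_zero] at e
    intro g hg
    rcases Finset.mem_insert.1 hg with rfl | hg
    · have := congrArg (· * tau ρ g⁻¹) e
      simpa only [mul_assoc, tau_mul_inv, mul_one, zero_mul] using this
    · exact h3 g hg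

theorem bound [Finite G] (hs : St A F) {m : ℕ} (hm : Nat.card F = Nat.card A * m) :
    Nat.card (Rg ρ A) ^ m ≤ Nat.card (Module.End (ZMod p) V) := by
  classical
  have := finite_End (p := p) (V := V)
  have h2 : Nat.card (F ⧸ A.subgroupOf F) = m := by
    have h3 := relIndex_mul_card hs.le
    rw [hm, mul_comm] at h3
    exact Nat.eq_of_mul_eq_mul_left Nat.card_pos h3
  have := Fintype.ofFinite (F ⧸ A.subgroupOf F)
  let o : F ⧸ A.subgroupOf F → G := fun u => u.out
  have ho : ∀ u w, (o u)⁻¹ * o w ∈ A → u = w := fun u w e => by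
    rw [← u.out_eq', ← w.out_eq', QuotientGroup.eq]
    exact e
  have hoi : Function.Injective o := fun u w e => ho u w (by rw [e, inv_mul_cancel]; exact A.one_mem)
  rw [← h2, ← Nat.card_fun]
  refine Nat.card_le_card_of_injective (fun c : F ⧸ A.subgroupOf F → Rg ρ A => ∑ u, (c u).1 * tau ρ (o u)) ?_
  intro c d e
  have h3 := h.indep hs (Finset.univ.image o) (by
      intro g hg
      obtain ⟨u, -, rfl⟩ := Finset.mem_image.1 hg
      exact u.out.2) (by
      intro g hg g' hg' e
      obtain ⟨u, -, rfl⟩ := Finset.mem_image.1 hg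
      obtain ⟨w, -, rfl⟩ := Finset.mem_image.1 hg'
      rw [ho u w e])
    (Function.extend o (fun u => (c u).1 - (d u).1) 0) (by
      intro g
      by_cases hg : ∃ u, o u = g
      · obtain ⟨u, rfl⟩ := hg
        rw [hoi.extend_apply]
        exact sub_mem (c u).2 (d u).2
      · rw [Function.extend_apply' _ _ _ hg]
        exact zero_mem _) (by
      rw [Finset.sum_image hoi.injOn]
      simp only [hoi.extend_apply, sub_mul, Finset.sum_sub_distrib]
      exact sub_eq_zero.2 e)
  ext1 u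
  have h4 := h3 (o u) (Finset.mem_image_of_mem _ (Finset.mem_univ u))
  rw [hoi.extend_apply] at h4
  exact Subtype.ext (sub_eq_zero.1 h4)

/-- An element of prime order `l` centralizes `A` if `l` divides no small `p ^ i - 1`. -/
theorem cent_of {k l : ℕ} (hk : Nat.card (Rg ρ A) = p ^ k) (hl : l.Prime) (hz : ∀ i, 0 < i → i < k → ¬ l ∣ p ^ i - 1)
    (hlp : l ≠ p) {x : G} (hx : x ^ l = 1) : x ∈ centralizer (A : Set G) := by
  have := finite_End (p := p) (V := V)
  have := h.nA
  have := h.nt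
  let _ := actRg ρ A
  let S : Subring (Module.End (ZMod p) V) := Rg ρ A ⊓ Subring.centralizer {tau ρ x}
  have h1 := card_modEq_fixedBy (α := Rg ρ A) (g := x) (k := 1) hl (by rwa [pow_one])
  have h2 : Nat.card (fixedBy (Rg ρ A) x) = Nat.card S := by
    refine Nat.card_congr ⟨fun r => ⟨r.1.1, r.1.2, ?_⟩, fun r => ⟨⟨r.1, r.2.1⟩, Subtype.ext ?_⟩, fun _ => rfl, fun _ => rfl⟩
    · rintro _ rfl
      have e : tau ρ x * r.1.1 * tau ρ x⁻¹ = r.1.1 := congrArg Subtype.val r.2
      have e' := congrArg (· * tau ρ x) e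
      simpa only [mul_assoc, tau_inv_mul, mul_one] using e'
    · show tau ρ x * r.1 * tau ρ x⁻¹ = r.1
      rw [r.2.2 _ rfl, mul_assoc, tau_mul_inv, mul_one]
  obtain ⟨i, hi⟩ := card_sub S.toAddSubgroup
  have hi' : Nat.card S = p ^ i := hi
  have h3 : 0 < i := by
    rw [Nat.pos_iff_ne_zero]
    rintro rfl
    exact (Finite.one_lt_card (α := S)).ne' hi'
  have h4 : (S : Set (Module.End (ZMod p) V)) ⊆ Rg ρ A := fun r hr => hr.1
  have h5 : i ≤ k := by
    refine (Nat.pow_le_pow_iff_right hp.out.one_lt).1 ?_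
    rw [← hi', ← hk]
    exact Nat.card_mono (Set.toFinite _) h4
  have h6 : i = k := by
    by_contra hne
    refine hz (k - i) (by omega) (by omega) ?_
    rw [h2, hk, hi'] at h1
    have h7 := (Nat.modEq_iff_dvd' (Nat.pow_le_pow_right hp.out.pos h5)).1 h1.symm
    rw [show p ^ k - p ^ i = p ^ i * (p ^ (k - i) - 1) by
      rw [Nat.mul_sub, ← pow_add, Nat.add_sub_cancel' h5, mul_one]] at h7
    exact (((Nat.coprime_primes hl hp.out).2 hlp).pow_right i).dvd_of_dvd_mul_left h7
  have h7 : (S : Set (Module.End (ZMod p) V)) = Rg ρ A :=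
    Set.eq_of_subset_of_ncard_le h4 (by
      rw [← Nat.card_coe_set_eq, ← Nat.card_coe_set_eq]
      exact (hk.trans (h6 ▸ hi'.symm)).le)
  intro a ha
  have h8 : tau ρ a ∈ S := by
    rw [← SetLike.mem_coe, h7]; exact mem_Rg ha
  exact h.tau_inj (by rw [map_mul, map_mul]; exact (h8.2 _ rfl).symm)

theorem cent_top (hk : Nat.card (Rg ρ A) = p) (x : G) : x ∈ centralizer (A : Set G) := by
  have := h.nt
  intro a ha
  obtain ⟨m, hm⟩ := mem_zmultiples_of_prime_card hk (g := (1 : Rg ρ A)) (g' := ⟨tau ρ a, mem_Rg ha⟩) one_ne_zero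
  have e : m • (1 : Module.End (ZMod p) V) = tau ρ a := congrArg Subtype.val hm
  exact h.tau_inj (by rw [map_mul, map_mul, ← e, smul_mul_assoc, mul_smul_comm, one_mul, mul_one])

end Tr

end Cfsg.Agent.Perm.Hp
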