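/-
Huppert's theorem on solvable linear groups transitive on the non-zero vectors.
-/
import Mathlib
import Cfsg.Agent.Lib.Perm.Hup2
import Cfsg.Agent.S2904

set_option autoImplicit false

namespace Cfsg.Agent.Perm.Hp

open Subgroup Cfsg.Agent.Comp MulAction
open scoped commutatorElement

universe u

variable {G : Type u} [Group G] [Finite G]

theorem card_comap_mk {A : Subgroup G} [A.Normal] (T : Subgroup (G ⧸ A)) :
    Nat.card (T.comap (QuotientGroup.mk' A)) = Nat.card A * Nat.card T := by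
  have h1 := (T.comap (QuotientGroup.mk' A)).card_mul_index
  have h2 := T.card_mul_index
  have h3 := A.card_mul_index
  rw [index_comap_of_surjective _ (QuotientGroup.mk'_surjective A)] at h1
  refine Nat.eq_of_mul_eq_mul_right (Nat.pos_of_ne_zero T.index_ne_zero_of_finite) ?_
  rw [h1, mul_assoc, h2, ← h3]; rfl

theorem index_cent_dvd (A : Subgroup G) [A.Normal] : (centralizer (A : Set G)).index ∣ Nat.card (MulAut A) := by
  have h1 : (MulAut.conjNormal : G →* MulAut A).ker = centralizer (A : Set G) := by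
    ext g
    constructor
    · intro h a ha
      have : g * a * g⁻¹ = a := congrArg Subtype.val (DFunLike.congr_fun (MonoidHom.mem_ker.1 h) (⟨a, ha⟩ : A))
      rw [mul_inv_eq_iff_eq_mul] at this
      exact this.symm
    · intro h
      ext a
      show g * a * g⁻¹ = a
      rw [← h a a.2, mul_inv_cancel_right]
  rw [← h1, index_ker]
  exact card_subgroup_dvd_card _

namespace St

variable {A F : Subgroup G} (h : St A F)
include h

theorem card_map {m : ℕ} (hm : Nat.card F = Nat.card A * m) :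
    haveI := h.nA; Nat.card (F.map (QuotientGroup.mk' A)) = m := by
  have := h.nA
  have h1 := card_comap_mk (F.map (QuotientGroup.mk' A))
  rw [comap_map_eq, QuotientGroup.ker_mk', sup_of_le_left h.le, hm] at h1
  exact (Nat.eq_of_mul_eq_mul_left Nat.card_pos h1).symm

theorem zs (hc : IsCyclic A) {e l : ℕ} (he : Nat.card F = Nat.card A * e ^ 2) (hl : l.Prime) (h1 : ¬ l ∣ Nat.card A)
    (h2 : e < l) {x : G} (hx : orderOf x = l) (h3 : x ∈ centralizer (A : Set G)) :
    l = e + 1 ∧ F ⊓ centralizer (zpowers x : Set G) = A := by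
  have := Fact.mk hl
  have := h.nF
  have he0 : 0 < e := by
    have := Nat.card_pos (α := F)
    rw [he] at this
    exact Nat.pos_of_ne_zero fun e0 => by simp [e0] at this
  have h4 : ¬ l ∣ Nat.card F := by
    rw [he]
    intro hd
    rcases (Nat.Prime.dvd_mul hl).1 hd with hd | hd
    · exact h1 hd
    · exact absurd (Nat.le_of_dvd he0 (hl.dvd_of_dvd_pow hd)) (by omega)
  obtain ⟨f, hf⟩ := h.fixed hc h3 (hx ▸ (Nat.Prime.coprime_iff_not_dvd hl).2 h4)
  set D := F ⊓ centralizer (zpowers x : Set G) with hD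
  have h5 : D < F := lt_of_le_of_ne inf_le_left fun e => h1 (by
    have h6 : x ∈ centralizer (F : Set G) :=
      le_centralizer_iff.1 (e.ge.trans inf_le_right) (mem_zpowers x)
    rw [← hx]
    exact orderOf_dvd_natCard _ (h.mem_of_cent h6))
  have h6 := SylNum.card_modEq_inf_cent (isPGroup_zpowers_of_orderOf_eq hx) (L := F)
    (le_top.trans (normal_iff_top_le_normalizer.1 this))
  have h7 := card_dvd_of_le h5.le
  have h8 := card_lt_of_lt h5
  rw [← hD, hf, he] at h6
  rw [hf, he] at h7 h8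
  obtain ⟨g, rfl⟩ := (Nat.pow_dvd_pow_iff two_ne_zero).1 (Nat.dvd_of_mul_dvd_mul_left Nat.card_pos h7)
  have hf0 : 0 < f := Nat.pos_of_mul_pos_right he0
  have hg : 2 ≤ g := by
    by_contra hg
    have : g = 0 ∨ g = 1 := by omega
    rcases this with rfl | rfl
    · simp at he0
    · simp at h8
  obtain ⟨g, rfl⟩ : ∃ g', g = g' + 1 := ⟨g - 1, by omega⟩
  have h9 := (Nat.modEq_iff_dvd' h8.le).1 h6.symm
  rw [show Nat.card A * (f * (g + 1)) ^ 2 - Nat.card A * f ^ 2 = Nat.card A * (f ^ 2 * (g * (g + 2))) from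
    Nat.sub_eq_of_eq_add (by ring)] at h9
  have hfe : f ≤ f * (g + 1) := Nat.le_mul_of_pos_right _ (by omega)
  have hge : g + 1 ≤ f * (g + 1) := Nat.le_mul_of_pos_left _ hf0
  have h10 : l ≤ g + 2 := by
    rcases (Nat.Prime.dvd_mul hl).1 h9 with hd | hd
    · exact absurd hd h1
    rcases (Nat.Prime.dvd_mul hl).1 hd with hd | hd
    · exact absurd (Nat.le_of_dvd hf0 (hl.dvd_of_dvd_pow hd)) (by omega)
    rcases (Nat.Prime.dvd_mul hl).1 hd with hd | hd
    · exact (Nat.le_of_dvd (by omega) hd).trans (by omega)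
    · exact Nat.le_of_dvd (by omega) hd
  refine ⟨by omega, ?_⟩
  have h11 : f = 1 := by
    have : f * (g + 1) = 1 * (g + 1) := by omega
    exact Nat.eq_of_mul_eq_mul_right (by omega) this
  rw [h11, one_pow, mul_one] at hf
  exact (eq_of_le_of_card_ge (le_inf h.le (le_centralizer_iff.1 (zpowers_le.2 h3))) hf.le).symm

theorem two_pow {e l : ℕ} (he : Nat.card F = Nat.card A * e ^ 2) (hl : l.Prime) (h1 : ¬ l ∣ Nat.card A)
    (h2 : l = e + 1) (h3 : 2 ∣ e) {x : G} (hx : orderOf x = l) (h4 : F ⊓ centralizer (zpowers x : Set G) = A) :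
    ∃ m, e = 2 ^ m := by
  have := Fact.mk hl
  have : Fact (Nat.Prime 2) := ⟨Nat.prime_two⟩
  have := h.nA
  have := h.nF
  let π := QuotientGroup.mk' A
  have he0 : e ≠ 0 := by
    rintro rfl
    exact hl.ne_one h2
  have h5 : F.map π ≤ centralizer (F.map π : Set (G ⧸ A)) := by
    rw [← commutator_eq_bot_iff_le_centralizer, ← Subgroup.map_commutator, Subgroup.map_eq_bot_iff, QuotientGroup.ker_mk']
    exact h.der
  have h6 := (sylIn_Op_of_isNilpotent (p := 2) (isNilpotent_of_le_centralizer h5)).card_eq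
  have h7 : (Op 2 (F.map π)).Normal := normal_iff_top_le_normalizer.2
    (FClass.le_normalizer_radOf _ (normal_iff_top_le_normalizer.1 (h.nF.map π (QuotientGroup.mk'_surjective A))))
  rw [h.card_map he, Nat.factorization_pow, Finsupp.smul_apply, smul_eq_mul, mul_comm, pow_mul] at h6
  set T := (Op 2 (F.map π)).comap π with hT
  have h8 : Nat.card T = Nat.card A * (2 ^ e.factorization 2) ^ 2 := by rw [hT, card_comap_mk, h6]
  have h9 : T ≤ F := by
    refine (comap_mono (FClass.radOf_le _ _)).trans ?_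
    rw [comap_map_eq, QuotientGroup.ker_mk', sup_of_le_left h.le]
  have h10 : A ≤ T := by
    conv_lhs => rw [← QuotientGroup.ker_mk' A]
    exact ker_le_comap _ _
  have h11 := SylNum.card_modEq_inf_cent (isPGroup_zpowers_of_orderOf_eq hx) (L := T)
    (le_top.trans (normal_iff_top_le_normalizer.1 (h7.comap π)))
  rw [show T ⊓ centralizer (zpowers x : Set G) = A from le_antisymm (h4 ▸ inf_le_inf_right _ h9)
    (le_inf h10 (h4.ge.trans inf_le_right)), h8] at h11
  have h12 : 2 ^ e.factorization 2 ≤ e := Nat.le_of_dvd (Nat.pos_of_ne_zero he0) (Nat.ordProj_dvd e 2)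
  have h13 : 2 ^ 1 ≤ 2 ^ e.factorization 2 :=
    Nat.pow_le_pow_right two_pos ((Nat.prime_two.dvd_iff_one_le_factorization he0).1 h3)
  refine ⟨e.factorization 2, ?_⟩
  obtain ⟨g, hg⟩ : ∃ g, 2 ^ e.factorization 2 = g + 1 := ⟨2 ^ e.factorization 2 - 1, by omega⟩
  rw [hg] at h11 h12 h13 ⊢
  have h14 := (Nat.modEq_iff_dvd' (Nat.le_mul_of_pos_right _ (by positivity))).1 h11.symm
  rw [show Nat.card A * (g + 1) ^ 2 - Nat.card A = Nat.card A * (g * (g + 2)) from
    Nat.sub_eq_of_eq_add (by ring)] at h14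
  rcases (Nat.Prime.dvd_mul hl).1 h14 with hd | hd
  · exact absurd hd h1
  rcases (Nat.Prime.dvd_mul hl).1 hd with hd | hd
  · have := Nat.le_of_dvd (by omega) hd
    omega
  · have := Nat.le_of_dvd (by omega) hd
    omega

theorem syl {m l a : ℕ} (he : Nat.card F = Nat.card A * m) (hl : l.Prime) (h1 : ¬ l ∣ Nat.card A)
    (h2 : ∀ x : G, orderOf x = l → F ⊓ centralizer (zpowers x : Set G) = A) (h3 : l ^ a ∣ Nat.card G) :
    l ^ a ∣ m - 1 := by
  have := Fact.mk hl
  obtain ⟨L, hL⟩ := Sylow.exists_subgroup_card_pow_prime l h3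
  let _ : MulAction L G := MulAction.compHom G ((MulAut.conj (G := G)).comp L.subtype)
  have h4 := card_dvd_ncard_of_semiregular (G := L) (S := (F : Set G) \ A) (Set.toFinite _)
    (fun g x hx => ⟨h.nF.conj_mem x hx.1 g, fun e => hx.2 (by
      have := h.nA.conj_mem' _ e g
      change (g : G)⁻¹ * (g * x * (g : G)⁻¹) * g ∈ A at this
      simpa [mul_assoc] using this)⟩)
    (fun y hy g e => by
      by_contra hg
      obtain ⟨k, hk1, hk2⟩ := exists_prime_order_pow (isOfFinOrder_of_finite g) hg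
      have h5 : orderOf (g ^ k) = l :=
        (Nat.prime_dvd_prime_iff_eq hk1 hl).1 (hk1.dvd_of_dvd_pow (hk2.trans (hL ▸ orderOf_dvd_natCard g)))
      have h6 := h2 ((g ^ k : L) : G) (by rw [orderOf_coe, h5])
      refine hy.2 (h6.le (mem_inf.2 ⟨hy.1, ?_⟩))
      rw [centralizer_zpowers, mem_centralizer_singleton_iff]
      have e' : (g : G) * y * (g : G)⁻¹ = y := e
      have h7 : Commute y (g : G) := (mul_inv_eq_iff_eq_mul.1 e').symm
      exact h7.pow_right k)
  rw [Set.ncard_diff h.le, ← Nat.card_coe_set_eq, ← Nat.card_coe_set_eq, hL] at h4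
  change l ^ a ∣ Nat.card F - Nat.card A at h4
  rw [he, ← Nat.mul_sub_one] at h4
  exact (((Nat.Prime.coprime_iff_not_dvd hl).2 h1).pow_left a).dvd_of_dvd_mul_left h4

theorem index_dvd {m : ℕ} (he : Nat.card F = Nat.card A * m) (hc : ∀ g : G, g ∈ centralizer (A : Set G)) :
    F.index ∣ (m - 1).factorial := by
  classical
  have := h.nA
  let π := QuotientGroup.mk' A
  have hn := h.nF.map π (QuotientGroup.mk'_surjective A)
  let S : Set (G ⧸ A) := (F.map π : Set (G ⧸ A)) \ {1}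
  let _ : MulAction G S :=
    { smul := fun g s => ⟨π g * s * (π g)⁻¹, hn.conj_mem _ s.2.1 _, fun e => s.2.2 (by
        simpa [mul_inv_eq_one] using e)⟩
      one_smul := fun s => Subtype.ext (by
        show π 1 * s * (π 1)⁻¹ = s
        simp)
      mul_smul := fun g k s => Subtype.ext (by
        show π (g * k) * s * (π (g * k))⁻¹ = π g * (π k * s * (π k)⁻¹) * (π g)⁻¹
        rw [map_mul]; group) }
  have h1 : (toPermHom G S).ker ≤ F := by
    intro c hc'
    refine h.ker c (hc c) fun f hf => ?_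
    rw [← QuotientGroup.ker_mk' A, MonoidHom.mem_ker, map_commutatorElement, commutatorElement_def, mul_inv_eq_one]
    by_cases h0 : π f = 1
    · show π c * π f * (π c)⁻¹ = π f
      simp [h0]
    · exact congrArg Subtype.val (DFunLike.congr_fun hc' (⟨π f, ⟨f, hf, rfl⟩, h0⟩ : S))
  have h2 : Nat.card S = m - 1 := by
    rw [Nat.card_coe_set_eq, Set.ncard_diff_singleton_of_mem (one_mem _), ← Nat.card_coe_set_eq]
    exact congrArg (· - 1) (h.card_map he)
  refine (index_dvd_of_le h1).trans ?_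
  rw [index_ker, ← h2, ← Nat.card_perm]
  exact card_subgroup_dvd_card _

end St

theorem zs_lt {p n l : ℕ} (hp : p.Prime) (hn : 0 < n) (hl : l.Prime) (h1 : l ∣ p ^ n - 1)
    (h2 : ∀ k, 0 < k → k < n → ¬ l ∣ p ^ k - 1) : l ≠ p ∧ n < l := by
  have h3 : l ≠ p := by
    rintro rfl
    have h4 : l ∣ l ^ n := dvd_pow_self l hn.ne'
    have h5 := (Nat.dvd_sub_iff_right (Nat.one_le_pow _ _ hl.pos) h4).1 h1
    exact hl.ne_one (Nat.dvd_one.1 h5)
  refine ⟨h3, ?_⟩
  by_contra h4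
  have h5 := hl.two_le
  refine h2 (l - 1) (by omega) (by omega) ?_
  have := Nat.ModEq.pow_totient ((Nat.coprime_primes hp hl).2 h3.symm)
  rw [Nat.totient_prime hl] at this
  exact (Nat.modEq_iff_dvd' (Nat.one_le_pow _ _ hp.pos)).1 this.symm

theorem zs_two {p m s : ℕ} (hp : 0 < p) (hs : s.Prime) (h2 : s ≠ 2) (h : s ∣ p ^ 2 ^ m + 1) :
    s ∣ p ^ 2 ^ (m + 1) - 1 ∧ ∀ k, 0 < k → k < 2 ^ (m + 1) → ¬ s ∣ p ^ k - 1 := by
  have := Fact.mk hs
  have h1 : (p : ZMod s) ^ 2 ^ m = -1 := by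
    have := (ZMod.natCast_eq_zero_iff _ _).2 h
    push_cast at this
    exact eq_neg_of_add_eq_zero_left this
  have h3 : (p : ZMod s) ^ 2 ^ (m + 1) = 1 := by rw [pow_succ, pow_mul, h1]; ring
  have h4 : ∀ k, s ∣ p ^ k - 1 ↔ (p : ZMod s) ^ k = 1 := fun k => by
    rw [← ZMod.natCast_eq_zero_iff, Nat.cast_sub (Nat.one_le_pow _ _ hp), sub_eq_zero]
    push_cast; rfl
  have h5 : orderOf (p : ZMod s) = 2 ^ (m + 1) := orderOf_eq_prime_pow (by
    rw [h1]
    haveI : Fact (2 < s) := ⟨lt_of_le_of_ne hs.two_le h2.symm⟩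
    exact ZMod.neg_one_ne_one) h3
  refine ⟨(h4 _).2 h3, fun k hk1 hk2 hd => ?_⟩
  have := Nat.le_of_dvd hk1 (orderOf_dvd_of_pow_eq_one ((h4 k).1 hd))
  omega

theorem three_pow (t : ℕ) (ht : 4 ≤ t) : 4 * t + 1 < 3 ^ t := by
  induction t, ht using Nat.le_induction with
  | base => norm_num
  | succ t _ ih => rw [pow_succ]; omega

variable {p : ℕ} [hp : Fact p.Prime] {V : Type*} [AddCommGroup V] [Module (ZMod p) V] [Finite V]
  {ρ : G →* (V ≃ₗ[ZMod p] V)} {A F : Subgroup G}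

/-- The numerical data in the reducible case. -/
theorem data (h : Tr ρ A) (hs : St A F) {W : Submodule (ZMod p) V} (hW : Transfer.FC.Inv ρ A W) (h0 : W ≠ ⊥) (h1 : W ≠ ⊤) :
    ∃ n j k e : ℕ, Nat.card V = p ^ n ∧ j < n ∧ 0 < k ∧ k ≤ j ∧ Nat.card A ∣ p ^ j - 1 ∧ Nat.card A ∣ p ^ n - 1 ∧
      Nat.card (Rg ρ A) = p ^ k ∧ Nat.card A < p ^ k ∧ Nat.card F = Nat.card A * e ^ 2 ∧ k * e ^ 2 ≤ n * n ∧
      p ^ n - 1 ∣ Nat.card G := by
  have hV : Nat.card V = p ^ Module.finrank (ZMod p) V := by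
    rw [Module.natCard_eq_pow_finrank (K := ZMod p), Nat.card_zmod]
  have hWc := Transfer.FC.card_pow W
  obtain ⟨k, hk⟩ := card_sub (Rg ρ A).toAddSubgroup
  have hk' : Nat.card (Rg ρ A) = p ^ k := hk
  obtain ⟨e, he⟩ := sq h.cyc hs.le hs.cent hs.der hs.ctr
  have h2 := h.card_lt
  rw [hk'] at h2
  refine ⟨_, Module.finrank (ZMod p) W, k, e, hV, Submodule.finrank_lt h1, ?_, ?_, hWc ▸ h.card_dvd hW, ?_, hk', h2, he,
    ?_, hV ▸ h.card_G_dvd⟩
  · rw [Nat.pos_iff_ne_zero]
    intro e0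
    have := Nat.card_pos (α := A)
    rw [e0, pow_zero] at h2
    omega
  · refine (Nat.pow_le_pow_iff_right hp.out.one_lt).1 ?_
    rw [← hWc, ← hk']
    exact h.card_Rg_le hW h0
  · have := h.card_dvd (W := ⊤) fun _ _ _ _ => trivial
    rwa [Nat.card_congr Submodule.topEquiv.toEquiv, hV] at this
  · have := h.bound hs he
    rwa [hk', card_End hV, ← pow_mul, Nat.pow_le_pow_iff_right hp.out.one_lt] at this

theorem case_two (h : Tr ρ A) (hs : St A F) {e : ℕ} (h1 : Nat.card A ∣ p - 1) (h2 : Nat.card (Rg ρ A) = p)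
    (h3 : Nat.card F = Nat.card A * e ^ 2) (h4 : e ^ 2 ≤ 4) (h5 : p ^ 2 - 1 ∣ Nat.card G) :
    p = 3 ∨ p = 5 ∨ p = 7 ∨ p = 11 ∨ p = 23 := by
  have h6 := hs.index_dvd h3 (h.cent_top h2)
  have h7 := F.card_mul_index
  have hp2 := hp.out.two_le
  have h8 : p + 1 ∣ e ^ 2 * (e ^ 2 - 1).factorial := by
    refine Nat.dvd_of_mul_dvd_mul_left (k := p - 1) (by omega) ?_
    rw [mul_comm, ← Nat.sq_sub_sq p 1]
    refine h5.trans ?_
    rw [← h7, h3, mul_assoc]
    exact mul_dvd_mul h1 (mul_dvd_mul_left _ h6)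
  have he : e ≤ 2 := by nlinarith
  have he0 : e ≠ 0 := by
    rintro rfl
    have := Nat.card_pos (α := F)
    simp [h3] at this
  have : e = 1 ∨ e = 2 := by omega
  rcases this with rfl | rfl
  · have := Nat.le_of_dvd (by norm_num) h8
    simp at this
    omega
  · have h9 : 2 ∣ p - 1 := (hs.dvd_of_dvd h3 Nat.prime_two (by norm_num)).trans h1
    have h10 : p + 1 ∣ 24 := h8
    have h11 := Nat.le_of_dvd (by norm_num) h10
    have h12 : p ≤ 23 := by omega
    interval_cases p <;> omega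

theorem case_64 (h : Tr ρ A) (hs : St A F) {j k e : ℕ} (hj : j < 6) (hk : k ≤ j) (hk0 : 0 < k) (h1 : Nat.card A ∣ 2 ^ j - 1)
    (h2 : Nat.card A ∣ 63) (h3 : Nat.card A < 2 ^ k) (h4 : Nat.card F = Nat.card A * e ^ 2) (h5 : k * e ^ 2 ≤ 36)
    (h6 : 63 ∣ Nat.card G) : False := by
  have := hs.nA
  have := hs.nF
  have h7 : Nat.card A ∣ 3 ∨ Nat.card A ∣ 7 := by
    have h8 := Nat.dvd_gcd h1 h2
    have : 0 < j := by omega
    interval_cases j <;> norm_num at h8 <;> simp [h8]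
  have he0 : e ≠ 0 := by
    rintro rfl
    have := Nat.card_pos (α := F)
    simp [h4] at this
  have hone : e = 1 → False := by
    rintro rfl
    have h8 : F = A := (eq_of_le_of_card_ge hs.le (by rw [h4]; simp)).symm
    have h9 : centralizer (A : Set G) = A := le_antisymm (fun c hc => hs.mem_of_cent (h8 ▸ hc)) hs.ab
    have h10 := index_cent_dvd A
    have := h.cyc
    rw [h9, IsCyclic.card_mulAut] at h10
    have h11 := A.card_mul_index
    have h12 : 63 ∣ Nat.card A * (Nat.card A).totient := h6.trans (h11 ▸ mul_dvd_mul_left _ h10)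
    rcases h7 with h7 | h7
    · rcases (Nat.dvd_prime Nat.prime_three).1 h7 with h8 | h8 <;> rw [h8] at h12 <;> revert h12 <;> decide
    · rcases (Nat.dvd_prime (by norm_num : Nat.Prime 7)).1 h7 with h8 | h8 <;> rw [h8] at h12 <;> revert h12 <;> decide
  have hpr := Nat.minFac_prime hone
  have h8 := hs.dvd_of_dvd h4 hpr (dvd_pow e.minFac_dvd two_ne_zero)
  have h9 := Nat.minFac_le (Nat.pos_of_ne_zero he0)
  rcases h7 with h7 | h7
  · have h10 := (Nat.prime_dvd_prime_iff_eq hpr Nat.prime_three).1 (h8.trans h7)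
    rw [h10] at h8 h9
    have h11 : Nat.card A = 3 := Nat.dvd_antisymm h7 h8
    have h12 : 2 ≤ k := by
      by_contra h12
      obtain rfl : k = 1 := by omega
      omega
    have h13 : e < 7 := by nlinarith
    have : Fact (Nat.Prime 7) := ⟨by norm_num⟩
    obtain ⟨x, hx⟩ := exists_prime_orderOf_dvd_card' (G := G) 7 (Dvd.dvd.trans (by norm_num) h6)
    have h14 : x ∈ centralizer (A : Set G) := by
      have h15 := SylNum.card_modEq_inf_cent (isPGroup_zpowers_of_orderOf_eq hx) (L := A)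
        (le_top.trans (normal_iff_top_le_normalizer.1 hs.nA))
      have h16 := card_le_of_le (inf_le_left : A ⊓ centralizer (zpowers x : Set G) ≤ A)
      have h17 : A ⊓ centralizer (zpowers x : Set G) = A := eq_of_le_of_card_ge inf_le_left (by
        rw [h11] at h15 h16 ⊢
        rw [Nat.ModEq] at h15
        omega)
      exact le_centralizer_iff.1 (h17.ge.trans inf_le_right) (mem_zpowers x)
    have h15 := (hs.zs h.cyc h4 (by norm_num) (by rw [h11]; norm_num) h13 hx h14).1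
    obtain rfl : e = 6 := by omega
    omega
  · have h10 := (Nat.prime_dvd_prime_iff_eq hpr (by norm_num : Nat.Prime 7)).1 (h8.trans h7)
    rw [h10] at h9
    nlinarith

theorem case_zs (h : Tr ρ A) (hs : St A F) {n j k e l : ℕ} (hj : j < n) (hk0 : 0 < k) (hk : k ≤ j)
    (h1 : Nat.card A ∣ p ^ j - 1) (h2 : Nat.card (Rg ρ A) = p ^ k) (h4 : Nat.card F = Nat.card A * e ^ 2)
    (h5 : k * e ^ 2 ≤ n * n) (hl : l.Prime) (h6 : l ∣ p ^ n - 1) (h7 : ∀ k, 0 < k → k < n → ¬ l ∣ p ^ k - 1)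
    (h8 : p ^ n - 1 ∣ Nat.card G) :
    l = n + 1 ∧ e = n ∧ ¬ l ∣ Nat.card A ∧ ∀ x : G, orderOf x = l → F ⊓ centralizer (zpowers x : Set G) = A := by
  have := Fact.mk hl
  obtain ⟨h9, h10⟩ := zs_lt hp.out (by omega) hl h6 h7
  have h11 : ¬ l ∣ Nat.card A := fun hd => h7 j (by omega) hj (hd.trans h1)
  have h12 : e ≤ n := by
    have : e ^ 2 ≤ n ^ 2 := by nlinarith
    exact (Nat.pow_le_pow_iff_left two_ne_zero).1 this
  have h13 : ∀ x : G, orderOf x = l → l = e + 1 ∧ F ⊓ centralizer (zpowers x : Set G) = A := fun x hx =>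
    hs.zs h.cyc h4 hl h11 (by omega) hx
      (h.cent_of h2 hl (fun i h1 h2 => h7 i h1 (by omega)) h9 (hx ▸ pow_orderOf_eq_one x))
  obtain ⟨x, hx⟩ := exists_prime_orderOf_dvd_card' (G := G) l (h6.trans h8)
  have := (h13 x hx).1
  exact ⟨by omega, by omega, h11, fun x hx => (h13 x hx).2⟩

theorem huppert (h : Tr ρ A) (hs : St A F) {W : Submodule (ZMod p) V} (hW : Transfer.FC.Inv ρ A W) (h0 : W ≠ ⊥)
    (h1 : W ≠ ⊤) : Nat.card V ∈ ({9, 25, 49, 121, 529, 81} : Set ℕ) := by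
  obtain ⟨n, j, k, e, hV, hj, hk0, hk, h2, h3, h4, h5, h6, h7, h8⟩ := data h hs hW h0 h1
  rw [hV]
  by_cases hn2 : n = 2
  · subst hn2
    obtain rfl : j = 1 := by omega
    obtain rfl : k = 1 := by omega
    rcases case_two h hs (by simpa using h2) (by simpa using h4) h6 (by simpa using h7) h8 with
      rfl | rfl | rfl | rfl | rfl <;> simp
  by_cases h64 : p = 2 ∧ n = 6
  · obtain ⟨rfl, rfl⟩ := h64
    exact (case_64 h hs hj hk hk0 h2 h3 h5 h6 h7 h8).elim
  obtain ⟨l, hl, hl1, hl2⟩ := S2904.result p n hp.out.one_lt (by omega) h64 fun h => hn2 h.1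
  obtain ⟨h9, rfl, h10, h11⟩ := case_zs h hs hj hk0 hk h2 h4 h6 h7 hl hl1 hl2 h8
  have := Fact.mk hl
  obtain ⟨x, hx⟩ := exists_prime_orderOf_dvd_card' (G := G) l (hl1.trans h8)
  have h12 : 2 ∣ e := by
    rcases hl.eq_two_or_odd with h | h <;> omega
  obtain ⟨m, rfl⟩ := hs.two_pow h6 hl h10 h9 h12 hx (h11 x hx)
  have hp2 : p % 2 = 1 := by
    have h13 : 2 ∣ p ^ j - 1 := (hs.dvd_of_dvd h6 Nat.prime_two (dvd_pow h12 two_ne_zero)).trans h2
    refine hp.out.eq_two_or_odd.resolve_left ?_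
    rintro rfl
    have h14 : 2 ∣ 2 ^ j := dvd_pow_self 2 (by omega)
    have h15 := Nat.one_le_two_pow (n := j)
    omega
  obtain ⟨m, rfl⟩ : ∃ m', m = m' + 2 := by
    rcases m with _ | _ | m
    · omega
    · exact absurd rfl hn2
    · exact ⟨m, rfl⟩
  have h13 : p ^ 2 ^ (m + 1) % 4 = 1 := by
    rw [pow_succ, pow_mul]
    have : p ^ 2 ^ m % 2 = 1 := Nat.odd_iff.1 ((Nat.odd_iff.2 hp2).pow)
    obtain ⟨c, hc⟩ := Nat.odd_iff.2 this
    rw [hc, show (2 * c + 1) ^ 2 = 1 + 4 * (c * c + c) by ring]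
    omega
  obtain ⟨M, hM⟩ : 2 ∣ p ^ 2 ^ (m + 1) + 1 := by omega
  have h14 : M = l ^ M.primeFactorsList.length := Nat.eq_prime_pow_of_unique_prime_dvd (by omega) fun {s} hs1 hs2 => by
    obtain ⟨h15, h16⟩ := zs_two hp.out.pos hs1 (by rintro rfl; omega) (hM ▸ hs2.mul_left 2)
    exact ((case_zs h hs hj hk0 hk h2 h4 h6 h7 hs1 h15 h16 h8).1).trans h9.symm
  generalize M.primeFactorsList.length = a at h14
  have h15 : l ^ a ∣ Nat.card G := by
    refine Dvd.dvd.trans ?_ h8
    rw [← h14, show 2 ^ (m + 2) = 2 ^ (m + 1) * 2 from pow_succ _ _, pow_mul, Nat.sq_sub_sq _ 1, hM]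
    exact (dvd_mul_left _ _).mul_right _
  have h16 := hs.syl h6 hl h10 h11 h15
  have h17 : a ≤ 1 := by
    by_contra h17
    have h18 : l * l ∣ (2 ^ (m + 2)) ^ 2 - 1 := by
      rw [← pow_two]; exact (pow_dvd_pow l (by omega)).trans h16
    rw [Nat.sq_sub_sq _ 1, ← h9] at h18
    have h19 := Nat.le_of_dvd (by omega) (Nat.dvd_of_mul_dvd_mul_left hl.pos h18)
    omega
  have h18 : M ≤ l := by
    rw [h14]
    exact (Nat.pow_le_pow_right hl.pos h17).trans (pow_one l).le
  have h19 : 3 ≤ p := by have := hp.out.two_le; omega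
  rcases m with _ | m
  · have h20 : p ^ 2 + 1 ≤ 10 := by norm_num at hM h9; omega
    obtain rfl : p = 3 := by nlinarith
    simp
  · exfalso
    have h20 := three_pow (2 ^ (m + 1 + 1)) (by rw [pow_succ, pow_succ]; have := Nat.one_le_two_pow (n := m); omega)
    have h21 := Nat.pow_le_pow_left h19 (2 ^ (m + 1 + 1))
    rw [show 2 ^ (m + 1 + 2) = 2 ^ (m + 1 + 1) * 2 from pow_succ _ _] at h9
    omega

theorem semilinear_or [Nontrivial V] (hsol : Group.IsSolvable G) (hρ : Function.Injective ρ)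
    (htr : ∀ v w : V, v ≠ 0 → w ≠ 0 → ∃ g : G, ρ g v = w) :
    (∃ (K : Type) (_ : Field K) (_ : Fintype K) (e : V ≃+ K),
        ∀ g : G, ∃ (a : K) (σ : K ≃+* K), ∀ v : V, e (ρ g v) = a * σ (e v)) ∨
    Nat.card V ∈ ({9, 25, 49, 121, 529, 81} : Set ℕ) := by
  obtain ⟨A, F, hs⟩ := exists_st hsol
  have := hs.nA
  by_cases h : ∀ W : Submodule (ZMod p) V, Transfer.FC.Inv ρ A W → W = ⊥ ∨ W = ⊤
  · exact Or.inl (Transfer.FC.semilinear (le_centralizer_iff_isMulCommutative.1 hs.ab) h)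
  · push Not at h
    obtain ⟨W, h1, h2, h3⟩ := h
    exact Or.inr (huppert ⟨hρ, htr, inferInstance, hs.nA, hs.ab⟩ hs h1 h2 h3)

end Cfsg.Agent.Perm.Hp
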