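/-
Affine coordinates for a group with a regular elementary abelian normal subgroup.
-/
import Mathlib
import Cfsg.Agent.Lib.Perm.Hup3
import Cfsg.Agent.Lib.Perm.Prim
import Cfsg.Agent.Lib.Solv.Mod

set_option autoImplicit false

namespace Cfsg.Agent.Perm.Hp

open Subgroup MulAction Cfsg.Agent.Solv

universe u

variable {G : Type u} [Group G] {α : Type*} [MulAction G α]

/-- Affine coordinates. -/
theorem coord [FaithfulSMul G α] {p : ℕ} [hp : Fact p.Prime] (M : Subgroup G) [hM : M.Normal] (hab : IsMulCommutative M)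
    (hexp : ∀ x ∈ M, x ^ p = 1) (ht : IsPretransitive M α) (o : α) (hr : stabilizer M o = ⊥) :
    ∃ (V : Type u) (_ : AddCommGroup V) (_ : Module (ZMod p) V) (c : α ≃ V)
      (ρ : stabilizer G o →* (V ≃ₗ[ZMod p] V)), Function.Injective ρ ∧ c o = 0 ∧
      (∀ (h : stabilizer G o) x, c ((h : G) • x) = ρ h (c x)) ∧
      (∀ m ∈ M, ∀ x, c (m • x) = c x + c (m • o)) := by
  have hE : IsElementaryAbelian p M := ⟨hab, hexp⟩
  let c : EMod hE ≃ α := Equiv.ofBijective (fun m => m.val • o)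
    ⟨fun a b e => EMod.ext' (congrArg Subtype.val
      (eq_of_smul_eq_of_stab_bot (G := M) hr (g := ⟨_, a.val_mem⟩) (k := ⟨_, b.val_mem⟩) e)), fun x => by
      obtain ⟨m, e⟩ := ht.exists_smul_eq o x
      exact ⟨EMod.mk hE m m.2, e⟩⟩
  let i : G →* normalizer (M : Set G) := (MonoidHom.id G).codRestrict _ fun g => by
    rw [normalizer_eq_top]; trivial
  let ρ : stabilizer G o →* (EMod hE ≃ₗ[ZMod p] EMod hE) :=
    ((LinearMap.GeneralLinearGroup.generalLinearEquiv (ZMod p) (EMod hE)).toMonoidHom.comp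
      ((EMod.rep hE).comp i).toHomUnits).comp (stabilizer G o).subtype
  have h1 : ∀ (h : stabilizer G o) x, c.symm ((h : G) • x) = ρ h (c.symm x) := by
    intro h x
    obtain ⟨v, rfl⟩ := c.surjective x
    rw [c.symm_apply_apply, Equiv.symm_apply_eq]
    show (h : G) • v.val • o = ((h : G) * v.val * (h : G)⁻¹) • o
    rw [mul_smul, mul_smul, show (h : G)⁻¹ • o = o from (stabilizer G o).inv_mem h.2]
  refine ⟨EMod hE, inferInstance, inferInstance, c.symm, ρ, ?_, ?_, h1, ?_⟩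
  · rw [injective_iff_map_eq_one]
    intro h e
    refine Subtype.ext (eq_one_of_smul_eq (α := α) fun x => c.symm.injective ?_)
    rw [h1, e]; rfl
  · rw [Equiv.symm_apply_eq]
    exact (one_smul G o).symm
  · intro m hm x
    obtain ⟨v, rfl⟩ := c.surjective x
    rw [c.symm_apply_apply, show m • o = c (EMod.mk hE m hm) from rfl, c.symm_apply_apply, Equiv.symm_apply_eq,
      add_comm]
    exact (mul_smul m v.val o).symm

theorem semiaff_of {p : ℕ} [hp : Fact p.Prime] {M : Subgroup G} (ht : IsPretransitive M α) {o : α}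
    {V : Type*} [AddCommGroup V] [Module (ZMod p) V] {c : α ≃ V} {ρ : stabilizer G o →* (V ≃ₗ[ZMod p] V)}
    (h1 : ∀ (h : stabilizer G o) x, c ((h : G) • x) = ρ h (c x)) (h2 : ∀ m ∈ M, ∀ x, c (m • x) = c x + c (m • o))
    {K K' : Type*} [Field K] [Field K'] (e : V ≃+ K) (f : K ≃+* K')
    (h3 : ∀ g, ∃ (a : K) (σ : K ≃+* K), ∀ v : V, e (ρ g v) = a * σ (e v)) :
    ∃ E : α ≃ K', (∀ g : G, ∃ (a : K'ˣ) (b : K') (σ : K' ≃+* K'), ∀ x, E (g • x) = a * σ (E x) + b) ∧
      ∀ b : K', ∃ m ∈ M, ∀ x, E (m • x) = E x + b := by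
  refine ⟨(c.trans e.toEquiv).trans f.toEquiv, fun g => ?_, fun b => ?_⟩
  · obtain ⟨m, hm⟩ := ht.exists_smul_eq o (g • o)
    have hm' : (m : G) • o = g • o := hm
    let h : stabilizer G o := ⟨(m : G)⁻¹ * g, by
      show ((m : G)⁻¹ * g) • o = o
      rw [mul_smul, inv_smul_eq_iff, hm']⟩
    obtain ⟨a, σ, ha⟩ := h3 h
    have h0 : a ≠ 0 := by
      rintro rfl
      have := ha (e.symm 1)
      rw [zero_mul, e.map_eq_zero_iff, (ρ h).map_eq_zero_iff, e.symm.map_eq_zero_iff] at this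
      exact one_ne_zero this
    refine ⟨Units.mk0 (f a) (by simpa using h0), f (e (c ((m : G) • o))), (f.symm.trans σ).trans f, fun x => ?_⟩
    show f (e (c (g • x))) = f a * f (σ (f.symm (f (e (c x))))) + _
    rw [show g • x = (m : G) • (h : G) • x by
      show _ = (m : G) • ((m : G)⁻¹ * g) • x
      rw [mul_smul, smul_inv_smul], h2 m m.2, h1, map_add, ha, map_add, map_mul, f.symm_apply_apply]
  · obtain ⟨m, hm⟩ := ht.exists_smul_eq o (c.symm (e.symm (f.symm b)))
    have hm' : (m : G) • o = c.symm (e.symm (f.symm b)) := hm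
    refine ⟨m, m.2, fun x => ?_⟩
    show f (e (c ((m : G) • x))) = f (e (c x)) + b
    rw [h2 m m.2, hm', map_add, map_add]
    simp

end Cfsg.Agent.Perm.Hp
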