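import Mathlib
import Cfsg.Agent.Lib.Perm.Inv6

set_option autoImplicit false

namespace Cfsg.Agent.Perm.Inv
open Module Cfsg.Agent.Classical Cfsg.Agent.Classical.Form Finset

theorem spc_eq (q m : ℕ) : q ^ (m ^ 2) * ∏ i : Fin m, (q ^ (2 * ((i : ℕ) + 1)) - 1) = spc q m := by
  rw [spc, ← Fin.prod_univ_eq_prod_range]

variable {F V : Type*} [Field F] [Finite F] [AddCommGroup V] [Module F V] [FiniteDimensional F V] {t : V ≃ₗ[F] V}

theorem SO2.card_beta {K : Kind F} {Φ : Form K V} (H : SO2 K) (hΦ : Φ.Nondeg) (ht : t ∈ Φ.Isom) (h : t * t = 1) :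
    (Alt Φ t → Nat.card (isoB (H.bil (wB Φ t))) = spc (Nat.card F) (rk t / 2)) ∧
    (Odd (rk t) → Nat.card (isoB (H.bil (wB Φ t))) = spc (Nat.card F) ((rk t - 1) / 2)) ∧
    (¬ Alt Φ t → Even (rk t) → 2 ≤ rk t ∧
      Nat.card (isoB (H.bil (wB Φ t))) = Nat.card F ^ (rk t - 1) * spc (Nat.card F) ((rk t - 2) / 2)) := by
  have h1 := fun h' => card_isoB_nonalt H.two (β := H.bil (wB Φ t)) (H.wsymm ht h) (wB_nondeg hΦ ht)
    (mt (H.alt_iff ht).2 h')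
  refine ⟨fun a => card_isoB_alt (wB_nondeg hΦ ht) ((H.alt_iff ht).1 a) (Nat.two_mul_div_two_of_even (H.even hΦ ht a)).symm,
    fun ⟨k, hk⟩ => (h1 fun a => by obtain ⟨l, hl⟩ := H.even hΦ ht a; omega).1 _ (by unfold rk at *; omega),
    fun a ⟨k, hk⟩ => ?_⟩
  have h0 : rk t ≠ 0 := fun e => a (by rw [rk_eq_zero.1 e]; exact H.self)
  exact ⟨by omega, by rw [(h1 a).2 ((rk t - 2) / 2) (by unfold rk at *; omega)]; congr 2; omega⟩

theorem sp_fix {Φ : Form (Kind.symp F) V} (h2 : (2 : F) = 0) (hΦ : Φ.Nondeg) (ht : t ∈ Φ.Isom) (h : t * t = 1) {m : ℕ}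
    (hm : finrank F V = 2 * m) : Nat.card (fix Φ (im t)) =
      Nat.card F ^ (2 * m * rk t - (3 * rk t ^ 2 - rk t) / 2) * spc (Nat.card F) (m - rk t) := by
  have := two_rk_le hΦ h2 ht h
  obtain ⟨r, rfl⟩ : ∃ r, m = r + rk t := ⟨m - rk t, by omega⟩
  rw [fix_symp r (rk t) Φ _ hΦ (im_le_perp h2 ht h) rfl hm, Nat.add_sub_cancel]
  have := two_sum' r (rk t)
  have := Nat.le_self_pow two_ne_zero (rk t)
  rw [show 2 * (r + rk t) * rk t = 2 * (r * rk t) + 2 * rk t ^ 2 by ring]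
  congr 2; omega

variable {Φ : Form (Kind.orth F) V}

theorem o_fix (h2 : (2 : F) = 0) (hΦ : Φ.Nondeg) (ht : t ∈ Φ.Isom) (h : t * t = 1) (ha : ¬ Alt Φ t) {m : ℕ}
    (hm : finrank F V = 2 * m) : Nat.card (fix Φ (im t)) =
      Nat.card F ^ (2 * m * (rk t - 1) - (3 * rk t ^ 2 - 3 * rk t) / 2) * (2 * spc (Nat.card F) (m - rk t)) := by
  have := two_rk_le hΦ h2 ht h
  have h0 : rk t ≠ 0 := fun e => ha (by rw [rk_eq_zero.1 e]; exact (so2_orth h2).self)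
  obtain ⟨s, hs⟩ : ∃ s, rk t = s + 1 := ⟨rk t - 1, by omega⟩
  obtain ⟨r, rfl⟩ : ∃ r, m = r + s + 1 := ⟨m - rk t, by omega⟩
  rw [fix_nTS h2 r s Φ _ hΦ (im_le_perp h2 ht h) (mt (orth_alt_iff h2 ht).2 ha) hs hm, hs, Nat.add_sub_cancel,
    show r + s + 1 - (s + 1) = r by omega]
  have := two_sum' r s
  rw [show 2 * (r + s + 1) * s = 2 * (r * s) + 2 * s ^ 2 + 2 * s by ring, show (s + 1) ^ 2 = s ^ 2 + 2 * s + 1 by ring]
  congr 2; omega

theorem om_cent_nonalt (h2 : (2 : F) = 0) (hG : Φ.Good) (hΦ : Φ.Nondeg) (ht : t ∈ Φ.Isom) (h : t * t = 1)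
    (ha : ¬ Alt Φ t) {m : ℕ} (hm : finrank F V = 2 * m) : Nat.card ↥(⁅Φ.Isom, Φ.Isom⁆ ⊓ Subgroup.centralizer {t}) =
      Nat.card F ^ (2 * m * (rk t - 1) - (3 * rk t ^ 2 - 3 * rk t) / 2) *
        Nat.card (isoB ((so2_orth h2).bil (wB Φ t))) * spc (Nat.card F) (m - rk t) := by
  have := om_cent_half h2 hG hΦ ht h fun h' => ha ((mts_im_iff h2 ht hm).1 h').1
  rw [(so2_orth h2).card_cent hΦ ht, o_fix h2 hΦ ht h ha hm] at this
  exact Nat.eq_of_mul_eq_mul_left two_pos (by rw [← this]; ring)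

theorem om_cent_alt (h2 : (2 : F) = 0) (hG : Φ.Good) (hΦ : Φ.Nondeg) (ht : t ∈ Φ.Isom) (h : t * t = 1)
    (ha : Alt Φ t) {m : ℕ} (hm : Φ.IsType m 1) : Nat.card ↥(⁅Φ.Isom, Φ.Isom⁆ ⊓ Subgroup.centralizer {t}) =
      Nat.card F ^ (2 * m * rk t - (3 * rk t ^ 2 + rk t) / 2) * spc (Nat.card F) (rk t / 2) *
        if rk t = m then 1 else Nat.card F ^ ((m - rk t) * (m - rk t - 1)) * (Nat.card F ^ (m - rk t) - 1) *
          ∏ i : Fin (m - rk t - 1), (Nat.card F ^ (2 * ((i : ℕ) + 1)) - 1) := by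
  have := two_rk_le hΦ h2 ht h
  have := hm.1
  have h3 := (so2_orth h2).card_cent hΦ ht
  rw [((so2_orth h2).card_beta hΦ ht h).1 ha] at h3
  have hT := (orth_alt_iff h2 ht).1 ha
  obtain ⟨r, rfl⟩ : ∃ r, m = r + rk t := ⟨m - rk t, by omega⟩
  have e : 2 * (r + rk t) * rk t - (3 * rk t ^ 2 + rk t) / 2 = ∑ i ∈ range (rk t), (2 * r + i) := by
    have := two_sum r (rk t)
    rw [show 2 * (r + rk t) * rk t = 2 * (r * rk t) + 2 * rk t ^ 2 by ring]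
    omega
  rw [e, Nat.add_sub_cancel]
  rcases r with _ | r
  · rw [om_cent_mts h2 hG hΦ ((mts_im_iff h2 ht hm.1).2 ⟨ha, by simp⟩), h3, fix_TS 0 (rk t) 1 1 (fun Ψ _ h => by
      have := finrank_zero_iff.1 h.1
      exact card_Isom_of_subsingleton Ψ) Φ _ hΦ hT rfl hm, if_pos (by simp)]
    ring
  rw [om_cent_half h2 hG hΦ ht h fun h' => by have := ((mts_im_iff h2 ht hm.1).1 h').2; omega,
    fix_TS (r + 1) (rk t) (2 * (Nat.card F ^ ((r + 1) * r) * (Nat.card F ^ (r + 1) - 1) *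
      ∏ i ∈ range r, (Nat.card F ^ (2 * (i + 1)) - 1))) 1 (fun Ψ a b => by
      have := card_orth_even (.inl rfl) r Ψ a b
      have hq : ∀ i, 1 ≤ Nat.card F ^ i := fun i => Nat.one_le_pow _ _ Nat.card_pos
      zify [hq]; rw [this]; ring) Φ _ hΦ hT rfl hm] at h3
  rw [if_neg (by omega), Nat.add_sub_cancel, Fin.prod_univ_eq_prod_range fun i => Nat.card F ^ (2 * (i + 1)) - 1]
  exact Nat.eq_of_mul_eq_mul_left two_pos (by rw [h3]; ring)

end Cfsg.Agent.Perm.Inv
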