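import Mathlib

namespace Cfsg.Agent.Perm.LW

open MulAction Equiv Finset

variable {G : Type*} [Group G] {α : Type*} [MulAction G α] [DecidableEq α] {t w : ℕ}

theorem pow_odd (g : G) (x : α) (h : g • g • x = x) {o : ℕ} (ho : Odd o) : g ^ o • x = g • x := by
  obtain ⟨k, rfl⟩ := ho
  induction k with
  | zero => simp
  | succ k ih => rw [show 2 * (k + 1) + 1 = 2 * k + 1 + 1 + 1 by ring, pow_succ, pow_succ, mul_smul, mul_smul, h, ih]

/-- the hypothesis: elements fixing `t` points have odd order -/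
def OddFix (G α : Type*) [Group G] [MulAction G α] (t : ℕ) : Prop :=
  ∀ s : Finset α, s.card = t → ∀ g : G, (∀ x ∈ s, g • x = x) → Odd (orderOf g)

theorem OddFix.invol (hO : OddFix G α t) {s : Finset α} (hs : s.card = t) (g : G) (h : ∀ x ∈ s, g • g • x = x) :
    ∃ o, g ^ o * g ^ o = 1 ∧ ∀ x ∈ s, g ^ o • x = g • x :=
  have := hO s hs (g * g) fun x hx => by rw [mul_smul, h x hx]
  ⟨_, by rw [← (Commute.refl g).mul_pow, pow_orderOf_eq_one], fun x hx => pow_odd g x (h x hx) this⟩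

theorem OddFix.eq_one (hO : OddFix G α t) {s : Finset α} (hs : s.card = t) {j : G} (hj : j * j = 1)
    (h : ∀ x ∈ s, j • x = x) : j = 1 := by
  by_contra e
  haveI := Fact.mk Nat.prime_two
  have := hO s hs j h
  rw [orderOf_eq_prime (by rw [pow_two, hj]) e] at this
  exact absurd this (by decide)

theorem card4 {W : Finset α} (hW : W.card = w) {a b c d : α} (h1 : a ∉ W) (h2 : b ∉ W) (h3 : c ∉ W) (h4 : d ∉ W)
    (ab : a ≠ b) (ac : a ≠ c) (ad : a ≠ d) (bc : b ≠ c) (bd : b ≠ d) (cd : c ≠ d) :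
    (insert a (insert b (insert c (insert d W)))).card = w + 4 := by
  rw [card_insert_of_notMem (by simp [*]), card_insert_of_notMem (by simp [*]), card_insert_of_notMem (by simp [*]),
    card_insert_of_notMem h4, hW]

theorem OddFix.eq_one4 (hO : OddFix G α (w + 4)) {W : Finset α} (hW : W.card = w) {j : G} (hj : j * j = 1)
    (jW : ∀ x ∈ W, j • x = x) {a b c d : α} (h1 : a ∉ W) (h2 : b ∉ W) (h3 : c ∉ W) (h4 : d ∉ W)
    (ab : a ≠ b) (ac : a ≠ c) (ad : a ≠ d) (bc : b ≠ c) (bd : b ≠ d) (cd : c ≠ d) (ja : j • a = a) (jb : j • b = b)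
    (jc : j • c = c) (jd : j • d = d) : j = 1 :=
  hO.eq_one (card4 hW h1 h2 h3 h4 ab ac ad bc bd cd) hj (by simpa [ja, jb, jc, jd] using jW)

theorem exists_invol (hT : ∀ s : Finset α, s.card = t → ∀ σ : Perm α, ∃ g : G, ∀ x ∈ s, g • x = σ x)
    (hO : OddFix G α t) {s : Finset α} (hs : s.card = t) {a b : α} (ha : a ∈ s) (hb : b ∈ s) :
    ∃ j : G, j * j = 1 ∧ j • a = b ∧ j • b = a ∧ ∀ x ∈ s, x ≠ a → x ≠ b → j • x = x := by
  obtain ⟨g, hg⟩ := hT s hs (swap a b)
  obtain ⟨o, h1, h2⟩ := hO.invol hs g fun x hx => by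
    rw [hg x hx, hg, swap_apply_self]
    rw [swap_apply_def]; split_ifs <;> assumption
  refine ⟨_, h1, by rw [h2 a ha, hg a ha, swap_apply_left], by rw [h2 b hb, hg b hb, swap_apply_right], fun x hx xa xb => ?_⟩
  rw [h2 x hx, hg x hx, swap_apply_of_ne_of_ne xa xb]

theorem exists_z (hT : ∀ s : Finset α, s.card = w + 4 → ∀ σ : Perm α, ∃ g : G, ∀ x ∈ s, g • x = σ x)
    (hO : OddFix G α (w + 4)) {W : Finset α} (hW : W.card = w) {a b x : α} {s : G} (ss : s * s = 1)
    (sW : ∀ y ∈ W, s • y = y) (sa : s • a = b) (ab : a ≠ b) (xa : x ≠ a) (xb : x ≠ b) (sx : s • x ≠ x) :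
    ∃ z : G, z * z = 1 ∧ Commute s z ∧ (∀ y ∈ W, z • y = y) ∧ z • a = b ∧ z • b = a ∧ z • x = x := by
  have s2 : ∀ y : α, s • s • y = y := fun y => by rw [smul_smul, ss, one_smul]
  have sb : s • b = a := by rw [← sa, s2]
  have y1 : a ≠ s • x := fun e => xb (by rw [← s2 x, ← e, sa])
  have y2 : b ≠ s • x := fun e => xa (by rw [← s2 x, ← e, sb])
  have aW : a ∉ W := fun e => ab (by rw [← sa, sW a e])
  have bW : b ∉ W := fun e => ab (by rw [← sb, sW b e])
  have xW : x ∉ W := fun e => sx (sW x e)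
  have yW : s • x ∉ W := fun e => sx (by rw [← sW _ e, s2])
  have c4 := card4 hW aW bW xW yW ab xa.symm y1 xb.symm y2 sx.symm
  obtain ⟨r, rr, r1, r2, r3⟩ := exists_invol hT hO c4 (a := x) (b := s • x) (by simp) (by simp)
  have ra := r3 a (by simp) xa.symm y1
  have rb := r3 b (by simp) xb.symm y2
  have rW : ∀ y ∈ W, r • y = y := fun y hy => r3 y (by simp [hy]) (fun e => xW (e ▸ hy)) (fun e => yW (e ▸ hy))
  obtain ⟨o, h1, h2⟩ := hO.invol c4 (s * r) (by
    simp only [mem_insert, forall_eq_or_imp, mul_smul, ra, rb, r1, r2, sa, sb, s2, true_and]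
    exact fun y hy => by rw [rW y hy, sW y hy, rW y hy, sW y hy])
  refine ⟨_, h1, ?_, fun y hy => by rw [h2 y (by simp [hy]), mul_smul, rW y hy, sW y hy],
    by rw [h2 a (by simp), mul_smul, ra, sa], by rw [h2 b (by simp), mul_smul, rb, sb], by rw [h2 x (by simp), mul_smul, r1, s2]⟩
  have : SemiconjBy s (s * r) (s * r)⁻¹ := by
    rw [SemiconjBy, mul_inv_rev, inv_eq_of_mul_eq_one_right rr, inv_eq_of_mul_eq_one_right ss, ← mul_assoc, mul_assoc r, ss]
    simp
  have := this.pow_right o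
  rwa [inv_pow, inv_eq_of_mul_eq_one_right h1] at this

theorem core [Fintype α] [Finite G] (hT : ∀ s : Finset α, s.card = w + 4 → ∀ σ : Perm α, ∃ g : G, ∀ x ∈ s, g • x = σ x)
    (hU : ∀ s : Finset α, s.card = w + 5 → ∀ g : G, (∀ x ∈ s, g • x = x) → g = 1) (hO : OddFix G α (w + 4))
    {W : Finset α} (hW : W.card = w) {a b c d : α} {s : G} (ss : s * s = 1) (sW : ∀ y ∈ W, s • y = y) (sa : s • a = b)
    (sc : s • c = c) (sd : s • d = d) (ab : a ≠ b) (cd : c ≠ d) (cW : c ∉ W) (dW : d ∉ W) (H : Set G)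
    (hH : ∀ g, g ∈ H ↔ (∀ y ∈ W, g • y = y) ∧ g • a = a ∧ g • b = b ∧ g • c = c ∧ g • d = d)
    (hD : 2 * H.ncard + (w + 4) ≤ Fintype.card α) :
    (Fintype.card α ≤ w + 11 ∧ #{x : α | s • x = x} = w + 3) ∨ (Fintype.card α ≤ 2 * H.ncard + (w + 4) ∧
      (∀ h ∈ H, Commute s h) ∧ ∃ r : G, r * r = 1 ∧ (∀ y ∈ W, r • y = y) ∧ r • a = a ∧ r • b = b ∧ r • c = d ∧
        ∀ h ∈ H, r * h * (r * h) = 1) := by
  classical
  have s2 : ∀ y : α, s • s • y = y := fun y => by rw [smul_smul, ss, one_smul]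
  have sb : s • b = a := by rw [← sa, s2]
  have aW : a ∉ W := fun e => ab (by rw [← sa, sW a e])
  have bW : b ∉ W := fun e => ab (by rw [← sb, sW b e])
  have fa : ∀ y : α, s • y = y → a ≠ y ∧ b ≠ y := fun y h =>
    ⟨fun e => ab (by rw [← sa, e, h]), fun e => ab (by rw [← sb, e, h])⟩
  set X : Finset α := {x | x ≠ a ∧ x ≠ b ∧ s • x ≠ x} with hX
  have mX : ∀ x, x ∈ X ↔ x ≠ a ∧ x ≠ b ∧ s • x ≠ x := fun x => by simp [hX]
  have : ∀ x : α, ∃ z : G, x ∈ X → z * z = 1 ∧ Commute s z ∧ (∀ y ∈ W, z • y = y) ∧ z • a = b ∧ z • b = a ∧ z • x = x :=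
    fun x => by
      by_cases h : x ∈ X
      · obtain ⟨h1, h2, h3⟩ := (mX x).1 h
        exact (exists_z hT hO hW ss sW sa ab h1 h2 h3).imp fun _ h _ => h
      · exact ⟨1, fun e => (h e).elim⟩
  choose z hz using this
  have cm : ∀ x ∈ X, ∀ y : α, s • z x • y = z x • s • y := fun x hx y => by rw [smul_smul, (hz x hx).2.1.eq, mul_smul]
  have xW : ∀ x ∈ X, x ∉ W ∧ s • x ∉ W := fun x hx =>
    ⟨fun e => ((mX x).1 hx).2.2 (sW x e), fun e => ((mX x).1 hx).2.2 (by rw [← sW _ e, s2])⟩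
  have fib : ∀ x ∈ X, #{y ∈ X | z y = z x} ≤ 2 := fun x hx => by
    refine (card_le_card (t := {x, s • x}) fun y hy => ?_).trans card_le_two
    obtain ⟨hy, e⟩ := mem_filter.1 hy
    by_contra f
    simp only [mem_insert, mem_singleton, not_or] at f
    obtain ⟨z1, -, z3, z4, -, z6⟩ := hz x hx
    have zy : z x • y = y := e ▸ (hz y hy).2.2.2.2.2
    have := hO.eq_one4 hW z1 z3 (xW x hx).1 (xW x hx).2 (xW y hy).1 (xW y hy).2 ((mX x).1 hx).2.2.symm (Ne.symm f.1)
      (fun e => f.2 (by rw [e, s2])) (Ne.symm f.2) (fun e => f.1 (smul_left_cancel s e).symm) ((mX y).1 hy).2.2.symm z6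
      (by rw [← cm x hx, z6]) zy (by rw [← cm x hx, zy])
    exact ab (by rw [← z4, this, one_smul])
  have two : ∀ x ∈ X, ∀ p q : α, p ∉ W → q ∉ W → p ≠ q → s • p = p → s • q = q → z x • p = p → z x • q ≠ q :=
    fun x hx p q pW qW pq sp sq zp zq => by
      obtain ⟨z1, z2, z3, z4, z5, z6⟩ := hz x hx
      have := hO.eq_one4 hW (j := s * z x) (by rw [mul_assoc, ← mul_assoc (z x), ← z2.eq, mul_assoc, z1, mul_one, ss])
        (fun y hy => by rw [mul_smul, z3 y hy, sW y hy]) aW bW pW qW ab (fa p sp).1 (fa q sq).1 (fa p sp).2 (fa q sq).2 pq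
        (by rw [mul_smul, z4, sb]) (by rw [mul_smul, z5, sa]) (by rw [mul_smul, zp, sp]) (by rw [mul_smul, zq, sq])
      exact ((mX x).1 hx).2.2 (by rw [← z6, ← mul_smul, this, one_smul, z6])
  have cnt : ∀ T : Finset α, (∀ y, y ∈ T ↔ s • y = y ∧ y ∉ W) → Fintype.card α = #X + (2 + (w + #T)) ∧
      #{x : α | s • x = x} = w + #T ∧ ∀ x ∈ X, ∀ y ∈ T, z x • y ∈ T := fun T hT => by
    have e1 : #{x : α | s • x = x} = w + #T := by
      rw [← hW, ← card_union_of_disjoint (disjoint_left.2 fun y h1 h2 => ((hT y).1 h2).2 h1)]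
      congr 1; ext y
      simp only [mem_filter, mem_univ, true_and, mem_union, hT]
      exact ⟨fun h => by tauto, fun h => h.elim (sW y) And.left⟩
    refine ⟨?_, e1, fun x hx y hy => (hT _).2 ⟨by rw [cm x hx, ((hT y).1 hy).1], fun e => ((hT y).1 hy).2 ?_⟩⟩
    · have : Xᶜ = insert a (insert b (univ.filter fun x : α => s • x = x)) := by
        ext y; simp only [mem_compl, mX, mem_insert, mem_filter, mem_univ, true_and]; tauto
      rw [← card_add_card_compl X, this, card_insert_of_notMem (by simpa [ab] using fun e => (fa a e).1 rfl),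
        card_insert_of_notMem (by simpa using fun e => (fa b e).2 rfl), e1]
      omega
    · rwa [smul_left_cancel (z x) ((hz x hx).2.2.1 _ e)] at e
  by_cases hF : ∀ y : α, s • y = y → y ∉ W → y = c ∨ y = d
  · right
    obtain ⟨c1, -, c3⟩ := cnt {c, d} fun y => by
      simp only [mem_insert, mem_singleton]
      exact ⟨by rintro (rfl | rfl) <;> simp [*], fun h => hF y h.1 h.2⟩
    rw [card_pair cd] at c1
    have zc : ∀ x ∈ X, z x • c = d ∧ z x • d = c := fun x hx => by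
      have h1 := c3 x hx c (by simp)
      have h2 := c3 x hx d (by simp)
      simp only [mem_insert, mem_singleton] at h1 h2
      have z2 : ∀ y : α, z x • z x • y = y := fun y => by rw [smul_smul, (hz x hx).1, one_smul]
      obtain h1 | h1 := h1
      · exact (cd (smul_left_cancel (z x) (h1.trans (h2.resolve_right (two x hx c d cW dW cd sc sd h1)).symm))).elim
      · exact ⟨h1, by rw [← h1, z2]⟩
    have hp : 0 < H.ncard := (Set.ncard_pos (Set.toFinite _)).2 ⟨1, by simp [hH]⟩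
    obtain ⟨x₀, h₀⟩ := card_pos.1 (show 0 < #X by omega)
    have z0 : ∀ y : α, z x₀ • z x₀ • y = y := fun y => by rw [smul_smul, (hz x₀ h₀).1, one_smul]
    have l1 := card_le_mul_card_image (f := fun x => z x₀ * z x) X 2 fun g hg => by
      obtain ⟨x, hx, rfl⟩ := mem_image.1 hg
      simpa using fib x hx
    have sub : ((X.image fun x => z x₀ * z x : Finset G) : Set G) ⊆ H := fun g hg => by
      obtain ⟨x, hx, rfl⟩ := mem_image.1 hg
      obtain ⟨-, -, z3, z4, z5, -⟩ := hz x hx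
      obtain ⟨-, -, y3, y4, y5, -⟩ := hz x₀ h₀
      simp only [hH, mul_smul, z4, z5, y4, y5, zc x hx, zc x₀ h₀, and_true]
      exact fun y hy => by rw [z3 y hy, y3 y hy]
    have l2 := Set.ncard_le_ncard sub
    have eq := Set.eq_of_subset_of_ncard_le sub (by rw [Set.ncard_coe_finset]; omega)
    rw [Set.ncard_coe_finset] at l2
    obtain ⟨y1, y2, y3, y4, y5, -⟩ := hz x₀ h₀
    refine ⟨by omega, fun h hh => ?_, s * z x₀, by rw [mul_assoc, ← mul_assoc (z x₀), ← y2.eq, mul_assoc, y1, mul_one, ss],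
      fun y hy => by rw [mul_smul, y3 y hy, sW y hy], by rw [mul_smul, y4, sb], by rw [mul_smul, y5, sa],
      by rw [mul_smul, (zc x₀ h₀).1, sd], fun h hh => ?_⟩
    · rw [← eq] at hh
      obtain ⟨x, hx, rfl⟩ := mem_image.1 hh
      exact y2.mul_right (hz x hx).2.1
    · rw [← eq] at hh
      obtain ⟨x, hx, rfl⟩ := mem_image.1 hh
      rw [mul_assoc s, ← mul_assoc (z x₀), y1, one_mul, mul_assoc, ← mul_assoc (z x), ← (hz x hx).2.1.eq, mul_assoc,
        (hz x hx).1, mul_one, ss]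
  left
  push Not at hF
  obtain ⟨e, se, eW, ec, ed⟩ := hF
  have hT3 : ∀ y, y ∈ ({c, d, e} : Finset α) ↔ s • y = y ∧ y ∉ W := fun y => by
    simp only [mem_insert, mem_singleton]
    refine ⟨by rintro (rfl | rfl | rfl) <;> simp [*], fun h => by_contra fun f => ?_⟩
    push Not at f
    have := hO.eq_one4 hW ss sW cW dW eW h.2 cd ec.symm f.1.symm ed.symm f.2.1.symm f.2.2.symm sc sd se h.1
    exact ab (by rw [← sa, this, one_smul])
  obtain ⟨c1, c2, c3⟩ := cnt _ hT3
  have T3 : #({c, d, e} : Finset α) = 3 := card_eq_three.2 ⟨c, d, e, cd, ec.symm, ed.symm, rfl⟩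
  set T : Finset α := {c, d, e}
  have : ∀ x : α, ∃ p ∈ T, x ∈ X → z x • p = p := fun x => by
    by_cases hx : x ∈ X
    · have z2 : ∀ y : α, z x • z x • y = y := fun y => by rw [smul_smul, (hz x hx).1, one_smul]
      have h1 := c3 x hx c (by simp [T])
      have h2 := c3 x hx d (by simp [T])
      have h3 := c3 x hx e (by simp [T])
      simp only [T, mem_insert, mem_singleton, exists_eq_or_imp, exists_eq_left, hx, true_imp_iff] at h1 h2 h3 ⊢
      by_contra f
      push Not at f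
      obtain h1 | h1 := h1.resolve_left f.1
      · obtain h3 | h3 | h3 := h3
        · exact ed (by rw [← h1, ← h3, z2])
        · exact ec (smul_left_cancel (z x) (h3.trans h1.symm))
        · exact f.2.2 h3
      · obtain h2 | h2 | h2 := h2
        · exact ed (by rw [← h1, ← h2, z2])
        · exact f.2.1 h2
        · exact cd (smul_left_cancel (z x) (h1.trans h2.symm))
    · exact ⟨c, by simp [T], fun e => (hx e).elim⟩
  choose p p1 p2 using this
  have l1 := card_le_mul_card_image_of_maps_to (f := p) (s := X) (t := T) (fun x _ => p1 x) 2 fun q hq => by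
    rcases ({x ∈ X | p x = q} : Finset α).eq_empty_or_nonempty with h | ⟨x, hx⟩
    · simp [h]
    obtain ⟨hx, px⟩ := mem_filter.1 hx
    refine (card_le_card fun y hy => ?_).trans (fib x hx)
    obtain ⟨hy, py⟩ := mem_filter.1 hy
    refine mem_filter.2 ⟨hy, ?_⟩
    have key : ∀ u ∈ T, z y • u = z x • u := fun u hu => by
      by_cases uq : u = q
      · rw [uq, ← py, p2 y hy, py, ← px, p2 x hx]
      have k : ∀ v ∈ X, p v = q → z v • u ∈ (T.erase q).erase u := fun v hv pv => by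
        have zq : z v • q = q := pv ▸ p2 v hv
        exact mem_erase.2 ⟨two v hv q u ((hT3 q).1 hq).2 ((hT3 u).1 hu).2 (Ne.symm uq) ((hT3 q).1 hq).1 ((hT3 u).1 hu).1 zq,
          mem_erase.2 ⟨fun e => uq (smul_left_cancel (z v) (e.trans zq.symm)), c3 v hv u hu⟩⟩
      exact card_le_one.1 (by rw [card_erase_of_mem (mem_erase.2 ⟨uq, hu⟩), card_erase_of_mem hq, T3]) _ (k y hy py) _
        (k x hx px)
    refine (inv_mul_eq_one.1 (hU (insert e (insert a (insert b (insert c (insert d W))))) ?_ ((z x)⁻¹ * z y) ?_)).symm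
    · rw [card_insert_of_notMem (by simp [ec, ed, eW, (fa e se).1.symm, (fa e se).2.symm]),
        card4 hW aW bW cW dW ab (fa c sc).1 (fa d sd).1 (fa c sc).2 (fa d sd).2 cd]
    · obtain ⟨-, -, z3, z4, z5, -⟩ := hz x hx
      obtain ⟨-, -, y3, y4, y5, -⟩ := hz y hy
      simp only [mem_insert, forall_eq_or_imp, mul_smul, inv_smul_eq_iff, z4, z5, y4, y5, true_and]
      exact ⟨key e (by simp [T]), key c (by simp [T]), key d (by simp [T]), fun u hu => by rw [z3 u hu, y3 u hu]⟩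
  omega

theorem big [Fintype α] [Finite G] (hT : ∀ s : Finset α, s.card = w + 4 → ∀ σ : Perm α, ∃ g : G, ∀ x ∈ s, g • x = σ x)
    (hU : ∀ s : Finset α, s.card = w + 5 → ∀ g : G, (∀ x ∈ s, g • x = x) → g = 1) (hO : OddFix G α (w + 4))
    {S : Finset α} (hS : S.card = w + 4) (hD : 2 * {g : G | ∀ x ∈ S, g • x = x}.ncard + (w + 4) ≤ Fintype.card α) :
    Fintype.card α = w + 6 ∨ (Fintype.card α ≤ w + 11 ∧ ∃ s : G, s * s = 1 ∧ #{x : α | s • x = x} = w + 3) := by
  obtain ⟨T, hT1, hT2⟩ := exists_subset_card_eq (show 4 ≤ #S by omega)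
  obtain ⟨a, b, c, d, ab, ac, ad, bc, bd, cd, rfl⟩ := card_eq_four.1 hT2
  set W := S \ {a, b, c, d} with hWd
  have hW : #W = w := by rw [card_sdiff_of_subset hT1, hT2, hS]; rfl
  have mS : ∀ x, x ∈ S ↔ x = a ∨ x = b ∨ x = c ∨ x = d ∨ x ∈ W := fun x => by
    have := @hT1 x
    simp only [hWd, mem_sdiff, mem_insert, mem_singleton] at this ⊢
    tauto
  obtain ⟨s, ss, sa, sb, s3⟩ := exists_invol hT hO hS (a := a) (b := b) (by simp [mS]) (by simp [mS])
  have nW : a ∉ W ∧ b ∉ W ∧ c ∉ W ∧ d ∉ W := by simp [hWd]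
  have sW : ∀ y ∈ W, s • y = y := fun y hy => s3 y (by simp [mS, hy]) (fun e => nW.1 (e ▸ hy)) (fun e => nW.2.1 (e ▸ hy))
  set H := {g : G | ∀ x ∈ S, g • x = x} with hH
  obtain h | ⟨h1, -, r, rr, rW, ra, rb, rc, h2⟩ := core hT hU hO hW ss sW sa (s3 c (by simp [mS]) ac.symm bc.symm)
    (s3 d (by simp [mS]) ad.symm bd.symm) ab cd nW.2.2.1 nW.2.2.2 H (fun g => by simp [hH, mS]; tauto) hD
  · exact .inr ⟨h.1, s, ss, h.2⟩
  obtain h | ⟨-, h3, -⟩ := core hT hU hO hW rr rW rc ra rb cd ab nW.1 nW.2.1 H (fun g => by simp [hH, mS]; tauto) hD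
  · exact .inr ⟨h.1, r, rr, h.2⟩
  have : H = {1} := Set.eq_singleton_iff_unique_mem.2 ⟨by simp [hH], fun h hh => hO.eq_one hS (by
    have := h2 h hh
    rwa [mul_assoc, ← mul_assoc h, ← (h3 h hh).eq, mul_assoc, ← mul_assoc, rr, one_mul] at this) hh⟩
  rw [this, Set.ncard_singleton] at h1 hD
  omega

end Cfsg.Agent.Perm.LW
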