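import Cfsg.Agent.Lib.Perm.LW1
import Cfsg.Agent.Lib.Perm.PG1
import Cfsg.Agent.Lib.Transfer.Sharp

namespace Cfsg.Agent.Perm.LW

open MulAction Equiv Finset Pointwise

variable {G : Type*} [Group G] {α : Type*} [MulAction G α] [DecidableEq α] {t k : ℕ}

theorem hom_move (h : IsPretransitive G (Set.powersetCard α k)) {s u : Finset α} (hs : #s = k) (hu : #u = k) :
    ∃ g : G, g • s = u :=
  (h.exists_smul_eq ⟨s, hs⟩ ⟨u, hu⟩).imp fun _ e => congrArg Subtype.val e

theorem hom_fix (h : IsPretransitive G (Set.powersetCard α k)) {s u : Finset α} (hs : #s = k) (hu : #u = k) :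
    Nat.card (fixingSubgroup G (s : Set α)) = Nat.card (fixingSubgroup G (u : Set α)) := by
  obtain ⟨g, e⟩ := hom_move h hs hu
  exact Nat.card_congr (SubMulAction.fixingSubgroupEquivFixingSubgroup (g := g) (by rw [← e, coe_smul_finset])).toEquiv

theorem hom_card [Finite G] (h : IsPretransitive G (Set.powersetCard α k)) {s : Finset α} (hs : #s = k) :
    ∃ e, Nat.card G = (Nat.card α).choose k * e ∧ ∀ j : G, j * j = 1 → j ≠ 1 → (∀ x ∈ s, j • x ∈ s) → Even e := by
  refine ⟨Nat.card (stabilizer G (⟨s, hs⟩ : Set.powersetCard α k)), by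
    rw [← Set.powersetCard.card, ← index_stabilizer_of_transitive G (⟨s, hs⟩ : Set.powersetCard α k),
      Subgroup.index_mul_card], fun j jj j1 hj => ?_⟩
  haveI := Fact.mk Nat.prime_two
  have : j ∈ stabilizer G (⟨s, hs⟩ : Set.powersetCard α k) := Subtype.ext (eq_of_subset_of_card_le (s := j • s)
    (fun x hx => by obtain ⟨y, hy, rfl⟩ := mem_smul_finset.1 hx; exact hj y hy) (card_smul_finset j s).ge)
  have := Subgroup.orderOf_dvd_natCard _ this
  rw [orderOf_eq_prime (by rw [pow_two, jj]) j1] at this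
  exact even_iff_two_dvd.2 this

theorem oddFix [Finite G] [Finite α] (ht : IsMultiplyPretransitive G α (t + 1)) (hnt : ¬ IsMultiplyPretransitive G α (t + 2))
    (hh : IsPretransitive G (Set.powersetCard α (t + 2)))
    (hU : ∀ s : Finset α, #s = t + 2 → ∀ g : G, (∀ x ∈ s, g • x = x) → g = 1) : OddFix G α (t + 1) := by
  intro s hs g hg
  by_contra ho
  haveI := Fact.mk Nat.prime_two
  have h2 : 2 ∣ Nat.card (fixingSubgroup G (s : Set α)) := (even_iff_two_dvd.1 (Nat.not_odd_iff_even.1 ho)).trans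
    (Subgroup.orderOf_dvd_natCard _ ((mem_fixingSubgroup_iff G).2 hg))
  have inv : ∀ u : Finset α, #u = t + 1 → ∃ j : G, j * j = 1 ∧ j ≠ 1 ∧ ∀ x ∈ u, j • x = x := fun u hu => by
    rw [PG.card_fixing_eq ht (t := (u : Set α)) (by simpa) (by simpa)] at h2
    obtain ⟨j, hj⟩ := exists_prime_orderOf_dvd_card' 2 h2
    refine ⟨j, ?_, fun e => ?_, (mem_fixingSubgroup_iff G).1 j.2⟩
    · rw [← pow_two, ← hj, ← Subgroup.coe_pow, pow_orderOf_eq_one, Subgroup.coe_one]
    · rw [show j = 1 from Subtype.ext e, orderOf_one] at hj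
      omega
  have sw : ∀ W : Finset α, #W = t → ∀ x ∉ W, ∀ y ∉ W, y ≠ x → ∃ j : G, (∀ z ∈ W, j • z = z) ∧ j • x = y ∧ j • y = x := by
    intro W hW x xW y yW yx
    have : ∀ z : α, ∃ j : G, z ∉ W → j * j = 1 ∧ j ≠ 1 ∧ ∀ x ∈ insert z W, j • x = x := fun z => by
      by_cases h : z ∈ W
      · exact ⟨1, fun e => (e h).elim⟩
      · exact (inv _ (by rw [card_insert_of_notMem h, hW])).imp fun _ h _ => h
    choose J hJ using this
    have U : ∀ a ∉ W, ∀ b ∉ W, a ≠ b → ∀ g : G, (∀ z ∈ W, g • z = z) → g • a = a → g • b = b → g = 1 :=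
      fun a aW b bW ab g h1 h2 h3 => hU (insert a (insert b W))
        (by rw [card_insert_of_notMem (by simp [*]), card_insert_of_notMem bW, hW]) g (by simpa [h2, h3] using h1)
    have J2 : ∀ z ∉ W, ∀ y : α, J z • J z • y = y := fun z hz y => by rw [smul_smul, (hJ z hz).1, one_smul]
    have JW : ∀ z ∉ W, ∀ y ∈ W, J z • y = y := fun z hz y hy => (hJ z hz).2.2 y (by simp [hy])
    have Jz : ∀ z ∉ W, J z • z = z := fun z hz => (hJ z hz).2.2 z (by simp)
    have mp : Set.MapsTo (fun z => J z • x) {z | z ∉ W ∧ z ≠ x} {z | z ∉ W ∧ z ≠ x} := fun z hz => by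
      have : J z • x ≠ x := fun e => (hJ z hz.1).2.1 (U z hz.1 x xW hz.2 _ (JW z hz.1) (Jz z hz.1) e)
      exact ⟨fun e : J z • x ∈ W => this (by rw [← JW z hz.1 _ e, J2 z hz.1]), this⟩
    obtain ⟨z, hz, e⟩ := ((Set.toFinite _).injOn_iff_bijOn_of_mapsTo mp).1 (fun z hz u hu e => by
      have e : J z • x = J u • x := e
      have := U x xW _ (mp hz).1 (mp hz).2.symm (J z * J u) (fun y hy => by rw [mul_smul, JW u hu.1 y hy, JW z hz.1 y hy])
        (by rw [mul_smul, ← e, J2 z hz.1]) (by simp only [mul_smul]; rw [e, J2 u hu.1, e])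
      have : J z = J u := by rw [eq_inv_of_mul_eq_one_left this, inv_eq_of_mul_eq_one_right (hJ u hu.1).1]
      by_contra f
      exact (hJ z hz.1).2.1 (U z hz.1 u hu.1 f _ (JW z hz.1) (Jz z hz.1) (this ▸ Jz u hu.1))) |>.surjOn
      (show y ∈ {z | z ∉ W ∧ z ≠ x} from ⟨yW, yx⟩)
    exact ⟨J z, JW z hz.1, e, by rw [← e, J2 z hz.1]⟩
  refine hnt (PG.mt_of_perm fun u hu σ => ?_)
  have all : ∀ τ : Perm u, ∃ g : G, ∀ x : u, g • (x : α) = τ x := fun τ => by
    induction τ using Perm.swap_induction_on with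
    | one => exact ⟨1, by simp⟩
    | swap_mul f x y xy ih =>
      obtain ⟨g, hg⟩ := ih
      have xy' : (x : α) ≠ y := fun e => xy (Subtype.ext e)
      obtain ⟨j, j1, j2, j3⟩ := sw ((u.erase x).erase y) (by
        rw [card_erase_of_mem (mem_erase.2 ⟨xy'.symm, y.2⟩), card_erase_of_mem x.2, hu]; rfl) x (by simp) y (by simp) xy'.symm
      refine ⟨j * g, fun z => ?_⟩
      rw [mul_smul, hg, Perm.mul_apply, swap_apply_def]
      split_ifs with h1 h2
      · rw [h1, j2]
      · rw [h2, j3]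
      · exact j1 _ (mem_erase.2 ⟨fun e => h2 (Subtype.ext e), mem_erase.2 ⟨fun e => h1 (Subtype.ext e), (f z).2⟩⟩)
  obtain ⟨g, e⟩ := hom_move hh hu (u := u.map σ.toEmbedding) (by simpa)
  obtain ⟨j, hj⟩ := all ((toPerm g⁻¹ * σ).subtypePerm fun x => by
    rw [Perm.mul_apply, toPerm_apply, inv_smul_mem_iff, e]; simp)
  exact ⟨g * j, fun x hx => by rw [mul_smul, hj ⟨x, hx⟩]; simp⟩

theorem semireg [Finite G] [Fintype α] (ht : IsMultiplyPretransitive G α t) (hnt : ¬ IsMultiplyPretransitive G α (t + 1))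
    (hU : ∀ s : Finset α, #s = t + 1 → ∀ g : G, (∀ x ∈ s, g • x = x) → g = 1) {S : Finset α} (hS : #S = t)
    (hn : t < Fintype.card α) : ∃ r, 2 ≤ r ∧ Fintype.card α = t + r * Nat.card (fixingSubgroup G (S : Set α)) := by
  have e := Nat.card_congr (selfEquivOrbitsQuotientProd (G := fixingSubgroup G (S : Set α))
    (X := SubMulAction.ofFixingSubgroup G (S : Set α)) fun b => eq_bot_iff.2 fun g hg => Subtype.ext
      (hU (insert (b : α) S) (by rw [card_insert_of_notMem b.2, hS]) g (by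
        simp only [mem_insert, forall_eq_or_imp]
        exact ⟨congrArg Subtype.val hg, (mem_fixingSubgroup_iff G).1 g.2⟩)))
  rw [Nat.card_prod] at e
  have e2 : Nat.card (SubMulAction.ofFixingSubgroup G (S : Set α)) + t = Fintype.card α := by
    rw [← card_add_card_compl S, hS, add_comm, ← Nat.card_eq_finsetCard]
    congr 1
    exact Nat.card_congr (Equiv.subtypeEquivRight fun x => by simp [SubMulAction.mem_ofFixingSubgroup_iff])
  refine ⟨_, ?_, by rw [← e, ← e2, add_comm]⟩
  by_contra f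
  obtain f | f : _ = 0 ∨ _ = 1 := Nat.le_one_iff_eq_zero_or_eq_one.1 (Nat.le_of_lt_succ (not_le.1 f))
  · rw [f] at e; omega
  refine hnt (PG.mt_succ ht S hS fun a ha b hb => ?_)
  obtain ⟨g, hg⟩ := (Quotient.exact ((Nat.card_eq_one_iff_unique.1 f).1.elim (Quotient.mk _ ⟨b, hb⟩) (Quotient.mk _ ⟨a, ha⟩)) :
    (orbitRel _ _).r _ _)
  exact ⟨g, (mem_fixingSubgroup_iff G).1 g.2, congrArg Subtype.val hg⟩

theorem even_e [Finite G] [Fintype α] (ht : IsMultiplyPretransitive G α t) (hO : OddFix G α t) (h2 : 2 ≤ t)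
    (hh : IsPretransitive G (Set.powersetCard α (t + 2))) (hn : t + 2 ≤ Fintype.card α) :
    ∃ e, Nat.card G = (Nat.card α).choose (t + 2) * e ∧ Even e := by
  obtain ⟨S, -, hS⟩ := exists_subset_card_eq (show t ≤ #(univ : Finset α) by simp; omega)
  obtain ⟨a, ha, b, hb, ab⟩ := one_lt_card.1 (show 1 < #S by omega)
  obtain ⟨j, jj, ja, jb, j3⟩ := exists_invol (fun s hs => PG.mt_perm ht (by simp; omega) s hs.le) hO hS ha hb
  have j2 : ∀ y : α, j • j • y = y := fun y => by rw [smul_smul, jj, one_smul]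
  have j1 : j ≠ 1 := fun e => ab (by rw [← ja, e, one_smul])
  have jS : ∀ x ∈ S, j • x ∈ S := fun x hx => by
    by_cases h1 : x = a
    · rwa [h1, ja]
    by_cases h2 : x = b
    · rwa [h2, jb]
    rwa [j3 x hx h1 h2]
  obtain ⟨x, xS, jx⟩ : ∃ x ∉ S, j • x ≠ x := by
    by_contra f
    push Not at f
    obtain ⟨x, hx, y, hy, xy⟩ := one_lt_card.1 (show 1 < #Sᶜ by rw [card_compl]; omega)
    rw [mem_compl] at hx hy
    refine j1 (hO.eq_one (s := insert x (insert y ((S.erase a).erase b))) ?_ jj ?_)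
    · rw [card_insert_of_notMem (by simp [*]), card_insert_of_notMem (by simp [*]),
        card_erase_of_mem (mem_erase.2 ⟨ab.symm, hb⟩), card_erase_of_mem ha]
      omega
    · simp only [mem_insert, forall_eq_or_imp, f x hx, f y hy, true_and, mem_erase]
      exact fun z hz => j3 z hz.2.2 hz.2.1 hz.1
  obtain ⟨e, h1, h3⟩ := hom_card hh (s := insert x (insert (j • x) S)) (by
    rw [card_insert_of_notMem (by simp [xS, jx.symm]), card_insert_of_notMem (fun e => xS (j2 x ▸ jS _ e)), hS])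
  refine ⟨e, h1, h3 j jj j1 ?_⟩
  simp only [mem_insert, forall_eq_or_imp, j2, true_or, or_true, true_and]
  exact fun z hz => .inr (.inr (jS z hz))

theorem no24 [Finite G] [Fintype α] (hU : ∀ s : Finset α, #s = 4 → ∀ g : G, (∀ x ∈ s, g • x = x) → g = 1)
    (hn : Fintype.card α = 24) : Nat.card G ≠ 85008 := fun hG => by
  haveI := Fact.mk (show Nat.Prime 23 by norm_num)
  obtain ⟨P⟩ : Nonempty (Sylow 23 G) := inferInstance
  have hP : Nat.card P = 23 := by
    rw [P.card_eq_multiplicity, hG, show 85008 = 23 * 3696 by norm_num, Nat.factorization_mul (by norm_num) (by norm_num)]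
    simp [Nat.Prime.factorization_self Fact.out, Nat.factorization_eq_zero_of_not_dvd (show ¬ 23 ∣ 3696 by norm_num)]
  have F : ∀ g : G, (orderOf g).Prime → #{x : α | g • x = x} ≤ 3 := fun g hg => by
    by_contra f
    obtain ⟨s, h1, h2⟩ := exists_subset_card_eq (Nat.succ_le_of_lt (not_le.1 f))
    rw [hU s h2 g fun x hx => (mem_filter.1 (h1 hx)).2, orderOf_one] at hg
    exact Nat.not_prime_one hg
  obtain ⟨-, d, m, h1, -, h2, h3⟩ := Transfer.syl_count P hP fun w y hw h1 h2 h3 => by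
    obtain ⟨a, -, ha⟩ := exists_mem_notMem_of_card_lt_card (t := univ)
      (s := (univ.filter fun x : α => w • x = x) ∪ univ.filter fun x : α => y • x = x) (by
      have := card_union_le ({x : α | w • x = x} : Finset α) {x : α | y • x = x}
      have := F w hw
      have := F y (h2 ▸ Fact.out)
      rw [card_univ]; omega)
    simp only [mem_union, mem_filter, mem_univ, true_and, not_or] at ha
    have := SylNum.comm_fix Fact.out hw (Ne.symm h1) rfl h2 h3 ha.1 ha.2
    have := hw.two_le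
    rw [Nat.card_eq_fintype_card (α := α)] at *
    omega
  rw [hG] at h2
  have : d ≤ 22 := Nat.le_of_dvd (by norm_num) h1
  interval_cases d <;> omega

end Cfsg.Agent.Perm.LW
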