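import Mathlib

namespace Cfsg.Agent.Perm.Sh

open Polynomial

variable {K V : Type*} [Field K] [IsAlgClosed K] [AddCommGroup V] [Module K V]

/-- The recursively defined additive polynomials used to solve `X * σ M - M = c • b`. -/
noncomputable def lp (q : ℕ) (b : K[X]) : ℕ → K[X]
  | 0 => C (- b.coeff 0) * X
  | i + 1 => lp q b i ^ q - C (b.coeff (i + 1)) * X

omit [IsAlgClosed K] in
theorem lp_spec (q : ℕ) (hq : 2 ≤ q) (b : K[X]) (h0 : b.coeff 0 ≠ 0) (i : ℕ) :
    (lp q b i).natDegree = q ^ i ∧ X ∣ lp q b i := by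
  induction i with
  | zero => exact ⟨by rw [lp, natDegree_C_mul_X _ (neg_ne_zero.2 h0), pow_zero], dvd_mul_left _ _⟩
  | succ i ih =>
    refine ⟨?_, dvd_sub (dvd_pow ih.2 (by omega)) (dvd_mul_left _ _)⟩
    rw [lp, natDegree_sub_eq_left_of_natDegree_lt, natDegree_pow, ih.1, pow_succ']
    rw [natDegree_pow, ih.1]
    have h1 : (C (b.coeff (i + 1)) * X).natDegree ≤ 1 := by
      compute_degree
    have : 1 ≤ q ^ i := Nat.one_le_pow _ _ (by omega)
    nlinarith

theorem lp_root (q : ℕ) (hq : 2 ≤ q) (b : K[X]) (h0 : b.coeff 0 ≠ 0) (i : ℕ)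
    (hi : b.coeff (i + 1) ≠ 0) : ∃ c : K, c ≠ 0 ∧ (lp q b (i + 1)).eval c = 0 := by
  obtain ⟨hd, r, hr⟩ := lp_spec q hq b h0 i
  have hr0 : r ≠ 0 := by
    rintro rfl
    rw [hr] at hd
    simp only [mul_zero, natDegree_zero] at hd
    exact absurd hd.symm (pow_ne_zero _ (by omega))
  obtain ⟨q, rfl⟩ : ∃ k, q = k + 2 := ⟨q - 2, by omega⟩
  have hdeg : (X ^ (q + 1) * r ^ (q + 2) - C (b.coeff (i + 1))).degree ≠ 0 := by
    have : 0 < (X ^ (q + 1) * r ^ (q + 2) : K[X]).natDegree := by
      rw [natDegree_mul (pow_ne_zero _ X_ne_zero) (pow_ne_zero _ hr0), natDegree_X_pow]; omega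
    have h2 : 0 < (X ^ (q + 1) * r ^ (q + 2) - C (b.coeff (i + 1))).natDegree := by
      rwa [natDegree_sub_C]
    exact (natDegree_pos_iff_degree_pos.1 h2).ne'
  obtain ⟨c, hc⟩ := IsAlgClosed.exists_root _ hdeg
  refine ⟨c, ?_, ?_⟩
  · rintro rfl
    simp [IsRoot] at hc
    exact hi hc
  · have : lp (q + 2) b (i + 1) = X * (X ^ (q + 1) * r ^ (q + 2) - C (b.coeff (i + 1))) := by
      rw [lp, hr]; ring
    rw [this, eval_mul, hc.eq_zero, mul_zero]

theorem exists_fixed [FiniteDimensional K V] [Nontrivial V] (q : ℕ) (hq : 2 ≤ q) (σ : K →+* K)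
    (hσ : ∀ x, σ x = x ^ q) (φ : V →ₛₗ[σ] V) (hφ : Function.Injective φ) :
    ∃ v, v ≠ 0 ∧ φ v = v := by
  classical
  obtain ⟨v, hv⟩ := exists_ne (0 : V)
  let L : K[X] →ₗ[K] V := (basisMonomials K).constr K (fun i => φ^[i] v)
  have hLm : ∀ i c, L (monomial i c) = c • φ^[i] v := by
    intro i c
    rw [← mul_one c, ← smul_eq_mul, ← smul_monomial, map_smul, smul_eq_mul, mul_one]
    congr 1
    exact (basisMonomials K).constr_basis K _ i
  have hL : ∀ b, φ (L b) = L (X * b.map σ) := by
    intro b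
    induction b using Polynomial.induction_on' with
    | add a b ha hb => simp only [map_add, Polynomial.map_add, mul_add, ha, hb]
    | monomial i c =>
      rw [map_monomial, X_mul_monomial, hLm, hLm, map_smulₛₗ, Function.iterate_succ_apply']
  have hex : ∃ m, ∃ b : K[X], b ≠ 0 ∧ L b = 0 ∧ b.natDegree = m := by
    by_contra h
    push Not at h
    have : Function.Injective L := by
      rw [← LinearMap.ker_eq_bot, eq_bot_iff]
      intro b hb
      by_contra h0
      exact h _ b h0 hb rfl
    exact Polynomial.not_finite (R := K) (Module.Finite.of_injective L this)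
  obtain ⟨b, hb0, hb, hm⟩ := Nat.find_spec hex
  have hmin : ∀ b' : K[X], L b' = 0 → b'.natDegree < b.natDegree → b' = 0 := by
    intro b' h1 h2
    by_contra h
    exact Nat.find_min hex (hm ▸ h2) ⟨b', h, h1, rfl⟩
  have hsurj : Function.Surjective σ := fun y => by
    obtain ⟨x, hx⟩ := IsAlgClosed.exists_pow_nat_eq y (n := q) (by omega)
    exact ⟨x, by rw [hσ, hx]⟩
  have h0 : b.coeff 0 ≠ 0 := by
    intro h
    obtain ⟨b1, hb1⟩ := X_dvd_iff.2 h
    obtain ⟨b2, rfl⟩ := map_surjective σ hsurj b1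
    have h2 : b2 ≠ 0 := by rintro rfl; simp at hb1; exact hb0 hb1
    apply h2
    apply hmin
    · apply hφ; rw [hL, ← hb1, hb, map_zero]
    · rw [hb1, natDegree_X_mul (by simpa using h2), natDegree_map]; omega
  obtain ⟨m, hm'⟩ : ∃ m, b.natDegree = m + 1 := by
    apply Nat.exists_eq_succ_of_ne_zero
    intro h
    rw [natDegree_eq_zero] at h
    obtain ⟨c, rfl⟩ := h
    rw [← monomial_zero_left, hLm] at hb
    simp at hb h0
    tauto
  obtain ⟨c, hc0, hc⟩ := lp_root q hq b h0 m (by rw [← hm']; exact leadingCoeff_ne_zero.2 hb0)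
  let M : K[X] := ∑ i ∈ Finset.range (m + 1), monomial i ((lp q b i).eval c)
  have hz : ∀ i, m + 1 ≤ i → (lp q b i).eval c = 0 := by
    intro i hi
    induction i, hi using Nat.le_induction with
    | base => exact hc
    | succ i hi ih =>
      rw [lp, coeff_eq_zero_of_natDegree_lt (by omega)]
      simp [ih]; omega
  have hM : ∀ i, M.coeff i = (lp q b i).eval c := by
    intro i
    simp only [M, finset_sum_coeff, coeff_monomial, Finset.sum_ite_eq', Finset.mem_range]
    split_ifs with h
    · rfl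
    · exact (hz i (by omega)).symm
  have hkey : X * M.map σ = M + c • b := by
    ext i
    cases i with
    | zero => simp [hM, lp]; ring
    | succ i => simp [coeff_X_mul, hM, lp, hσ]; ring
  refine ⟨L M, fun h => ?_, by rw [hL, hkey, map_add, map_smul, hb, smul_zero, add_zero]⟩
  have hM0 := hmin M h (by
    rw [hm', Nat.lt_succ_iff, natDegree_le_iff_coeff_eq_zero]
    intro i hi
    rw [hM, hz i hi])
  have := hM 0
  rw [hM0] at this
  simp [lp] at this
  tauto

theorem span_fixed [FiniteDimensional K V] (q : ℕ) (hq : 2 ≤ q) (σ : K →+* K)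
    (hσ : ∀ x, σ x = x ^ q) (φ : V →ₛₗ[σ] V) (hφ : Function.Injective φ) :
    Submodule.span K {v | φ v = v} = ⊤ := by
  set W := Submodule.span K {v | φ v = v} with hW
  by_contra hne
  have : Nontrivial (V ⧸ W) := Submodule.Quotient.nontrivial_iff.2 hne
  have hsurj : Function.Surjective σ := fun y => by
    obtain ⟨x, hx⟩ := IsAlgClosed.exists_pow_nat_eq y (n := q) (by omega)
    exact ⟨x, by rw [hσ, hx]⟩
  have h1 : W ≤ W.comap φ := by
    intro x hx
    show φ x ∈ W
    induction hx using Submodule.span_induction with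
    | mem x hx => rw [hx]; exact Submodule.subset_span hx
    | zero => simp
    | add x y _ _ hx hy => rw [map_add]; exact W.add_mem hx hy
    | smul c x _ hx => rw [map_smulₛₗ]; exact W.smul_mem _ hx
  have h2 : ∀ x ∈ W, ∃ y ∈ W, φ y = x := by
    intro x hx
    induction hx using Submodule.span_induction with
    | mem x hx => exact ⟨x, Submodule.subset_span hx, hx⟩
    | zero => exact ⟨0, W.zero_mem, map_zero _⟩
    | add x y _ _ hx hy =>
      obtain ⟨a, ha, rfl⟩ := hx
      obtain ⟨b, hb, rfl⟩ := hy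
      exact ⟨a + b, W.add_mem ha hb, map_add _ _ _⟩
    | smul c x _ hx =>
      obtain ⟨a, ha, rfl⟩ := hx
      obtain ⟨d, rfl⟩ := hsurj c
      exact ⟨d • a, W.smul_mem _ ha, map_smulₛₗ _ _ _⟩
  have h3 : ∀ x ∈ W, ∀ c : K, ∃ u ∈ W, u - φ u = c • x := by
    intro x hx
    induction hx using Submodule.span_induction with
    | mem x hx =>
      intro c
      have hdeg : (X ^ q - (X - C c) : K[X]).degree ≠ 0 := by
        rw [degree_sub_eq_left_of_degree_lt]
        · rw [degree_X_pow]; exact_mod_cast (by omega)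
        · rw [degree_X_pow, degree_X_sub_C]; exact_mod_cast (by omega)
      obtain ⟨d, hd⟩ := IsAlgClosed.exists_root _ hdeg
      refine ⟨d • x, W.smul_mem _ (Submodule.subset_span hx), ?_⟩
      rw [map_smulₛₗ, hx, ← sub_smul, hσ]
      congr 1
      simp [IsRoot] at hd
      linear_combination -hd
    | zero => exact fun c => ⟨0, W.zero_mem, by simp⟩
    | add x y _ _ hx hy =>
      intro c
      obtain ⟨a, ha, h⟩ := hx c
      obtain ⟨b, hb, h'⟩ := hy c
      exact ⟨a + b, W.add_mem ha hb, by rw [map_add, smul_add, ← h, ← h']; abel⟩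
    | smul d x _ hx =>
      intro c
      rw [smul_smul]
      exact hx _
  obtain ⟨v, hv0, hv⟩ := exists_fixed q hq σ hσ (W.mapQ W φ h1) (by
    rw [injective_iff_map_eq_zero]
    intro x hx
    induction x using Submodule.Quotient.induction_on with
    | H x =>
      rw [Submodule.mapQ_apply, Submodule.Quotient.mk_eq_zero] at hx
      obtain ⟨y, hy, hy2⟩ := h2 _ hx
      rw [Submodule.Quotient.mk_eq_zero, ← hφ hy2]; exact hy)
  induction v using Submodule.Quotient.induction_on with
  | H v =>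
    rw [Submodule.mapQ_apply, Submodule.Quotient.eq] at hv
    obtain ⟨u, hu, hu2⟩ := h3 _ hv 1
    apply hv0
    rw [Submodule.Quotient.mk_eq_zero]
    have : v + u ∈ W := Submodule.subset_span (by
      show φ (v + u) = v + u
      rw [one_smul] at hu2
      rw [map_add, sub_eq_iff_eq_add.1 hu2.symm]
      abel)
    simpa using W.sub_mem this hu

end Cfsg.Agent.Perm.Sh
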