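import Mathlib
import Cfsg.Agent.Lib.Perm.GL2b

/-! Non-trivial words are not laws in large groups of rank one. -/

set_option autoImplicit false

namespace Cfsg.Agent.Perm.Law
open Matrix Polynomial

section Poly
variable {ι : Type*} [Fintype ι] [DecidableEq ι] {F : Type*} [Field F] {α : Type*}

theorem prod_deg (P : α → Matrix ι ι F[X]) {d : ℕ} (hd : ∀ x i j, (P x i j).natDegree ≤ d)
    (L : List α) : (∀ i j, ((L.map P).prod i j).natDegree ≤ L.length * d) ∧
      (L.map P).prod.map (fun p => p.coeff (L.length * d)) =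
        (L.map fun x => (P x).map fun p => p.coeff d).prod := by
  induction L with
  | nil =>
    refine ⟨fun i j => ?_, ?_⟩
    · by_cases h : i = j <;> simp [one_apply, h]
    · ext i j
      by_cases h : i = j <;> simp [one_apply, h]
  | cons x L ih =>
    have e : (x :: L).length * d = d + L.length * d := by simp; ring
    rw [e]
    refine ⟨fun i j => ?_, ?_⟩
    · rw [List.map_cons, List.prod_cons, mul_apply]
      exact natDegree_sum_le_of_forall_le _ _ fun k _ =>
        natDegree_mul_le.trans (add_le_add (hd _ _ _) (ih.1 _ _))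
    · ext i j
      rw [List.map_cons, List.prod_cons, List.map_cons, List.prod_cons, ← ih.2, map_apply, mul_apply,
        mul_apply, finset_sum_coeff]
      exact Finset.sum_congr rfl fun k _ => coeff_mul_add_eq_of_natDegree_le (hd _ _ _) (ih.1 _ _)

theorem exists_eval [Fintype F] (P : α → Matrix ι ι F[X]) {d : ℕ} (hd0 : d ≠ 0)
    (hd : ∀ x i j, (P x i j).natDegree ≤ 2 * d) (L : List α) (hL : L ≠ [])
    (hR : (L.map fun x => (P x).map fun p => p.coeff (2 * d)).prod ≠ 0)
    (hF : 4 * d * L.length + 1 < Fintype.card F) :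
    ∃ t : F, t ≠ 0 ∧ ∀ ε : F, ε ^ 2 = 1 →
      (L.map fun x => (P x).map (eval t)).prod ≠ (ε * t ^ (L.length * d)) • (1 : Matrix ι ι F) := by
  obtain ⟨h1, h2⟩ := prod_deg P hd L
  rw [← h2] at hR
  obtain ⟨i, j, hij⟩ : ∃ i j, ((L.map P).prod i j).coeff (L.length * (2 * d)) ≠ 0 := by
    by_contra h
    push Not at h
    exact hR (Matrix.ext h)
  have hn : L.length ≠ 0 := fun h => hL (List.length_eq_zero_iff.1 h)
  set M := (L.map P).prod i j with hM
  let Q : F → F[X] := fun ε => M - monomial (L.length * d) (ε * (1 : Matrix ι ι F) i j)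
  have hQ : ∀ ε, Q ε ≠ 0 ∧ (Q ε).natDegree ≤ L.length * (2 * d) := fun ε => ⟨fun h => by
    have := congrArg (fun p => p.coeff (L.length * (2 * d))) h
    simp only [Q, coeff_sub, coeff_zero] at this
    rw [coeff_monomial, if_neg (by
      intro h; have := Nat.eq_of_mul_eq_mul_left (Nat.pos_of_ne_zero hn) h; omega), sub_zero] at this
    exact hij this, (natDegree_sub_le _ _).trans (max_le (h1 i j) ((natDegree_monomial_le _).trans
      (Nat.mul_le_mul_left _ (by omega))))⟩
  obtain ⟨t, ht⟩ : ∃ t, (X * (Q 1 * Q (-1))).eval t ≠ 0 := by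
    by_contra h
    push Not at h
    refine mul_ne_zero X_ne_zero (mul_ne_zero (hQ 1).1 (hQ (-1)).1)
      (eq_zero_of_natDegree_lt_card_of_eval_eq_zero _ Function.injective_id h ?_)
    have a := natDegree_mul_le (p := (X : F[X])) (q := Q 1 * Q (-1))
    have b := natDegree_mul_le (p := Q 1) (q := Q (-1))
    have c := (hQ 1).2
    have e := (hQ (-1)).2
    rw [natDegree_X] at a
    nlinarith
  rw [eval_mul, eval_mul, eval_X] at ht
  refine ⟨t, left_ne_zero_of_mul ht, fun ε hε h => ?_⟩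
  have h3 : (Q ε).eval t = 0 := by
    have h4 : ((L.map P).prod).map (eval t) = (L.map fun x => (P x).map (eval t)).prod := by
      have := map_list_prod (evalRingHom t).mapMatrix (L.map P)
      rw [List.map_map] at this
      exact this
    have h5 := congrFun (congrFun (h4.trans h) i) j
    rw [map_apply, Matrix.smul_apply, smul_eq_mul] at h5
    simp only [Q, eval_sub, eval_monomial]
    rw [hM, h5]; ring
  rcases sq_eq_one_iff.1 hε with rfl | rfl
  · exact right_ne_zero_of_mul ht (by rw [h3, zero_mul])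
  · exact right_ne_zero_of_mul ht (by rw [h3, mul_zero])

theorem prod_rank_one (u v : α → ι → F) (h0 : ∀ x, v x ⬝ᵥ u x ≠ 0) (x : α) (L : List α)
    (hL : (x :: L).IsChain fun x y => v x ⬝ᵥ u y ≠ 0) :
    ∃ z, ∃ c : F, c ≠ 0 ∧ ((x :: L).map fun x => vecMulVec (u x) (v x)).prod *ᵥ z = c • u x := by
  induction L generalizing x with
  | nil => exact ⟨u x, _, h0 x, by simp [vecMulVec_mulVec]⟩
  | cons y L ih =>
    obtain ⟨h1, h2⟩ := List.isChain_cons_cons.1 hL
    obtain ⟨z, c, hc, e⟩ := ih y h2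
    refine ⟨z, c * (v x ⬝ᵥ u y), mul_ne_zero hc h1, ?_⟩
    rw [List.map_cons, List.prod_cons, ← mulVec_mulVec, e, mulVec_smul, vecMulVec_mulVec, mul_smul]
    simp

end Poly

/-- the conjugating element attached to a letter -/
def cc {G : Type*} [Group G] (c : ℕ → G) (s : G) (x : ℕ × Bool) : G := cond x.2 (c x.1) (c x.1 * s)

theorem not_law {G : Type*} [Group G] {ι : Type*} [Fintype ι] [DecidableEq ι] {F : Type*} [Field F]
    [Fintype F] (ρ : G →* Matrix ι ι F) (i0 : ι) {d : ℕ} (hd : d ≠ 0) (e : ι → ℕ) (he0 : e i0 = 2 * d)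
    (he : ∀ i ≠ i0, e i < 2 * d) (h : Fˣ → G)
    (hh : ∀ t : Fˣ, (t : F) ^ d • ρ (h t) = diagonal fun i => (t : F) ^ e i) (s : G)
    (hs : ∀ t, s * h t * s⁻¹ = (h t)⁻¹) (L : List (ℕ × Bool)) (hL : L ≠ []) (c : ℕ → G)
    (hc : L.IsChain fun x y => ρ ((cc c s x)⁻¹ * cc c s y) i0 i0 ≠ 0)
    (hF : 4 * d * L.length + 1 < Fintype.card F) :
    ∃ f : ℕ → G, ∀ ε : F, ε ^ 2 = 1 → ρ (FreeGroup.lift f (.mk L)) ≠ ε • 1 := by
  let P : ℕ × Bool → Matrix ι ι F[X] := fun x =>
    (ρ (cc c s x)).map C * diagonal (fun i => X ^ e i) * (ρ (cc c s x)⁻¹).map C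
  have hP : ∀ x i j, P x i j = ∑ k, monomial (e k) (ρ (cc c s x) i k * ρ (cc c s x)⁻¹ k j) := by
    intro x i j
    simp only [P]
    rw [mul_apply]
    refine Finset.sum_congr rfl fun k _ => ?_
    rw [mul_diagonal, map_apply, map_apply, ← C_mul_X_pow_eq_monomial, C_mul]; ring
  have he' : ∀ i, e i ≤ 2 * d := fun i => by
    by_cases h : i = i0
    · rw [h, he0]
    · exact (he i h).le
  have h1 : ∀ x, (P x).map (fun p => p.coeff (2 * d)) =
      vecMulVec (fun i => ρ (cc c s x) i i0) (fun j => ρ (cc c s x)⁻¹ i0 j) := by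
    intro x; ext i j
    rw [map_apply, hP, finset_sum_coeff, Finset.sum_eq_single i0, coeff_monomial, if_pos he0,
      vecMulVec_apply]
    · intro k _ hk; rw [coeff_monomial, if_neg (he k hk).ne]
    · simp
  have h2 : ∀ x y, (fun j => ρ (cc c s x)⁻¹ i0 j) ⬝ᵥ (fun i => ρ (cc c s y) i i0) =
      ρ ((cc c s x)⁻¹ * cc c s y) i0 i0 := fun x y => by rw [map_mul, mul_apply]; rfl
  have h0 : ∀ x, (fun j => ρ (cc c s x)⁻¹ i0 j) ⬝ᵥ (fun i => ρ (cc c s x) i i0) ≠ 0 := fun x => by
    rw [h2, inv_mul_cancel, map_one, one_apply_eq]; exact one_ne_zero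
  obtain ⟨t, ht, H⟩ := exists_eval P hd (fun x i j => by
    rw [hP]
    exact natDegree_sum_le_of_forall_le _ _ fun k _ => (natDegree_monomial_le _).trans (he' k)) L hL (by
      obtain ⟨x, L, rfl⟩ := List.exists_cons_of_ne_nil hL
      obtain ⟨z, a, ha, e⟩ := prod_rank_one (fun x i => ρ (cc c s x) i i0) (fun x j => ρ (cc c s x)⁻¹ i0 j)
        h0 x L (by simpa only [h2] using hc)
      intro h
      simp only [h1] at h
      rw [h, zero_mulVec, eq_comm, smul_eq_zero_iff_right ha] at e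
      exact h0 x (by rw [e, dotProduct_zero])) hF
  refine ⟨fun i => c i * h (Units.mk0 t ht) * (c i)⁻¹, fun ε hε h3 => H ε hε ?_⟩
  have h4 : ∀ x : ℕ × Bool, (P x).map (eval t) = t ^ d • ρ (cond x.2 (c x.1 * h (Units.mk0 t ht) * (c x.1)⁻¹)
      (c x.1 * h (Units.mk0 t ht) * (c x.1)⁻¹)⁻¹) := by
    intro x
    have a : cond x.2 (c x.1 * h (Units.mk0 t ht) * (c x.1)⁻¹) (c x.1 * h (Units.mk0 t ht) * (c x.1)⁻¹)⁻¹ =
        cc c s x * h (Units.mk0 t ht) * (cc c s x)⁻¹ := by
      obtain ⟨i, _ | _⟩ := x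
      · simp only [cc, cond_false, _root_.mul_inv_rev, inv_inv, ← hs]; group
      · rfl
    rw [a, map_mul, map_mul, ← smul_mul_assoc, ← mul_smul_comm]
    have b := hh (Units.mk0 t ht)
    rw [Units.val_mk0] at b
    rw [b]
    ext i j
    rw [map_apply, hP, eval_finset_sum, mul_apply]
    refine Finset.sum_congr rfl fun k _ => ?_
    rw [eval_monomial, mul_diagonal]; ring
  rw [FreeGroup.lift_mk, map_list_prod, List.map_map] at h3
  simp only [h4]
  rw [mul_comm ε, mul_smul, ← h3, mul_comm, pow_mul]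
  clear h3 H hF hc hL
  induction L with
  | nil => simp
  | cons x L ih =>
    simp only [List.map_cons, List.prod_cons, List.length_cons, ih, Function.comp_apply]
    rw [smul_mul_smul_comm, ← pow_succ']

theorem exists_pts {Ω : Type*} [Finite Ω] {k : ℕ} (h : 2 * (k + 1) ≤ Nat.card Ω) :
    ∃ φ : ℕ × Bool → Ω, (∀ i, φ (i, true) ≠ φ (i, false)) ∧
      ∀ x y, x.1 < k → y.1 < k → φ x = φ y → x = y := by
  haveI := Fintype.ofFinite Ω
  obtain ⟨ψ⟩ : Nonempty (Fin (k + 1) × Bool ↪ Ω) :=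
    Function.Embedding.nonempty_of_card_le (by simpa [mul_comm] using h)
  refine ⟨fun x => ψ (⟨min x.1 k, by omega⟩, x.2), fun i h => by simpa using ψ.injective h,
    fun x y hx hy h => ?_⟩
  have := ψ.injective h
  simp only [Prod.mk.injEq, Fin.mk.injEq] at this
  exact Prod.ext (by omega) this.2

theorem exists_bound (L : List (ℕ × Bool)) : ∃ k, ∀ x ∈ L, x.1 < k := by
  induction L with
  | nil => exact ⟨0, by simp⟩
  | cons x L ih =>
    obtain ⟨k, hk⟩ := ih
    refine ⟨max k (x.1 + 1), fun y hy => ?_⟩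
    rcases List.mem_cons.1 hy with rfl | hy
    · omega
    · have := hk y hy; omega

theorem chain_of {L : List (ℕ × Bool)} (hL : FreeGroup.IsReduced L) {k : ℕ} (hk : ∀ x ∈ L, x.1 < k)
    {R : ℕ × Bool → ℕ × Bool → Prop} (hR : ∀ x y, x.1 < k → y.1 < k → y ≠ (x.1, !x.2) → R x y) :
    L.IsChain R := by
  refine List.IsChain.imp_of_mem_imp (fun x y hx hy h => hR x y (hk x hx) (hk y hy) ?_) hL
  rintro rfl
  simpa using h

open GL2 in
/-- A non-trivial word takes a non-central value in `SL₂` over a large field. -/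
theorem not_law_SL2 (w : FreeGroup ℕ) (hw : w ≠ 1) : ∃ N : ℕ, ∀ (F : Type*) [Field F] [Fintype F],
    N ≤ Fintype.card F → ∃ f : ℕ → SL2 F, FreeGroup.lift f w ∉ Subgroup.center (SL2 F) := by
  obtain ⟨k, hk⟩ := exists_bound w.toWord
  refine ⟨2 * (k + 1) + 4 * w.toWord.length + 2, fun F _ _ hF => ?_⟩
  obtain ⟨φ, h1, h2⟩ := exists_pts (Ω := F) (k := k) (by rw [Nat.card_eq_fintype_card]; omega)
  let c : ℕ → SL2 F := fun i => ⟨!![φ (i, true), φ (i, false) / (φ (i, true) - φ (i, false));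
    1, 1 / (φ (i, true) - φ (i, false))], by
      have := sub_ne_zero.2 (h1 i)
      rw [det_fin_two_of]; field_simp⟩
  let s : SL2 F := ⟨!![0, -1; 1, 0], by simp [det_fin_two_of]⟩
  let h : Fˣ → SL2 F := fun t => ⟨!![(t : F), 0; 0, (t : F)⁻¹], by simp [det_fin_two_of]⟩
  obtain ⟨f, hf⟩ := not_law (G := SL2 F) (F := F) ((Units.coeHom _).comp SpecialLinearGroup.toGL) 0 one_ne_zero ![2, 0] rfl
    (fun i hi => by fin_cases i <;> simp_all) h
    (fun t => by
      change _ • (h t).1 = _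
      ext i j; fin_cases i <;> fin_cases j <;> simp [h, sq]) s
    (fun t => by
      rw [mul_inv_eq_iff_eq_mul, eq_inv_mul_iff_mul_eq]
      apply Subtype.ext
      change (h t).1 * (s.1 * (h t).1) = s.1
      ext i j; fin_cases i <;> fin_cases j <;> simp [h, s, mul_apply, Fin.sum_univ_two])
    w.toWord (fun h => hw (FreeGroup.toWord_eq_nil_iff.1 h)) c
    (chain_of FreeGroup.isReduced_toWord hk fun x y hx hy hxy => by
      have a : φ y - φ (x.1, !x.2) ≠ 0 := sub_ne_zero.2 fun h => hxy (h2 _ _ hy hx h)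
      have b := sub_ne_zero.2 (h1 x.1)
      have b' := sub_ne_zero.2 (h1 y.1)
      have k1 : ∀ A B : SL2 F, (A⁻¹ * B).1 0 0 = A.1 1 1 * B.1 0 0 - A.1 0 1 * B.1 1 0 := fun A B => by
        change (adjugate A.1 * B.1 : Matrix _ _ F) 0 0 = _
        rw [adjugate_fin_two, mul_apply]
        simp [Fin.sum_univ_two, sub_eq_add_neg]
      have k2 : ∀ i, (c i * s).1 = !![φ (i, false) / (φ (i, true) - φ (i, false)), -φ (i, true);
          1 / (φ (i, true) - φ (i, false)), -1] := fun i => by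
        change (c i).1 * s.1 = _
        simp [c, s]
      change ((cc c s x)⁻¹ * cc c s y).1 0 0 ≠ 0
      rw [k1]
      intro e
      apply a
      obtain ⟨i, _ | _⟩ := x <;> obtain ⟨j, _ | _⟩ := y <;>
        simp only [cc, cond_true, cond_false, k2] at e <;> simp [c] at e b b' ⊢ <;> field_simp at e <;>
        first | linear_combination e | linear_combination -e) (by omega)
  rw [FreeGroup.mk_toWord] at hf
  refine ⟨f, fun hz => ?_⟩
  rcases isScal_SL_iff.1 (isScal_iff_center_SL.2 hz) with e | e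
  · exact hf 1 (by simp) (by rw [e, map_one, one_smul])
  · exact hf (-1) (by simp) (by rw [e]; change -(1 : Matrix _ _ F) = _; simp)

end Cfsg.Agent.Perm.Law
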