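import Mathlib
import Cfsg.Prelude.Def_Classical
import Cfsg.Agent.Lib.Perm.Law1

/-! Non-trivial words are not laws in large alternating and classical groups. -/

set_option autoImplicit false

namespace Cfsg.Agent.Perm.Law
open Matrix GL2

/-- a perfect group in which `w` takes a non-central value -/
def Good (w : FreeGroup ℕ) (S : Type*) [Group S] : Prop :=
  commutator S = ⊤ ∧ ∃ f : ℕ → S, FreeGroup.lift f w ∉ Subgroup.center S

section
variable {w : FreeGroup ℕ} {S H : Type*} [Group S] [Group H]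

theorem lift_comp (φ : S →* H) (f : ℕ → S) : FreeGroup.lift (φ ∘ f) w = φ (FreeGroup.lift f w) :=
  DFunLike.congr_fun (FreeGroup.ext_hom (FreeGroup.lift (φ ∘ f)) (φ.comp (FreeGroup.lift f))
    fun a => by simp) w

theorem Good.not_mem (h : Good w S) (φ : S →* H) (hφ : Function.Injective φ) :
    ∃ f : ℕ → H, FreeGroup.lift f w ∉ Subgroup.center H := by
  obtain ⟨f, hf⟩ := h.2
  refine ⟨φ ∘ f, fun hz => hf (Subgroup.mem_center_iff.2 fun g => hφ ?_)⟩
  rw [lift_comp] at hz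
  rw [map_mul, map_mul, Subgroup.mem_center_iff.1 hz]

theorem Good.false (h : Good w S) (φ : S →* H) (hφ : Function.Injective φ) {G : Type*} [Group G]
    (e : G ≃* H ⧸ Subgroup.center H) (hG : ∀ f : ℕ → G, FreeGroup.lift f w = 1) : False := by
  obtain ⟨f, hf⟩ := h.not_mem φ hφ
  have := hG ((e.symm.toMonoidHom.comp (QuotientGroup.mk' _)) ∘ f)
  rw [lift_comp] at this
  exact hf ((QuotientGroup.eq_one_iff _).1 (e.symm.injective (this.trans (map_one _).symm)))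

theorem Good.hom_eq_one (h : Good w S) {A : Type*} [CommMonoid A] (χ : S →* A) (s : S) : χ s = 1 := by
  have : s ∈ χ.toHomUnits.ker := Abelianization.commutator_subset_ker _ (h.1 ▸ Subgroup.mem_top s)
  exact congrArg Units.val this

theorem Good.mem_comm (h : Good w S) (φ : S →* H) (s : S) : φ s ∈ commutator H :=
  (QuotientGroup.eq_one_iff _).1 (h.hom_eq_one (Abelianization.of.comp φ) s)

theorem Good.equiv (h : Good w S) (e : S ≃* H) : Good w H :=
  ⟨eq_top_iff.2 fun x _ => by simpa using h.mem_comm e.toMonoidHom (e.symm x),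
    h.not_mem e.toMonoidHom e.injective⟩

end

theorem good_SL2 (w : FreeGroup ℕ) (hw : w ≠ 1) : ∃ N : ℕ, ∀ (F : Type) [Field F] [Fintype F],
    N ≤ Fintype.card F → Good w (SL2 F) := by
  obtain ⟨N, hN⟩ := not_law_SL2.{0} w hw
  refine ⟨max N 4, fun F _ _ hF => ⟨?_, hN F (le_of_max_le_left hF)⟩⟩
  obtain ⟨x, hx⟩ : IsCyclic Fˣ := by infer_instance
  refine SL2.commutator_eq_top (Units.ne_zero x) fun h => ?_
  have a := orderOf_le_of_pow_eq_one zero_lt_two (Units.ext <| by simpa using h : x ^ 2 = 1)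
  rw [orderOf_eq_card_of_forall_mem_zpowers hx, Nat.card_units, Nat.card_eq_fintype_card] at a
  omega

theorem good_perm (w : FreeGroup ℕ) (hw : w ≠ 1) : ∃ (N : ℕ) (S : Type) (_ : Group S), Good w S ∧
    ∀ n, N ≤ n → ∃ φ : S →* Equiv.Perm (Fin n), Function.Injective φ := by
  obtain ⟨N, hN⟩ := good_SL2 w hw
  obtain ⟨p, hp, hp'⟩ := Nat.exists_infinite_primes N
  haveI := Fact.mk hp'
  classical
  refine ⟨Fintype.card (SL2 (ZMod p)), SL2 (ZMod p), inferInstance, hN _ (by simpa), fun n hn => ?_⟩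
  obtain ⟨ι⟩ : Nonempty (SL2 (ZMod p) ↪ Fin n) :=
    Function.Embedding.nonempty_of_card_le (by simpa using hn)
  exact ⟨(Equiv.Perm.viaEmbeddingHom ι).comp (MulAction.toPermHom _ _),
    (Equiv.Perm.viaEmbeddingHom_injective ι).comp MulAction.toPerm_injective⟩

theorem good_alt (w : FreeGroup ℕ) (hw : w ≠ 1) : ∃ N : ℕ, ∀ n, N ≤ n →
    ∃ f : ℕ → alternatingGroup (Fin n), FreeGroup.lift f w ≠ 1 := by
  obtain ⟨N, S, _, hS, h⟩ := good_perm w hw
  refine ⟨N, fun n hn => ?_⟩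
  obtain ⟨φ, hφ⟩ := h n hn
  obtain ⟨f, hf⟩ := hS.not_mem (φ.codRestrict (alternatingGroup (Fin n)) fun s =>
    Equiv.Perm.mem_alternatingGroup.2 (hS.hom_eq_one (Equiv.Perm.sign.comp φ) s))
    fun a b h => hφ (congrArg Subtype.val h)
  exact ⟨f, fun h => hf (h ▸ one_mem _)⟩

section Mat
variable {F : Type*} [Field F] {ι κ μ : Type*} [Fintype ι] [DecidableEq ι] [Fintype κ] [DecidableEq κ]
  [Fintype μ] [DecidableEq μ]

/-- a faithful representation of a good group by matrices with a property -/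
def Rep (w : FreeGroup ℕ) (P : Matrix ι ι F → Prop) : Prop :=
  ∃ (S : Type) (_ : Group S), Good w S ∧ ∃ ρ : S →* Matrix ι ι F, Function.Injective ρ ∧ ∀ s, P (ρ s)

/-- block embedding -/
def blk (e : ι ⊕ κ ≃ μ) : Matrix ι ι F →* Matrix μ μ F where
  toFun g := reindex e e (fromBlocks g 0 0 1)
  map_one' := by simp
  map_mul' a b := by simp [fromBlocks_multiply]

theorem blk_inj (e : ι ⊕ κ ≃ μ) : Function.Injective (blk (F := F) e) := fun _ _ h =>
  (fromBlocks_inj.1 ((reindex e e).injective h)).1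

theorem blk_mulVec (e : ι ⊕ κ ≃ μ) (g : Matrix ι ι F) (v : μ → F) :
    (blk e g *ᵥ v) ∘ e = Sum.elim (g *ᵥ (v ∘ e ∘ Sum.inl)) (v ∘ e ∘ Sum.inr) := by
  change ((fromBlocks g 0 0 1).submatrix e.symm e.symm *ᵥ v) ∘ e = _
  rw [submatrix_mulVec_equiv, fromBlocks_mulVec]
  ext i
  simp [Function.comp_assoc]

theorem Rep.blk {w : FreeGroup ℕ} {P : Matrix ι ι F → Prop} (h : Rep w P) (e : ι ⊕ κ ≃ μ)
    {Q : Matrix μ μ F → Prop} (hQ : ∀ g, P g → Q (blk e g)) : Rep w Q := by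
  obtain ⟨S, _, hS, ρ, h1, h2⟩ := h
  exact ⟨S, _, hS, (Law.blk e).comp ρ, (blk_inj e).comp h1, fun s => hQ _ (h2 s)⟩

theorem Rep.hyp {w : FreeGroup ℕ} {P : Matrix ι ι F → Prop} (h : Rep w P) :
    Rep w fun M : Matrix (ι ⊕ ι) (ι ⊕ ι) F => ∃ A B, M = fromBlocks A 0 0 Bᵀ ∧ B * A = 1 := by
  obtain ⟨S, _, hS, ρ, h1, -⟩ := h
  refine ⟨S, _, hS, ⟨⟨fun s => fromBlocks (ρ s) 0 0 (ρ s⁻¹)ᵀ, by simp⟩, fun a b => by
    simp [fromBlocks_multiply]⟩, fun a b h => h1 (fromBlocks_inj.1 h).1, fun s =>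
    ⟨_, _, rfl, by rw [← map_mul, inv_mul_cancel, map_one]⟩⟩

theorem hyp_form {A B : Matrix ι ι F} (h : B * A = 1) (v : ι ⊕ ι → F) :
    ∑ i, (fromBlocks A 0 0 Bᵀ *ᵥ v) (.inl i) * (fromBlocks A 0 0 Bᵀ *ᵥ v) (.inr i) =
      ∑ i, v (.inl i) * v (.inr i) := by
  rw [fromBlocks_mulVec]
  simp only [zero_mulVec, add_zero, zero_add, Sum.elim_inl, Sum.elim_inr]
  change (A *ᵥ _) ⬝ᵥ (Bᵀ *ᵥ _) = (v ∘ Sum.inl) ⬝ᵥ (v ∘ Sum.inr)
  rw [dotProduct_mulVec, vecMul_transpose, mulVec_mulVec, h, one_mulVec]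

theorem rep_perm {w : FreeGroup ℕ} {S : Type} [Group S] (hS : Good w S) (φ : S →* Equiv.Perm ι)
    (hφ : Function.Injective φ) :
    Rep w fun M : Matrix ι ι F => ∃ σ : Equiv.Perm ι, ∀ v, M *ᵥ v = v ∘ σ := by
  refine ⟨S, _, hS, permMatrixHom.comp φ, fun a b h => hφ ?_, fun s => ⟨_, fun v => permMatrix_mulVec _⟩⟩
  apply inv_injective
  ext i
  have := DFunLike.congr_fun (PEquiv.toMatrix_injective (α := F) h) i
  simpa [Equiv.toPEquiv_apply] using this

theorem card_le {H G : Type*} [Group H] [Group G] [Fintype F] (f : H → Matrix ι ι F)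
    (hf : Function.Injective f) {N : Subgroup H} [N.Normal] (e : G ≃* H ⧸ N) {q d : ℕ}
    (hq : Fintype.card F ≤ q) (hd : Fintype.card ι ≤ d) : Nat.card G ≤ q ^ (d * d) := by
  haveI : Finite H := Finite.of_injective f hf
  have h1 : Nat.card (Matrix ι ι F) = Fintype.card F ^ (Fintype.card ι * Fintype.card ι) := by
    change Nat.card (ι → ι → F) = _
    simp [pow_mul]
  rw [Nat.card_congr e.toEquiv]
  refine (Nat.le_of_dvd Nat.card_pos (Subgroup.card_quotient_dvd_card N)).trans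
    ((Nat.card_le_card_of_injective f hf).trans (h1.le.trans ((Nat.pow_le_pow_left hq _).trans
      (Nat.pow_le_pow_right (Fintype.card_pos.trans_le hq) (Nat.mul_le_mul hd hd)))))

variable {w : FreeGroup ℕ} {G : Type*} [Group G]

theorem Rep.false_sub {K : Subgroup (SpecialLinearGroup ι F)} {P : Matrix ι ι F → Prop} (h : Rep w P)
    (hP : ∀ g : SpecialLinearGroup ι F, P g → g ∈ K) (e : G ≃* K ⧸ Subgroup.center K)
    (hG : ∀ f : ℕ → G, FreeGroup.lift f w = 1) : False := by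
  obtain ⟨S, _, hS, ρ, h1, h2⟩ := h
  let φ : S →* SpecialLinearGroup ι F := MonoidHom.mk'
    (fun s => ⟨ρ s, hS.hom_eq_one (detMonoidHom.comp ρ) s⟩) fun a b => Subtype.ext (map_mul ρ a b)
  exact hS.false (φ.codRestrict K fun s => hP _ (h2 s))
    (fun a b h => h1 (congrArg (fun x : K => x.1.1) h)) e hG

theorem Rep.false_SL {P : Matrix ι ι F → Prop} (h : Rep w P)
    (e : G ≃* ProjectiveSpecialLinearGroup ι F) (hG : ∀ f : ℕ → G, FreeGroup.lift f w = 1) : False := by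
  obtain ⟨S, _, hS, ρ, h1, -⟩ := h
  let φ : S →* SpecialLinearGroup ι F := MonoidHom.mk'
    (fun s => ⟨ρ s, hS.hom_eq_one (detMonoidHom.comp ρ) s⟩) fun a b => Subtype.ext (map_mul ρ a b)
  exact hS.false φ (fun a b h => h1 (congrArg Subtype.val h)) e hG

theorem Rep.false_Sp {m : ℕ} {P : Matrix (Fin m) (Fin m) F → Prop} (h : Rep w P)
    (e : G ≃* PSp m F) (hG : ∀ f : ℕ → G, FreeGroup.lift f w = 1) : False := by
  obtain ⟨S, _, hS, ρ, h1, h2⟩ := h.hyp
  let φ : S →* symplecticGroup (Fin m) F := ρ.codRestrict _ fun s => by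
    obtain ⟨A, B, e, hAB⟩ := h2 s
    rw [e]
    exact SymplecticGroup.fromBlocks_mem_iff.2 (by rw [← transpose_mul B A, hAB]; simp)
  exact hS.false φ (fun a b h => h1 (congrArg Subtype.val h)) e hG

theorem Rep.false_O {ι : Type} [Fintype ι] [DecidableEq ι] {Q : (ι → F) → F}
    (h : Rep w fun M : Matrix ι ι F => ∀ v, Q (M *ᵥ v) = Q v)
    (e : G ≃* POmega F Q) (hG : ∀ f : ℕ → G, FreeGroup.lift f w = 1) : False := by
  obtain ⟨S, _, hS, ρ, h1, h2⟩ := h
  let φ : S →* isometryGroup F Q := ρ.toHomUnits.codRestrict _ fun s u _ => h2 s u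
  exact hS.false (φ.codRestrict _ (hS.mem_comm φ))
    (fun a b h => h1 (congrArg (fun x : Omega F Q => x.1.1.1) h)) e hG

end Mat

theorem fin_equiv {m : ℕ} (h : 2 ≤ m) : Nonempty (Fin 2 ⊕ Fin (m - 2) ≃ Fin m) :=
  ⟨Fintype.equivOfCardEq (by simp; omega)⟩

theorem exists_rep (w : FreeGroup ℕ) (hw : w ≠ 1) : ∃ N : ℕ,
    (∀ (F : Type) [Field F] [Fintype F] (m : ℕ), 2 ≤ m → (N ≤ m ∨ N ≤ Fintype.card F) →
      Rep w fun _ : Matrix (Fin m) (Fin m) F => True) ∧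
    (∀ (F : Type) [Field F] [Fintype F], N ≤ Fintype.card F → Good w (SL2 F)) ∧
    (∀ (F : Type) [Field F] (m : ℕ), N ≤ m →
      Rep w fun M : Matrix (Fin m) (Fin m) F => ∃ σ : Equiv.Perm (Fin m), ∀ v, M *ᵥ v = v ∘ σ) := by
  obtain ⟨N1, h1⟩ := good_SL2 w hw
  obtain ⟨N2, S, _, hS, h2⟩ := good_perm w hw
  have h3 : ∀ (F : Type) [Field F] (m : ℕ), max N1 N2 ≤ m →
      Rep w fun M : Matrix (Fin m) (Fin m) F => ∃ σ : Equiv.Perm (Fin m), ∀ v, M *ᵥ v = v ∘ σ := by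
    intro F _ m hm
    obtain ⟨φ, hφ⟩ := h2 m (le_of_max_le_right hm)
    exact rep_perm hS φ hφ
  refine ⟨max N1 N2, fun F _ _ m hm h => ?_, fun F _ _ h => h1 F (le_of_max_le_left h), h3⟩
  rcases h with h | h
  · obtain ⟨S, _, hS, ρ, hρ, -⟩ := h3 F m h
    exact ⟨S, _, hS, ρ, hρ, fun _ => trivial⟩
  · obtain ⟨e⟩ := fin_equiv hm
    exact Rep.blk (P := fun _ => True) ⟨SL2 F, _, h1 F (le_of_max_le_left h), slToMat 2 F,
      fun a b h => Subtype.ext h, fun _ => trivial⟩ e fun _ _ => trivial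

end Cfsg.Agent.Perm.Law
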