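import Cfsg.Agent.Lib.Cert.Lee
import Cfsg.Agent.Lib.Cert.Lin3

/-! Embedding presented simple groups into vector stabilizers of the Leech lattice. -/

set_option autoImplicit false
set_option maxRecDepth 100000

namespace Cfsg.Agent.Perm.LeeE

open Cfsg.Agent.PC Cfsg.Agent.Fi Cfsg.Agent.Ct Cfsg.Agent.Ct.Lee Cfsg.Agent.Leech MulAction

variable {P : Type} [Group P] [Finite P] {g : ℕ → P} {inv : ℕ → ℕ} {rels : List (List ℕ)} {m : ℕ}

theorem emb (Q : Pr g inv rels m) {U R : ℕ → ℕ} (ok : ∀ j < m, okE U R j = 0) {S : Subgroup Co0} [Finite S]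
    (hS : gen (lt U) m ≤ S) (hn : neg1 ∉ S)
    (h : ∀ w ∈ rels ++ (List.range m).map fun j => [j, inv j], eqE (mv R) B1 m w [] = 0)
    (h0 : 0 < m ∧ agF B1 (mv R 0) (fun x => x) ≠ 0) : ∃ φ : P →* S, Function.Injective φ := by
  have M : Md ptc 16777216 B1 (PC.sub S (lt U)) (mv R) m := ⟨inj, by decide, fun a ha => by
    rcases mem_center_iff.1 (ctr_of (g := a.1) fun k hk => ha _ (List.mem_map.2 ⟨k, List.mem_range.2 hk, rfl⟩)) with e | e
    · exact Subtype.ext e
    · exact absurd (e ▸ a.2) hn, (reps ok).sub hS⟩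
  obtain ⟨φ, hφ⟩ := hom_ub Q.top Q.ub Q.hi Q.hr Q.hl (h := PC.sub S (lt U))
    (fun j hj => M.eq (h _ (List.mem_append_right _ (List.mem_map.2 ⟨j, List.mem_range.2 hj, rfl⟩))))
    fun w hw => M.eq (h _ (List.mem_append_left _ hw))
  haveI := Q.si
  refine ⟨φ, inj_simple (x := g 0) fun e => h0.2 ?_⟩
  rw [hφ 0 h0.1] at e
  exact (M.eqF (M.reps 0 h0.1) Rep.one).2 e

omit [Finite P] in
theorem tr {G : Type*} [Group G] {S S' : Subgroup G} (k : G) (h : ∀ a ∈ S, k * a * k⁻¹ ∈ S')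
    (e : ∃ φ : P →* S, Function.Injective φ) : ∃ φ : P →* S', Function.Injective φ := by
  obtain ⟨φ, hφ⟩ := e
  refine ⟨((((MulAut.conj k).toMonoidHom.comp S.subtype).codRestrict S' fun a => h a a.2)).comp φ, fun a b e => hφ ?_⟩
  exact Subtype.ext ((MulAut.conj k).injective (congrArg Subtype.val e))

theorem cj {G X : Type*} [Group G] [MulAction G X] {k a : G} {x y : X} (e : k • x = y) (h : a ∈ stabilizer G x) :
    k * a * k⁻¹ ∈ stabilizer G y := by
  rw [mem_stabilizer_iff] at h ⊢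
  rw [← e, mul_smul, mul_smul, inv_smul_smul, h]

theorem nn {v : L} (hv : sqNorm v.1 ≠ 0) : neg1 ∉ stabilizer Co0 v := fun h => hv (by
  rw [mem_stabilizer_iff, neg1_smul] at h
  have : v.1 = 0 := funext fun i => by
    have : -(v.1 i) = v.1 i := congrFun (congrArg Subtype.val h) i
    show v.1 i = 0
    omega
  rw [this]; simp [sqNorm])

/-- a lattice vector from its code -/
def lv (c : ℕ) (h : ∀ j : Fin 24, dt c (fC j) % 8 = 0) : L := ⟨Lee.vec c, mem_of fun j => by
  have := dt_eq c (fC j)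
  have := h j
  omega⟩

end Cfsg.Agent.Perm.LeeE
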