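import Cfsg.Agent.S1609
import Cfsg.Agent.S5613
import Cfsg.Agent.Lib.Spor.Key

/-! Invariant sets of large subgroups of the group of the length-24 code. -/

set_option autoImplicit false

namespace Cfsg.Agent.Perm.M24S

open Cfsg.Agent.Spor Cfsg.Agent.PC Cfsg.Agent.Steiner Cfsg.Agent.S1609 MulAction Finset
open scoped Pointwise symmDiff

variable {K H : Subgroup M24}

theorem ivU {D E : Finset GolayPt} (h : Iv K D) (h' : Iv K E) : Iv K (D ∪ E) := fun g hg y hy =>
  (mem_union.1 hy).elim (fun e => mem_union_left _ (h g hg y e)) fun e => mem_union_right _ (h' g hg y e)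

theorem ivL {L : Subgroup M24} {D : Finset GolayPt} (h : Iv K D) (l : L ≤ K) : Iv L D := fun g hg => h g (l hg)

theorem ivT : Iv K univ := fun _ _ _ _ => mem_univ _

theorem c24 : (univ : Finset GolayPt).card = 24 := rfl

theorem fxM {S T : Finset GolayPt} (h : S ⊆ T) : fx T ≤ fx S := fun _ hg => mem_fx.2 fun p hp => mem_fx.1 hg p (h hp)

theorem fx1 (x : GolayPt) : fx {x} = stabilizer M24 x := Subgroup.ext fun g => by simp [mem_fx]

theorem dvF {S : Finset GolayPt} (h : K ≤ fx S) (t : ℕ) (h1 : t ≤ S.card) (h5 : t ≤ 5) :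
    Nat.card K ∣ 244823040 / Nat.descFactorial 24 t := by
  obtain ⟨T, s, rfl⟩ := exists_subset_card_eq h1
  rw [← cfx T h5, Nat.mul_div_cancel_left _ (Nat.descFactorial_pos.2 (by omega))]
  exact Subgroup.card_dvd_of_le (h.trans (fxM s))

theorem dvo {d : ℕ} (D : Finset GolayPt) : Iv K D →
    (∀ a ∈ D, ∀ o ≤ D.card, Nat.card K = o * Nat.card ↥(K ⊓ stabilizer M24 a) → d ∣ o) → d ∣ D.card := by
  induction D using Finset.strongInduction with
  | H D ih =>
    intro h1 h2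
    rcases D.eq_empty_or_nonempty with rfl | ⟨a, ha⟩
    · simp
    obtain ⟨E, e1, e2, e3, e4⟩ := orb h1 ha
    have := ih _ (sdiff_ssubset e1 ⟨a, e2⟩) (h1.sd e3) fun b hb o ho =>
      h2 b (sdiff_subset hb) o (ho.trans (card_le_card sdiff_subset))
    rw [← card_sdiff_add_card_eq_card e1]
    exact this.add (h2 a ha _ (card_le_card e1) e4)

theorem rm (p f : ℕ) (hp : p.Prime) (h1 : p ∣ Nat.card K) (h2 : f + 1 ≤ 5 ∧ ¬ p ∣ 244823040 / Nat.descFactorial 24 (f + 1))
    {S D : Finset GolayPt} (hS : K ≤ fx S) (h : Iv K D) (d : Disjoint S D) : D.card % p + S.card ≤ f := by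
  haveI := fin24
  haveI := Fact.mk hp
  obtain ⟨g, hg⟩ := exists_prime_orderOf_dvd_card' p h1
  have l : Subgroup.zpowers g.1 ≤ K := Subgroup.zpowers_le.2 g.2
  have c : Nat.card (Subgroup.zpowers g.1) = p := by rw [Nat.card_zpowers, Subgroup.orderOf_coe, hg]
  have a : Subgroup.zpowers g.1 ≤ fx (D.filter fun y => g.1 • y = y) :=
    Subgroup.zpowers_le.2 (mem_fx.2 fun y hy => (mem_filter.1 hy).2)
  obtain ⟨j, hj⟩ : p ∣ _ := dvo _ ((ivL h l).sd (iv_fx a)) fun y hy o _ e => by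
    rw [c] at e
    rcases (Nat.dvd_prime hp).1 (Dvd.intro _ e.symm) with rfl | rfl
    · have := Subgroup.eq_of_le_of_card_ge (inf_le_left (a := Subgroup.zpowers g.1) (b := stabilizer M24 y)) (by omega)
      exact absurd (mem_filter.2 ⟨(mem_sdiff.1 hy).1, (this.ge (Subgroup.mem_zpowers _)).2⟩ : y ∈ D.filter fun y => g.1 • y = y)
        (mem_sdiff.1 hy).2
    · rfl
  have b := card_sdiff_add_card_eq_card (filter_subset (fun y => g.1 • y = y) D)
  have u := card_union_of_disjoint (d.mono_right (filter_subset (fun y => g.1 • y = y) D))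
  by_contra n
  refine h2.2 (c ▸ dvF ((le_inf le_rfl a).trans (le_fx (l.trans hS))) _ ?_ h2.1)
  have := Nat.mod_le (D.filter fun y => g.1 • y = y).card p
  rw [← b, hj, Nat.mul_add_mod] at n
  omega

theorem tau {B : Finset GolayPt} (i : Iv K B) (o : B.card % 2 = 1) :
    ∃ u : Finset GolayPt, u.card ≤ 3 ∧ u.card % 2 = 1 ∧ B ∆ u ∈ gC ∧ Iv K u := by
  obtain ⟨n, hn, rfl⟩ := exists_bset B
  obtain ⟨u, h1, h2, h3⟩ := mw_spec hn
  have := card_symmDiff (bset n) u
  have := card_of_mem_gC h3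
  refine ⟨u, by omega, by omega, h3, fun g hg y hy => ?_⟩
  have a := msmul_mem_gC g h3
  rw [msmul_symmDiff, show g • bset n = bset n from st_iv i hg] at a
  have b := symmDiff_mem_gC a h3
  rw [symmDiff_comm (bset n), symmDiff_assoc, symmDiff_symmDiff_cancel_left] at b
  have c := mem_sext.2 ⟨(card_smul_finset g u).le.trans (by omega), b⟩
  rw [sext_small (by omega), mem_singleton] at c
  exact c ▸ smul_mem_smul_finset hy

theorem half {A : Finset GolayPt} (i : Iv K A) (h : ¬ A.card ∣ Nat.card K) (h0 : 0 < A.card) :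
    ∃ D ⊆ A, Iv K D ∧ 0 < D.card ∧ 2 * D.card ≤ A.card := by
  obtain ⟨a, ha⟩ := card_pos.1 h0
  obtain ⟨E, e1, e2, e3, e4⟩ := orb i ha
  have l1 := card_pos.2 ⟨a, e2⟩
  have l2 := card_le_card e1
  have l3 := card_sdiff_of_subset e1
  have : E.card ≠ A.card := fun e => h (e ▸ Dvd.intro _ e4.symm)
  by_cases l : 2 * E.card ≤ A.card
  · exact ⟨E, e1, e3, l1, l⟩
  · exact ⟨_, sdiff_subset, i.sd e3, by omega, by omega⟩

theorem half1 {x : GolayPt} (hx : K ≤ fx {x}) (h : ¬ 23 ∣ Nat.card K) : ∃ D, x ∉ D ∧ Iv K D ∧ 0 < D.card ∧ D.card ≤ 11 := by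
  have ci : (univ \ {x} : Finset GolayPt).card = 23 := by rw [card_sdiff_of_subset (subset_univ _), card_singleton, c24]
  obtain ⟨D, d1, d2, d3, d4⟩ := half (ivT.sd (iv_fx hx)) (by rwa [ci]) (by omega)
  exact ⟨D, fun h => by simpa using d1 h, d2, d3, by omega⟩

theorem split {x : GolayPt} (hx : K ≤ fx {x}) (h : ¬ 23 ∣ Nat.card K) (h' : ¬ 11 ∣ Nat.card K) :
    (∃ D, x ∉ D ∧ Iv K D ∧ 0 < D.card ∧ D.card ≤ 3) ∨ ∃ o ∈ octads, Iv K o := by
  obtain ⟨D, d1, d2, d3, d4⟩ := half1 hx h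
  obtain ⟨a, ha⟩ := card_pos.1 d3
  obtain ⟨E, e1, e2, e3, e4⟩ := orb d2 ha
  have l1 := card_pos.2 ⟨a, e2⟩
  have l2 := card_le_card e1
  have : E.card ≠ 11 := fun e => h' (e ▸ Dvd.intro _ e4.symm)
  have d : Disjoint E {x} := disjoint_singleton_right.2 fun h => d1 (e1 h)
  have c := card_union_of_disjoint d
  have e : E ∆ {x} = E ∪ {x} := d.symmDiff_eq_sup
  rw [card_singleton] at c
  have k : ∀ B : Finset GolayPt, Iv K B → B.card % 2 = 1 → Iv K (B ∆ {x}) → 0 < (B ∆ {x}).card → (B ∆ {x}).card ≤ 11 →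
      (∃ D, x ∉ D ∧ Iv K D ∧ 0 < D.card ∧ D.card ≤ 3) ∨ ∃ o ∈ octads, Iv K o := fun B b1 b2 b3 b4 b5 => by
    obtain ⟨u, u1, u2, u3, u4⟩ := tau b1 b2
    by_cases s : u ⊆ {x}
    · rw [eq_of_subset_of_card_le s (by rw [card_singleton]; omega)] at u3
      have := card_of_mem_gC u3
      exact .inr ⟨_, ⟨u3, by omega⟩, b3⟩
    · exact .inl ⟨u \ {x}, by simp, u4.sd (iv_fx hx), card_pos.2 (sdiff_nonempty.2 s), (card_le_card sdiff_subset).trans u1⟩
  by_cases o : E.card % 2 = 1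
  · exact k E e3 o (e ▸ ivU e3 (iv_fx hx)) (by rw [e]; omega) (by rw [e]; omega)
  · have e' : (E ∪ {x}) ∆ {x} = E := by rw [← e, symmDiff_symmDiff_cancel_right]
    exact k _ (ivU e3 (iv_fx hx)) (by omega) (e'.symm ▸ e3) (by rw [e']; omega) (by rw [e']; omega)

theorem tr_or (H : Subgroup M24) : (∃ D, Iv H D ∧ 0 < D.card ∧ D.card ≤ 12) ∨
    ((∀ x y : GolayPt, ∃ g ∈ H, g • x = y) ∧ ∀ u : GolayPt, Nat.card H = 24 * Nat.card ↥(H ⊓ stabilizer M24 u)) := by
  classical
  by_cases t : ∀ x y : GolayPt, ∃ g ∈ H, g • x = y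
  · refine .inr ⟨t, fun u => ?_⟩
    rw [card_eq_orbit_mul H u, show orbit H u = Set.univ from Set.eq_univ_of_forall fun y =>
      let ⟨g, h, e⟩ := t u y; ⟨⟨g, h⟩, e⟩, Set.ncard_univ, Nat.card_eq_fintype_card]
    rfl
  · simp only [not_forall] at t
    obtain ⟨x, y, n⟩ := t
    have i : Iv H (univ.filter fun z => ∃ g ∈ H, g • x = z) := fun h hh z hz => by
      obtain ⟨g, g1, rfl⟩ := (mem_filter.1 hz).2
      exact mem_filter.2 ⟨mem_univ _, h * g, mul_mem hh g1, mul_smul _ _ _⟩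
    have l1 : 0 < (univ.filter fun z => ∃ g ∈ H, g • x = z).card :=
      card_pos.2 ⟨x, mem_filter.2 ⟨mem_univ _, 1, one_mem _, one_smul _ _⟩⟩
    have l2 : 0 < (univ \ univ.filter fun z => ∃ g ∈ H, g • x = z).card :=
      card_pos.2 ⟨y, mem_sdiff.2 ⟨mem_univ y, fun h => n (mem_filter.1 h).2⟩⟩
    have l3 := card_sdiff_add_card_eq_card (subset_univ (univ.filter fun z => ∃ g ∈ H, g • x = z))
    rw [c24] at l3
    by_cases l : (univ.filter fun z => ∃ g ∈ H, g • x = z).card ≤ 12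
    · exact .inl ⟨_, i, l1, l⟩
    · exact .inl ⟨_, ivT.sd i, l2, by omega⟩

theorem trn {x : GolayPt} {B : Finset GolayPt} (i : Iv (H ⊓ stabilizer M24 x) B) {g : M24} (hg : g ∈ H) :
    Iv (H ⊓ stabilizer M24 (g • x)) (g • B) := fun h hh y hy => by
  obtain ⟨b, hb, rfl⟩ := mem_smul_finset.1 hy
  have := i (g⁻¹ * h * g) ⟨H.mul_mem (H.mul_mem (H.inv_mem hg) hh.1) hg, by
    show (g⁻¹ * h * g) • x = x
    rw [mul_smul, mul_smul, show h • g • x = g • x from hh.2, inv_smul_smul]⟩ b hb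
  rwa [mul_smul, mul_smul, inv_smul_mem_iff] at this

theorem sx (x : GolayPt) : H ⊓ stabilizer M24 x ≤ fx {x} := fx1 x ▸ inf_le_right

section
variable (t : ∀ x y : GolayPt, ∃ g ∈ H, g • x = y) {c : ℕ} (hc : ∀ u : GolayPt, Nat.card ↥(H ⊓ stabilizer M24 u) = c)
include t hc

/-- a small invariant set gives a system of blocks -/
theorem blk {x : GolayPt} {B : Finset GolayPt} (hx : x ∈ B) (i : Iv (H ⊓ stabilizer M24 x) B) (b : 2 ≤ B.card ∧ B.card ≤ 4)
    (hb : (B.card - 1).factorial * ((B.card - 1) * (244823040 / Nat.descFactorial 24 (B.card + 1))) < c) :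
    (∀ g ∈ H, g • x ∈ B → g • B = B) ∧ ∀ z ∉ B, ∃ g ∈ H, g • x = z ∧ Disjoint B (g • B) := by
  haveI := fin24
  have A : ∀ (u v : GolayPt) (T T' : Finset GolayPt), T.card = B.card → T'.card = B.card → u ∈ T → v ∈ T → v ∈ T' →
      Iv (H ⊓ stabilizer M24 u) T → Iv (H ⊓ stabilizer M24 v) T' → T' = T := fun u v T T' c1 c2 hu hv hv' i1 i2 => by
    refine eq_of_subset_of_card_le ?_ (by omega)
    by_contra n
    have k1 := chain (i1.sd (iv_fx (sx u))) _ Subset.rfl
    have c3 : (T \ {u}).card = B.card - 1 := by rw [card_sdiff_of_subset (singleton_subset_iff.2 hu), c1, card_singleton]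
    have f : (H ⊓ stabilizer M24 u) ⊓ fx (T \ {u}) ≤ fx T := (le_fx (sx u)).trans (fxM fun y hy => by
      by_cases e : y = u <;> simp [e, hy])
    have l : (H ⊓ stabilizer M24 u) ⊓ fx (T \ {u}) ≤ H ⊓ stabilizer M24 v := fun g hg => ⟨hg.1.1, mem_fx.1 (f hg) v hv⟩
    have c4 : (T' \ T).card ≤ B.card - 1 := by
      have := card_sdiff_add_card_inter T' T
      have := card_pos.2 ⟨v, mem_inter.2 ⟨hv', hv⟩⟩
      omega
    have k2 := bd f ((ivL i2 l).sd (iv_fx f)) disjoint_sdiff 1 (card_pos.2 (sdiff_nonempty.2 n)) (by omega)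
    rw [hc, c3, Nat.descFactorial_self] at k1
    rw [Nat.descFactorial_one, c1] at k2
    exact absurd (k1.trans (Nat.mul_le_mul_left _ (k2.trans (Nat.mul_le_mul_right _ c4)))) (not_le.2 hb)
  refine ⟨fun k hk h1 => A _ _ _ _ rfl (card_smul_finset k B) hx h1 (smul_mem_smul_finset hx) i (trn i hk), fun z hz => ?_⟩
  obtain ⟨g, hg, rfl⟩ := t x z
  refine ⟨g, hg, rfl, disjoint_left.2 fun v h1 h2 => hz ?_⟩
  obtain ⟨k, hk, rfl⟩ := t x v
  have e1 := A _ _ _ _ rfl (card_smul_finset k B) hx h1 (smul_mem_smul_finset hx) i (trn i hk)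
  have e2 := A _ _ _ _ (card_smul_finset g B) (card_smul_finset k B) (smul_mem_smul_finset hx) h2 (smul_mem_smul_finset hx)
    (trn i hg) (trn i hk)
  rw [← e1, e2]
  exact smul_mem_smul_finset hx

theorem no1 {x : GolayPt} {D : Finset GolayPt} (hx : x ∉ D) (i : Iv (H ⊓ stabilizer M24 x) D) (h : D.card = 1)
    (d : ℕ) (hd : ¬ c ∣ 20160 ∧ ¬ d ∣ 22 ∧ ∀ o ≤ 22, 0 < o → o ∣ c → c / o ∣ 960 → d ∣ o) : False := by
  haveI := fin24
  obtain ⟨y, rfl⟩ := card_eq_one.1 h
  have n : x ≠ y := by simpa using hx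
  have f : ∀ {u v : GolayPt}, Iv (H ⊓ stabilizer M24 u) {v} → H ⊓ stabilizer M24 u = H ⊓ stabilizer M24 v := fun {u v} i =>
    Subgroup.eq_of_le_of_card_ge (fun g hg => ⟨hg.1, mem_singleton.1 (i g hg v (mem_singleton_self v))⟩) (by rw [hc, hc])
  have s : H ⊓ stabilizer M24 x ≤ fx {x, y} := fun g hg => mem_fx.2 (by simpa using ⟨hg.2, ((f i).le hg).2⟩)
  have ci : (univ \ {x, y} : Finset GolayPt).card = 22 := by rw [card_sdiff_of_subset (subset_univ _), card_pair n, c24]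
  refine hd.2.1 (ci ▸ dvo _ (ivT.sd (iv_fx s)) fun z hz o ho e => ?_)
  have nz := (mem_sdiff.1 hz).2
  have c3 : (insert z {x, y} : Finset GolayPt).card = 3 := by rw [card_insert_of_notMem nz, card_pair n]
  obtain ⟨g, hg, rfl⟩ := t x z
  have j := trn i hg
  rw [smul_finset_singleton] at j
  have m : g • y ∉ (insert (g • x) {x, y} : Finset GolayPt) := fun h => by
    have : H ⊓ stabilizer M24 x = H ⊓ stabilizer M24 (g • x) := by
      simp only [mem_insert, mem_singleton, smul_left_cancel_iff] at h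
      rcases h with h | h | h
      · exact absurd h.symm n
      · rw [f j, h]
      · rw [f j, h, f i]
    exact hd.1 (hc x ▸ dvF (S := insert (g • x) {x, y}) (fx_insert _ _ ▸ le_inf s (this.le.trans inf_le_right)) 3 c3.ge (by decide))
  have k := dvF (K := (H ⊓ stabilizer M24 x) ⊓ stabilizer M24 (g • x)) (S := insert (g • y) (insert (g • x) {x, y}))
    (by rw [fx_insert, fx_insert]; exact fun a ha => ⟨⟨s ha.1, ha.2⟩, ((f j).le ⟨ha.1.1, ha.2⟩).2⟩) 4
    (by rw [card_insert_of_notMem m, c3]) (by decide)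
  rw [hc] at e
  have p : 0 < o := Nat.pos_of_ne_zero fun z => by
    rw [z, zero_mul, ← hc x] at e
    exact Nat.card_pos.ne' e
  exact hd.2.2 o (ci ▸ ho) p (Dvd.intro _ e.symm) (by rw [e, Nat.mul_div_cancel_left _ p]; exact k)

theorem no2 {x : GolayPt} {D : Finset GolayPt} (hx : x ∉ D) (i : Iv (H ⊓ stabilizer M24 x) D) (h : D.card = 2)
    (hd : 4032 < c) : False := by
  have c3 : (insert x D).card = 3 := by rw [card_insert_of_notMem hx, h]
  have i' : Iv (H ⊓ stabilizer M24 x) (insert x D) := insert_eq x D ▸ ivU (iv_fx (sx x)) i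
  have ci : (univ \ insert x D).card = 21 := by rw [card_sdiff_of_subset (subset_univ _), c3, c24]
  obtain ⟨z, hz⟩ := card_pos.1 (show 0 < (univ \ insert x D).card by omega)
  have nz := (mem_sdiff.1 hz).2
  obtain ⟨g, hg, rfl, d⟩ := (blk t hc (mem_insert_self x D) i' (by omega) (by rw [c3]; exact lt_trans (by decide) hd)).2 _ nz
  obtain ⟨E, e1, -, -, e⟩ := orb (ivT.sd i') hz
  have k1 := chain (ivL i (inf_le_left (b := stabilizer M24 (g • x)))) D Subset.rfl
  have f : (H ⊓ stabilizer M24 x) ⊓ stabilizer M24 (g • x) ⊓ fx D ≤ fx (insert (g • x) (insert x D)) := by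
    rw [fx_insert, fx_insert]; exact fun a ha => ⟨⟨ha.2, ha.1.1.2⟩, ha.1.2⟩
  have k2 := bd f (ivL (trn i hg) fun a ha => ⟨ha.1.1.1, ha.1.2⟩) (by
      rw [disjoint_insert_left, smul_mem_smul_finset_iff]
      exact ⟨hx, d.mono_right (smul_finset_subset_smul_finset (subset_insert _ _))⟩) 1
    (by rw [card_smul_finset]; omega) (by rw [card_insert_of_notMem nz]; omega)
  rw [card_smul_finset, card_insert_of_notMem nz, c3, h] at k2
  rw [h] at k1
  have := Nat.mul_le_mul (ci ▸ card_le_card e1) (k1.trans (Nat.mul_le_mul_left _ k2))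
  rw [← e, hc] at this
  exact absurd (hd.trans_le this) (by decide)

theorem sx3 {x : GolayPt} {D : Finset GolayPt} (hx : x ∉ D) (i : Iv (H ⊓ stabilizer M24 x) D) (h : D.card = 3)
    (hd : c = 5760) : H ≤ stabilizer M24 (sext (insert x D)) := by
  have c4 : (insert x D).card = 4 := by rw [card_insert_of_notMem hx, h]
  have i' : Iv (H ⊓ stabilizer M24 x) (insert x D) := insert_eq x D ▸ ivU (iv_fx (sx x)) i
  have ci : (univ \ insert x D).card = 20 := by rw [card_sdiff_of_subset (subset_univ _), c4, c24]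
  obtain ⟨b0, bl⟩ := blk t hc (mem_insert_self x D) i' (by omega) (by rw [c4, hd]; decide)
  have q : ∀ g ∈ H, ∀ k ∈ H, g • x = k • x → g • insert x D = k • insert x D := fun g hg k hk e => by
    rw [← inv_smul_eq_iff, ← mul_smul] at e ⊢
    exact st_iv i' ⟨H.mul_mem (H.inv_mem hk) hg, e⟩
  intro g hg
  rw [mem_stabilizer_iff, smul_sext]
  refine sext_congr ?_
  by_cases nz : g • x ∈ insert x D
  · rw [b0 g hg nz, symmDiff_self]; exact empty_mem_gC
  obtain ⟨k, hk, e, d⟩ := bl _ nz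
  rw [← q k hk g hg e]
  have f0 : (H ⊓ stabilizer M24 x) ⊓ fx D ≤ fx (insert x D) := by rw [fx_insert]; exact fun a ha => ⟨ha.2, ha.1.2⟩
  have k1 := chain i D Subset.rfl
  obtain ⟨E, e1, -, -, e2⟩ := orb (ivT.sd (iv_fx f0)) (mem_sdiff.2 ⟨mem_univ _, e ▸ nz⟩ : k • x ∈ _)
  have f : (H ⊓ stabilizer M24 x) ⊓ fx D ⊓ stabilizer M24 (k • x) ≤ fx (insert (k • x) (insert x D)) := by
    rw [fx_insert]; exact inf_le_inf_right _ f0
  have c5 : (insert (k • x) (insert x D)).card = 5 := by rw [card_insert_of_notMem (e ▸ nz), c4]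
  obtain ⟨o, ho, so⟩ | ⟨j, j1, -, j2⟩ := b6 f (ivL (trn i hk) fun a ha => ⟨ha.1.1.1, ha.2⟩) (by
      rw [disjoint_insert_left, smul_mem_smul_finset_iff]
      exact ⟨hx, d.mono_right (smul_finset_subset_smul_finset (subset_insert _ _))⟩) 0 (Nat.zero_le _) c5
  · have : k • insert x D ∪ insert x D = o := eq_of_subset_of_card_le (by
      rw [smul_finset_insert, insert_union, union_comm, ← insert_union]; exact so)
      (by rw [card_union_of_disjoint d.symm, card_smul_finset, c4, ho.2])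
    rw [d.symm.symmDiff_eq_sup, sup_eq_union, this]
    exact ho.1
  · rw [card_smul_finset, h] at j2
    rw [hc, hd, h, e2] at k1
    have := k1.trans (Nat.mul_le_mul_left _ (Nat.mul_le_mul (ci ▸ card_le_card e1)
      (j2.trans (Nat.mul_le_mul_left _ (Nat.le_of_dvd (by decide) j1)))))
    exact absurd this (by decide)

omit t in
theorem no8 {x : GolayPt} {o : Finset GolayPt} (ho : o ∈ octads) (hx : x ∉ o) (i : Iv (H ⊓ stabilizer M24 x) o) :
    c ∣ 20160 := by
  have j := iv_st o x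
  have ci : (univ \ o).card = 16 := by rw [card_sdiff_of_subset (subset_univ _), ho.2, c24]
  obtain ⟨E, e1, -, -, e⟩ := orb (K := stabilizer M24 o) (ivT.sd fun g hg y hy => by
    rw [← show g • o = o from hg]; exact smul_mem_smul_finset hy) (mem_sdiff.2 ⟨mem_univ x, hx⟩)
  have l := ci ▸ card_le_card e1
  obtain ⟨o', ho', so⟩ | ⟨k, k1, -, k2⟩ := b6 inf_le_right j (disjoint_singleton_left.2 hx) 4 (by rw [ho.2]; decide) rfl
  · have := card_le_card so
    rw [card_union_of_disjoint (disjoint_singleton_left.2 hx), ho.2, ho'.2, card_singleton] at this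
    omega
  · have := k2.trans (Nat.mul_le_mul_left _ (Nat.le_of_dvd (by decide) k1))
    rw [ho.2, fx1, show Nat.descFactorial 8 (4 + 1) * 3 = 20160 from rfl] at this
    rw [card_stab_oct ho] at e
    have l2 := Nat.mul_le_mul_right (Nat.card ↥(stabilizer M24 o ⊓ stabilizer M24 x)) l
    rw [← hc x, show 20160 = Nat.card ↥(stabilizer M24 o ⊓ stabilizer M24 x) by omega]
    exact Subgroup.card_dvd_of_le (le_inf (st_iv i) inf_le_right)

theorem no7 {x : GolayPt} {o : Finset GolayPt} (ho : o ∈ octads) (hx : x ∈ o) (i : Iv (H ⊓ stabilizer M24 x) o)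
    (hd : ∀ k ≤ 16, 0 < k → k ∣ c → (c / k ∣ 10752 ∨ c / k ∣ 1152 ∨ c / k ∣ 720) → 5 ∣ k) : False := by
  haveI := fin24
  have ci : (univ \ o).card = 16 := by rw [card_sdiff_of_subset (subset_univ _), ho.2, c24]
  refine absurd (ci ▸ dvo (d := 5) _ (ivT.sd i) fun z hz k hk e => ?_) (by decide)
  obtain ⟨g, hg, rfl⟩ := t x z
  have ho' := (smul_mem_octads g).2 ho
  have l := Subgroup.card_dvd_of_le (le_inf (inf_le_left.trans (st_iv i)) (fun a ha => st_iv (trn i hg) ⟨ha.1.1, ha.2⟩) :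
    (H ⊓ stabilizer M24 x) ⊓ stabilizer M24 (g • x) ≤ stabilizer M24 o ⊓ stabilizer M24 (g • o))
  rw [hc] at e
  have p : 0 < k := Nat.pos_of_ne_zero fun z => by
    rw [z, zero_mul, ← hc x] at e
    exact Nat.card_pos.ne' e
  refine hd k (ci ▸ hk) p (Dvd.intro _ e.symm) ?_
  rw [e, Nat.mul_div_cancel_left _ p]
  obtain ⟨s0, s4, s2⟩ := S5613.result o _ ho ho'
  rcases oct_inter ho ho' with h | h | h | h
  · exact .inl (s0 h ▸ l)
  · exact .inr (.inr (s2 h ▸ l))
  · exact .inr (.inl (s4 h ▸ l))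
  · exact absurd (h ▸ smul_mem_smul_finset hx) (mem_sdiff.1 hz).2

end

end Cfsg.Agent.Perm.M24S
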