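import Cfsg.Agent.Lib.Perm.Mod1
import Cfsg.Agent.Lib.Perm.Br12

/-! Transitive groups of prime degree: the heart is irreducible unless the group is affine. -/

set_option autoImplicit false
set_option linter.unusedSectionVars false

namespace Cfsg.Agent.Perm.Md

open MulAction Module Polynomial Subgroup

section heart
variable {K : Type*} [Field K] {G : Type*} [Group G] {Ω : Type*} [Fintype Ω] [MulAction G Ω]
  [Finite G] {p f : ℕ} [hp : Fact p.Prime] [IsPretransitive G Ω] [CharP K p]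

theorem inv_zero : Inv G (permSumZero K G Ω).toSubmodule := inv_sub _

theorem const_of_end (hc : Fintype.card Ω = p ^ f)
    (h : ∀ W W' : Submodule K (Ω → K), Inv G W → Inv G W' → (fun _ => 1) ∈ W → W < W' →
      (∀ w ∈ W', ∑ x, w x = 0) → ∃ g : G, ∃ v ∈ W', (fun x => v (g • x)) - v ∉ W)
    (ψ : End K (Ω → K)) (hψ : ∀ (g : G) v, ψ (fun x => v (g • x)) = fun x => ψ v (g • x))
    (h1 : ψ (fun _ => 1) = 0) (v : Ω → K) (a b : Ω) : ψ v a = ψ v b := by
  classical
  have hm : ∀ W, Inv G W → Inv G (W.map ψ) := by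
    rintro W hW g _ ⟨u, hu, rfl⟩; exact ⟨_, hW g u hu, hψ g u⟩
  have hr : Inv G (LinearMap.range ψ) := by rintro g _ ⟨u, rfl⟩; exact ⟨_, hψ g u⟩
  have hk : Inv G (LinearMap.ker ψ) := fun g u hu => by
    rw [LinearMap.mem_ker] at hu ⊢; rw [hψ, hu]; rfl
  have h2 : ∀ w ∈ LinearMap.range ψ, ∑ x, w x = 0 := fun w hw => by
    by_contra h0
    have := LinearMap.injective_iff_surjective.2 (LinearMap.range_eq_top.1 (hr.eq_top hc hw h0))
    simpa using congrFun ((map_eq_zero_iff ψ this).1 h1) a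
  have h3 : ∀ (g : G) u, (fun x => ψ u (g • x)) - ψ u ∈ (permSumZero K G Ω).toSubmodule.map ψ :=
    fun g u => ⟨(fun x => u (g • x)) - u, by
      simp [mem_zero, Finset.sum_sub_distrib, sum_smul_eq], by rw [map_sub, hψ]⟩
  rcases (LinearMap.map_le_range (f := ψ) (p := (permSumZero K G Ω).toSubmodule)).eq_or_lt with h4 | h4
  · obtain ⟨u, hu, h5⟩ : ψ (Pi.single a 1) ∈ (permSumZero K G Ω).toSubmodule.map ψ := h4 ▸ ⟨_, rfl⟩
    have h6 := hk.eq_top hc (w := Pi.single a 1 - u) (by rw [LinearMap.mem_ker, map_sub, h5, sub_self])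
      (by simp [Finset.sum_sub_distrib, mem_zero.1 hu])
    simp [LinearMap.ker_eq_top.1 h6]
  by_cases h5 : (permSumZero K G Ω).toSubmodule.map ψ = ⊥
  · obtain ⟨g, rfl⟩ := exists_smul_eq G a b
    have := h3 g v
    rw [h5, Submodule.mem_bot, sub_eq_zero] at this
    exact (congrFun this a).symm
  · obtain ⟨g, _, ⟨u, rfl⟩, h6⟩ := h _ _ (hm _ inv_zero) hr ((hm _ inv_zero).one_mem hc h5) h4 h2
    exact (h6 (h3 g u)).elim

theorem two_trans_of_heart (hc : Fintype.card Ω = p ^ f)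
    (h : ∀ W W' : Submodule K (Ω → K), Inv G W → Inv G W' → (fun _ => 1) ∈ W → W < W' →
      (∀ w ∈ W', ∑ x, w x = 0) → ∃ g : G, ∃ v ∈ W', (fun x => v (g • x)) - v ∉ W) :
    IsMultiplyPretransitive G Ω 2 := by
  classical
  refine two_trans_iff.2 fun a b c d hab hcd => ?_
  by_contra hn
  let M : Matrix Ω Ω K := fun x y => if ∃ g : G, g • a = x ∧ g • b = y then 1 else 0
  have hM : ∀ (g : G) x y, M (g • x) (g • y) = M x y := fun g x y => by
    refine if_congr ⟨?_, ?_⟩ rfl rfl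
    · rintro ⟨k, h1, h2⟩; exact ⟨g⁻¹ * k, by simp [mul_smul, h1], by simp [mul_smul, h2]⟩
    · rintro ⟨k, h1, h2⟩; exact ⟨g * k, by simp [mul_smul, h1], by simp [mul_smul, h2]⟩
  have hA : ∀ (g : G) (v : Ω → K), M.mulVec (fun x => v (g • x)) = fun x => M.mulVec v (g • x) :=
    fun g v => funext fun x => by
      simp only [Matrix.mulVec, dotProduct]
      rw [← sum_smul_eq g fun y => M (g • x) y * v y]
      simp only [hM]
  obtain ⟨k, hk⟩ := exists_smul_eq G b d
  have h1 := const_of_end hc h (M.mulVecLin - M.mulVec (fun _ => 1) a • 1)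
    (fun g v => by ext x; simp [hA]) (by
      ext x
      obtain ⟨g, rfl⟩ := exists_smul_eq G a x
      simp [← congrFun (hA g fun _ => 1) a]) (Pi.single d 1) c (k • a)
  have h2 : k • a ≠ d := by rw [← hk]; simpa using hab
  have h3 : M (k • a) d = 1 := if_pos ⟨k, rfl, hk⟩
  have h4 : M c d = 0 := if_neg hn
  simp [hcd, h2, h3, h4] at h1

end heart

section coord
variable {G : Type*} [Group G] {Ω : Type*} [Fintype Ω] [MulAction G Ω] {p : ℕ} [hp : Fact p.Prime]

/-- `g` acts as an affine map in the coordinates `e` -/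
def Aff (e : Ω ≃ ZMod p) (g : G) : Prop := ∃ a b : ZMod p, ∀ x, e (g • x) = a * e x + b

theorem exists_coord [Finite G] [FaithfulSMul G Ω] (hα : Nat.card Ω = p) {P : Subgroup G}
    (hP : Nat.card P = p) :
    ∃ (e : Ω ≃ ZMod p) (τ : G), zpowers τ = P ∧ ∀ x, e (τ • x) = e x + 1 := by
  have : IsCyclic P := isCyclic_of_prime_card hP
  obtain ⟨τ, hτ⟩ := (Subgroup.isCyclic_iff_exists_zpowers_eq_top P).1 this
  have ho : orderOf τ = p := by rw [← Nat.card_zpowers, hτ, hP]
  have hm : ∀ n, τ ^ (n % p) = τ ^ n := fun n => by rw [← ho, pow_mod_orderOf]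
  obtain ⟨a⟩ : Nonempty Ω := (Nat.card_pos_iff.1 (hα ▸ hp.out.pos)).1
  have hb : Function.Bijective fun j : ZMod p => τ ^ j.val • a := by
    refine (Nat.bijective_iff_surjective_and_card _).2 ⟨fun b => ?_, by rw [hα, Nat.card_zmod]⟩
    obtain ⟨x, hx, rfl⟩ := Br.trans_of_card hα hP a b
    rw [← hτ, ← mem_powers_iff_mem_zpowers] at hx
    obtain ⟨n, rfl⟩ := hx
    exact ⟨n, by simp only [ZMod.val_natCast, hm]⟩
  refine ⟨(Equiv.ofBijective _ hb).symm, τ, hτ, fun x => ?_⟩
  obtain ⟨j, rfl⟩ := (Equiv.ofBijective _ hb).surjective x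
  rw [Equiv.symm_apply_apply, Equiv.symm_apply_eq]
  simp only [Equiv.ofBijective_apply, ← mul_smul, ← pow_succ', ZMod.val_add, ZMod.val_one]
  rw [hm]

variable {e : Ω ≃ ZMod p} {τ : G} (hτ : ∀ x, e (τ • x) = e x + 1)
include hτ

theorem e_pow (n : ℕ) (x : Ω) : e (τ ^ n • x) = e x + n := by
  induction n with
  | zero => simp
  | succ n ih => rw [pow_succ', mul_smul, hτ, ih]; push_cast; ring

theorem e_val (j : ZMod p) (x : Ω) : e (τ ^ j.val • x) = e x + j := by simp [e_pow hτ]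

theorem pretrans : IsPretransitive G Ω :=
  ⟨fun a b => ⟨τ ^ (e b - e a).val, e.injective (by simp [e_val hτ])⟩⟩

theorem aff_of_norm [Finite G] {g : G} (hg : g ∈ normalizer (zpowers τ : Set G)) : Aff e g := by
  have := (mem_normalizer_iff.1 hg τ).1 (mem_zpowers τ)
  rw [← mem_powers_iff_mem_zpowers] at this
  obtain ⟨k, hk⟩ := this
  have h1 : ∀ (n : ℕ) x, e (g • τ ^ n • x) = k * n + e (g • x) := fun n x => by
    have : g * τ ^ n = (τ ^ k) ^ n * g := by simp only at hk; rw [hk, conj_pow]; simp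
    rw [← mul_smul, this, mul_smul, ← pow_mul, e_pow hτ]; push_cast; ring
  refine ⟨k, e (g • e.symm 0), fun x => ?_⟩
  have := h1 (e x).val (e.symm 0)
  rwa [show τ ^ (e x).val • e.symm 0 = x from e.injective (by simp [e_val hτ]), ZMod.natCast_zmod_val] at this

omit hτ in
theorem solv_of_aff [FaithfulSMul G Ω] (h : ∀ g : G, Aff e g) : Group.IsSolvable G := by
  let T : Subgroup G :=
    { carrier := {g | ∃ b, ∀ x, e (g • x) = e x + b}
      one_mem' := ⟨0, by simp⟩
      mul_mem' := by rintro g k ⟨b, hb⟩ ⟨c, hc⟩; exact ⟨c + b, fun x => by rw [mul_smul, hb, hc, add_assoc]⟩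
      inv_mem' := by rintro g ⟨b, hb⟩; exact ⟨-b, fun x => by have := hb (g⁻¹ • x); simp at this; simp [this]⟩ }
  have h1 : derivedSeries G 1 ≤ T := by
    refine commutator_le.2 fun g _ k _ => ?_
    obtain ⟨a, b, h1⟩ := h g
    obtain ⟨c, d, h2⟩ := h k
    refine ⟨a * d + b - c * b - d, fun x => ?_⟩
    obtain ⟨y, rfl⟩ := (toPerm (k * g)).surjective x
    simp only [commutatorElement_def, toPerm_apply, mul_smul, inv_smul_smul, h1, h2]; ring
  refine ⟨2, eq_bot_iff.2 (commutator_le.2 fun g hg k hk => ?_)⟩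
  obtain ⟨b, hb⟩ := h1 hg
  obtain ⟨c, hc⟩ := h1 hk
  rw [mem_bot, commutatorElement_eq_one_iff_mul_comm]
  exact eq_of_smul_eq_smul fun x : Ω => e.injective (by simp only [mul_smul, hb, hc]; ring)

variable {K : Type*} [Field K] [CharP K p]

theorem poly_of_inv' {W : Submodule K (Ω → K)} (hW : Inv G W) (f : Ω → K) : f ∈ W ↔
    ∃ P : K[X], P.degree < finrank K W ∧ ∀ x, f x = P.eval (ZMod.cast (e x) : K) := by
  have h1 := poly_of_inv (W := W.map (LinearEquiv.funCongrLeft K K e.symm).toLinearMap) (by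
    rintro _ ⟨u, hu, rfl⟩
    refine ⟨_, hW τ⁻¹ u hu, funext fun j => ?_⟩
    change u (τ⁻¹ • e.symm j) = u (e.symm (j - 1))
    congr 1
    rw [inv_smul_eq_iff, e.symm_apply_eq, hτ]; simp) (f ∘ e.symm)
  rw [LinearEquiv.finrank_map_eq] at h1
  refine ((Submodule.mem_map_equiv _).trans ?_).symm.trans (h1.trans (exists_congr fun P => and_congr_right fun _ => ?_))
  · convert Iff.rfl; ext x; simp
  · exact ⟨fun h x => by simpa using h (e x), fun h j => by simpa using h (e.symm j)⟩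

theorem aff_of_inv {W : Submodule K (Ω → K)} (hW : Inv G W) {a : ℕ} (ha : finrank K W = a + 1)
    (h1 : 1 ≤ a) (h2 : 2 * a < p) (g : G) : Aff e g := by
  have h3 : ∀ k ≤ a, ∃ Q : K[X], Q.natDegree ≤ a ∧
      ∀ x, (ZMod.cast (e (g • x)) : K) ^ k = Q.eval (ZMod.cast (e x)) := fun k hk => by
    obtain ⟨Q, hQ, h⟩ := (poly_of_inv' hτ hW _).1 (hW g _ ((poly_of_inv' hτ hW
      (fun x => (ZMod.cast (e x) : K) ^ k)).2 ⟨X ^ k, by rw [ha, degree_X_pow]; exact_mod_cast by omega, by simp⟩))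
    exact ⟨Q, natDegree_le_of_degree_le (Order.le_of_lt_succ (by rw [ha] at hQ; exact_mod_cast hQ)), h⟩
  obtain ⟨F, hF, hF2⟩ := h3 1 h1
  have h4 : ∀ k ≤ a, k * F.natDegree ≤ a := fun k => by
    induction k with
    | zero => simp
    | succ k ih =>
      intro hk
      obtain ⟨Q, hQ, hQ2⟩ := h3 _ hk
      have := ih (by omega)
      rw [← natDegree_pow, poly_eq (p := p) (P := F ^ (k + 1)) (Q := Q)]
      · exact hQ
      · exact degree_le_natDegree.trans_lt (by rw [natDegree_pow]; exact_mod_cast by nlinarith)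
      · exact degree_le_natDegree.trans_lt (by exact_mod_cast by omega)
      · intro j
        rw [← e.apply_symm_apply j, ← hQ2, eval_pow, ← hF2, pow_one]
  have h5 := eq_X_add_C_of_natDegree_le_one (p := F) (by have := h4 a le_rfl; nlinarith)
  have h6 : ∀ x, (ZMod.cast (e (g • x)) : K) = F.coeff 1 * ZMod.cast (e x) + F.coeff 0 := fun x => by
    rw [← pow_one (ZMod.cast _), hF2, h5]; simp
  refine ⟨e (g • e.symm 1) - e (g • e.symm 0), e (g • e.symm 0), fun x => cast_inj (K := K) ?_⟩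
  rw [ZMod.cast_add dvd_rfl, ZMod.cast_mul dvd_rfl, ZMod.cast_sub dvd_rfl]
  simp [h6, ZMod.cast_one dvd_rfl]

variable (K) in
theorem aff_or_irr : (∀ g : G, Aff e g) ∨ ∀ W : Submodule K (Ω → K), Inv G W →
    (∀ w ∈ W, ∑ x, w x = 0) → (∀ w ∈ W, ∃ c, w = fun _ => c) ∨ ∀ w, ∑ x, w x = 0 → w ∈ W := by
  classical
  by_cases h : ∀ g : G, Aff e g
  · exact Or.inl h
  refine Or.inr fun W hW h0 => ?_
  have hc : Fintype.card Ω = p := by simpa using Fintype.card_congr e
  by_cases h1 : finrank K W ≤ 1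
  · refine Or.inl fun w hw => ?_
    obtain ⟨P, hP, h2⟩ := (poly_of_inv' hτ hW w).1 hw
    have := eq_C_of_degree_le_zero (p := P) (Nat.WithBot.lt_one_iff_le_zero.1 (hP.trans_le (by exact_mod_cast h1)))
    exact ⟨P.coeff 0, funext fun x => by rw [h2, this]; simp⟩
  by_cases h2 : p - 1 ≤ finrank K W
  · have h3 : (permSumZero K G Ω).toSubmodule ≠ ⊤ := fun h3 => by
      have : Pi.single (e.symm 0) 1 ∈ (permSumZero K G Ω).toSubmodule := h3 ▸ Submodule.mem_top
      simp [mem_zero] at this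
    have h4 := Submodule.finrank_lt h3
    rw [finrank_fintype_fun_eq_card, hc] at h4
    refine Or.inr fun w hw => ?_
    rw [Submodule.eq_of_le_of_finrank_le (S₂ := (permSumZero K G Ω).toSubmodule) h0 (by omega)]
    exact hw
  refine (h ?_).elim
  by_cases h3 : 2 * (finrank K W - 1) < p
  · exact aff_of_inv hτ hW (a := finrank K W - 1) (by omega) (by omega) h3
  · exact aff_of_inv hτ hW.perp (a := p - finrank K W - 1) (by rw [finrank_perp, hc]; omega) (by omega) (by omega)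

omit hτ in
theorem cast_ne {n : ℕ} (h0 : 0 < n) (h : n < p) : (n : ZMod p) ≠ 0 := fun h1 =>
  absurd (Nat.le_of_dvd h0 ((ZMod.natCast_eq_zero_iff _ _).1 h1)) (by omega)

omit hτ in
theorem aff_of_le (h : p ≤ 3) (g : G) : Aff e g := by
  have h2 : ∀ σ : Equiv.Perm (ZMod 2), ∃ a b, ∀ x, σ x = a * x + b := by decide
  have h3 : ∀ σ : Equiv.Perm (ZMod 3), ∃ a b, ∀ x, σ x = a * x + b := by decide
  have : ∃ a b, ∀ x, (e.symm.trans ((toPerm g).trans e)) x = a * x + b := by
    obtain rfl | rfl : p = 2 ∨ p = 3 := by have := hp.out.two_le; omega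
    exacts [h2 _, h3 _]
  obtain ⟨a, b, h⟩ := this
  exact ⟨a, b, fun x => by simpa using h (e x)⟩

theorem aff_or_two [Finite G] : (∀ g : G, Aff e g) ∨ IsMultiplyPretransitive G Ω 2 := by
  classical
  by_cases h3 : p ≤ 3
  · exact Or.inl (aff_of_le h3)
  have h5 : 5 ≤ p := hp.out.five_le_of_ne_two_of_ne_three (by omega) (by omega)
  refine (aff_or_irr hτ (ZMod p)).imp_right fun h => ?_
  have := pretrans hτ
  refine two_trans_of_heart (K := ZMod p) (p := p) (f := 1) (by simpa using Fintype.card_congr e)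
    fun W W' hW hW' h1 hlt h0 => ?_
  rcases h W hW fun w hw => h0 w (hlt.le hw) with h4 | h4
  swap
  · exact (hlt.not_ge fun w hw => h4 w (h0 w hw)).elim
  rcases h W' hW' h0 with h6 | h6
  · refine (hlt.not_ge fun w hw => ?_).elim
    obtain ⟨c, rfl⟩ := h6 w hw
    convert W.smul_mem c h1 using 1
    ext; simp
  refine ⟨τ, Pi.single (e.symm 0) 1 - Pi.single (e.symm 1) 1, h6 _ (by simp [Finset.sum_sub_distrib]),
    fun h7 => ?_⟩
  obtain ⟨c, hc⟩ := h4 _ h7
  have h8 := (congrFun hc (e.symm 0)).trans (congrFun hc (e.symm 2)).symm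
  have k2 : (2 : ZMod p) ≠ 0 := by exact_mod_cast cast_ne (n := 2) (p := p) (by omega) (by omega)
  have k3 : (2 + 1 : ZMod p) ≠ 0 := by exact_mod_cast cast_ne (n := 3) (p := p) (by omega) (by omega)
  have k1 : (2 : ZMod p) ≠ 1 := fun h => one_ne_zero (α := ZMod p) (by linear_combination h)
  simp [Pi.single_apply, e.eq_symm_apply, hτ, k1, k2, k3] at h8
  exact k2 (by linear_combination -h8)

end coord

end Cfsg.Agent.Perm.Md
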