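import Cfsg.Agent.Lib.Perm.Mod3

/-! Groups of prime degree with Sylow normaliser of order `p (p - 1) / 2`; triangle-transitive triple systems. -/

set_option autoImplicit false
set_option linter.unusedSectionVars false

namespace Cfsg.Agent.Perm.Md

open MulAction Module Subgroup
open scoped Pointwise

section half
variable {G : Type*} [Group G] [Finite G] {Ω : Type*} [Fintype Ω] [MulAction G Ω] [FaithfulSMul G Ω]
  {p : ℕ} [hp : Fact p.Prime] {e : Ω ≃ ZMod p} {τ : G} (hτ : ∀ x, e (τ • x) = e x + 1)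

theorem Aff.eq_one {g : G} (h : Aff e g) {a b : Ω} (hab : a ≠ b) (h1 : g • a = a) (h2 : g • b = b) : g = 1 := by
  obtain ⟨c, d, h⟩ := h
  have h3 : e a = c * e a + d := (congrArg e h1).symm.trans (h a)
  have h4 : e b = c * e b + d := (congrArg e h2).symm.trans (h b)
  have h5 : c = 1 := mul_right_cancel₀ (sub_ne_zero.2 (e.injective.ne hab)) (by linear_combination h4 - h3)
  exact eq_of_smul_eq_smul fun x : Ω => e.injective (by
    rw [h, one_smul, h5]; linear_combination -h3 - (e a) * h5)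

include hτ

theorem card_orb_pairs {k : ℕ} (hN : k * Nat.card (normalizer (zpowers τ : Set G)) = p * (p - 1)) :
    Nat.card (orbitRel.Quotient (normalizer (zpowers τ : Set G)) (Fin 2 ↪ Ω)) = k := by
  classical
  have h5 := Nat.card_congr (selfEquivOrbitsQuotientProd (sharp2_iff (G := normalizer (zpowers τ : Set G)).2
    fun a b hab g h1 h2 => Subtype.ext ((aff_of_norm hτ g.2).eq_one hab h1 h2)))
  rw [Nat.card_prod, Nat.card_eq_fintype_card, Fintype.card_embedding_eq, Fintype.card_congr e, ZMod.card] at h5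
  refine Nat.eq_of_mul_eq_mul_right Nat.card_pos (h5.symm.trans ?_)
  simp [hN, mul_comm]

theorem orbits_le (hG : ¬ ∀ g : G, Aff e g) {k : ℕ}
    (hN : k * Nat.card (normalizer (zpowers τ : Set G)) = p * (p - 1)) {α β : Ω} (hαβ : α ≠ β) :
    Nat.card (orbitRel.Quotient ↥(stabilizer G α ⊓ stabilizer G β) Ω) ≤ k + 2 := by
  have h2 := (aff_or_two hτ).resolve_left hG
  have := Fintype.ofFinite (orbitRel.Quotient (normalizer (zpowers τ : Set G)) (Fin 2 ↪ Ω))
  choose s hs using fun q : orbitRel.Quotient (normalizer (zpowers τ : Set G)) (Fin 2 ↪ Ω) =>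
    exists_smul_eq G (⟨_, inj2 hαβ⟩ : Fin 2 ↪ Ω) q.out
  have h5 := card_orbits_le hτ hG (stabilizer G α ⊓ stabilizer G β) s fun g => by
    obtain ⟨n, hn⟩ := Quotient.mk_out' (s₁ := orbitRel (normalizer (zpowers τ : Set G)) (Fin 2 ↪ Ω))
      (g • ⟨_, inj2 hαβ⟩)
    have h6 := (mem_stab_emb _ _).1 (smul_eq_smul_iff_mem_stab.1
      (((mul_smul (n : G) g _).trans hn).trans (hs _).symm))
    exact ⟨n⁻¹, _, _, ⟨h6 0, h6 1⟩, aff_of_norm hτ (inv_mem n.2),
      by rw [mul_assoc, mul_inv_cancel_left, inv_mul_cancel_left]⟩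
  rwa [← Nat.card_eq_fintype_card, card_orb_pairs hτ hN] at h5

theorem pair_trans (hN : 2 * Nat.card (normalizer (zpowers τ : Set G)) = p * (p - 1))
    (ho : ¬ Even (Nat.card (normalizer (zpowers τ : Set G)))) {x y x' y' : Ω} (h : x ≠ y) (h' : x' ≠ y') :
    ∃ n : G, Aff e n ∧ (n • x = x' ∧ n • y = y' ∨ n • x = y' ∧ n • y = x') := by
  have h1 : ∀ {a b c d : Ω} (h : a ≠ b) (h' : c ≠ d), (Quotient.mk'' ⟨_, inj2 h'⟩ :
      orbitRel.Quotient (normalizer (zpowers τ : Set G)) (Fin 2 ↪ Ω)) = Quotient.mk'' ⟨_, inj2 h⟩ →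
      ∃ n ∈ normalizer (zpowers τ : Set G), n • a = c ∧ n • b = d := fun h h' h1 => by
    obtain ⟨n, hn⟩ := Quotient.exact' h1
    exact ⟨n, n.2, DFunLike.congr_fun hn 0, DFunLike.congr_fun hn 1⟩
  by_contra h2
  refine absurd (Nat.card_le_card_of_injective (β := orbitRel.Quotient (normalizer (zpowers τ : Set G)) (Fin 2 ↪ Ω))
    ![Quotient.mk'' ⟨_, inj2 h'⟩, Quotient.mk'' ⟨_, inj2 h'.symm⟩, Quotient.mk'' ⟨_, inj2 h⟩]
    (inj3 (fun e => ?_) (fun e => ?_) fun e => ?_))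
    (by rw [Nat.card_fin, card_orb_pairs hτ hN]; omega)
  · obtain ⟨n, hn, h3, h4⟩ := h1 h'.symm h' e
    refine ho (even_iff_two_dvd.2 ?_)
    rw [← orderOf_eq_prime (p := 2) (x := (⟨n, hn⟩ : normalizer (zpowers τ : Set G))) (Subtype.ext
      ((aff_of_norm hτ (pow_mem hn 2)).eq_one h' (by simp [sq, mul_smul, h3, h4]) (by simp [sq, mul_smul, h3, h4])))
      fun e => h' (by rw [← h3, show n = 1 from congrArg Subtype.val e, one_smul])]
    exact orderOf_dvd_natCard _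
  · obtain ⟨n, hn, h3⟩ := h1 h h' e
    exact h2 ⟨n, aff_of_norm hτ hn, Or.inl h3⟩
  · obtain ⟨n, hn, h3⟩ := h1 h h'.symm e
    exact h2 ⟨n, aff_of_norm hτ hn, Or.inr h3⟩

end half

/-- the point `z` is off the line through `x` and `y` -/
def Tri {Ω : Type*} (m : Ω → Ω → Ω) (x y z : Ω) : Prop := x ≠ y ∧ z ≠ x ∧ z ≠ y ∧ z ≠ m x y

/-- a Steiner triple system with a triangle-transitive group -/
structure St (G : Type*) [Group G] {Ω : Type*} [MulAction G Ω] (m : Ω → Ω → Ω) : Prop where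
  comm : ∀ x y, m x y = m y x
  idem : ∀ x, m x x = x
  canc : ∀ x y, m x (m x y) = y
  smul : ∀ (g : G) x y, g • m x y = m (g • x) (g • y)
  tri : ∀ x y z x' y' z', Tri m x y z → Tri m x' y' z' → ∃ g : G, g • x = x' ∧ g • y = y' ∧ g • z = z'

namespace St
variable {G : Type*} [Group G] [Finite G] {Ω : Type*} [MulAction G Ω] {m : Ω → Ω → Ω} (h : St G m)
include h

theorem inj (x : Ω) : Function.Injective (m x) := Function.LeftInverse.injective (h.canc x)

theorem eq_of_fix {x y : Ω} (h1 : m x y = y) : y = x :=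
  (h.inj y (by rw [h.comm, h1, h.idem])).symm

theorem swap {α β ε y : Ω} (ht : Tri m α β ε) (hy : ∀ k : G, k • α = α → k • β = β → k • ε = ε → k • y = y)
    {g : G} (h1 : g • α = α) (h2 : g • β = β) (h3 : g • ε = y) (h4 : g • y = ε) (h5 : y ≠ ε) :
    y = m α ε ∨ y = m β ε ∨ y = m (m α β) ε := by
  have h6 : y = m (m ε y) ε := by rw [h.comm, h.canc]
  by_contra h7
  push Not at h7
  obtain ⟨k, k1, k2, k3⟩ := h.tri _ _ _ _ _ (m ε y) ht
    ⟨ht.1, fun e => h7.1 (e ▸ h6), fun e => h7.2.1 (e ▸ h6), fun e => h7.2.2 (e ▸ h6)⟩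
  have h8 : stabilizer G α ⊓ stabilizer G β ⊓ stabilizer G ε = stabilizer G α ⊓ stabilizer G β ⊓ stabilizer G (m ε y) := by
    refine eq_of_le_of_card_ge (fun l hl => ⟨hl.1, show l • _ = _ from ?_⟩) (Nat.card_le_card_of_injective
      (fun l => ⟨k⁻¹ * l * k, ⟨show _ • _ = _ from ?_, show _ • _ = _ from ?_⟩, show _ • _ = _ from ?_⟩)
      fun a b e => Subtype.ext (by simpa using congrArg Subtype.val e))
    · rw [h.smul, hy l hl.1.1 hl.1.2 hl.2, hl.2]
    · rw [mul_smul, mul_smul, k1, l.2.1.1, inv_smul_eq_iff, k1]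
    · rw [mul_smul, mul_smul, k2, l.2.1.2, inv_smul_eq_iff, k2]
    · rw [mul_smul, mul_smul, k3, l.2.2, inv_smul_eq_iff, k3]
  exact h5 (h3.symm.trans (h8.ge ⟨⟨h1, h2⟩, show g • _ = _ by rw [h.smul, h3, h4, h.comm]⟩).2)

theorem tri_mul {α β ε : Ω} (ht : Tri m α β ε) : Tri m α β (m α ε) :=
  ⟨ht.1, fun e => ht.2.1 (h.inj α (e.trans (h.idem α).symm)), fun e => ht.2.2.2 (by rw [← e, h.canc]),
    fun e => ht.2.2.1 (h.inj α e)⟩

theorem tri_symm {α β ε : Ω} (ht : Tri m α β ε) : Tri m β α ε :=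
  ⟨ht.1.symm, ht.2.2.1, ht.2.1, h.comm α β ▸ ht.2.2.2⟩

theorem hall_aux {α β ε : Ω} (ht : Tri m α β ε) :
    m α (m β (m α ε)) = m (m α β) ε ∨ m β (m α ε) = m (m α β) ε := by
  obtain ⟨u, u1, u2, u3⟩ := h.tri _ _ _ _ _ _ ht (h.tri_mul ht)
  obtain ⟨v, v1, v2, v3⟩ := h.tri _ _ _ _ _ _ ht (h.tri_symm (h.tri_mul (h.tri_symm ht)))
  have h1 : m β (m α ε) ≠ m α ε := fun e => (h.tri_mul ht).2.2.1 (h.eq_of_fix e)
  have h2 : m β (m α ε) ≠ ε := fun e => ht.1 (h.inj ε (by rw [h.comm, h.comm ε, ← h.canc β (m α ε), e]))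
  rcases h.swap ht (y := m α (m β (m α ε))) (g := u * v * u) (fun k k1 k2 k3 => by simp only [h.smul, k1, k2, k3])
    (by simp [mul_smul, u1, v1]) (by simp [mul_smul, u2, v2]) (by simp [mul_smul, h.smul, *])
    (by simp [mul_smul, h.smul, h.canc, *]) (fun e => h1 (by rw [← h.canc α (m β _), e])) with h3 | h3 | h3
  · exact (h2 (h.inj α h3)).elim
  · rcases h.swap ht (y := m β (m α ε)) (g := u * v) (fun k k1 k2 k3 => by simp only [h.smul, k1, k2, k3])
      (by simp [mul_smul, u1, v1]) (by simp [mul_smul, u2, v2]) (by simp [mul_smul, h.smul, *])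
      (by simp [mul_smul, h.smul, h.canc, *]) h2 with h4 | h4 | h4
    · exact (h1 h4).elim
    · exact (ht.2.1 (h.eq_of_fix (h.inj β h4))).elim
    · exact Or.inr h4
  · exact Or.inl h3

theorem pasch [Fintype Ω] (h3 : ¬ 3 ∣ Fintype.card Ω) {α β ε : Ω} (ht : Tri m α β ε) :
    m β (m α ε) = m (m α β) ε := by
  refine (h.hall_aux ht).resolve_left fun h1 => ?_
  have h2 : ∀ x y z, x ≠ y → m x (m y (m x z)) = m (m x y) z := fun x y z hxy => by
    by_cases h2 : Tri m x y z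
    · obtain ⟨g, rfl, rfl, rfl⟩ := h.tri _ _ _ _ _ _ ht h2
      simp only [← h.smul, h1]
    · simp only [Tri, not_and_or, not_not, hxy, false_or] at h2
      rcases h2 with rfl | rfl | rfl
      · rw [h.idem, h.comm y, h.comm _ z]
      · rw [h.comm x z, h.canc, h.idem, h.comm _ z, h.canc]
      · rw [h.canc, h.idem, h.idem]
  have := Fact.mk Nat.prime_three
  obtain ⟨z, hz⟩ := Equiv.Perm.exists_fixed_point_of_prime (n := 1) h3
    (σ := Function.Involutive.toPerm _ (h.canc α) * Function.Involutive.toPerm _ (h.canc β))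
    (Equiv.ext fun z => show m α (m β (m α (m β (m α (m β z))))) = z by
      rw [h2 β α z ht.1.symm, h2 α β _ ht.1, h.comm β α, h.canc])
  exact ht.1 (h.inj z (by rw [h.comm, h.comm z, ← h.canc α (m β z)]; exact congrArg _ hz.symm))

end St

end Cfsg.Agent.Perm.Md
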