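import Cfsg.Agent.Lib.Perm.Mod4

/-! More lemmas on groups of prime degree. -/

set_option autoImplicit false
set_option linter.unusedSectionVars false

namespace Cfsg.Agent.Perm.Md

open MulAction Module Subgroup
open scoped Pointwise

variable {G : Type*} [Group G] [Finite G] {Ω : Type*} [MulAction G Ω]

theorem trans_of_coprime (H : Subgroup G) (a : Ω) (h : (stabilizer G a).index.Coprime H.index) (g : G) :
    ∃ x ∈ H, x • a = g • a := by
  have h2 : (stabilizer G a).index ∣ (stabilizer G a).relIndex H := by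
    have h3 := Subgroup.relIndex_mul_index (inf_le_right : stabilizer G a ⊓ H ≤ H)
    have h4 := Subgroup.index_dvd_of_le (inf_le_left : stabilizer G a ⊓ H ≤ stabilizer G a)
    rw [← h3, Subgroup.inf_relIndex_right] at h4
    exact h.dvd_of_dvd_mul_right h4
  have h5 : (orbit H a).ncard = (stabilizer G a).relIndex H := card_orbit_eq_index (G := H) a
  have h6 : orbit H a = orbit G a := Set.eq_of_subset_of_ncard_le (orbit_subgroup_subset H a) (by
    rw [h5, ← Nat.card_coe_set_eq, card_orbit_eq_index]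
    exact Nat.le_of_dvd (Nat.pos_of_ne_zero Subgroup.FiniteIndex.index_ne_zero) h2) (Set.finite_range _)
  obtain ⟨x, hx⟩ : g • a ∈ orbit H a := h6 ▸ mem_orbit a g
  exact ⟨x, x.2, hx⟩

theorem card_stab_conj {ι : Type*} (x : ι → Ω) (g : G) :
    Nat.card (stabilizer G (g • x)) = Nat.card (stabilizer G x) := by
  have h1 := card_orbit_mul_stab (G := G) (g • x)
  rw [orbit_smul, ← card_orbit_mul_stab (G := G) x] at h1
  exact Nat.eq_of_mul_eq_mul_left (card_orbit_eq_index (G := G) x ▸ Nat.pos_of_ne_zero FiniteIndex.index_ne_zero) h1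

theorem tot_of_le {α β δ ε : Ω} [Finite Ω] (hβ : α ≠ β) (h1 : δ ≠ α) (h2 : δ ≠ β) (h3 : ε ≠ α) (h4 : ε ≠ β)
    (h5 : ¬ ∃ g : G, g • α = α ∧ g • β = β ∧ g • δ = ε)
    (h : Nat.card (orbitRel.Quotient ↥(stabilizer G α ⊓ stabilizer G β) Ω) ≤ 4) {z : Ω} (hα : z ≠ α) (hz : z ≠ β) :
    (∃ g : G, g • α = α ∧ g • β = β ∧ g • δ = z) ∨ ∃ g : G, g • α = α ∧ g • β = β ∧ g • ε = z := by
  classical
  by_contra h8
  rw [not_or] at h8
  have h9 : ∀ a x : Ω, a = α ∨ a = β → x ≠ a → (Quotient.mk'' a : orbitRel.Quotient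
      ↥(stabilizer G α ⊓ stabilizer G β) Ω) ≠ Quotient.mk'' x := fun a x ha hx h => by
    obtain ⟨l, hl⟩ := Quotient.exact' h.symm
    rcases ha with rfl | rfl
    exacts [hx (hl.symm.trans l.2.1), hx (hl.symm.trans l.2.2)]
  have h10 : ∀ a x : Ω, (¬ ∃ g : G, g • α = α ∧ g • β = β ∧ g • a = x) → (Quotient.mk'' a : orbitRel.Quotient
      ↥(stabilizer G α ⊓ stabilizer G β) Ω) ≠ Quotient.mk'' x := fun a x hx h => by
    obtain ⟨l, hl⟩ := Quotient.exact' h.symm
    exact hx ⟨l, l.2.1, l.2.2, hl⟩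
  have := Fintype.ofFinite (orbitRel.Quotient ↥(stabilizer G α ⊓ stabilizer G β) Ω)
  have h11 := Finset.card_le_univ ({Quotient.mk'' α, Quotient.mk'' β, Quotient.mk'' δ, Quotient.mk'' ε,
    Quotient.mk'' z} : Finset (orbitRel.Quotient ↥(stabilizer G α ⊓ stabilizer G β) Ω))
  rw [Nat.card_eq_fintype_card] at h
  simp [Finset.card_insert_of_notMem, h9 α β (.inl rfl) hβ.symm, h9 α δ (.inl rfl) h1, h9 α ε (.inl rfl) h3,
    h9 α z (.inl rfl) hα, h9 β δ (.inr rfl) h2, h9 β ε (.inr rfl) h4, h9 β z (.inr rfl) hz, h10 δ ε h5,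
    h10 δ z h8.1, h10 ε z h8.2] at h11
  omega

theorem norm_of_aff [Fintype Ω] [FaithfulSMul G Ω] {p : ℕ} [Fact p.Prime] {e : Ω ≃ ZMod p} {τ : G}
    (hτ : ∀ x, e (τ • x) = e x + 1) {g : G} (h : Aff e g) : g ∈ normalizer (zpowers τ : Set G) := by
  obtain ⟨a, b, h⟩ := h
  refine mem_normalizer_fintype ?_
  rintro _ ⟨k, rfl⟩
  rw [← conj_zpow, show g * τ * g⁻¹ = τ ^ a.val from eq_of_smul_eq_smul fun x : Ω => e.injective (by
    obtain ⟨x, rfl⟩ := (toPerm g).surjective x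
    simp only [toPerm_apply, mul_smul, inv_smul_smul, h, hτ, e_val hτ]; ring)]
  exact zpow_mem (pow_mem (mem_zpowers τ) _) _

theorem multTrans_of_swap [Finite Ω] [DecidableEq Ω] (h2 : IsMultiplyPretransitive G Ω 2) {α β : Ω} (hβ : α ≠ β) {g : G}
    (hg : ∀ x, g • x = Equiv.swap α β x) (n : ℕ) : IsMultiplyPretransitive G Ω n := by
  have h : ∀ σ : Equiv.Perm Ω, ∃ g : G, ∀ x, g • x = σ x := fun σ => by
    induction σ using Equiv.Perm.swap_induction_on with
    | one => exact ⟨1, by simp⟩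
    | swap_mul f x y hxy ih =>
      obtain ⟨k, rfl, rfl⟩ := two_trans_iff.1 h2 α β x y hβ hxy
      obtain ⟨l, hl⟩ := ih
      refine ⟨k * g * k⁻¹ * l, fun z => ?_⟩
      rw [mul_smul, hl, mul_smul, mul_smul, hg, Equiv.Perm.mul_apply]
      exact ((MulAction.injective k).swap_apply α β _).symm.trans (by simp)
  refine multTrans_iff.2 fun x y hx hy => ?_
  obtain ⟨σ, hσ⟩ := multTrans_iff.1 (Equiv.Perm.isMultiplyPretransitive Ω n) x y hx hy
  exact (h σ).imp fun g hg i => (hg _).trans (hσ i)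

/-- a primitive group of rank three has no coprime subdegrees -/
theorem three_of_prime_add [Finite Ω] {q : ℕ} (hq : q.Prime) (hq2 : q ≠ 2) (hΩ : Nat.card Ω = q + 2)
    (h2 : IsMultiplyPretransitive G Ω 2)
    (hp : ∀ α : Ω, IsPreprimitive (stabilizer G α) (SubMulAction.ofStabilizer G α))
    (h4 : ∀ α β : Ω, α ≠ β → Nat.card (orbitRel.Quotient ↥(stabilizer G α ⊓ stabilizer G β) Ω) ≤ 4) :
    IsMultiplyPretransitive G Ω 3 := by
  replace h2 := two_trans_iff.1 h2
  suffices ∀ α β δ ε : Ω, α ≠ β → δ ≠ α → δ ≠ β → ε ≠ α → ε ≠ β → ∃ g : G, g • α = α ∧ g • β = β ∧ g • δ = ε by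
    refine three_trans_iff.2 fun a b c a' b' c' hab hac hbc hab' hac' hbc' => ?_
    obtain ⟨g, rfl, rfl⟩ := h2 a b a' b' hab hab'
    obtain ⟨k, h⟩ := this _ _ (g • c) c' hab' (by simpa using hac.symm) (by simpa using hbc.symm) hac'.symm hbc'.symm
    exact ⟨k * g, by simpa [mul_smul] using h⟩
  intro α β δ ε hβ h1 h3 h5 h6
  by_contra h7
  let R : Ω → Ω → Ω → Prop := fun w y z => ∃ g : G, g • α = α ∧ g • β = y ∧ g • w = z
  have hR : ∀ g : G, g • α = α → ∀ {w y z}, R w y z → R w (g • y) (g • z) := by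
    rintro g hg w _ _ ⟨k, hk, rfl, rfl⟩; exact ⟨g * k, by simp [mul_smul, hk, hg]⟩
  have hR' : ∀ g : G, g • α = α → ∀ {w y z}, R w (g • y) (g • z) → R w y z := fun g hg w y z h => by
    simpa using hR g⁻¹ (inv_smul_eq_iff.2 hg.symm) h
  have ne : ∀ {w y z}, w ≠ α → w ≠ β → R w y z → y ≠ α ∧ z ≠ α ∧ z ≠ y := by
    rintro w _ _ h1 h2 ⟨k, hk, rfl, rfl⟩
    exact ⟨fun e => hβ (MulAction.injective k (hk.trans e.symm)), fun e => h1 (MulAction.injective k (e.trans hk.symm)),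
      by simpa⟩
  have tot : ∀ {y z}, y ≠ α → z ≠ α → z ≠ y → R δ y z ∨ R ε y z := fun {y z} hy hz hzy => by
    obtain ⟨g, hg, rfl⟩ := h2 α β α y hβ hy.symm
    obtain ⟨z, rfl⟩ := (toPerm g).surjective z
    exact (tot_of_le hβ h1 h3 h5 h6 h7 (h4 _ _ hβ) (z := z) (fun e => hz (e ▸ hg)) fun e => hzy (e ▸ rfl)).imp
      (hR g hg) (hR g hg)
  let L := stabilizer G α ⊓ stabilizer G β
  have ho : ∀ w z, z ∈ orbit L w ↔ R w β z := fun w z =>
    ⟨fun ⟨l, hl⟩ => ⟨l, l.2.1, l.2.2, hl⟩, fun ⟨l, h1, h2, h3⟩ => ⟨⟨l, h1, h2⟩, h3⟩⟩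
  have h8 : (stabilizer L δ).index + (stabilizer L ε).index = q := by
    have h11 : orbit L δ ∪ orbit L ε = ({α, β} : Set Ω)ᶜ := Set.ext fun z => by
      simp only [Set.mem_union, ho, Set.mem_compl_iff, Set.mem_insert_iff, Set.mem_singleton_iff, not_or]
      exact ⟨fun h => h.elim (fun h => (ne h1 h3 h).2) fun h => (ne h5 h6 h).2, fun h => tot hβ.symm h.1 h.2⟩
    have h12 := Set.ncard_add_ncard_compl ({α, β} : Set Ω)
    rw [← h11, Set.ncard_union_eq ((orbit.eq_or_disjoint _ _).resolve_left fun e =>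
      h7 ((ho _ _).1 (e.ge (mem_orbit_self ε)))), Set.ncard_pair hβ, hΩ] at h12
    rw [← card_orbit_eq_index, ← card_orbit_eq_index, Nat.card_coe_set_eq, Nat.card_coe_set_eq]
    omega
  have h9 : (stabilizer L δ).index.Coprime (stabilizer L ε).index := by
    rw [← Nat.coprime_add_self_left, h8]
    exact (Nat.coprime_of_lt_prime FiniteIndex.index_ne_zero (by
      have := Nat.pos_of_ne_zero (FiniteIndex.index_ne_zero (H := stabilizer L δ)); omega) hq)
  have h10 : ∀ w, Nat.card (stabilizer L w) = Nat.card (stabilizer G ![α, β, w]) := fun w =>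
    Nat.card_congr ⟨fun l => ⟨l.1, funext fun i => by fin_cases i; exacts [l.1.2.1, l.1.2.2, l.2]⟩,
      fun l => ⟨⟨l, congrFun l.2 0, congrFun l.2 1⟩, congrFun l.2 2⟩, fun _ => rfl, fun _ => rfl⟩
  have s1 : ∀ {y z}, R δ y z → R δ z y := by
    suffices R δ δ β by rintro _ _ ⟨g, hg, rfl, rfl⟩; exact hR g hg this
    obtain ⟨g, hg, g2, g3⟩ := (tot h1 hβ.symm h3.symm).resolve_right fun ⟨g, hg, g2, g3⟩ => by
      have h11 : Nat.card (stabilizer L δ) = Nat.card (stabilizer L ε) := by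
        rw [h10, h10, ← card_stab_conj ![α, β, ε] g]
        congr 2
        ext k
        simp [funext_iff, Fin.forall_fin_succ, hg, g2, g3, and_comm]
      have h12 := (stabilizer L δ).card_mul_index.trans (stabilizer L ε).card_mul_index.symm
      rw [h11, Nat.mul_right_inj Nat.card_pos.ne'] at h12
      have := hq.eq_two_or_odd
      omega
    exact ⟨g, hg, g2, g3⟩
  have := hp α
  by_cases h11 : R δ ε δ
  · have h12 : ∀ z, R δ β z → R δ ε z := fun z hz => by
      obtain ⟨g, rfl⟩ := (ho _ _).2 hz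
      obtain ⟨x, hx, h⟩ := trans_of_coprime (stabilizer L ε) δ h9 g
      have := hR x x.2.1 h11
      rwa [show (x : G) • ε = ε from hx, show (x : G) • δ = _ from h] at this
    have h13 : {z | R δ β z} = {z | R δ ε z} := by
      obtain ⟨g, hg, g2⟩ := h2 α β α ε hβ h5.symm
      exact Set.eq_of_subset_of_ncard_le h12 (Set.ncard_le_ncard_of_injOn (g⁻¹ • ·)
        (fun z hz => hR' g hg (by simpa [g2] using hz)) (MulAction.injective _).injOn)
    rcases prim_rel (G := stabilizer G α) (α := SubMulAction.ofStabilizer G α)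
      (fun x y => ∀ z, R δ x z ↔ R δ y z) ⟨fun _ _ => Iff.rfl, fun h z => (h z).symm, fun h h' z => (h z).trans (h' z)⟩
      (fun g x y h z => by
        obtain ⟨z, rfl⟩ := (toPerm (g : G)).surjective z
        exact ⟨fun h' => hR g g.2 ((h z).1 (hR' g g.2 h')), fun h' => hR g g.2 ((h z).2 (hR' g g.2 h'))⟩) with h | h
    · exact h6 (congrArg Subtype.val (h ⟨β, hβ.symm⟩ ⟨ε, h5⟩ (Set.ext_iff.1 h13))).symm
    · exact (ne h1 h3 ((h ⟨β, hβ.symm⟩ ⟨δ, h1⟩ δ).1 ⟨1, by simp⟩)).2.2 rfl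
  · have h12 : ∀ {x y z}, R ε x z → R δ x y → ¬ R δ z y := by
      rintro _ y _ ⟨g, hg, rfl, rfl⟩ h h'
      obtain ⟨y, rfl⟩ := (toPerm g).surjective y
      obtain ⟨k, rfl⟩ := (ho _ _).2 (hR' g hg h)
      obtain ⟨x, hx, h⟩ := trans_of_coprime (stabilizer L ε) δ h9 k
      refine h11 (hR' x x.2.1 ?_)
      rw [show (x : G) • ε = ε from hx, show (x : G) • δ = _ from h]
      exact hR' g hg h'
    rcases prim_rel (G := stabilizer G α) (α := SubMulAction.ofStabilizer G α)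
      (fun x y => x = y ∨ R δ x y) ⟨fun _ => .inl rfl, fun h => h.imp Eq.symm s1, by
        rintro x y z (rfl | h) h'
        · exact h'
        rcases h' with rfl | h'
        · exact .inr h
        exact or_iff_not_imp_left.2 fun e => (tot x.2 z.2 fun e' => e (Subtype.ext e'.symm)).resolve_right
          fun h'' => h12 h'' h (s1 h')⟩
      (fun g x y h => h.imp (congrArg _) (hR g g.2)) with h | h
    · exact h3 (congrArg Subtype.val (h ⟨β, hβ.symm⟩ ⟨δ, h1⟩ (.inr ⟨1, by simp⟩))).symm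
    · exact (h ⟨β, hβ.symm⟩ ⟨ε, h5⟩).elim (fun e => h6 (congrArg Subtype.val e).symm) h7

end Cfsg.Agent.Perm.Md
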