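import Cfsg.Agent.Lib.Perm.Mod5
import Cfsg.Agent.S4219

/-! A limit of transitivity in terms of a prime divisor of the degree. -/

set_option autoImplicit false
set_option linter.unusedSectionVars false

namespace Cfsg.Agent.Perm.Md

open MulAction Subgroup
open scoped Pointwise

variable {G : Type*} [Group G] [Finite G] {Ω : Type*} [MulAction G Ω] [Fintype Ω] [FaithfulSMul G Ω]

theorem small_aux {R : Subgroup G} {F : Set Ω} {r m : ℕ} [hr : Fact r.Prime] (hm : m ≤ 3)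
    (hR : IsPGroup r R) (hF : ∀ g ∈ R, ∀ y ∈ F, g • y = y) (hc : Fᶜ.ncard = m * r)
    (hi : ∀ y ∉ F, (stabilizer R y).index = r)
    (h1 : ∀ g : G, (∀ y ∉ F, g • y = y) → g = 1)
    (h2 : ∀ g : G, g ^ r = 1 → ∀ S : Set Ω, S.ncard = r → (∀ y ∉ S, g • y = y) → g = 1)
    {k : ℕ} (hk : ∀ j, 0 < j → j ≤ m → j ∣ k) {n n' : G} (hn : n ∈ normalizer (R : Set G))
    (hn' : n' ∈ normalizer (R : Set G)) : (n ^ k * n' * (n ^ k)⁻¹ * n'⁻¹) ^ r = 1 := by
  classical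
  have f1 : ∀ n ∈ normalizer (R : Set G), ∀ y ∉ F, n • y ∉ F := fun n hn y hy h => by
    refine hr.out.one_lt.ne' ((hi y hy).symm.trans (index_eq_one.2 (eq_top_iff.2 fun g _ => ?_)))
    have := hF _ ((mem_normalizer_iff.1 hn g).1 g.2) _ h
    exact show (g : G) • y = y by simpa [mul_smul] using this
  have f2 : ∀ n ∈ normalizer (R : Set G), ∀ y z : Ω, z ∈ orbit R y → n • z ∈ orbit R (n • y) := by
    rintro n hn y _ ⟨g, rfl⟩
    exact ⟨⟨_, (mem_normalizer_iff.1 hn g).1 g.2⟩, by simp [mul_smul, Subgroup.smul_def]⟩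
  have f3 : ∀ y ∉ F, ∀ z ∈ orbit R y, z ∉ F := by rintro y hy _ ⟨g, rfl⟩; exact f1 g (le_normalizer g.2) y hy
  have f4 : ∀ y ∉ F, (orbit R y).ncard = r := fun y hy => (card_orbit_eq_index y).trans (hi y hy)
  have pig : ∀ {j : ℕ} (y : Fin j → Ω), m < j → (∀ i, y i ∉ F) → ∃ i l, i ≠ l ∧ y l ∈ orbit R (y i) :=
    fun {j} y hj hy => by
      by_contra! h
      have h3 := Finset.card_le_card (show Finset.univ.biUnion (fun i => (orbit R (y i)).toFinset) ⊆ Fᶜ.toFinset from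
        fun z hz => by obtain ⟨i, -, hi⟩ := Finset.mem_biUnion.1 hz; simpa using f3 _ (hy i) z (by simpa using hi))
      rw [Finset.card_biUnion fun i _ l _ e => Set.disjoint_toFinset.2 ((orbit.eq_or_disjoint _ _).resolve_left
        fun e' => h i l e (e'.ge (mem_orbit_self _))), ← Set.ncard_eq_toFinset_card', hc] at h3
      simp only [← Set.ncard_eq_toFinset_card', f4 _ (hy _), Finset.sum_const, Finset.card_univ, Fintype.card_fin,
        smul_eq_mul] at h3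
      exact absurd (Nat.le_of_mul_le_mul_right h3 hr.out.pos) (by omega)
  let N : Subgroup G :=
    { carrier := {c | c ∈ normalizer (R : Set G) ∧ ∀ y ∉ F, c • y ∈ orbit R y}
      one_mem' := ⟨one_mem _, fun y _ => by simp⟩
      mul_mem' := fun {a b} ha hb => ⟨mul_mem ha.1 hb.1, fun y hy => by
        rw [mul_smul, ← orbit_eq_iff.2 (hb.2 y hy)]; exact ha.2 _ (f1 b hb.1 y hy)⟩
      inv_mem' := fun {a} ha => ⟨inv_mem ha.1, fun y hy => by
        simpa [mem_orbit_symm] using ha.2 _ (f1 _ (inv_mem ha.1) y hy)⟩ }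
  have f5 : n ^ k ∈ N := ⟨pow_mem hn k, fun y hy => by
    have : ∀ i l : ℕ, i < l → l ≤ m → n ^ l • y ∈ orbit R (n ^ i • y) → n ^ k • y ∈ orbit R y := fun i l h3 h4 h5 => by
      obtain ⟨d, rfl⟩ := Nat.exists_eq_add_of_le h3.le
      obtain ⟨t, ht⟩ := hk d (by omega) (by omega)
      replace h5 : n ^ d • y ∈ orbit R y := by simpa [pow_add, mul_smul] using f2 _ (inv_mem (pow_mem hn i)) _ _ h5
      rw [ht]
      clear ht
      induction t with
      | zero => simp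
      | succ t ih => rw [mul_add, mul_one, pow_add, mul_smul, ← orbit_eq_iff.2 ih]; exact f2 _ (pow_mem hn _) _ _ h5
    obtain ⟨i, l, h3, h4⟩ := pig (fun i : Fin (m + 1) => n ^ (i : ℕ) • y) m.lt_succ_self fun i => f1 _ (pow_mem hn _) y hy
    rcases lt_or_gt_of_ne h3 with h | h
    exacts [this i l h l.is_le h4, this l i h i.is_le (mem_orbit_symm.1 h4)]⟩
  generalize n ^ k = c at f5
  have f6 : ∀ y ∉ F, (stabilizer R y).Normal := fun y hy => by
    obtain ⟨j, hj⟩ := hR.exists_card_eq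
    refine normal_of_index_eq_minFac_card ?_
    rw [hi y hy, hj, hr.out.pow_minFac]
    rintro rfl
    exact hr.out.one_lt.ne' (Nat.dvd_one.1 (hi y hy ▸ (pow_zero r ▸ hj ▸ index_dvd_card _)))
  have f7 : ∀ y ∉ F, ∀ z ∈ orbit R y, stabilizer R z = stabilizer R y := by
    rintro y hy _ ⟨g, rfl⟩
    have := f6 y hy
    exact (stabilizer_smul_eq_stabilizer_map_conj g y).trans (Normal.map_conj_eq _ g)
  have f8 : ∀ y, ∃ φ : R →* Multiplicative (ZMod r), y ∉ F → φ.ker = stabilizer R y ∧ Function.Surjective φ := fun y => by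
    by_cases hy : y ∈ F
    · exact ⟨1, fun h => (h hy).elim⟩
    have := f6 y hy
    let e := mulEquivOfPrimeCardEq (G := R ⧸ stabilizer R y) (G' := Multiplicative (ZMod r)) (hi y hy) (by simp)
    exact ⟨e.toMonoidHom.comp (QuotientGroup.mk' _), fun _ => ⟨by ext; simp, e.surjective.comp (QuotientGroup.mk'_surjective _)⟩⟩
  choose φ f8 using f8
  have f9 : ∀ g : R, (∀ y ∉ F, φ y g = 1) → g = 1 := fun g h =>
    Subtype.ext (h1 g fun y hy => (f8 y hy).1.le (h y hy))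
  have f10 : ∀ g : R, g ^ r = 1 := fun g => f9 _ fun y _ => by
    rw [map_pow, ← ofAdd_toAdd (φ y g), ← ofAdd_nsmul]; simp
  let γ : R →* R := (normalizerMonoidHom R ⟨c, f5.1⟩ : R ≃* R)
  have g1 : ∀ y, ∃ a : ZMod r, y ∉ F → ∀ g, (φ y (γ g)).toAdd = a * (φ y g).toAdd := fun y => by
    by_cases hy : y ∈ F
    · exact ⟨1, fun h => (h hy).elim⟩
    obtain ⟨u, hu⟩ := (f8 y hy).2 (.ofAdd 1)
    refine ⟨(φ y (γ u)).toAdd, fun _ g => ?_⟩
    have h3 : (u ^ (φ y g).toAdd.val)⁻¹ * g ∈ stabilizer R y := (f8 y hy).1.le (by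
      rw [MonoidHom.mem_ker, map_mul, map_inv, map_pow, hu, ← ofAdd_nsmul]; simp)
    have h4 : γ ((u ^ (φ y g).toAdd.val)⁻¹ * g) ∈ (φ y).ker := by
      rw [(f8 y hy).1, ← f7 y hy _ (f5.2 y hy)]
      change (c * _ * c⁻¹) • c • y = c • y
      rw [mul_smul, inv_smul_smul, mul_smul]
      exact congrArg _ h3
    rw [MonoidHom.mem_ker, map_mul, map_inv, map_pow, map_mul, map_inv, map_pow, inv_mul_eq_one] at h4
    rw [← h4]; simp [mul_comm]
  choose A g1 using g1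
  have g2 : ∀ y ∉ F, ∀ (a : ZMod r) g, (φ y (γ g * (g ^ a.val)⁻¹)).toAdd = (A y - a) * (φ y g).toAdd :=
    fun y hy a g => by simp [g1 y hy, sub_eq_add_neg, add_mul]
  have g3 : ∀ y ∉ F, ∀ z ∈ orbit R y, A z = A y := fun y hy z hz => by
    obtain ⟨u, hu⟩ := (f8 z (f3 y hy z hz)).2 (.ofAdd 1)
    have h3 : γ u * (u ^ (A y).val)⁻¹ ∈ (φ y).ker := toAdd_eq_zero.1 (by rw [g2 y hy]; simp)
    rw [(f8 y hy).1, ← f7 y hy z hz, ← (f8 z (f3 y hy z hz)).1, MonoidHom.mem_ker, ← toAdd_eq_zero,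
      g2 z (f3 y hy z hz), hu] at h3
    simpa [sub_eq_zero] using h3
  have g4 : ∀ a b c d, a ∉ F → b ∉ F → c ∉ F → d ∉ F → b ∈ orbit R a ∨ c ∈ orbit R a ∨ d ∈ orbit R a ∨
      c ∈ orbit R b ∨ d ∈ orbit R b ∨ d ∈ orbit R c := fun a b c d ha hb hc hd => by
    obtain ⟨i, l, h3, h4⟩ := pig ![a, b, c, d] (by omega) (by simp [Fin.forall_fin_succ, ha, hb, hc, hd])
    have h5 := And.intro h4 (mem_orbit_symm.1 h4)
    revert h3 h5
    fin_cases i <;> fin_cases l <;> simp +contextual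
  have g5 : ∀ y ∉ F, ∀ z ∉ F, A y = A z := fun y1 hy1 y2 hy2 => by
    by_contra h3
    obtain ⟨y, hy, h4, z, hz, h5⟩ : ∃ y ∉ F, (∀ z ∉ F, z ∉ orbit R y → A z ≠ A y) ∧ ∃ z ∉ F, z ∉ orbit R y := by
      by_contra! h4
      by_cases k1 : ∀ z ∉ F, z ∉ orbit R y1 → A z ≠ A y1
      · exact h3 (g3 _ hy1 _ (h4 y1 hy1 k1 y2 hy2)).symm
      by_cases k2 : ∀ z ∉ F, z ∉ orbit R y2 → A z ≠ A y2
      · exact h3 (g3 _ hy2 _ (h4 y2 hy2 k2 y1 hy1))
      push Not at k1 k2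
      obtain ⟨z1, k1, k3, k4⟩ := k1
      obtain ⟨z2, k2, k5, k6⟩ := k2
      rcases g4 y1 z1 y2 z2 hy1 k1 hy2 k2 with h | h | h | h | h | h
      exacts [k3 h, h3 (g3 _ hy1 _ h).symm, h3 ((g3 _ hy1 _ h).symm.trans k6), h3 (k4.symm.trans (g3 _ k1 _ h).symm),
        h3 (k4.symm.trans ((g3 _ k1 _ h).symm.trans k6)), k5 h]
    obtain ⟨w, hw, h6, h7⟩ : ∃ w ∉ F, w ∉ orbit R y ∧ ∀ x ∉ F, x ∉ orbit R y → A x = A z ∨ A x = A w := by
      by_cases h : ∃ w ∉ F, w ∉ orbit R y ∧ w ∉ orbit R z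
      · obtain ⟨w, hw, h6, h7⟩ := h
        refine ⟨w, hw, h6, fun x hx h8 => ?_⟩
        rcases g4 y z w x hy hz hw hx with h | h | h | h | h | h
        exacts [(h5 h).elim, (h6 h).elim, (h8 h).elim, (h7 h).elim, .inl (g3 _ hz _ h), .inr (g3 _ hw _ h)]
      · push Not at h
        exact ⟨z, hz, h5, fun x hx h8 => .inl (g3 _ hz _ (h x hx h8))⟩
    obtain ⟨u, hu⟩ := (f8 y hy).2 (.ofAdd 1)
    have h8 := g2 y hy (A z) (γ u * (u ^ (A w).val)⁻¹)
    rw [show γ (γ u * (u ^ (A w).val)⁻¹) * _ = 1 from Subtype.ext (h2 _ (congrArg Subtype.val (f10 (γ (γ u * (u ^ (A w).val)⁻¹) *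
      ((γ u * (u ^ (A w).val)⁻¹) ^ (A z).val)⁻¹))) _ (f4 y hy) fun x hx => by
        by_cases hx' : x ∈ F
        · exact hF _ (Subtype.prop _) x hx'
        refine (f8 x hx').1.le (toAdd_eq_zero.1 ?_)
        rw [g2 x hx', g2 x hx']
        rcases h7 x hx' hx with h | h <;> simp [h]), g2 y hy, hu] at h8
    simp [sub_eq_zero, (h4 z hz h5).symm, (h4 w hw h6).symm] at h8
  obtain ⟨a, g6⟩ : ∃ a : ℕ, ∀ g ∈ R, c * g * c⁻¹ = g ^ a := by
    by_cases h : ∃ y, y ∉ F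
    · obtain ⟨y, hy⟩ := h
      exact ⟨(A y).val, fun g hg => congrArg Subtype.val (mul_inv_eq_one.1 (f9 _ fun z hz =>
        toAdd_eq_zero.1 (by rw [g2 z hz (A y) ⟨g, hg⟩, g5 z hz y hy]; simp)))⟩
    · exact ⟨1, fun g hg => by rw [h1 g fun y hy => (h ⟨y, hy⟩).elim]; simp⟩
  have g7 : ∀ g ∈ R, Commute (c * n' * c⁻¹ * n'⁻¹) g := fun g hg => by
    have h3 := (mem_normalizer_iff''.1 f5.1 _).1 ((mem_normalizer_iff''.1 hn' g).1 hg)
    have h4 := g6 _ ((mem_normalizer_iff.1 hn' _).1 h3)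
    rw [conj_pow, ← g6 _ h3] at h4
    have : c * n' * c⁻¹ * n'⁻¹ * g * (c * n' * c⁻¹ * n'⁻¹)⁻¹ = g := by
      calc _ = c * (n' * (c⁻¹ * (n'⁻¹ * g * n') * c) * n'⁻¹) * c⁻¹ := by group
        _ = g := by rw [h4]; group
    exact mul_inv_eq_iff_eq_mul.1 this
  refine h1 _ fun y hy => ?_
  obtain ⟨u, hu⟩ : (c * n' * c⁻¹ * n'⁻¹) • y ∈ orbit R y := by
    have h3 := f2 _ hn' _ _ ((inv_mem f5).2 _ (f1 _ (inv_mem hn') y hy))
    rw [smul_inv_smul] at h3
    simp only [mul_smul]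
    exact orbit_eq_iff.2 h3 ▸ f5.2 _ (f3 y hy _ h3)
  have h3 : ∀ j : ℕ, (c * n' * c⁻¹ * n'⁻¹) ^ j • y = (u : G) ^ j • y := fun j => by
    induction j with
    | zero => simp
    | succ j ih => rw [pow_succ', mul_smul, ih, ← mul_smul, g7 _ (pow_mem u.2 j), mul_smul, ← hu, pow_succ, mul_smul]; rfl
  rw [h3, ← coe_pow, f10]; simp

theorem small_supp {f m r k : ℕ} (hr : r.Prime) (h0 : 0 < m) (hm : m ≤ 3) (hmr : m < r) (hΩ : Nat.card Ω = f + m * r)
    (hG : IsMultiplyPretransitive G Ω (f + 1)) (hk : ∀ j, 0 < j → j ≤ m → j ∣ k) {σ σ' : Equiv.Perm (Fin f)}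
    (hσ : (σ ^ k * σ' * (σ ^ k)⁻¹ * σ'⁻¹) ^ r ≠ 1) :
    ∃ g : G, g ≠ 1 ∧ ∃ S : Set Ω, (∀ y ∉ S, g • y = y) ∧ (S.ncard = f ∨ S.ncard = r ∧ g ^ r = 1) := by
  classical
  have := Fact.mk hr
  by_contra! hn
  obtain ⟨x⟩ : Nonempty (Fin f ↪ Ω) :=
    Function.Embedding.nonempty_of_card_le (by rw [Fintype.card_fin, ← Nat.card_eq_fintype_card]; omega)
  have h1 : (Set.range x).ncard = f := by rw [Set.ncard_range_of_injective x.injective, Nat.card_fin]
  have h2 : (Set.range x)ᶜ.ncard = m * r := by have := Set.ncard_add_ncard_compl (Set.range x); omega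
  obtain ⟨P⟩ : Nonempty (Sylow r (stabilizer G x)) := inferInstance
  have h3 : ∀ g ∈ (P : Subgroup (stabilizer G x)).map (stabilizer G x).subtype, ∀ y ∈ Set.range x, g • y = y := by
    rintro _ ⟨g, -, rfl⟩ _ ⟨i, rfl⟩; exact (mem_stab_emb x _).1 g.2 i
  have h4 : ∀ σ : Equiv.Perm (Fin f), ∃ n ∈ normalizer (((P : Subgroup (stabilizer G x)).map
      (stabilizer G x).subtype : Subgroup G) : Set G), ∀ i, n • x i = x (σ i) := fun σ => by
    obtain ⟨n, hn, h⟩ := S4219.result (isMultiplyPretransitive_of_le (G := G) (α := Ω) f.le_succ (by nlinarith)) x P x (σ.toEmbedding.trans x)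
      (fun i g => h3 g g.2 _ ⟨_, rfl⟩) fun i g => h3 g g.2 _ ⟨_, rfl⟩
    exact ⟨n, hn, DFunLike.congr_fun h⟩
  choose n h4 h5 using h4
  have h6 := small_aux hm (P.isPGroup'.map _) h3 h2 (fun y hy => ?_)
    (fun g h => by_contra fun e => (hn g e _ h).1 h1) (fun g h S hS h' => by_contra fun e => (hn g e S h').2 hS h)
    hk (h4 σ) (h4 σ')
  · have h7 : ∀ (g : G) (τ : Equiv.Perm (Fin f)), (∀ i, g • x i = x (τ i)) → ∀ (j : ℕ) i, g ^ j • x i = x ((τ ^ j) i) :=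
      fun g τ h j i => by
        induction j with
        | zero => simp
        | succ j ih => rw [pow_succ', mul_smul, ih, h, pow_succ']; rfl
    have h8 : ∀ (g : G) (τ : Equiv.Perm (Fin f)), (∀ i, g • x i = x (τ i)) → ∀ i, g⁻¹ • x i = x (τ⁻¹ i) :=
      fun g τ h i => by rw [inv_smul_eq_iff, h]; simp
    refine hσ (Equiv.ext fun i => x.injective ((h7 _ _ (fun i => ?_) r i).symm.trans (by rw [h6, one_smul]; rfl)))
    simp only [mul_smul, h8 _ _ (h5 σ'), h8 _ _ (h7 _ _ (h5 σ) k), h5, h7 _ _ (h5 σ), Equiv.Perm.mul_apply]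
  have h7 : orbit (stabilizer G x) y = (Set.range x)ᶜ := Set.ext fun z => ⟨by
    rintro ⟨g, rfl⟩ ⟨i, hi⟩
    exact hy ⟨i, MulAction.injective (g : G) (((mem_stab_emb x _).1 g.2 i).trans hi)⟩, fun hz => by
      obtain ⟨g, hg⟩ := multTrans_iff.1 hG (Fin.cons y x) (Fin.cons z x) (Fin.cons_injective_iff.2 ⟨hy, x.injective⟩)
        (Fin.cons_injective_iff.2 ⟨hz, x.injective⟩)
      exact ⟨⟨g, (mem_stab_emb x _).2 fun i => hg i.succ⟩, hg 0⟩⟩
  obtain ⟨j, hj⟩ := (P.isPGroup'.map (stabilizer G x).subtype).index (stabilizer _ y)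
  have h8 := Set.ncard_le_ncard (show orbit ((P : Subgroup (stabilizer G x)).map (stabilizer G x).subtype) y ⊆
    (Set.range x)ᶜ by rintro _ ⟨⟨_, g, -, rfl⟩, rfl⟩; exact h7.le ⟨g, rfl⟩)
  rw [h2, ← Nat.card_coe_set_eq, card_orbit_eq_index, hj] at h8
  rcases j with _ | _ | j
  · refine (P.not_dvd_index (Dvd.dvd.trans ?_ (index_dvd_of_le (K := stabilizer _ y) fun g hg =>
      (index_eq_one.1 hj).ge (mem_top ⟨g, g, hg, rfl⟩)))).elim
    rw [← card_orbit_eq_index, h7, Nat.card_coe_set_eq, h2]; simp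
  · simpa using hj
  · have := hr.pos
    have : r * r ≤ r ^ (j + 1 + 1) := by rw [← sq]; exact Nat.pow_le_pow_right hr.pos (by omega)
    nlinarith

end Cfsg.Agent.Perm.Md
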