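import Mathlib
import Cfsg.Agent.Lib.Transfer.Hall

/-! Orders of nilpotent permutation groups. -/

set_option autoImplicit false

namespace Cfsg.Agent.Perm.Nil
open Equiv Equiv.Perm MulAction Subgroup

theorem decomp (G : Type*) [Group G] [Finite G] [Group.IsNilpotent G] (p : ℕ) [Fact p.Prime] :
    ∃ (P : Sylow p G) (B : Subgroup G), B.Normal ∧ B.IsComplement' P ∧ ¬ p ∣ Nat.card B ∧
      ∀ a ∈ (P : Subgroup G), ∀ b ∈ B, Commute a b := by
  obtain ⟨P, B, h1, h2⟩ := Transfer.hasNPC_of_nilpotent (G := G) (p := p)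
  refine ⟨P, B, h1, h2, h2.index_eq_card ▸ P.not_dvd_index, fun a ha b hb => ?_⟩
  exact commute_of_normal_of_disjoint _ _ inferInstance h1 h2.disjoint.symm a b ha hb

theorem pgrp {G X : Type*} [Group G] [Finite G] [MulAction G X] [Finite X] [FaithfulSMul G X]
    [Nonempty X] {p : ℕ} [hp : Fact p.Prime] (h : IsPGroup p G) :
    ∃ e, Nat.card G = p ^ e ∧ (p - 1) * e ≤ Nat.card X - 1 := by
  obtain ⟨e, he⟩ := IsPGroup.iff_card.1 h
  have := card_dvd_of_injective (toPermHom G X) toPerm_injective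
  rw [he, Nat.card_perm, padicValNat_dvd_iff_le (Nat.factorial_ne_zero _)] at this
  have h2 := sub_one_mul_padicValNat_factorial_lt_of_ne_zero p (Nat.card_pos (α := X)).ne'
  exact ⟨e, he, Nat.le_sub_one_of_lt ((Nat.mul_le_mul_left _ this).trans_lt h2)⟩

theorem sq_le {p : ℕ} (h : 3 ≤ p) : p ^ 2 ≤ 3 ^ (p - 1) ∧ (5 ≤ p → p ^ 2 ≤ 3 ^ (p - 2)) := by
  have k : ∀ n, (n + 5) ^ 2 ≤ 3 ^ (n + 3) := fun n => by
    induction n with
    | zero => norm_num
    | succ n ih => rw [show n + 1 + 3 = n + 3 + 1 by ring, pow_succ 3]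
                   have : (n + 1 + 5) ^ 2 ≤ (n + 5) ^ 2 * 3 := by ring_nf; omega
                   omega
  by_cases h5 : 5 ≤ p
  · obtain ⟨n, rfl⟩ := Nat.exists_eq_add_of_le' h5
    exact ⟨(k n).trans (Nat.pow_le_pow_right (by norm_num) (by omega)), fun _ => k n⟩
  · interval_cases p <;> simp

/-- exponent bound -/
def E (r : ℕ) : ℕ := if r = 7 then 4 else if r = 3 ∨ r % 9 = 0 then r - 1 else r - 2

theorem E_add {a b : ℕ} (h : 0 < a) : E a + E b ≤ E (b + a) := by
  unfold E; split_ifs <;> omega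

theorem faith {G X : Type*} [Group G] [MulAction G X] [FaithfulSMul G X] [IsPretransitive G X]
    {A B : Subgroup G} (h1 : ∀ g, ∃ a ∈ A, ∃ b ∈ B, g = a * b) (h2 : ∀ a ∈ A, ∀ b ∈ B, Commute a b)
    (x : X) : FaithfulSMul A (orbit A x) := ⟨fun {a a'} h => by
  refine Subtype.ext (eq_of_smul_eq_smul (α := X) fun y => ?_)
  obtain ⟨g, rfl⟩ := exists_smul_eq G x y
  obtain ⟨c, hc, b, hb, rfl⟩ := h1 g
  have := congrArg Subtype.val (h ⟨c • x, ⟨c, hc⟩, rfl⟩)
  change a.1 • c • x = a'.1 • c • x at this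
  rw [(h2 c hc b hb).eq, mul_smul, ← mul_smul, (h2 _ a.2 b hb).eq, mul_smul, this, ← mul_smul a'.1 b,
    (h2 _ a'.2 b hb).eq, mul_smul]⟩

theorem trans_bound (r : ℕ) : ∀ (G X : Type) [Group G] [Finite G] [Group.IsNilpotent G] [MulAction G X]
    [Finite X] [FaithfulSMul G X] [IsPretransitive G X] [Nonempty X], Nat.card X = r →
    Nat.card G ≤ 2 ^ (r - 1) ∧ (¬ IsPGroup 2 G → Nat.card G ^ 2 ≤ 3 ^ E r) := by
  induction r using Nat.strong_induction_on with
  | _ r ih =>
    intro G X _ _ _ _ _ _ _ _ hr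
    by_cases h2 : IsPGroup 2 G
    · obtain ⟨e, h1, h3⟩ := pgrp (X := X) h2
      exact ⟨h1 ▸ Nat.pow_le_pow_right (by norm_num) (by omega), fun h => absurd h2 h⟩
    suffices h : Nat.card G ^ 2 ≤ 3 ^ E r by
      refine ⟨?_, fun _ => h⟩
      rw [← Nat.pow_le_pow_iff_left two_ne_zero, ← pow_mul, mul_comm, pow_mul]
      refine h.trans ((Nat.pow_le_pow_left (by norm_num) _).trans (Nat.pow_le_pow_right (by norm_num) ?_))
      unfold E; split_ifs <;> omega
    obtain ⟨p, hp, hd, hp2⟩ : ∃ p, p.Prime ∧ p ∣ Nat.card G ∧ p ≠ 2 := by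
      by_contra h
      push Not at h
      exact h2 (IsPGroup.iff_card.2 ⟨_, Nat.eq_prime_pow_of_unique_prime_dvd Nat.card_pos.ne'
        fun {d} a b => h d a b⟩)
    haveI := Fact.mk hp
    have p3 : 3 ≤ p := by have := hp.two_le; omega
    obtain ⟨A, B, b1, b2, b3, b4⟩ := decomp G p
    obtain ⟨x⟩ := ‹Nonempty X›
    have gen : ∀ g, ∃ b ∈ B, ∃ a ∈ (A : Subgroup G), g = b * a := fun g => by
      obtain ⟨⟨b, a⟩, rfl⟩ := b2.2 g
      exact ⟨b, b.2, a, a.2, rfl⟩
    haveI := faith gen (fun b hb a ha => (b4 a ha b hb).symm) x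
    haveI := faith (A := A) (B := B) (fun g => by
      obtain ⟨b, hb, a, ha, rfl⟩ := gen g
      exact ⟨a, ha, b, hb, (b4 a ha b hb).eq.symm⟩) b4 x
    haveI := (nonempty_orbit (M := (A : Subgroup G)) x).to_subtype
    haveI := (nonempty_orbit (M := B) x).to_subtype
    obtain ⟨e, e1, e2⟩ := pgrp (X := orbit (A : Subgroup G) x) A.2
    have cd := b2.card_mul
    have e0 : e ≠ 0 := by
      rintro rfl
      rw [e1, pow_zero, mul_one] at cd
      exact b3 (cd ▸ hd)
    set a := Nat.card (orbit (A : Subgroup G) x)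
    set b := Nat.card (orbit B x)
    have da : a ∣ r := hr ▸ (IsBlock.orbit_of_normal x).ncard_dvd_card (nonempty_orbit x)
    have db : b ∣ r := hr ▸ (IsBlock.orbit_of_normal x).ncard_dvd_card (nonempty_orbit x)
    have ca : a ∣ p ^ e := by
      rw [← e1]; simp only [a]; rw [Nat.card_coe_set_eq, ← index_stabilizer]; exact index_dvd_card _
    have cb : b ∣ Nat.card B := by
      simp only [b]; rw [Nat.card_coe_set_eq, ← index_stabilizer]; exact index_dvd_card _
    have cop : a.Coprime b := Nat.Coprime.coprime_dvd_left ca (Nat.Coprime.coprime_dvd_right cb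
      (((Nat.Prime.coprime_iff_not_dvd hp).2 b3).pow_left e))
    have dab := cop.mul_dvd_of_dvd_of_dvd da db
    have r0 : 0 < r := hr ▸ Nat.card_pos
    have lab := Nat.le_of_dvd r0 dab
    have a3 : p ≤ a := by
      have : (p - 1) * 1 ≤ (p - 1) * e := Nat.mul_le_mul_left _ (by omega)
      omega
    have b0 : 0 < b := Nat.card_pos
    obtain ⟨q1, q2⟩ := sq_le p3
    have br : b < r := by nlinarith
    have hb := (ih b br B (orbit B x) rfl).1
    by_cases b1 : b = 1
    · rw [b1] at hb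
      have cB : Nat.card B = 1 := le_antisymm hb Nat.card_pos
      rw [cB, one_mul, e1] at cd
      have dr : r ∣ p ^ e := by
        rw [cd, ← hr, ← Set.ncard_univ, ← orbit_eq_univ G x, ← index_stabilizer]; exact index_dvd_card _
      obtain ⟨k, -, hk⟩ := (Nat.dvd_prime_pow hp).1 dr
      have ar := Nat.le_of_dvd r0 da
      rw [← cd, ← pow_mul, mul_comm, pow_mul]
      by_cases h3 : p = 3
      · subst h3
        rw [← pow_mul]
        refine Nat.pow_le_pow_right (by norm_num) ?_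
        have : r = 1 ∨ r = 3 ∨ r % 9 = 0 := by
          rcases k with _ | _ | k
          · exact Or.inl hk
          · exact Or.inr (Or.inl hk)
          · right; right; rw [hk, pow_succ, pow_succ]; omega
        unfold E; split_ifs <;> omega
      have p5 : 5 ≤ p := by
        by_contra h
        have : p = 4 := by omega
        subst this; exact absurd hp (by decide)
      by_cases h7 : r = 7
      · have : p = 7 := by
          have : p ∣ 7 := by
            rw [← h7, hk]; refine dvd_pow_self p ?_; rintro rfl; simp at hk; omega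
          exact (Nat.prime_dvd_prime_iff_eq hp (by norm_num)).1 this
        subst this
        obtain rfl : e = 1 := by omega
        rw [h7]; decide
      refine (Nat.pow_le_pow_left (q2 p5) e).trans ?_
      rw [← pow_mul]
      refine Nat.pow_le_pow_right (by norm_num) ?_
      have : (p - 1) * e = (p - 2) * e + e := by rw [show p - 1 = p - 2 + 1 by omega]; ring
      unfold E; split_ifs <;> omega
    · have h7 : r ≠ 7 := by
        rintro rfl
        rcases (Nat.dvd_prime (by norm_num)).1 db with h | h <;> omega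
      rw [← cd, mul_pow, e1, ← pow_mul p, mul_comm e, pow_mul]
      have t1 := (Nat.pow_le_pow_left q1 e)
      rw [← pow_mul 3] at t1
      have t2 : Nat.card B ^ 2 ≤ 3 ^ (2 * (b - 1)) := by
        rw [mul_comm, pow_mul]
        exact Nat.pow_le_pow_left (hb.trans (Nat.pow_le_pow_left (by norm_num) _)) 2
      refine (Nat.mul_le_mul t2 t1).trans ?_
      rw [← pow_add]
      refine Nat.pow_le_pow_right (by norm_num) ?_
      obtain ⟨a', ha'⟩ : ∃ a', a = a' + 3 := ⟨a - 3, by omega⟩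
      obtain ⟨b', hb'⟩ : ∃ b', b = b' + 2 := ⟨b - 2, by omega⟩
      rw [ha', hb'] at lab
      have : (a' + 3) * (b' + 2) = a' * b' + 2 * a' + 3 * b' + 6 := by ring
      unfold E; split_ifs <;> omega

theorem orb_bound {G Ω : Type} [Group G] [Finite G] [Group.IsNilpotent G] [MulAction G Ω] [Finite Ω]
    {x : Ω} {g : G} (h1 : Odd (orderOf g)) (h2 : g • x ≠ x) :
    (fixingSubgroup G (orbit G x)).index ^ 2 ≤ 3 ^ E (orbit G x).ncard := by
  set φ := toPermHom G (orbit G x)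
  haveI : Group.IsNilpotent φ.range := Group.nilpotent_of_surjective _ φ.rangeRestrict_surjective
  haveI : IsPretransitive φ.range (orbit G x) := ⟨fun a b => by
    obtain ⟨g, hg⟩ := exists_smul_eq G a b
    exact ⟨⟨φ g, g, rfl⟩, hg⟩⟩
  have e : fixingSubgroup G (orbit G x) = φ.ker := by
    ext k
    rw [mem_fixingSubgroup_iff, MonoidHom.mem_ker, Equiv.ext_iff]
    exact ⟨fun h y => Subtype.ext (h y y.2), fun h y hy => congrArg Subtype.val (h ⟨y, hy⟩)⟩
  rw [e, index_ker, ← Nat.card_coe_set_eq]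
  haveI := (nonempty_orbit (M := G) x).to_subtype
  refine (trans_bound _ φ.range (orbit G x) rfl).2 fun h => h2 ?_
  obtain ⟨k, hk⟩ := h (φ.rangeRestrict g)
  have := Nat.eq_one_of_dvd_coprimes ((Nat.coprime_two_left.2 h1).pow_left k)
    (orderOf_dvd_of_pow_eq_one hk) (orderOf_map_dvd _ g)
  rw [orderOf_eq_one_iff, Subtype.ext_iff] at this
  exact congrArg Subtype.val (Equiv.ext_iff.1 this ⟨x, mem_orbit_self x⟩)

theorem inv_bound {G Ω : Type} [Group G] [Finite G] [Group.IsNilpotent G] [MulAction G Ω] [Finite Ω]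
    (n : ℕ) : ∀ S : Set Ω, S.ncard = n → (∀ g : G, ∀ x ∈ S, g • x ∈ S) →
      (∀ x ∈ S, ∃ g : G, Odd (orderOf g) ∧ g • x ≠ x) → (fixingSubgroup G S).index ^ 2 ≤ 3 ^ E n := by
  induction n using Nat.strong_induction_on with
  | _ n ih =>
    intro S hS hinv hP
    rcases S.eq_empty_or_nonempty with rfl | ⟨x, hx⟩
    · rw [fixingSubgroup_empty, index_top, one_pow]; exact Nat.one_le_pow _ _ (by norm_num)
    have sub : orbit G x ⊆ S := by rintro _ ⟨g, rfl⟩; exact hinv g x hx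
    have pos : 0 < (orbit G x).ncard := (Set.ncard_pos (Set.toFinite _)).2 ⟨x, mem_orbit_self x⟩
    have e := Set.ncard_diff_add_ncard_of_subset sub (Set.toFinite _)
    have h1 := ih (S \ orbit G x).ncard (by omega) _ rfl (fun g y hy => ⟨hinv g y hy.1, fun h => hy.2 (by
      obtain ⟨k, hk⟩ := h
      exact ⟨g⁻¹ * k, by simp only [mul_smul] at hk ⊢; rw [hk, inv_smul_smul]⟩)⟩) fun y hy => hP y hy.1
    obtain ⟨g, g1, g2⟩ := hP x hx
    have h2 := orb_bound g1 g2
    rw [← Set.union_diff_cancel sub, fixingSubgroup_union, ← hS, ← e]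
    refine (Nat.pow_le_pow_left index_inf_le 2).trans ?_
    rw [mul_pow]
    refine (Nat.mul_le_mul h2 h1).trans ?_
    rw [← pow_add]
    exact Nat.pow_le_pow_right (by norm_num) (E_add pos)

/-- the exponent of 2 in `n!` -/
noncomputable abbrev v (n : ℕ) : ℕ := padicValNat 2 n.factorial

theorem le_v {k n : ℕ} (h : 2 ^ k ∣ n.factorial) : k ≤ v n :=
  (padicValNat_dvd_iff_le (Nat.factorial_ne_zero _)).1 h

theorem v_add (a b : ℕ) : v a + v b ≤ v (a + b) := le_v (by
  rw [pow_add]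
  exact (mul_dvd_mul pow_padicValNat_dvd pow_padicValNat_dvd).trans
    (Nat.factorial_mul_factorial_dvd_factorial_add a b))

theorem v_succ (n : ℕ) : v (n + 1) = padicValNat 2 (n + 1) + v n :=
  padicValNat.mul (by omega) (Nat.factorial_ne_zero _)

theorem v_three (n : ℕ) : (n % 4 = 0 → v (n + 3) = v n + 1) ∧ (n % 4 ≠ 0 → v n + 2 ≤ v (n + 3)) := by
  rw [v_succ, v_succ, v_succ]
  have o : ∀ m, ¬ 2 ∣ m → padicValNat 2 m = 0 := fun m => padicValNat.eq_zero_of_not_dvd
  have l : ∀ k m, m ≠ 0 → (2 ^ k ∣ m ↔ k ≤ padicValNat 2 m) := fun k m h => padicValNat_dvd_iff_le h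
  have a1 := l 2 (n + 1) (by omega)
  have a2 := l 2 (n + 1 + 1) (by omega)
  have a3 := l 2 (n + 2 + 1) (by omega)
  have a4 := l 1 (n + 1 + 1) (by omega)
  have a5 := o (n + 1)
  have a6 := o (n + 2 + 1)
  omega

theorem big (n : ℕ) : 4 * 3 ^ (n + 15) ≤ 4 ^ v (n + 16) := by
  induction n using Nat.strong_induction_on with
  | _ n ih =>
    by_cases h : n < 8
    · have : ∀ n < 8, 2 ^ ([15, 15, 16, 16, 18, 18, 19, 19].getD n 0) ∣ (n + 16).factorial ∧
        4 * 3 ^ (n + 15) ≤ 4 ^ ([15, 15, 16, 16, 18, 18, 19, 19].getD n 0) := by decide +kernel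
      exact (this n h).2.trans (Nat.pow_le_pow_right (by norm_num) (le_v (this n h).1))
    · obtain ⟨m, rfl⟩ := Nat.exists_eq_add_of_le' (not_lt.1 h)
      have h1 := ih m (by omega)
      have h2 := v_add (m + 16) 8
      have h3 : 7 ≤ v 8 := le_v (by decide)
      calc _ = 4 * 3 ^ (m + 15) * 3 ^ 8 := by ring
        _ ≤ 4 ^ v (m + 16) * 4 ^ 7 := Nat.mul_le_mul h1 (by norm_num)
        _ ≤ _ := by
          rw [← pow_add, show m + 8 + 16 = m + 16 + 8 by ring]
          exact Nat.pow_le_pow_right (by norm_num) (by omega)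

theorem big' {s n : ℕ} (h : s ≤ n) (hn : 16 ≤ n) : 4 * 3 ^ E s ≤ 4 ^ v n := by
  obtain ⟨m, rfl⟩ := Nat.exists_eq_add_of_le' hn
  refine le_trans (Nat.mul_le_mul_left _ (Nat.pow_le_pow_right (by norm_num) ?_)) (big m)
  unfold E; split_ifs <;> omega

/-- small values -/
def tb (n : ℕ) : ℕ := [0, 0, 1, 1, 3, 3, 4, 4, 7, 7, 8, 8, 10, 10, 11, 11].getD n 0

theorem tb_le {n : ℕ} (h : n < 16) : 4 ^ tb n ≤ 4 ^ v n := by
  have : ∀ n < 16, 2 ^ tb n ∣ n.factorial := by decide +kernel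
  exact Nat.pow_le_pow_right (by norm_num) (le_v (this n h))

theorem sq_two (k : ℕ) : (2 ^ k) ^ 2 = 4 ^ k := by rw [← pow_mul, mul_comm, pow_mul]; rfl

theorem n1 {s I : ℕ} (h : s ≠ 3) (hI : I ^ 2 ≤ 3 ^ E s) : I ≤ 2 ^ v s := by
  rw [← Nat.pow_le_pow_iff_left two_ne_zero, sq_two]
  by_cases h16 : s < 16
  · have : ∀ s < 16, s ≠ 3 → 3 ^ E s ≤ 4 ^ tb s := by decide +kernel
    exact hI.trans ((this s h16 h).trans (tb_le h16))
  · have := big' le_rfl (not_lt.1 h16); omega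

theorem n2 {s n I : ℕ} (h1 : s ≤ n) (h2 : n ≤ s + 1) (h3 : n % 4 ≠ 3) (h4 : 2 < n) (h5 : n ≠ 5)
    (h6 : n ≠ 6) (h9 : n ≠ 9) (hI : I ^ 2 ≤ 3 ^ E s) : 2 * I ≤ 2 ^ v n := by
  rw [← Nat.pow_le_pow_iff_left two_ne_zero, sq_two, mul_pow]
  by_cases h16 : n < 16
  · have : ∀ n < 16, ∀ s ≤ n, (n ≤ s + 1 ∧ n % 4 ≠ 3 ∧ 2 < n ∧ n ≠ 5 ∧ n ≠ 6 ∧ n ≠ 9) →
      4 * 3 ^ E s ≤ 4 ^ tb n := by decide +kernel
    have := (this n h16 s h1 ⟨h2, h3, h4, h5, h6, h9⟩).trans (tb_le h16); omega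
  · have := big' h1 (not_lt.1 h16); omega

theorem n3 {s n I : ℕ} (h1 : s ≤ n) (h2 : n ≤ s + 1) (h3 : n % 4 = 3) (h4 : 7 ≤ n)
    (hI : I ^ 2 ≤ 3 ^ E s) : 4 * I < 3 * 2 ^ v n := by
  rw [← Nat.pow_lt_pow_iff_left two_ne_zero, mul_pow, mul_pow, sq_two]
  by_cases h16 : n < 16
  · have : ∀ n < 16, ∀ s ≤ n, n ≤ s + 1 → n % 4 = 3 → 7 ≤ n →
      16 * 3 ^ E s < 9 * 4 ^ tb n := by decide +kernel
    have := this n h16 s h1 h2 h3 h4
    have := tb_le h16; omega
  · have := big' h1 (not_lt.1 h16)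
    have : 0 < 3 ^ E s := by positivity
    omega

variable {n : ℕ}

theorem two_bound {Q : Subgroup (Perm (Fin n))} (hQ : IsPGroup 2 Q) {T : Finset (Fin n)}
    (h : ∀ g ∈ Q, g.support ⊆ T) : Nat.card Q ≤ 2 ^ v T.card ∧
      (Q ≤ alternatingGroup _ → 2 ≤ T.card → 2 * Nat.card Q ≤ 2 ^ v T.card) := by
  obtain ⟨k, hk⟩ := IsPGroup.iff_card.1 hQ
  have l : Q ≤ (Perm.ofSubtype : Perm T →* Perm (Fin n)).range := fun g hg =>
    Perm.mem_range_ofSubtype_iff.2 (by simpa using h g hg)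
  have c : Nat.card (Perm T) = T.card.factorial := by rw [Nat.card_perm]; simp
  refine ⟨?_, fun hA h2 => ?_⟩
  · have := (card_dvd_of_le l).trans (card_range_dvd _)
    rw [hk, c] at this
    rw [hk]; exact Nat.pow_le_pow_right (by norm_num) (le_v this)
  · have l2 : Q ≤ (alternatingGroup T).map (Perm.ofSubtype : Perm T →* Perm (Fin n)) := by
      rw [alternatingGroup.map_ofSubtype]; exact le_inf l hA
    haveI : Nontrivial T := Fintype.one_lt_card_iff_nontrivial.1 (by simp; omega)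
    have := mul_dvd_mul_left 2 ((card_dvd_of_le l2).trans (card_map_dvd _ _))
    rw [two_mul_nat_card_alternatingGroup, c, hk, ← pow_succ'] at this
    rw [hk, ← pow_succ']; exact Nat.pow_le_pow_right (by norm_num) (le_v this)

theorem main (N : Subgroup (Perm (Fin n))) (hN : Group.IsNilpotent N) :
    ∃ (S : Finset (Fin n)) (I : ℕ) (Q : Subgroup (Perm (Fin n))), Q ≤ N ∧ IsPGroup 2 Q ∧
      (∀ g ∈ Q, g.support ⊆ Sᶜ) ∧ (∀ g ∈ N, Odd (orderOf g) → g.support ⊆ S) ∧
      Nat.card N = I * Nat.card Q ∧ I ^ 2 ≤ 3 ^ E S.card := by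
  classical
  let S : Finset (Fin n) := Finset.univ.filter fun x => ∃ g : N, Odd (orderOf g) ∧ g • x ≠ x
  have hS : ∀ x, x ∈ S ↔ ∃ g : N, Odd (orderOf g) ∧ g • x ≠ x := fun x => by simp [S]
  have a : ∀ g ∈ N, Odd (orderOf g) → g.support ⊆ S := fun g hg ho x hx =>
    (hS x).2 ⟨⟨g, hg⟩, by rwa [← Subgroup.orderOf_coe], mem_support.1 hx⟩
  have b : ∀ g ∈ (fixingSubgroup N (S : Set (Fin n))).map N.subtype, g.support ⊆ Sᶜ := by
    rintro _ ⟨g, hg, rfl⟩ x hx
    exact Finset.mem_compl.2 fun h => mem_support.1 hx ((mem_fixingSubgroup_iff _).1 hg x h)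
  refine ⟨S, (fixingSubgroup N (S : Set (Fin n))).index, (fixingSubgroup N (S : Set (Fin n))).map N.subtype,
    map_subtype_le _, fun g => ?_, b, a, ?_, ?_⟩
  · obtain ⟨k, m, hm, e⟩ := Nat.exists_eq_two_pow_mul_odd (orderOf_pos g.1).ne'
    refine ⟨k, Subtype.ext ?_⟩
    have o : Odd (orderOf (g.1 ^ 2 ^ k)) :=
      hm.of_dvd_nat (orderOf_dvd_of_pow_eq_one (by rw [← pow_mul, ← e, pow_orderOf_eq_one]))
    have h1 := a _ (map_subtype_le _ (pow_mem g.2 _)) o
    have h2 := b _ (pow_mem g.2 (2 ^ k))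
    refine support_eq_empty_iff.1 (Finset.eq_empty_of_forall_notMem fun x hx => ?_)
    exact Finset.mem_compl.1 (h2 hx) (h1 hx)
  · rw [card_map_of_injective N.subtype_injective, index_mul_card]
  · refine inv_bound _ _ (Set.ncard_coe_finset _) (fun k x hx => ?_) fun x hx => (hS x).1 hx
    obtain ⟨g, g1, g2⟩ := (hS x).1 hx
    refine (hS _).2 ⟨k * g * k⁻¹, by rwa [← MulAut.conj_apply, MulEquiv.orderOf_eq], ?_⟩
    rwa [mul_smul, inv_smul_smul, mul_smul, Ne, smul_left_cancel_iff]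

theorem card_sylS (P : Sylow 2 (Perm (Fin n))) : Nat.card P = 2 ^ v n := by
  rw [P.card_eq_multiplicity, Nat.card_perm, Nat.card_fin, Nat.factorization_def _ Nat.prime_two]

theorem card_sylA (h : 2 ≤ n) (P : Sylow 2 (alternatingGroup (Fin n))) : 2 * Nat.card P = 2 ^ v n := by
  haveI : Nontrivial (Fin n) := Fin.nontrivial_iff_two_le.2 h
  have := two_mul_nat_card_alternatingGroup (α := Fin n)
  rw [Nat.card_perm, Nat.card_fin] at this
  rw [P.card_eq_multiplicity, v, ← this, padicValNat.mul two_ne_zero Nat.card_pos.ne',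
    Nat.factorization_def _ Nat.prime_two, pow_add]
  simp

end Cfsg.Agent.Perm.Nil
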