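import Mathlib
import Cfsg.Agent.Lib.Perm.Nil1

/-! The largest nilpotent subgroups of symmetric and alternating groups. -/

set_option autoImplicit false

namespace Cfsg.Agent.Perm.Nil
open Equiv Equiv.Perm MulAction Subgroup

variable {n : ℕ}

/-- the shape of a largest nilpotent subgroup -/
def Sh (N : Subgroup (Perm (Fin n))) (q : ℕ) : Prop :=
  ∃ (c : Perm (Fin n)) (Q : Subgroup (Perm (Fin n))), IsThreeCycle c ∧ (∀ g ∈ Q, g.support ⊆ c.supportᶜ) ∧
    Nat.card Q = q ∧ N = zpowers c ⊔ Q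

theorem three {N Q : Subgroup (Perm (Fin n))} {S : Finset (Fin n)} (h1 : Q ≤ N) (h2 : IsPGroup 2 Q)
    (h3 : ∀ g ∈ Q, g.support ⊆ Sᶜ) (h4 : ∀ g ∈ N, Odd (orderOf g) → g.support ⊆ S)
    (h5 : Nat.card N = 3 * Nat.card Q) (h6 : S.card = 3) : Sh N (Nat.card Q) := by
  haveI := Fact.mk Nat.prime_three
  obtain ⟨c, hc⟩ := exists_prime_orderOf_dvd_card' (G := N) 3 ⟨_, h5⟩
  rw [← Subgroup.orderOf_coe] at hc
  have s := h4 _ c.2 (by rw [hc]; decide)
  have l := Finset.card_le_card s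
  have n1 : c.1 ≠ 1 := fun h => by rw [h, orderOf_one] at hc; omega
  have n2 := two_le_card_support_of_ne_one n1
  have n3 : c.1.support.card ≠ 2 := fun h => by
    have := (card_support_eq_two.1 h).orderOf; omega
  have e : c.1.support = S := Finset.eq_of_subset_of_card_le s (by omega)
  refine ⟨c, Q, card_support_eq_three_iff.1 (by omega), e ▸ h3, rfl, ?_⟩
  have le : zpowers c.1 ⊔ Q ≤ N := sup_le (zpowers_le_of_mem c.2) h1
  refine (eq_of_le_of_card_ge le (Nat.le_of_dvd Nat.card_pos ?_)).symm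
  obtain ⟨k, hk⟩ := IsPGroup.iff_card.1 h2
  rw [h5]
  refine Nat.Coprime.mul_dvd_of_dvd_of_dvd (by rw [hk]; exact Nat.Coprime.pow_right _ (by norm_num)) ?_
    (card_dvd_of_le le_sup_right)
  rw [← hc, ← Nat.card_zpowers]; exact card_dvd_of_le le_sup_left

theorem le3 {I : ℕ} (h : I ^ 2 ≤ 3 ^ E 3) : I ≤ 3 := by
  rw [← Nat.pow_le_pow_iff_left two_ne_zero]; exact h

theorem topS (hn : n % 4 = 3) (N : Subgroup (Perm (Fin n))) (hN : Group.IsNilpotent N) :
    Nat.card N ≤ 3 * 2 ^ v (n - 3) ∧ (Nat.card N = 3 * 2 ^ v (n - 3) → Sh N (2 ^ v (n - 3))) := by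
  obtain ⟨S, I, Q, h1, h2, h3, h4, h5, h6⟩ := main N hN
  have q := (two_bound h2 h3).1
  rw [Finset.card_compl, Fintype.card_fin] at q
  have sn : S.card ≤ n := by simpa using S.card_le_univ
  have v3 := (v_three (n - 3)).1 (by omega)
  rw [show n - 3 + 3 = n by omega] at v3
  by_cases h : S.card = 3
  · rw [h] at h6 q
    have := le3 h6
    refine ⟨h5 ▸ Nat.mul_le_mul this q, fun e => ?_⟩
    have e1 : Nat.card Q = 2 ^ v (n - 3) := by nlinarith
    exact e1 ▸ three h1 h2 h3 h4 (by rw [e, e1]) h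
  · have := Nat.mul_le_mul (n1 h h6) q
    have w := v_add S.card (n - S.card)
    rw [show S.card + (n - S.card) = n by omega, v3] at w
    rw [← h5, ← pow_add] at this
    have := this.trans (Nat.pow_le_pow_right (by norm_num) w)
    have : 0 < 2 ^ v (n - 3) := by positivity
    exact ⟨by omega, fun e => by omega⟩

theorem topA (hn : n % 4 = 3) (h7 : 7 ≤ n) (N : Subgroup (Perm (Fin n))) (hN : Group.IsNilpotent N)
    (hA : N ≤ alternatingGroup _) {p : ℕ} (hp : 2 * p = 2 ^ v (n - 3)) :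
    Nat.card N ≤ 3 * p ∧ (Nat.card N = 3 * p → Sh N p) := by
  obtain ⟨S, I, Q, h1, h2, h3, h4, h5, h6⟩ := main N hN
  obtain ⟨q0, q⟩ := two_bound h2 h3
  rw [Finset.card_compl, Fintype.card_fin] at q q0
  have sn : S.card ≤ n := by simpa using S.card_le_univ
  have v3 := (v_three (n - 3)).1 (by omega)
  rw [show n - 3 + 3 = n by omega] at v3
  have : 0 < 2 ^ v (n - 3) := by positivity
  by_cases h0 : 2 ≤ n - S.card
  · replace q := q (h1.trans hA) h0
    by_cases h : S.card = 3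
    · rw [h] at h6 q
      have := le3 h6
      refine ⟨h5 ▸ Nat.mul_le_mul this (by omega), fun e => ?_⟩
      have e1 : Nat.card Q = p := by nlinarith
      exact e1 ▸ three h1 h2 h3 h4 (by rw [e, e1]) h
    · have := Nat.mul_le_mul (n1 h h6) q
      have w := v_add S.card (n - S.card)
      rw [show S.card + (n - S.card) = n by omega, v3] at w
      rw [mul_left_comm, ← h5, ← pow_add] at this
      have := this.trans (Nat.pow_le_pow_right (by norm_num) w)
      exact ⟨by omega, fun e => by omega⟩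
  · have := n3 sn (by omega) hn h7 h6
    have e : v (n - S.card) = 0 := by
      rcases (by omega : n - S.card = 0 ∨ n - S.card = 1) with h | h <;> rw [h] <;> simp
    rw [e] at q0
    have : Nat.card N ≤ I := by rw [h5]; nlinarith
    rw [v3] at *
    exact ⟨by omega, fun e => by omega⟩

theorem syl_conj {G : Type*} [Group G] [Finite G] {H Q₁ Q₂ : Subgroup G} (h1 : Q₁ ≤ H) (h2 : Q₂ ≤ H)
    (P : Sylow 2 H) (c1 : Nat.card Q₁ = Nat.card P) (c2 : Nat.card Q₂ = Nat.card P) :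
    ∃ h ∈ H, Q₂ = Q₁.map (MulAut.conj h).toMonoidHom := by
  rw [P.card_eq_multiplicity] at c1 c2
  rw [← Nat.card_congr (subgroupOfEquivOfLe h1).toEquiv] at c1
  rw [← Nat.card_congr (subgroupOfEquivOfLe h2).toEquiv] at c2
  obtain ⟨h, hh⟩ := exists_smul_eq H (Sylow.ofCard _ c1) (Sylow.ofCard _ c2)
  have := congrArg (fun P : Sylow 2 H => (P : Subgroup H).map H.subtype) hh
  simp only [Sylow.coe_subgroup_smul, Sylow.coe_ofCard, map_subgroupOf_eq_of_le h2] at this
  refine ⟨h, h.2, ?_⟩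
  rw [← this]
  conv_rhs => rw [← map_subgroupOf_eq_of_le h1]
  rw [map_map]
  exact map_map _ _ _

theorem conj {K N₁ N₂ : Subgroup (Perm (Fin n))} {q : ℕ} (h1 : Sh N₁ q) (h2 : Sh N₂ q) (l1 : N₁ ≤ K)
    (l2 : N₂ ≤ K) (hc : ∀ c ∈ K, ∀ d ∈ K, IsThreeCycle c → IsThreeCycle d → ∃ g ∈ K, g * c * g⁻¹ = d)
    (hq : ∀ T : Finset (Fin n), T.card = n - 3 →
      ∃ P : Sylow 2 ↥((Perm.ofSubtype : Perm T →* Perm (Fin n)).range ⊓ K), Nat.card P = q) :
    ∃ g ∈ K, N₂ = N₁.map (MulAut.conj g).toMonoidHom := by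
  obtain ⟨c, Q, c1, c2, c3, rfl⟩ := h1
  obtain ⟨d, R, d1, d2, d3, rfl⟩ := h2
  obtain ⟨g, gK, rfl⟩ := hc c (l1 (mem_sup_left (mem_zpowers c))) d (l2 (mem_sup_left (mem_zpowers d))) c1 d1
  obtain ⟨P, hP⟩ := hq (g * c * g⁻¹).supportᶜ (by rw [Finset.card_compl, d1.card_support, Fintype.card_fin])
  obtain ⟨h, ⟨h1, h2⟩, e⟩ := syl_conj (H := (Perm.ofSubtype : Perm ((g * c * g⁻¹).supportᶜ : Finset _) →*
      Perm (Fin n)).range ⊓ K) (Q₁ := Q.map (MulAut.conj g).toMonoidHom) (Q₂ := R) (by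
      rintro _ ⟨x, hx, rfl⟩
      refine ⟨Perm.mem_range_ofSubtype_iff.2 fun y hy => ?_,
        K.mul_mem (K.mul_mem gK (l1 (mem_sup_right hx))) (K.inv_mem gK)⟩
      change y ∈ (g * x * g⁻¹).support at hy
      change y ∈ (g * c * g⁻¹).supportᶜ
      rw [support_conj, Finset.mem_map_equiv] at hy
      rw [Finset.mem_compl, support_conj, Finset.mem_map_equiv, ← Finset.mem_compl]
      exact c2 x hx hy)
    (fun x hx => ⟨Perm.mem_range_ofSubtype_iff.2 fun y hy => d2 x hx hy, l2 (mem_sup_right hx)⟩) P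
    (by rw [card_map_of_injective (MulAut.conj g).injective, c3, hP]) (by rw [d3, hP])
  refine ⟨h * g, mul_mem h2 gK, ?_⟩
  have cm : Commute h (g * c * g⁻¹) := (disjoint_iff_disjoint_support.2 (Finset.disjoint_left.2
    fun y hy => Finset.mem_compl.1 (Perm.mem_range_ofSubtype_iff.1 h1 hy))).commute
  rw [Subgroup.map_sup, MonoidHom.map_zpowers, e, map_map]
  congr 2
  change _ = h * g * c * (h * g)⁻¹
  rw [← cm.mul_inv_cancel]; group

theorem exM {m : ℕ} (h : m + 3 = n) (P : Subgroup (Perm (Fin m))) (hP : IsPGroup 2 P) :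
    ∃ M : Subgroup (Perm (Fin n)), Nonempty (M ≃* (P × Multiplicative (ZMod 3))) ∧
      (P ≤ alternatingGroup _ → M ≤ alternatingGroup _) := by
  subst h
  let φ : Perm (Fin m) × Perm (Fin 3) →* Perm (Fin (m + 3)) :=
    finSumFinEquiv.permCongrHom.toMonoidHom.comp (sumCongrHom _ _)
  have hφ : Function.Injective φ := finSumFinEquiv.permCongrHom.injective.comp sumCongrHom_injective
  haveI := Fact.mk Nat.prime_three
  have e : alternatingGroup (Fin 3) ≃* Multiplicative (ZMod 3) := mulEquivOfPrimeCardEq (p := 3)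
    (by rw [nat_card_alternatingGroup]; simp [Nat.factorial]) (by simp)
  refine ⟨(P.prod (alternatingGroup _)).map φ, ⟨(equivMapOfInjective _ φ hφ).symm.trans
    ((Subgroup.prodEquiv _ _).trans ((MulEquiv.refl _).prodCongr e))⟩, fun he => ?_⟩
  rintro _ ⟨x, hx, rfl⟩
  rw [mem_alternatingGroup]
  change sign (finSumFinEquiv.permCongr (Perm.sumCongr x.1 x.2)) = 1
  rw [sign_permCongr, sign_sumCongr, mem_alternatingGroup.1 (he hx.1), mem_alternatingGroup.1 hx.2,
    one_mul]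

theorem of_iso {M P : Type*} [Group M] [Group P] [Finite P] (hP : IsPGroup 2 P)
    (e : M ≃* (P × Multiplicative (ZMod 3))) : Group.IsNilpotent M ∧ Nat.card M = 3 * Nat.card P := by
  haveI := hP.isNilpotent
  exact ⟨Group.nilpotent_of_mulEquiv e.symm, by rw [Nat.card_congr e.toEquiv, Nat.card_prod, mul_comm]; simp⟩

theorem card_syl {G H : Type*} [Group G] [Group H] [Finite G] [Finite H] (h : Nat.card G = Nat.card H)
    (P : Sylow 2 G) (Q : Sylow 2 H) : Nat.card P = Nat.card Q := by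
  rw [P.card_eq_multiplicity, Q.card_eq_multiplicity, h]

end Cfsg.Agent.Perm.Nil
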