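import Mathlib
import Cfsg.Agent.Lib.Perm.Or1
import Cfsg.Agent.Lib.Perm.Aut19

set_option autoImplicit false

namespace Cfsg.Agent.Perm.Ort
open Module Matrix Cfsg.Agent.Classical Cfsg.Agent.Classical.Form

section Neg
variable {F : Type*} [Field F] [Fintype F] {ι : Type} [Fintype ι] [DecidableEq ι] {Φ : Form (Kind.orth F) (ι → F)}

theorem pow_mod_four {q i : ℕ} (hq : Odd q) : q ^ i % 4 = 1 ↔ ¬ (q % 4 = 3 ∧ Odd i) := by
  rw [Nat.odd_iff] at hq
  rw [Nat.pow_mod]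
  rcases (by omega : q % 4 = 1 ∨ q % 4 = 3) with h | h <;> rw [h]
  · simp
  · obtain ⟨k, rfl | rfl⟩ := Nat.even_or_odd' i
    · simp [pow_mul, Nat.pow_mod]
    · simp [pow_succ, pow_mul, Nat.mul_mod, Nat.pow_mod]

theorem neg_pairs (hΦ : Φ.Nondeg) (ho : Odd (Fintype.card F)) (p : ι → ℕ) (i : ℕ)
    (h : ∀ j < i, ∃ a b : ι, (∀ k, p k = j ↔ k = a ∨ k = b) ∧ a ≠ b ∧ Φ.N (Pi.single a 1) = 0 ∧
      Φ.N (Pi.single b 1) = 0 ∧ (∀ v, Φ.B v (Pi.single b 1) = v a) ∧ ∀ v, Φ.B v (Pi.single a 1) = v b) :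
    (∃ g : Cfsg.isometryGroup F Φ.N, g ∈ Cfsg.Omega F Φ.N ∧
      (g.1 : Matrix ι ι F) = diagonal fun k => if p k < i then (-1 : F) else 1) ↔ Fintype.card F ^ i % 4 = 1 := by
  have hG := good_of_two hΦ (two_ne_zero_of_odd ho)
  obtain ⟨x, h1, h2, h3⟩ : ∃ x : Φ.Isom, (∀ v k, x.1 v k = (if p k < i then (-1 : F) else 1) * v k) ∧
      hG.dick hΦ x = 1 ∧ hG.spin hΦ x = sqSign F (-1) ^ i := by
    induction i with
    | zero => exact ⟨1, by simp, by simp, by simp⟩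
    | succ i ih =>
      obtain ⟨x, h1, h2, h3⟩ := ih fun j hj => h j (by omega)
      obtain ⟨a, b, e1, e2, e3, e4, e5, e6⟩ := h i (by omega)
      have hh : Φ.IsHyp (Pi.single a 1) (Pi.single b 1) := ⟨e3, e4, by simp [e5]⟩
      refine ⟨⟨_, Φ.dil_mem _ _ hh (-1)⟩ * x, fun v k => ?_, ?_, ?_⟩
      · change Φ.dil _ _ hh (-1) (x.1 v) k = _
        have ha := (e1 a).2 (.inl rfl)
        have hb := (e1 b).2 (.inr rfl)
        rw [dil_apply, e5, e6]
        by_cases h1' : k = a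
        · subst h1'; simp [h1, ha, hb, e2]; ring
        by_cases h2' : k = b
        · subst h2'; simp [h1, ha, hb, e2.symm]; ring
        have : p k ≠ i := fun h => by simp [e1, h1', h2'] at h
        simp [h1, h1', h2', ha, hb, le_iff_lt_or_eq, this]
      · rw [map_mul, hG.dick_dil, h2, mul_one]
      · rw [map_mul, hG.spin_dil, h3, pow_succ']
  rw [exists_Omega_iff Φ x fun v => by ext k; rw [h1, mulVec_diagonal], hG.mem_commutator_iff hΦ, h3,
    and_iff_right h2, sqSign_neg_pow, pow_mod_four ho]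

end Neg

section Blk
variable {F : Type*} [Field F] {m : ℕ}

/-- the block matrix `diag(A, A⁻ᵀ)` -/
def blkM : GL (Fin m) F →* Matrix (Fin m ⊕ Fin m) (Fin m ⊕ Fin m) F where
  toFun A := fromBlocks A.val 0 0 (A⁻¹).valᵀ
  map_one' := by simp
  map_mul' A B := by simp [fromBlocks_multiply]

/-- the isometry `diag(A, A⁻ᵀ)` -/
noncomputable def blk : GL (Fin m) F →* (plusForm m F).Isom :=
  (glEquiv.toMonoidHom.comp blkM.toHomUnits).codRestrict _ fun A => mem_Isom_orth.2 fun v => by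
    change ((fromBlocks A.val 0 0 (A⁻¹).valᵀ *ᵥ v) ∘ Sum.inl) ⬝ᵥ ((fromBlocks A.val 0 0 (A⁻¹).valᵀ *ᵥ v) ∘ Sum.inr) =
      (v ∘ Sum.inl) ⬝ᵥ (v ∘ Sum.inr)
    rw [fromBlocks_mulVec, Sum.elim_comp_inl, Sum.elim_comp_inr, zero_mulVec, zero_mulVec, add_zero, zero_add,
      dotProduct_mulVec, vecMul_transpose, mulVec_mulVec, Units.inv_mul, one_mulVec]

theorem blk_apply (A : GL (Fin m) F) (v) : (blk A).1 v = fromBlocks A.val 0 0 (A.val⁻¹)ᵀ *ᵥ v := by
  rw [← Matrix.coe_units_inv]; rfl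

theorem mts_plus : (plusForm m F).MTS (plusTS m F) := ⟨plusTS_TS m, by simp [finrank_plusTS, two_mul]⟩

theorem dick_blk (hG : (plusForm m F).Good) (A : GL (Fin m) F) : hG.dick (plusForm_nondeg m) (blk A) = 1 := by
  rw [← even_iff_dick hG _ mts_plus, stab_iff_map_eq.1 (stab_of_le fun v hv => ?_), inf_idem]
  · exact ⟨_, rfl⟩
  · rw [mem_plusTS] at hv ⊢
    intro i
    rw [blk_apply, fromBlocks_mulVec, show v ∘ Sum.inr = 0 from funext hv]; simp

theorem spin_dg [Finite F] (hG : (plusForm m F).Good) (a : Fin m → Fˣ) :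
    hG.spin (plusForm_nondeg m) (Aut.dg a) = sqSign F (∏ i, a i) := by
  have := DFunLike.congr_fun (MonoidHom.pi_ext (f := (hG.spin (plusForm_nondeg m)).comp Aut.dg)
    (g := ∏ i, (sqSign F).comp (Pi.evalMonoidHom _ i)) fun i x => by
    simp only [MonoidHom.comp_apply, Aut.dg_single, hG.spin_dil, MonoidHom.finset_prod_apply,
      Pi.evalMonoidHom_apply]
    rw [Finset.prod_eq_single i (fun j _ hj => by simp [hj]) (by simp)]; simp) a
  simpa using this

theorem spin_blk [Finite F] (hG : (plusForm m F).Good) (A : GL (Fin m) F) :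
    hG.spin (plusForm_nondeg m) (blk A) = sqSign F (GeneralLinearGroup.det A) := by
  by_cases h2 : (2 : F) = 0
  · rw [hG.spin_of_two _ h2, sqSign_of_two h2]; rfl
  refine diagonal_transvection_induction_of_det_ne_zero (fun M => ∀ A : GL (Fin m) F, A.val = M →
    hG.spin (plusForm_nondeg m) (blk A) = sqSign F (GeneralLinearGroup.det A)) A.val A.det_ne_zero
    (fun D hD A hA => ?_) (fun t A hA => ?_) (fun M N hM hN h1 h3 A hA => ?_) A rfl
  · rw [det_diagonal, Finset.prod_ne_zero_iff] at hD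
    have : blk A = Aut.dg fun i => Units.mk0 (D i) (hD i (Finset.mem_univ _)) := Subtype.ext (LinearEquiv.ext fun v => by
      have e : (diagonal D)⁻¹ = diagonal fun i => (D i)⁻¹ := inv_eq_left_inv (by
        rw [diagonal_mul_diagonal, ← diagonal_one]; congr 1; ext i; exact inv_mul_cancel₀ (hD i (Finset.mem_univ _)))
      rw [blk_apply, hA, e, fromBlocks_mulVec]
      change _ = Aut.dgL _ v
      ext (i | i) <;> simp [mulVec_diagonal])
    rw [this, spin_dg]; congr 1; ext; simp [hA]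
  · let B : GL (Fin m) F := GeneralLinearGroup.mkOfDetNeZero (transvection t.i t.j (t.c / 2))
      (by rw [det_transvection_of_ne _ _ t.hij]; exact one_ne_zero)
    have : A = B * B := Units.ext (by
      rw [hA]; change _ = transvection _ _ _ * transvection _ _ _
      rw [transvection_mul_transvection_same _ _ t.hij, ← two_mul, mul_div_cancel₀ _ h2]; rfl)
    simp only [this, map_mul, Int.units_mul_self]
  · have : A = GeneralLinearGroup.mkOfDetNeZero M hM * GeneralLinearGroup.mkOfDetNeZero N hN := Units.ext hA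
    rw [this, map_mul, map_mul, map_mul, map_mul, h1 _ rfl, h3 _ rfl]

/-- the swap of the two standard maximal totally singular subspaces -/
def swp (m : ℕ) (F : Type*) [Field F] : (plusForm m F).Isom :=
  ⟨LinearEquiv.funCongrLeft F F (Equiv.sumComm _ _), mem_Isom_orth.2 fun v => by
    simp [plusForm_N, Cfsg.quadFormPlus, LinearMap.funLeft, mul_comm]⟩

theorem swp_apply (v : Fin m ⊕ Fin m → F) (k) : (swp m F).1 v k = v k.swap := rfl

theorem dick_of_swap (hG : (plusForm m F).Good) {g : (plusForm m F).Isom}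
    (h : ∀ v : Fin m ⊕ Fin m → F, (∀ i, v (.inr i) = 0) → ∀ i, g.1 v (.inl i) = 0) :
    hG.dick (plusForm_nondeg m) g = 1 ↔ Even m := by
  rw [← even_iff_dick hG _ mts_plus, finrank_plusTS, show plusTS m F ⊓ _ = ⊥ from ?_, finrank_bot, add_zero]
  rw [eq_bot_iff]
  rintro _ ⟨h1, v, hv, rfl⟩
  ext (i | i)
  · exact h v (mem_plusTS.1 hv) i
  · exact mem_plusTS.1 h1 i

end Blk

section Sum
variable {F : Type*} [Field F] {ι κ : Type}

/-- orthogonal sum -/
def sumForm (Φ : Form (Kind.orth F) (ι → F)) (Ψ : Form (Kind.orth F) (κ → F)) : Form (Kind.orth F) (ι ⊕ κ → F) :=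
  Form.ofQuadFun (fun v => Φ.N (v ∘ Sum.inl) + Ψ.N (v ∘ Sum.inr))
    ((bl Φ).compl₁₂ (LinearMap.funLeft F F Sum.inl) (LinearMap.funLeft F F Sum.inl) +
      (bl Ψ).compl₁₂ (LinearMap.funLeft F F Sum.inr) (LinearMap.funLeft F F Sum.inr))
    (fun u v => by
      change Φ.N (u ∘ _ + v ∘ _) + Ψ.N (u ∘ _ + v ∘ _) = _ + _ + (Φ.B (u ∘ _) (v ∘ _) + Ψ.B (u ∘ _) (v ∘ _))
      rw [orth_N_add, orth_N_add]; ring)
    (fun c v => by
      change Φ.N (c • v ∘ _) + Ψ.N (c • v ∘ _) = _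
      rw [orth_N_smul, orth_N_smul]; ring)

variable (Φ : Form (Kind.orth F) (ι → F)) (Ψ : Form (Kind.orth F) (κ → F))

theorem sumForm_N (v) : (sumForm Φ Ψ).N v = Φ.N (v ∘ Sum.inl) + Ψ.N (v ∘ Sum.inr) := rfl
theorem sumForm_B (u v) : (sumForm Φ Ψ).B u v = Φ.B (u ∘ Sum.inl) (v ∘ Sum.inl) + Ψ.B (u ∘ Sum.inr) (v ∘ Sum.inr) := rfl

variable {Φ Ψ} in
theorem sumForm_nondeg (h : Φ.Nondeg) (h' : Ψ.Nondeg) : (sumForm Φ Ψ).Nondeg := fun v hv => by
  have h1 := h (v ∘ Sum.inl) fun u => by simpa [sumForm_B] using hv (Sum.elim u 0)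
  have h2 := h' (v ∘ Sum.inr) fun u => by simpa [sumForm_B] using hv (Sum.elim 0 u)
  ext (i | i)
  · exact congrFun h1 i
  · exact congrFun h2 i

/-- block diagonal isometries -/
def sumI : Φ.Isom × Ψ.Isom →* (sumForm Φ Ψ).Isom := MonoidHom.mk' (fun g =>
  ⟨((LinearEquiv.sumArrowLequivProdArrow ι κ F F).trans (g.1.1.prodCongr g.2.1)).trans
    (LinearEquiv.sumArrowLequivProdArrow ι κ F F).symm, mem_Isom_orth.2 fun v =>
      congrArg₂ (· + ·) (g.1.2.2 _) (g.2.2.2 _)⟩) fun _ _ => rfl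

theorem sumI_apply (g : Φ.Isom × Ψ.Isom) (v) :
    (sumI Φ Ψ g).1 v = Sum.elim (g.1.1 (v ∘ Sum.inl)) (g.2.1 (v ∘ Sum.inr)) := by
  ext (i | i) <;> rfl

theorem sumI_refl (v : ι → F) (h) (h') : sumI Φ Ψ (Φ.reflI v h, 1) = (sumForm Φ Ψ).reflI (Sum.elim v 0) h' :=
  Subtype.ext (LinearEquiv.ext fun x => by
    rw [sumI_apply, reflI_coe, reflI_coe, refl_apply, refl_apply, sumForm_N, sumForm_B]
    ext (i | i) <;> simp)

variable [Fintype ι] [DecidableEq ι] [Fintype κ] [DecidableEq κ]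

theorem sumI_mulVec (g : Cfsg.isometryGroup F Φ.N) (h : Cfsg.isometryGroup F Ψ.N) (v) :
    fromBlocks g.1.val 0 0 h.1.val *ᵥ v = (sumI Φ Ψ (orthEquiv Φ g, orthEquiv Ψ h)).1 v := by
  rw [sumI_apply, fromBlocks_mulVec]; simp

theorem sumI_mem {g : Φ.Isom} {h : Ψ.Isom} (hg : g ∈ commutator Φ.Isom) (hh : h ∈ commutator Ψ.Isom) :
    sumI Φ Ψ (g, h) ∈ commutator (sumForm Φ Ψ).Isom := by
  have key : ∀ {A : Type _} [Group A] (φ : A →* (sumForm Φ Ψ).Isom) {a : A}, a ∈ commutator A →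
      φ a ∈ commutator (sumForm Φ Ψ).Isom := fun φ a ha => by
    have := Subgroup.mem_map_of_mem φ ha
    rw [commutator_def, Subgroup.map_commutator] at this
    exact Subgroup.commutator_mono le_top le_top this
  rw [show (g, h) = (g, 1) * (1, h) by simp, map_mul]
  exact mul_mem (key ((sumI Φ Ψ).comp (MonoidHom.inl _ _)) hg) (key ((sumI Φ Ψ).comp (MonoidHom.inr _ _)) hh)

variable {Φ Ψ} [Finite F]

theorem sumI_mem_iff (h : Φ.Nondeg) (h' : Ψ.Nondeg) (hG : Φ.Good) (hG' : (sumForm Φ Ψ).Good) (g : Φ.Isom) :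
    sumI Φ Ψ (g, 1) ∈ commutator (sumForm Φ Ψ).Isom ↔ g ∈ commutator Φ.Isom := by
  have e : ∀ v, (sumForm Φ Ψ).N (Sum.elim v 0) = Φ.N v := fun v => by simp [sumForm_N]
  have h1 := hG.hom_extI h (χ := (hG'.dick (sumForm_nondeg h h')).comp ((sumI Φ Ψ).comp (MonoidHom.inl _ _)))
    (χ' := hG.dick h) fun v hv => by simp [sumI_refl Φ Ψ v hv (by rwa [e])]
  have h2 := hG.hom_extI h (χ := (hG'.spin (sumForm_nondeg h h')).comp ((sumI Φ Ψ).comp (MonoidHom.inl _ _)))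
    (χ' := hG.spin h) fun v hv => by simp [sumI_refl Φ Ψ v hv (by rwa [e]), e]
  rw [hG'.mem_commutator_iff (sumForm_nondeg h h'), hG.mem_commutator_iff h, ← h1, ← h2]; rfl

theorem sumI_diag (h : Φ.Nondeg) (hG : (sumForm Φ Φ).Good) (g : Φ.Isom) :
    sumI Φ Φ (g, g) ∈ commutator (sumForm Φ Φ).Isom := by
  let s : (sumForm Φ Φ).Isom := ⟨LinearEquiv.funCongrLeft F F (Equiv.sumComm _ _), mem_Isom_orth.2 fun v =>
    add_comm _ _⟩
  have : sumI Φ Φ (g, g) = sumI Φ Φ (g, 1) * (s * sumI Φ Φ (g, 1) * s⁻¹) := Subtype.ext (LinearEquiv.ext fun v => by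
    ext (i | i) <;> rfl)
  rw [hG.mem_commutator_iff (sumForm_nondeg h h), this]
  simp only [map_mul, map_inv, mul_inv_cancel_comm, Int.units_mul_self, and_self]

end Sum

end Cfsg.Agent.Perm.Ort
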