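import Mathlib
import Cfsg.Agent.Lib.Perm.Or2

set_option autoImplicit false

namespace Cfsg.Agent.Perm.Ort
open Module Matrix Cfsg.Agent.Classical Cfsg.Agent.Classical.Form

theorem exists_alg {K F : Type*} [Field K] [Fintype K] [Field F] [Fintype F] {q : ℕ}
    (hK : Fintype.card K = q ^ 2) (hF : Fintype.card F = q) : ∃ _ : Algebra F K, finrank F K = 2 := by
  obtain ⟨L, _, _, _, hL⟩ := exists_quad_ext F
  letI := Fintype.ofFinite L
  have e := FiniteField.ringEquivOfCardEq (K := L) (K' := K) (by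
    rw [hK, ← hF, Module.card_eq_pow_finrank (K := F), hL])
  letI := (e.toRingHom.comp (algebraMap F L)).toAlgebra
  refine ⟨inferInstance, Nat.pow_right_injective (Fintype.one_lt_card (α := F)) ?_⟩
  exact (Module.card_eq_pow_finrank (K := F) (V := K)).symm.trans (by rw [hK, hF])

section Res
variable {F K V : Type*} [Field F] [Field K] [Algebra F K] [AddCommGroup V] [Module K V] [Module F V]
  [IsScalarTower F K V]

theorem exists_inj_res {K₁ : Kind K} {K₂ : Kind F} (Φ : Form K₁ V) (Ψ : Form K₂ V)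
    (h : ∀ g ∈ Φ.Isom, LinearEquiv.restrictScalars F g ∈ Ψ.Isom) :
    ∃ φ : Φ.Isom →* Ψ.Isom, Function.Injective φ :=
  ⟨MonoidHom.mk' (fun g => ⟨_, h g.1 g.2⟩) fun _ _ => rfl, fun _ _ e =>
    Subtype.ext (LinearEquiv.ext fun v => DFunLike.congr_fun (congrArg Subtype.val e) v)⟩

/-- the trace of a form -/
noncomputable def trB {K₁ : Kind K} (Φ : Form K₁ V) (h : ∀ a : F, K₁.σ (algebraMap F K a) = algebraMap F K a)
    (δ : K) : V →ₗ[F] V →ₗ[F] F :=
  LinearMap.mk₂ F (fun u v => Algebra.trace F K (δ * Φ.B u v)) (by simp [mul_add])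
    (fun c u v => by
      rw [← algebraMap_smul K c u, B_smul_left, mul_left_comm, ← Algebra.smul_def, map_smul])
    (by simp [mul_add])
    (fun c u v => by
      rw [← algebraMap_smul K c v, B_smul_right, h, mul_left_comm, ← Algebra.smul_def, map_smul])

theorem trB_apply {K₁ : Kind K} (Φ : Form K₁ V) (h) (δ : K) (u v : V) :
    trB (F := F) Φ h δ u v = Algebra.trace F K (δ * Φ.B u v) := rfl

theorem trB_nondeg [Finite K] {K₁ : Kind K} {Φ : Form K₁ V} (hΦ : Φ.Nondeg) (h) {δ : K} (hδ : δ ≠ 0) {v : V}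
    (hv : ∀ u, trB (F := F) Φ h δ u v = 0) : v = 0 := by
  refine hΦ v fun u => ?_
  have := (traceForm_nondegenerate F K).1 (δ * Φ.B u v) fun c => by
    have := hv (c • u)
    rw [trB_apply, B_smul_left] at this
    rw [Algebra.traceForm_apply, ← this]; congr 1; ring
  exact (mul_eq_zero.1 this).resolve_left hδ

variable [FiniteDimensional K V] [Finite K]

theorem symp_res [Finite F] (Φ : Form (Kind.symp K) V) (hΦ : Φ.Nondeg) {m : ℕ} (h : finrank F V = 2 * m) :
    ∃ φ : Φ.Isom →* Matrix.symplecticGroup (Fin m) F, Function.Injective φ := by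
  haveI : FiniteDimensional F V := .trans F K V
  let Ψ := Form.ofAlt (trB (F := F) Φ (fun _ => rfl) 1) fun v => by
    simp [trB, Φ.B_self_of_N (Φ.symp_N v)]
  obtain ⟨e⟩ := (symp_iso_std Ψ (fun v => trB_nondeg (F := F) hΦ (fun _ => rfl) one_ne_zero) h).nonempty_equiv
  obtain ⟨φ, hφ⟩ := exists_inj_res Φ Ψ fun g hg => mem_Isom_symp.2 fun u v => by simp [Ψ, trB, hg.1]
  exact ⟨(e.trans (spEquiv m F).symm).toMonoidHom.comp φ, (e.trans (spEquiv m F).symm).injective.comp hφ⟩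

end Res

section Unit
variable {F K V : Type*} [Field F] [Field K] [Algebra F K] [AddCommGroup V] [Module K V] [Module F V]
  [IsScalarTower F K V] [Fintype K] [Fintype F] {q : ℕ} (hK : Fintype.card K = q ^ 2) (hF : Fintype.card F = q)
  [FiniteDimensional K V]
include hF

theorem frobq_eq (x : K) : frobq hK x = frobA F K x := by
  rw [frobq_apply, frobA_apply, Nat.card_eq_fintype_card, hF]

theorem frobq_alg (a : F) : (unitKind hK).σ (algebraMap F K a) = algebraMap F K a := by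
  rw [Kind.unit_σ, frobq_eq hK hF, AlgEquiv.commutes]

theorem unit_res_symp (h2 : finrank F K = 2) (Φ : Form (unitKind hK) V) (hΦ : Φ.Nondeg) :
    ∃ Ψ : Form (Kind.symp F) V, Ψ.Nondeg ∧ ∀ g : V ≃ₗ[K] V, g ∈ Φ.Isom → LinearEquiv.restrictScalars F g ∈ Ψ.Isom := by
  obtain ⟨δ, h0, hδ⟩ := exists_skew _ (frobq_ne_id hK) (frobq_frobq hK)
  refine ⟨Form.ofAlt (trB (F := F) Φ (frobq_alg hK hF) δ) fun v => ?_, fun v => trB_nondeg hΦ (frobq_alg hK hF) h0,
    fun g hg => mem_Isom_symp.2 fun u v => congrArg (fun x => Algebra.trace F K (δ * x)) (hg.1 u v)⟩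
  apply (algebraMap F K).injective
  rw [trB_apply, trace_quad h2, ← frobq_eq hK hF, map_mul, hδ, ← unit_N, unit_σN]; simp

theorem unit_res_orth (h2 : finrank F K = 2) (Φ : Form (unitKind hK) V) (hΦ : Φ.Nondeg) :
    ∃ Ψ : Form (Kind.orth F) V, Ψ.Nondeg ∧ Ψ.IsType (finrank K V) ((-1) ^ finrank K V) ∧
      (∀ v, algebraMap F K (Ψ.N v) = Φ.N v) := by
  have hi := (algebraMap F K).injective
  choose Q hQ using fun v => mem_range_of_frobA h2 (θ := Φ.N v) (by rw [← frobq_eq hK hF, unit_σN])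
  let Ψ := Form.ofQuadFun Q (trB (F := F) Φ (frobq_alg hK hF) 1) (fun u v => hi (by
      rw [map_add, map_add, hQ, hQ, hQ, Φ.N_add, trB_apply, trace_quad h2, ← frobq_eq hK hF, one_mul]
      rfl)) fun c v => hi (by
      rw [map_mul, map_mul, hQ, hQ, ← algebraMap_smul K c v, Φ.N_smul]
      exact congrArg (_ * · * _) (frobq_alg hK hF c))
  refine ⟨Ψ, fun v => trB_nondeg hΦ (frobq_alg hK hF) one_ne_zero, ⟨by rw [← finrank_mul_finrank F K V, h2], ?_⟩, hQ⟩
  rw [Nat.card_eq_fintype_card, hF, ← unit_cnt_zero hK _ Φ hΦ rfl]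
  congr 2
  exact Nat.card_congr (Equiv.subtypeEquivRight fun v => by rw [← hQ, map_eq_zero_iff _ hi]; rfl)

theorem unit_emb_orth (h2 : finrank F K = 2) (Φ : Form (unitKind hK) V) (hΦ : Φ.Nondeg) {W : Type*} [AddCommGroup W]
    [Module F W] [FiniteDimensional F W] {Θ : Form (Kind.orth F) W} (hΘ : Θ.Nondeg)
    (ht : Θ.IsType (finrank K V) ((-1) ^ finrank K V)) : ∃ φ : Φ.Isom →* Θ.Isom, Function.Injective φ := by
  haveI : FiniteDimensional F V := .trans F K V
  obtain ⟨Ψ, h1, h3, h4⟩ := unit_res_orth hK hF h2 Φ hΦ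
  obtain ⟨e⟩ := (orth_iso_even _ _ _ _ h1 hΘ h3 ht).nonempty_equiv
  obtain ⟨φ, hφ⟩ := exists_inj_res Φ Ψ fun g hg => mem_Isom_orth.2 fun v => (algebraMap F K).injective (by
    rw [h4, h4]; exact hg.2 v)
  exact ⟨e.toMonoidHom.comp φ, e.injective.comp hφ⟩

end Unit

end Cfsg.Agent.Perm.Ort
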