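import Cfsg.Agent.Lib.Perm.Dick8
import Cfsg.Agent.Lib.Transfer.Count

/-! Icosahedral subgroups of the two-dimensional projective groups. -/

set_option autoImplicit false
set_option linter.unusedSectionVars false
set_option linter.style.haveILetI false

namespace Cfsg.Agent.Perm.GL2

open Matrix OnePoint MulAction Cfsg.Agent.Perm Subgroup Cfsg.Agent.Perm.Tri
open Matrix.SpecialLinearGroup (toGL toGL_injective)

variable {F : Type*} [Field F]

theorem tau_eq {g h : GL (Fin 2) F} {c : PGL2 F} (e : c * mkP g * c⁻¹ = mkP h) :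
    (g : M2 F).trace ^ 2 * (h : M2 F).det = (h : M2 F).trace ^ 2 * (g : M2 F).det := by
  obtain ⟨c, rfl⟩ := mkP_surj c
  rw [← map_inv, ← map_mul, ← map_mul, mkP_eq_iff] at e
  obtain ⟨a, ha⟩ := e
  rw [ha, trace_smul, det_smul, Units.val_mul, Units.val_mul, trace_conj', det_conj'']
  simp; ring

theorem A5_other : ∃ a b c : alternatingGroup (Fin 5), orderOf a = 2 ∧ orderOf b = 3 ∧
    c * (a5 * b5) ^ 2 * c⁻¹ = a * b := by
  have : ∃ a b c : alternatingGroup (Fin 5), (a ^ 2 = 1 ∧ a ≠ 1) ∧ (b ^ 3 = 1 ∧ b ≠ 1) ∧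
      c * (a5 * b5) ^ 2 * c⁻¹ = a * b := by
    refine ⟨a5, ?_⟩
    decide +kernel
  obtain ⟨a, b, c, h1, h2, h3⟩ := this
  haveI : Fact (Nat.Prime 3) := ⟨by norm_num⟩
  exact ⟨a, b, c, orderOf_eq_prime h1.1 h1.2, orderOf_eq_prime h2.1 h2.2, h3⟩

theorem pair_A5' [Finite F] {H : Subgroup (PGL2 F)} (e : H ≃* alternatingGroup (Fin 5)) {δ₀ : F}
    (h0 : δ₀ ^ 2 - 3 * δ₀ + 1 = 0) : ∃ x y, Pair δ₀ x y ∧ H = closure {mkP x, mkP y} := by
  let φ : alternatingGroup (Fin 5) →* PGL2 F := H.subtype.comp e.symm.toMonoidHom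
  have hφ : Function.Injective φ := H.subtype_injective.comp e.symm.injective
  have hr : φ.range = H := by
    rw [MonoidHom.range_comp, MonoidHom.range_eq_top.2 e.symm.surjective, ← MonoidHom.range_eq_map,
      range_subtype]
  have key : ∀ a b : alternatingGroup (Fin 5), orderOf a = 2 → orderOf b = 3 → orderOf (a * b) = 5 →
      ∃ δ x y, δ ^ 2 - 3 * δ + 1 = 0 ∧ Pair δ x y ∧ mkP x = φ a ∧ mkP y = φ b ∧
        H = closure {mkP x, mkP y} := by
    intro a b ha hb hab
    have h3 : orderOf (φ a * φ b) = 5 := by rw [← map_mul, orderOf_injective φ hφ, hab]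
    obtain ⟨δ, x, y, hp, h1, h2⟩ := pair_of_order ((orderOf_injective φ hφ a).trans ha)
      ((orderOf_injective φ hφ b).trans hb) (by rw [Ne, ← orderOf_dvd_iff_pow_eq_one, h3]; norm_num)
    rw [← h1, ← h2] at h3
    obtain ⟨h4, h5⟩ := Pair.nscal_xy (δ := δ) h3 (by norm_num)
    have h6 := (scal_pow_iff5 h4).1 h5
    rw [hp.txy, hp.dxy] at h6
    have h7 : δ ^ 2 - 3 * δ + 1 = 0 := by linear_combination h6
    refine ⟨δ, x, y, h7, hp, h1, h2, (eq_of_le_of_card_ge ?_ ?_).symm⟩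
    · rw [closure_le, h1, h2, ← hr]
      rintro _ (rfl | rfl) <;> exact ⟨_, rfl⟩
    · obtain ⟨e'⟩ := hp.iso_A5 h7 (fun hs => by
        have := (orderOf_injective φ hφ a).trans ha
        rw [← h1, mkP_eq_one.2 hs, orderOf_one] at this; omega)
      rw [Nat.card_congr e.toEquiv, Nat.card_congr e'.toEquiv]
  obtain ⟨δ, x, y, h1, h2, h3, h4, h5⟩ := key a5 b5 order_a5 order_b5 order_ab5
  by_cases hd : δ = δ₀
  · exact ⟨x, y, hd ▸ h2, h5⟩
  obtain ⟨a, b, c, ha, hb, hc⟩ := A5_other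
  obtain ⟨δ', x', y', k1, k2, k3, k4, k5⟩ := key a b ha hb (by
    rw [← hc, Transfer.orderOf_conj, orderOf_pow' _ two_ne_zero, order_ab5]; rfl)
  have h6 := tau_eq (g := (x * y) * (x * y)) (h := x' * y') (c := φ c) (by
    simp only [map_mul]
    rw [h3, h4, k3, k4, ← map_mul, ← map_mul, ← map_inv, ← map_mul, ← map_mul, ← map_mul, ← hc, sq])
  rw [k2.txy, k2.dxy, Units.val_mul (x * y), det_mul, cayley, h2.txy, h2.dxy, trace_sub, trace_smul,
    trace_smul, h2.txy, trace_one] at h6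
  simp only [smul_eq_mul, Fintype.card_fin, Nat.cast_ofNat] at h6
  have h7 : δ₀ = 3 - δ := by
    have : (δ - δ₀) * (δ₀ - (3 - δ)) = 0 := by linear_combination h1 - h0
    exact sub_eq_zero.1 ((mul_eq_zero.1 this).resolve_left (sub_ne_zero.2 hd))
  have h8 : δ' = 3 - δ := by
    have : (δ' - (3 - δ)) * (1 - 2 * δ) ^ 2 = 0 := by linear_combination h6 + (4 * δ - 3) * h1
    refine sub_eq_zero.1 ((mul_eq_zero.1 this).resolve_right fun h9 => h2.ne ?_)
    have : δ * δ = 0 := by linear_combination δ' * h9 - h6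
    exact mul_self_eq_zero.1 this
  exact ⟨x', y', by rw [h7, ← h8]; exact k2, k5⟩

theorem rigid_A5 [Finite F] (h2 : (2 : F) ≠ 0) {H H' : Subgroup (PGL2 F)}
    (e : H ≃* alternatingGroup (Fin 5)) (e' : H' ≃* alternatingGroup (Fin 5)) : ∃ c, H' = cjs c H := by
  obtain ⟨δ, x, y, h1, h3, rfl⟩ := pair_A5 e
  obtain ⟨x', y', h4, rfl⟩ := pair_A5' e' h1
  exact h3.conj_closure h4 h2 (three_mul_ne_one h1)

theorem not_solvable_A5 : ¬ Group.IsSolvable (alternatingGroup (Fin 5)) := fun h => by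
  have := simple_A5
  have h1 := IsSimpleGroup.comm_iff_isSolvable.2 h a5 b5
  revert h1
  decide +kernel

theorem solvable_of_tor [Fintype F] {p : ℕ} [Fact p.Prime] [CharP F p] {H : Subgroup (PGL2 F)}
    (h : Tor p H) : Group.IsSolvable H := by
  obtain ⟨a, -, h1, h2⟩ := h
  obtain ⟨t, s, -, -, -, h3, h4, -, -, h5⟩ := torus h1
  exact solvable_of_dih h3 h4 fun g hg => (mem_dih h3 h4).2 (h5 g (h2 g hg))

theorem normalizer_A5_eleven [Fintype F] (hF : Fintype.card F = 11) {H : Subgroup (PGL2 F)}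
    (e : H ≃* alternatingGroup (Fin 5)) : normalizer (H : Set (PGL2 F)) = H := by
  haveI : Fact (Nat.Prime 11) := ⟨by norm_num⟩
  haveI : CharP F 11 := charP_of_card_eq_prime hF
  have h60 : Nat.card H = 60 := by rw [Nat.card_congr e.toEquiv, card_A5]
  have hns : ¬ Group.IsSolvable (normalizer (H : Set (PGL2 F))) := fun h => by
    have : Group.IsSolvable H := solvable_of_solvable_injective (inclusion_injective le_normalizer)
    exact not_solvable_A5 (solvable_of_surjective (f := e.toMonoidHom) e.surjective)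
  have hd := card_dvd_of_le (le_normalizer (H := H))
  have hPS : ¬ PS F ≤ normalizer (H : Set (PGL2 F)) := fun h => by
    have := Matrix.ProjectiveSpecialLinearGroup.rank_two_simple (F := F) (by
      rw [Nat.card_eq_fintype_card]; omega)
    have hn : (H.comap io).Normal := ⟨fun a ha g => by
      rw [mem_comap, map_mul, map_mul, map_inv]
      exact Transfer.conj_mem_of_mem_normalizer (h (io_mem g)) ha⟩
    have h1 := map_comap_io (A5_le_PS e)
    have h2 := card_PS_mul (F := F)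
    rcases hn.eq_bot_or_eq_top with h3 | h3 <;> rw [h3] at h1
    · rw [← h1, Subgroup.map_bot, card_bot] at h60; omega
    · rw [← MonoidHom.range_eq_map, range_io] at h1
      rw [h1, h60, hF] at h2; norm_num at h2
  rcases dickson2 11 (normalizer (H : Set (PGL2 F))) with h | ⟨x, h⟩ | ⟨-, ⟨⟨h⟩⟩ | ⟨⟨h⟩⟩⟩ | ⟨-, ⟨h⟩⟩ |
    ⟨L, c, -, h⟩
  · exact (hns (solvable_of_tor h)).elim
  · exact (hns (solvable_of_fix (p := 11) h)).elim
  · rw [Nat.card_congr h.toEquiv, card_A4, h60] at hd; omega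
  · rw [Nat.card_congr h.toEquiv, card_S4, h60] at hd; omega
  · exact (eq_of_le_of_card_ge le_normalizer (by rw [Nat.card_congr h.toEquiv, card_A5, h60])).symm
  · obtain ⟨m, hm, h1⟩ := exists_card_pow' L.subtype
    have h2 : Nat.card L = Fintype.card F := by
      rw [hF] at h1 ⊢
      exact ((Nat.Prime.pow_eq_iff Fact.out).1 h1.symm).1
    rcases h with h | h
    · exact (hPS (by rw [h, RG_eq_top _ h2]; exact le_top)).elim
    · exact (hPS (by rw [h, RS_eq_PS _ h2])).elim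

end Cfsg.Agent.Perm.GL2
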