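import Cfsg.Agent.Lib.Perm.Dick9
import Cfsg.Agent.Lib.Transfer.Count
import Cfsg.Agent.S0262

/-! Sylow subgroups of the two-dimensional special linear groups. -/

set_option autoImplicit false
set_option linter.unusedSectionVars false
set_option linter.style.haveILetI false

namespace Cfsg.Agent.Perm.GL2

open Matrix MulAction Cfsg.Agent.Perm Subgroup Cfsg.Agent.Perm.Tri Cfsg.Agent.Transfer
open scoped Pointwise

section Red

variable {G H : Type*} [Group G] [Finite G] [Group H] {p : ℕ} [hp : Fact p.Prime]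

/-- `G` has a redundant Sylow subgroup. -/
def Red (p : ℕ) (G : Type*) [Group G] : Prop :=
  ∃ Q : Sylow p G, ∀ x : G, (∃ k : ℕ, orderOf x = p ^ k) → ∃ P : Sylow p G, P ≠ Q ∧ x ∈ P

theorem mem_smul_syl {c x : G} {P : Sylow p G} : x ∈ c • P ↔ c⁻¹ * x * c ∈ P := by
  rw [← SetLike.mem_coe, Sylow.coe_smul, Set.mem_smul_set_iff_inv_smul_mem]; simp

theorem order_of_mem {P : Subgroup G} (h : IsPGroup p P) {x : G} (hx : x ∈ P) :
    ∃ k : ℕ, orderOf x = p ^ k := by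
  obtain ⟨k, hk⟩ := IsPGroup.iff_orderOf.1 h ⟨x, hx⟩
  exact ⟨k, by simpa using hk⟩

theorem not_red {R : Sylow p G} {x : G} (hx : x ∈ R) (h : ∀ P : Sylow p G, x ∈ P → P = R) :
    ¬ Red p G := by
  rintro ⟨Q, hQ⟩
  obtain ⟨c, rfl⟩ := exists_smul_eq G R Q
  obtain ⟨P, h1, h2⟩ := hQ (c * x * c⁻¹) (by rw [orderOf_conj]; exact order_of_mem R.2 hx)
  refine h1 ?_
  rw [← h (c⁻¹ • P) (mem_smul_syl.2 (by simpa using h2)), smul_inv_smul]

theorem red_of (h : ∀ x : G, (∃ k : ℕ, orderOf x = p ^ k) → ∃ P P' : Sylow p G, P ≠ P' ∧ x ∈ P ∧ x ∈ P') :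
    Red p G := by
  obtain ⟨Q⟩ : Nonempty (Sylow p G) := inferInstance
  refine ⟨Q, fun x hx => ?_⟩
  obtain ⟨P, P', h1, h2, h3⟩ := h x hx
  by_cases h4 : P = Q
  · exact ⟨P', fun e => h1 (h4.trans e.symm), h3⟩
  · exact ⟨P, h4, h2⟩

theorem mem_syl_of_le {S : Sylow p G} {y : G} (hy : ∃ k : ℕ, orderOf y = p ^ k)
    (h : (S : Subgroup G) ≤ normalizer (zpowers y : Set G)) : y ∈ S := by
  obtain ⟨k, hk⟩ := hy
  have h1 : IsPGroup p (zpowers y) := IsPGroup.of_card (by rw [Nat.card_zpowers, hk])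
  have h2 := S.is_maximal' (S.2.to_sup_of_normal_right' h1 h) le_sup_left
  exact h2.le (mem_sup_right (mem_zpowers y))

theorem mem_of_map_mem {f : G →* H} (hk : f.ker ≤ center G) {P : Sylow p G} {x : G}
    (hx : ∃ k : ℕ, orderOf x = p ^ k) (h : f x ∈ (P : Subgroup G).map f) : x ∈ P := by
  obtain ⟨y, hy, h1⟩ := h
  have h2 : y⁻¹ * x ∈ center G := hk (by rw [MonoidHom.mem_ker, map_mul, map_inv, h1, inv_mul_cancel])
  have h3 : Commute y⁻¹ x := by
    have := mem_center_iff.1 h2 y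
    rw [mul_inv_cancel_left, mul_assoc, eq_inv_mul_iff_mul_eq] at this
    exact (show Commute y x from this).inv_left
  obtain ⟨k, hk⟩ := hx
  obtain ⟨l, hl⟩ := order_of_mem P.2 (inv_mem hy)
  have h4 : y⁻¹ * x ∈ P := mem_syl_of_le (by
    refine (Nat.dvd_prime_pow hp.out).1 (h3.orderOf_mul_dvd_mul_orderOf.trans
      (by rw [hk, hl, ← pow_add])) |>.imp fun _ h => h.2) fun g _ =>
    centralizer_le_normalizer _ (mem_centralizer_zpowers.2 (mem_center_iff.1 h2 g))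
  exact (mul_mem_cancel_left (P.1.inv_mem hy)).1 h4

theorem red_iff {f : G →* H} (hf : Function.Surjective f) (hk : f.ker ≤ center G) :
    Red p H ↔ Red p G := by
  have := Finite.of_surjective f hf
  constructor
  · rintro ⟨Q, hQ⟩
    obtain ⟨Q, rfl⟩ := Sylow.mapSurjective_surjective hf p Q
    refine ⟨Q, fun x hx => ?_⟩
    obtain ⟨P, h1, h2⟩ := hQ (f x) (hx.elim fun k hk =>
      ((Nat.dvd_prime_pow hp.out).1 (hk ▸ orderOf_map_dvd f x)).imp fun _ h => h.2)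
    obtain ⟨P, rfl⟩ := Sylow.mapSurjective_surjective hf p P
    exact ⟨P, fun e => h1 (e ▸ rfl), mem_of_map_mem hk hx h2⟩
  · rintro ⟨Q, hQ⟩
    refine ⟨Q.mapSurjective hf, fun x ⟨k, hx⟩ => ?_⟩
    obtain ⟨R, hR⟩ := (IsPGroup.of_card (G := zpowers x) (by rw [Nat.card_zpowers, hx])).exists_le_sylow
    obtain ⟨R, rfl⟩ := Sylow.mapSurjective_surjective hf p R
    obtain ⟨y, hy, rfl⟩ := hR (mem_zpowers x)
    obtain ⟨P, h1, h2⟩ := hQ y (order_of_mem R.2 hy)
    refine ⟨P.mapSurjective hf, fun e => h1 (Sylow.ext (Q.is_maximal' P.2 fun z hz => ?_)),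
      mem_map_of_mem f h2⟩
    refine mem_of_map_mem hk (order_of_mem Q.2 hz) ?_
    have := congrArg (fun S : Sylow p H => (S : Subgroup H)) e
    exact this.ge (mem_map_of_mem f hz)

theorem exists_syl_le {N : Subgroup G} (hN : ¬ p ∣ N.index) {x : G} (hx : x ∈ N)
    (h : ∃ k : ℕ, orderOf x = p ^ k) : ∃ P : Sylow p G, x ∈ P ∧ (P : Subgroup G) ≤ N := by
  obtain ⟨k, hk⟩ := h
  obtain ⟨S, hS⟩ := (IsPGroup.of_card (G := zpowers (⟨x, hx⟩ : N))
    (by rw [Nat.card_zpowers, orderOf_mk, hk])).exists_le_sylow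
  refine ⟨(S.2.map N.subtype).toSylow ?_, mem_map_of_mem N.subtype (hS (mem_zpowers _)), map_subtype_le _⟩
  rw [index_map_subtype, hp.out.dvd_mul]
  exact not_or.2 ⟨S.not_dvd_index, hN⟩

end Red

variable {F : Type*} [Field F] [Fintype F]

theorem not_red_of_comm {p : ℕ} [Fact p.Prime] (h : ∀ P : Sylow p (SL2 F), IsMulCommutative P) :
    ¬ Red p (SL2 F) := by
  obtain ⟨R⟩ : Nonempty (Sylow p (SL2 F)) := inferInstance
  by_cases h1 : ∃ x ∈ R, ¬ IsScal (x : M2 F)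
  · obtain ⟨x, hx, h1⟩ := h1
    have h2 : ∀ P : Sylow p (SL2 F), x ∈ P → ∀ y ∈ P, y ∈ cent x := fun P hP y hy =>
      mem_cent.2 (congrArg Subtype.val ((h P).1.1 ⟨y, hy⟩ ⟨x, hP⟩))
    refine not_red hx fun P hP => Sylow.ext (R.is_maximal' P.2 fun y hy => mem_syl_of_le
      (order_of_mem R.2 hy) fun z hz => centralizer_le_normalizer _ (mem_centralizer_zpowers.2
        (cent_comm_SL h1 (h2 P hP z hz) (h2 R hx y hy))))
  · push Not at h1
    refine not_red R.1.one_mem fun P _ => Sylow.ext (R.is_maximal' P.2 fun y hy => mem_syl_of_le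
      (order_of_mem R.2 hy) fun z _ => centralizer_le_normalizer _ (mem_centralizer_zpowers.2
        (mem_center_iff.1 (isScal_iff_center_SL.1 (h1 y hy)) z)))

theorem comm_syl_char {p : ℕ} [Fact p.Prime] [CharP F p] (P : Sylow p (SL2 F)) : IsMulCommutative P := by
  obtain ⟨c, hc⟩ := exists_sylS P
  refine ⟨⟨fun a b => Subtype.ext ?_⟩⟩
  have h1 := mem_US.1 ((hc a).1 a.2)
  have h2 := mem_US.1 ((hc b).1 b.2)
  have : (c⁻¹ * a * c) * (c⁻¹ * b * c) = (c⁻¹ * b * c) * (c⁻¹ * a * c) := by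
    generalize c⁻¹ * a * c = x at h1
    generalize c⁻¹ * b * c = y at h2
    exact Subtype.ext (m2_ext (by simp [mul_apply2, *]) (by simp [mul_apply2, *, add_comm])
      (by simp [mul_apply2, *]) (by simp [mul_apply2, *]))
  calc (a : SL2 F) * b = c * ((c⁻¹ * a * c) * (c⁻¹ * b * c)) * c⁻¹ := by group
    _ = (b : SL2 F) * a := by rw [this]; group

theorem odd_index (h2 : (2 : F) ≠ 0) {g : SL2 F} (hg : IsReg (g : M2 F)) (h4 : 4 ∣ Nat.card (cent g)) :
    ¬ 2 ∣ (normalizer (cent g : Set (SL2 F))).index := by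
  have h1 := (normalizer (cent g : Set (SL2 F))).card_mul_index
  obtain ⟨m, hm⟩ := odd_of_two_ne_zero h2
  rw [hg.card_normalizer, card_SL2] at h1
  rintro ⟨k, hk⟩
  have hm0 : 0 < m := by have := Fintype.one_lt_card (α := F); omega
  rcases hg.card_cent with h | h <;> rw [h] at h1 h4 <;> rw [hk, hm] at h1 <;> rw [hm] at h4
  · have h5 : 2 * k = (2 * m + 1) * m := Nat.eq_of_mul_eq_mul_left (show 0 < 2 * (2 * m + 1 + 1) by omega)
      (by rw [h1, Nat.add_sub_cancel]; ring)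
    have h6 : Odd ((2 * m + 1) * m) := Odd.mul ⟨m, rfl⟩ (Nat.odd_iff.2 (by omega))
    rw [← h5, Nat.odd_iff] at h6; omega
  · have h5 : 2 * k = (2 * m + 1) * (m + 1) := Nat.eq_of_mul_eq_mul_left
      (show 0 < 2 * (2 * m + 1 - 1) by omega) (by rw [h1, Nat.add_sub_cancel]; ring)
    have h6 : Odd ((2 * m + 1) * (m + 1)) := Odd.mul ⟨m, rfl⟩ (Nat.odd_iff.2 (by omega))
    rw [← h5, Nat.odd_iff] at h6; omega

theorem exists_notMem_cent {g : SL2 F} (hg : IsReg (g : M2 F)) (P : Sylow 2 (SL2 F)) :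
    ∃ w ∈ P, w ∉ cent g := by
  by_contra h
  push Not at h
  refine P.not_dvd_index (Dvd.dvd.trans ?_ (index_dvd_of_le (K := cent g) h))
  exact hg.index_subgroupOf.symm.dvd.trans (relIndex_dvd_index_of_le le_normalizer)

theorem exists_reg_four (h2 : (2 : F) ≠ 0) {x : SL2 F} (hx : ∃ k : ℕ, orderOf x = 2 ^ k) :
    ∃ g : SL2 F, IsReg (g : M2 F) ∧ 4 ∣ Nat.card (cent g) ∧ x ∈ cent g := by
  by_cases h : IsScal (x : M2 F)
  · obtain ⟨g, hg⟩ := exists_trace_zero (F := F)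
    exact ⟨g, isReg_of_trace h2 hg, orderOf_eq_four h2 hg ▸ (cent g).orderOf_dvd_natCard (mem_cent.2 rfl),
      scal_mem_cent_SL h g⟩
  · obtain ⟨k, hk⟩ := hx
    have h1 : ¬ orderOf x ∣ 2 := fun e => h (isScal_of_mul_self_eq_one h2 (by
      rw [← sq]; exact orderOf_dvd_iff_pow_eq_one.1 e))
    refine ⟨x, isReg_of_orderOf h1 fun e => ringChar_ne_two h2 ?_,
      Dvd.dvd.trans ?_ ((cent x).orderOf_dvd_natCard (mem_cent.2 rfl)), mem_cent.2 rfl⟩
    · exact (Nat.prime_dvd_prime_iff_eq (CharP.char_is_prime F _) Nat.prime_two).1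
        ((CharP.char_is_prime F _).dvd_of_dvd_pow (hk ▸ e))
    · rw [hk] at h1 ⊢
      rcases k with _ | _ | k
      · simp at h1
      · simp at h1
      · exact ⟨2 ^ k, by ring⟩

theorem red_two (h2 : (2 : F) ≠ 0) (h3 : ¬ ∃ k : ℕ, Fintype.card F + 1 = 2 ^ k)
    (h4 : ¬ ∃ k : ℕ, Fintype.card F = 2 ^ k + 1) : Red 2 (SL2 F) := by
  refine red_of fun x hx => ?_
  obtain ⟨g, hg, h5, h6⟩ := exists_reg_four h2 hx
  obtain ⟨P, h7, h8⟩ := exists_syl_le (odd_index h2 hg h5) (le_normalizer h6) hx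
  obtain ⟨w, hw, hw'⟩ := exists_notMem_cent hg P
  obtain ⟨r, hr, h9, h10⟩ : ∃ r : ℕ, r.Prime ∧ r ∣ Nat.card (cent g) ∧ Odd r := by
    refine (Nat.eq_two_pow_or_exists_odd_prime_and_dvd _).resolve_left ?_
    rintro ⟨k, hk⟩
    have := Fintype.one_lt_card (α := F)
    rcases hg.card_cent with h | h
    · exact h3 ⟨k, h ▸ hk⟩
    · exact h4 ⟨k, by omega⟩
  haveI := Fact.mk hr
  obtain ⟨u, hu⟩ := exists_prime_orderOf_dvd_card' r h9
  rw [← orderOf_coe] at hu
  refine ⟨P, (u : SL2 F) • P, fun e => ?_, h7, mem_smul_syl.2 ?_⟩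
  · have h11 : (u : SL2 F)⁻¹ * w * u ∈ P := mem_smul_syl.1 (e ▸ hw)
    have h12 : ((u : SL2 F) * u)⁻¹ ∈ (P : Subgroup _) := by
      have := P.1.mul_mem h11 (P.1.inv_mem hw)
      rwa [mul_assoc, mul_assoc, ← mul_assoc w, hg.inverts_of_mem (h8 hw) hw' u.2, ← _root_.mul_inv_rev] at this
    have h13 := eq_one_of_odd_of_mem P.2 (inv_mem_iff.1 h12) (odd_orderOf_of_mem_zpowers (hu ▸ h10)
      (mul_mem (mem_zpowers _) (mem_zpowers _)))
    rw [eq_one_of_odd_of_mul_self (hu ▸ h10) h13, orderOf_one] at hu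
    exact hr.one_lt.ne hu
  · rwa [mul_assoc, cent_comm_SL hg.not_scal h6 u.2, inv_mul_cancel_left]

theorem not_red_two (h2 : (2 : F) ≠ 0) {g : SL2 F} (hg : IsReg (g : M2 F)) {k : ℕ} (hk : 2 ≤ k)
    (h3 : orderOf g = 2 ^ k) (h4 : Nat.card (cent g) = 2 ^ k) : ¬ Red 2 (SL2 F) := by
  have h5 := odd_index h2 hg (h4 ▸ pow_dvd_pow 2 hk)
  have h6 : IsPGroup 2 (normalizer (cent g : Set (SL2 F))) :=
    IsPGroup.of_card (n := k + 1) (by rw [hg.card_normalizer, h4, pow_succ'])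
  have h7 : zpowers g = cent g := eq_of_le_of_card_ge (zpowers_le.2 (mem_cent.2 rfl))
    (by rw [Nat.card_zpowers, h3, h4])
  refine not_red (R := h6.toSylow h5) (x := g) (le_normalizer (H := cent g) (mem_cent.2 rfl)) fun P hP => ?_
  have h8 : cent g ≤ P := h7 ▸ zpowers_le.2 hP
  have h9 := ((cent g).subgroupOf P).card_mul_index
  rw [Nat.card_congr (subgroupOfEquivOfLe h8).toEquiv, Nat.card_congr (P.equiv (h6.toSylow h5)).toEquiv,
    IsPGroup.toSylow_coe, hg.card_normalizer, mul_comm] at h9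
  exact Sylow.ext (P.is_maximal' h6 ((normal_subgroupOf_iff_le_normalizer h8).1
    (normal_of_index_eq_two (Nat.eq_of_mul_eq_mul_right Nat.card_pos h9)))).symm

theorem red_SL (p : ℕ) [hp : Fact p.Prime] : Red p (SL2 F) ↔
    (p = 2 ∧ (¬ ∃ k : ℕ, Fintype.card F + 1 = 2 ^ k) ∧ (¬ ∃ k : ℕ, Fintype.card F = 2 ^ k) ∧
      ¬ ∃ k : ℕ, Fintype.card F = 2 ^ k + 1) := by
  haveI : Fact (ringChar F).Prime := ⟨CharP.char_is_prime F _⟩
  have h1 := Fintype.one_lt_card (α := F)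
  constructor
  · intro h
    have h3 : p ≠ ringChar F := by
      rintro rfl
      exact not_red_of_comm comm_syl_char h
    have h4 : p = 2 := by
      by_contra h4
      exact not_red_of_comm (fun P => (S0262.result (ringChar F) p h4 h3 P).isMulCommutative) h
    subst h4
    have h2 : (2 : F) ≠ 0 := fun e => h3 (ringChar_eq_two e).symm
    have ho := Nat.odd_iff.1 (odd_of_two_ne_zero h2)
    have h5 : ¬ ∃ k : ℕ, Fintype.card F + 1 = 2 ^ k := by
      rintro ⟨k, hk⟩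
      obtain ⟨g, hg, h5⟩ := exists_reg_add (F := F)
      refine not_red_two h2 hg.isReg (k := k) ?_ (h5.trans hk) (hg.card_cent_SL.trans hk) h
      rcases k with _ | _ | k <;> omega
    refine ⟨rfl, h5, ?_, ?_⟩
    · rintro ⟨_ | k, hk⟩ <;> omega
    · rintro ⟨_ | _ | k, hk⟩
      · omega
      · exact h5 ⟨2, by omega⟩
      · obtain ⟨g, hg, h6⟩ := exists_reg_sub (F := F) (by have : 0 < 2 ^ k := by positivity
                                                          omega)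
        exact not_red_two h2 hg.isReg (k := k + 1 + 1) (by omega) (by omega)
          (by rw [hg.card_cent_SL]; omega) h
  · rintro ⟨rfl, h3, h4, h5⟩
    refine red_two (fun e => h4 ?_) h3 h5
    haveI : CharP F 2 := ringChar_eq_two e ▸ ringChar.charP F
    obtain ⟨n, -, hn⟩ := FiniteField.card F 2
    exact ⟨n, hn⟩

end Cfsg.Agent.Perm.GL2
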