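import Mathlib
import Cfsg.Agent.Lib.Perm.PG1
import Cfsg.Agent.S0035
import Cfsg.Agent.S0695
import Cfsg.Agent.S0696

namespace Cfsg.Agent.Perm.PG

open MulAction Equiv
open scoped Pointwise

universe u v

section
variable {G : Type*} [Group G] {α : Type*} [MulAction G α]

/-- Frobenius' theorem for permutation groups. -/
theorem frob_kernel [Finite G] [IsPretransitive G α] [FaithfulSMul G α] [Nonempty α]
    (h : ∀ a b : α, a ≠ b → ∀ g : G, g • a = a → g • b = b → g = 1) :
    ∃ K : Subgroup G, (∀ g, g ∈ K ↔ g = 1 ∨ ∀ a : α, g • a ≠ a) ∧ IsPretransitive K α := by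
  obtain ⟨a⟩ := ‹Nonempty α›
  by_cases h1 : stabilizer G a = ⊥
  · refine ⟨⊤, fun g => ⟨fun _ => ?_, fun _ => trivial⟩, ⟨fun x y =>
      (exists_smul_eq G x y).elim fun g hg => ⟨⟨g, trivial⟩, hg⟩⟩⟩
    by_contra hc
    push Not at hc
    obtain ⟨h2, b, hb⟩ := hc
    obtain ⟨k, rfl⟩ := exists_smul_eq G a b
    have : k⁻¹ * g * k ∈ stabilizer G a := mem_stab_smul.1 hb
    rw [h1, Subgroup.mem_bot] at this
    apply h2
    have e : g = k * (k⁻¹ * g * k) * k⁻¹ := by group
    rw [e, this]; group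
  have hc : ∀ g : G, MulAut.conj g • stabilizer G a = stabilizer G (g • a) := fun g =>
    (stabilizer_smul_eq_stabilizer_map_conj g a).symm
  obtain ⟨K, hK, -, hK2⟩ := S0035.result (stabilizer G a) ⟨h1, fun e => h1 (by
      rw [eq_bot_iff]
      intro g _
      apply eq_one_of_smul_eq (α := α)
      intro b
      obtain ⟨k, rfl⟩ := exists_smul_eq G a b
      exact mem_stab_smul.2 (e ▸ Subgroup.mem_top _)), fun g hg => by
      rw [hc, eq_bot_iff]
      intro x hx
      exact h a (g • a) (fun e => hg e.symm) x hx.1 hx.2⟩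
  refine ⟨K, fun g => ?_, ⟨fun x y => ?_⟩⟩
  · rw [← SetLike.mem_coe, hK]
    refine or_congr Iff.rfl ⟨fun h2 b => ?_, fun h2 k => by rw [hc]; exact h2 _⟩
    obtain ⟨k, rfl⟩ := exists_smul_eq G a b
    have := h2 k
    rwa [hc] at this
  · have key : ∀ x : α, ∃ k : K, k • a = x := by
      intro x
      obtain ⟨g, rfl⟩ := exists_smul_eq G a x
      obtain ⟨⟨k, s⟩, e⟩ := hK2.2 g
      exact ⟨k, by rw [← e]; show (k : G) • a = ((k : G) * s) • a; rw [mul_smul, show (s : G) • a = a from s.2]⟩
    obtain ⟨k1, rfl⟩ := key x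
    obtain ⟨k2, rfl⟩ := key y
    exact ⟨k2 * k1⁻¹, by rw [mul_smul, inv_smul_smul]⟩

/-- The Frobenius kernel of a normal Frobenius subgroup. -/
theorem frob_kernel_normal [Finite G] [FaithfulSMul G α] [Nonempty α] (H : Subgroup G) [hn : H.Normal]
    [IsPretransitive H α] (h : ∀ a b : α, a ≠ b → ∀ g ∈ H, g • a = a → g • b = b → g = 1) :
    ∃ K : Subgroup G, K.Normal ∧ K ≤ H ∧ IsPretransitive K α ∧ ∀ a : α, stabilizer K a = ⊥ := by
  obtain ⟨K, hK, hK2⟩ := frob_kernel (G := H) (α := α) fun a b hab g h1 h2 =>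
    Subtype.ext (h a b hab g g.2 h1 h2)
  refine ⟨K.map H.subtype, ⟨?_⟩, Subgroup.map_subtype_le _, ⟨fun x y => ?_⟩, fun a => ?_⟩
  · rintro _ ⟨x, hx, rfl⟩ g
    refine ⟨⟨g * x * g⁻¹, hn.conj_mem _ x.2 g⟩, ?_, rfl⟩
    rw [SetLike.mem_coe, hK] at hx ⊢
    rcases hx with rfl | hx
    · left; apply Subtype.ext; simp
    · right
      intro a ha
      apply hx (g⁻¹ • a)
      have : (g * x * g⁻¹) • a = a := ha
      rw [mul_smul, mul_smul, ← eq_inv_smul_iff] at this
      exact this
  · obtain ⟨k, hk⟩ := exists_smul_eq K x y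
    exact ⟨⟨k.1.1, k.1, k.2, rfl⟩, hk⟩
  · rw [eq_bot_iff]
    rintro ⟨_, x, hx, rfl⟩ hx2
    rcases (hK x).1 hx with rfl | h3
    · rfl
    · exact absurd hx2 (h3 a)

theorem mt_sub_stab {H : Subgroup G} {a : α} {k : ℕ} [IsPretransitive H α]
    (h : IsMultiplyPretransitive (H.subgroupOf (stabilizer G a)) (SubMulAction.ofStabilizer G a) k) :
    IsMultiplyPretransitive H α (k + 1) := by
  rw [SubMulAction.ofStabilizer.isMultiplyPretransitive (a := a), multTrans_iff]
  intro x y hx hy
  obtain ⟨g, hg⟩ := multTrans_iff.1 h (fun i => ⟨(x i).1, (x i).2⟩) (fun i => ⟨(y i).1, (y i).2⟩)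
    (fun i j e => hx (Subtype.ext (congrArg Subtype.val e)))
    (fun i j e => hy (Subtype.ext (congrArg Subtype.val e)))
  exact ⟨⟨⟨g.1.1, g.2⟩, g.1.2⟩, fun i => Subtype.ext (congrArg Subtype.val (hg i))⟩

instance faithful_ofStab [FaithfulSMul G α] (a : α) :
    FaithfulSMul (stabilizer G a) (SubMulAction.ofStabilizer G a) := ⟨fun {g h} e => by
  apply Subtype.ext
  apply FaithfulSMul.eq_of_smul_eq_smul (α := α)
  intro x
  by_cases hx : x = a
  · subst hx; rw [g.2, h.2]
  · exact congrArg Subtype.val (e ⟨x, hx⟩)⟩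

theorem sub_stab_ne_bot {H : Subgroup G} {a : α} (h : stabilizer H a ≠ ⊥) :
    H.subgroupOf (stabilizer G a) ≠ ⊥ := by
  obtain ⟨⟨g, hg⟩, hg1⟩ := Subgroup.ne_bot_iff_exists_ne_one.1 h
  intro e
  have : (⟨g.1, hg⟩ : stabilizer G a) ∈ H.subgroupOf (stabilizer G a) := g.2
  rw [e, Subgroup.mem_bot] at this
  have h2 : g.1 = 1 := congrArg Subtype.val this
  exact hg1 (Subtype.ext (Subtype.ext h2))

theorem normal_two_trans [FaithfulSMul G α] [Finite α] (hn : 2 ≤ Nat.card α) (hG : IsMultiplyPreprimitive G α 2)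
    (H : Subgroup G) [H.Normal] {a : α} (h : stabilizer H a ≠ ⊥) : IsMultiplyPretransitive H α 2 := by
  have h1 : IsPreprimitive G α := (is_one_preprimitive_iff G α).1
    (isMultiplyPreprimitive_of_le G α hG one_le_two (by rw [ENat.card_eq_coe_natCard]; exact_mod_cast hn))
  have : IsPretransitive H α := normal_trans_of_prim H (by rintro rfl; exact h (Subsingleton.elim _ _))
  have h2 := (is_one_preprimitive_iff _ _).1 (isMultiplyPreprimitive_ofStabilizer G α (a := a) (n := 1))
  exact mt_sub_stab (is_one_pretransitive_iff.2 (normal_trans_of_prim _ (sub_stab_ne_bot h)))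

end

theorem normal_mt (k : ℕ) : ∀ {G : Type u} [Group G] {α : Type v} [MulAction G α] [FaithfulSMul G α] [Finite α]
    (_ : k + 1 ≤ Nat.card α) (_ : IsMultiplyPreprimitive G α (k + 1))
    (_ : ¬ IsMultiplyPretransitive G α (Nat.card α - 1))
    (H : Subgroup G) [H.Normal] {a : α} (_ : stabilizer H a ≠ ⊥), IsMultiplyPretransitive H α (k + 1) := by
  induction k with
  | zero =>
    intro G _ α _ _ _ _ hG _ H _ a h
    have := (is_one_preprimitive_iff G α).1 hG
    exact is_one_pretransitive_iff.2 (normal_trans_of_prim H (by rintro rfl; exact h (Subsingleton.elim _ _)))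
  | succ k ih =>
    intro G _ α _ _ _ hn hG htop H _ a h
    have hle : ∀ m ≤ k + 1 + 1, IsMultiplyPreprimitive G α m := fun m hm =>
      isMultiplyPreprimitive_of_le G α hG hm (by rw [ENat.card_eq_coe_natCard]; exact_mod_cast hn)
    rcases k with _ | k
    · exact normal_two_trans hn hG H h
    have h1 : IsPreprimitive G α := (is_one_preprimitive_iff G α).1 (hle 1 (by omega))
    have : IsPretransitive H α := normal_trans_of_prim H (by rintro rfl; exact h (Subsingleton.elim _ _))
    have hc := SubMulAction.nat_card_ofStabilizer_add_one_eq G a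
    by_cases hr : ∀ b : SubMulAction.ofStabilizer G a, stabilizer (H.subgroupOf (stabilizer G a)) b = ⊥
    · exfalso
      have : Finite G := Finite.of_injective _ (toPerm_injective (α := G) (β := α))
      have : Nonempty α := ⟨a⟩
      obtain ⟨K, _, -, hK, hK2⟩ := frob_kernel_normal (α := α) H (by
        intro x y hxy g hg hx hy
        obtain ⟨t, rfl⟩ := exists_smul_eq G a x
        have h2 : t⁻¹ * g * t ∈ stabilizer G a := mem_stab_smul.1 hx
        have h3 : (⟨⟨_, h2⟩, (by simpa [Subgroup.mem_subgroupOf] using Subgroup.Normal.conj_mem ‹_› g hg t⁻¹)⟩ :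
            H.subgroupOf (stabilizer G a)) ∈ stabilizer (H.subgroupOf (stabilizer G a))
            (⟨t⁻¹ • y, fun e => hxy (by rw [← show t⁻¹ • y = a from e, smul_inv_smul])⟩ :
              SubMulAction.ofStabilizer G a) := by
          apply Subtype.ext
          show (t⁻¹ * g * t) • t⁻¹ • y = t⁻¹ • y
          rw [mul_smul, mul_smul, smul_inv_smul, hy]
        rw [hr, Subgroup.mem_bot] at h3
        have h4 : t⁻¹ * g * t = 1 := congrArg (fun z => z.1.1) h3
        have e : g = t * (t⁻¹ * g * t) * t⁻¹ := by group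
        rw [e, h4]; group)
      have := Fintype.ofFinite α
      have h5 := S0696.result (by rw [← Nat.card_eq_fintype_card]; omega) (hle 3 (by omega)) K hK hK2
      rw [← Nat.card_eq_fintype_card] at h5
      have := (hle 3 (by omega)).isMultiplyPretransitive
      exact htop (isMultiplyPretransitive_of_le (n := 3) (by omega) (by omega))
    · push Not at hr
      obtain ⟨b, hb⟩ := hr
      refine mt_sub_stab (ih (by omega) (isMultiplyPreprimitive_ofStabilizer G α) (fun e => htop ?_) _ hb)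
      have e2 : Nat.card α - 1 = (Nat.card (SubMulAction.ofStabilizer G a) - 1).succ := by omega
      rw [e2, SubMulAction.ofStabilizer.isMultiplyPretransitive (a := a)]
      exact e

end Cfsg.Agent.Perm.PG
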