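import Mathlib
import Cfsg.Agent.S2364

/-! Tools for the prime graph of `PSL_n(q)`. -/

set_option autoImplicit false

namespace Cfsg.Agent.Perm.PGr
open Matrix Module

variable {F : Type*} [Field F] {n a b : ℕ}

/-- block sum -/
def bs (h : a + b = n) : SpecialLinearGroup (Fin a) F × SpecialLinearGroup (Fin b) F →* SpecialLinearGroup (Fin n) F where
  toFun g := ⟨reindex (finSumFinEquiv.trans (finCongr h)) (finSumFinEquiv.trans (finCongr h))
    (fromBlocks g.1.1 0 0 g.2.1), by rw [det_reindex_self, det_fromBlocks_zero₂₁, g.1.2, g.2.2, one_mul]⟩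
  map_one' := Subtype.ext (by
    change reindex _ _ (fromBlocks 1 0 0 1) = 1
    rw [fromBlocks_one, reindex_apply, submatrix_one_equiv])
  map_mul' x y := Subtype.ext (by
    change _ = reindex _ _ _ * reindex _ _ _
    simp only [reindex_apply, submatrix_mul_equiv, fromBlocks_multiply]
    simp)

theorem bs_inj (h : a + b = n) : Function.Injective (bs (F := F) h) := fun x y e => by
  have := fromBlocks_inj.1 ((reindex _ _).injective (congrArg Subtype.val e))
  exact Prod.ext (Subtype.ext this.1) (Subtype.ext this.2.2.2)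

theorem bs_apply (h : a + b = n) (g : SpecialLinearGroup (Fin a) F × SpecialLinearGroup (Fin b) F) (i : Fin b) :
    (bs h g).1 (finCongr h (Fin.natAdd a i)) (finCongr h (Fin.natAdd a i)) = g.2.1 i i := by
  change reindex _ _ _ _ _ = _
  simp

theorem cen_pow [Fintype F] (hn : n ≠ 0) {g : SpecialLinearGroup (Fin n) F} (hg : g ∈ Subgroup.center _) :
    g ^ (Fintype.card F - 1) = 1 := by
  obtain ⟨c, h1, h2⟩ := Matrix.SpecialLinearGroup.mem_center_iff.1 hg
  refine Subtype.ext ?_
  rw [Matrix.SpecialLinearGroup.coe_pow, ← h2, ← map_pow, FiniteField.pow_card_sub_one_eq_one, map_one]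
  · rfl
  · rintro rfl
    rw [zero_pow (by simpa using hn)] at h1; exact zero_ne_one h1

theorem ord_mk [Fintype F] (hn : n ≠ 0) {g : SpecialLinearGroup (Fin n) F}
    (h : (orderOf g).Coprime (Fintype.card F - 1)) :
    orderOf (g : ProjectiveSpecialLinearGroup (Fin n) F) = orderOf g :=
  Nat.dvd_antisymm (orderOf_map_dvd (QuotientGroup.mk' _) g) (h.dvd_of_dvd_mul_right (orderOf_dvd_of_pow_eq_one (by
    rw [pow_mul]; exact cen_pow hn ((QuotientGroup.eq_one_iff _).1 (by rw [QuotientGroup.mk_pow, pow_orderOf_eq_one])))))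

theorem lift [Fintype F] (hn : n ≠ 0) {X : SpecialLinearGroup (Fin n) F} {r s : ℕ} (hr : r.Prime) (hs : s ≠ 0)
    (h : orderOf (X : ProjectiveSpecialLinearGroup (Fin n) F) = s * r) (h1 : ¬ r ∣ Fintype.card F - 1) :
    (X ^ (s * (Fintype.card F - 1))) ^ r = 1 ∧ X ^ (s * (Fintype.card F - 1)) ≠ 1 :=
  ⟨by
    rw [← pow_mul, mul_right_comm, pow_mul, ← h]
    exact cen_pow hn ((QuotientGroup.eq_one_iff _).1 (by rw [QuotientGroup.mk_pow, pow_orderOf_eq_one])),
  fun e => h1 (Nat.dvd_of_mul_dvd_mul_left (Nat.pos_of_ne_zero hs)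
    (h ▸ orderOf_dvd_of_pow_eq_one (by rw [← QuotientGroup.mk_pow, e]; rfl)))⟩

/-- the natural representation -/
def nat : SpecialLinearGroup (Fin n) F →* End F (Fin n → F) :=
  (Matrix.toLinAlgEquiv' : Matrix (Fin n) (Fin n) F ≃ₐ[F] _).toMonoidHom.comp SpecialLinearGroup.coeMonoidHom

theorem nat_inj : Function.Injective (nat (F := F) (n := n)) :=
  Matrix.toLinAlgEquiv'.injective.comp Subtype.val_injective

theorem dvd_iff {q r e : ℕ} (hq : 0 < q) : r ∣ q ^ e - 1 ↔ orderOf (q : ZMod r) ∣ e := by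
  rw [orderOf_dvd_iff_pow_eq_one, ← Nat.modEq_iff_dvd' (Nat.one_le_pow _ _ hq), ← ZMod.natCast_eq_natCast_iff,
    eq_comm]; simp

section
variable {V : Type*} [AddCommGroup V] [Module F V]

theorem semis {B : End F V} {r : ℕ} (hB : B ^ r = 1) (hr : (r : F) ≠ 0) {x : V}
    (h1 : x ∈ LinearMap.range (B - 1)) (h2 : x ∈ LinearMap.ker (B - 1)) : x = 0 := by
  obtain ⟨v, rfl⟩ := h1
  have h2 : B ((B - 1) v) = (B - 1) v := sub_eq_zero.1 h2
  have : ∀ k : ℕ, (B ^ k) v = v + (k : F) • (B - 1) v := fun k => by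
    induction k with
    | zero => simp
    | succ k ih =>
      rw [pow_succ', End.mul_apply, ih, map_add, map_smul, h2, Nat.cast_succ, add_smul, one_smul]
      simp; abel
  have := this r
  rw [hB] at this
  exact (smul_eq_zero.1 (left_eq_add.1 this)).resolve_left hr

theorem one_of_det [FiniteDimensional F V] {B : End F V} {r : ℕ} (hB : B ^ r = 1) (hr : (r : F) ≠ 0)
    (h : finrank F (LinearMap.range (B - 1)) ≤ 1) (hd : LinearMap.det B = 1) : B = 1 := by
  obtain ⟨f, v, e⟩ := (LinearEquiv.mem_dilatransvections_iff_finrank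
    (e := LinearMap.equivOfDetNeZero B (hd.trans_ne one_ne_zero))).2 h
  change B = _ at e
  have z : f v = 0 := by rw [e, LinearMap.transvection.det] at hd; exact add_eq_left.1 hd
  refine sub_eq_zero.1 (LinearMap.ext fun x => semis hB hr ⟨x, rfl⟩ ?_)
  simp [e, LinearMap.transvection.apply, z]

theorem inv_range {N B : End F V} (c : Commute N B) : ∀ x ∈ LinearMap.range N, B x ∈ LinearMap.range N := by
  rintro _ ⟨x, rfl⟩; exact ⟨B x, by rw [← End.mul_apply, c.eq, End.mul_apply]⟩

theorem inv_ker {N B : End F V} (c : Commute N B) : ∀ x ∈ LinearMap.ker N, B x ∈ LinearMap.ker N := fun x hx => by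
  rw [LinearMap.mem_ker, ← End.mul_apply, c.eq, End.mul_apply, LinearMap.mem_ker.1 hx, map_zero]

theorem pos_D [FiniteDimensional F V] {N : End F V} (hN : IsNilpotent N) (N0 : N ≠ 0) :
    0 < finrank F ↥(LinearMap.range N ⊓ LinearMap.ker N) := by
  rw [Nat.pos_iff_ne_zero, Ne, Submodule.finrank_eq_zero]
  intro e
  have : ∀ k, N ^ (k + 1) ≠ 0 := fun k => by
    induction k with
    | zero => simpa using N0
    | succ k ih =>
      refine fun z => ih (LinearMap.ext fun x => ?_)
      have : (N ^ (k + 1)) x ∈ LinearMap.range N ⊓ LinearMap.ker N :=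
        ⟨⟨(N ^ k) x, by rw [pow_succ', End.mul_apply]⟩, by
          rw [SetLike.mem_coe, LinearMap.mem_ker, ← End.mul_apply, ← pow_succ', z]; rfl⟩
      rwa [e] at this
  obtain ⟨k, hk⟩ := hN
  exact this k (by rw [pow_succ, hk, zero_mul])

theorem core [FiniteDimensional F V] {k : ℕ} (hk : 2 ≤ k)
    (hn : finrank F V ≤ k + 1) (N B : End F V) (hN : IsNilpotent N) (N0 : N ≠ 0) (c : Commute N B) (B1 : B ≠ 1)
    (h : ∀ U : Submodule F V, (∀ x ∈ U, B x ∈ U) → k ∣ finrank F U - finrank F ↥(U ⊓ LinearMap.ker (B - 1))) :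
    False := by
  set X := LinearMap.ker (B - 1)
  have h' : ∀ U : Submodule F V, (∀ x ∈ U, B x ∈ U) → U ≤ X ∨
      k + finrank F ↥(U ⊓ X) ≤ finrank F U := fun U hU => by
    by_cases l : finrank F U ≤ finrank F ↥(U ⊓ X)
    · exact Or.inl (inf_eq_left.1 (Submodule.eq_of_le_of_finrank_le inf_le_left l))
    · have := Nat.le_of_dvd (by omega) (h U hU); omega
  have hX := (h' ⊤ fun _ _ => trivial).resolve_left fun l =>
    B1 (sub_eq_zero.1 (LinearMap.ker_eq_top.1 (top_le_iff.1 l)))
  rw [top_inf_eq, finrank_top] at hX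
  have s := N.finrank_range_add_finrank_ker
  have D := pos_D hN N0
  have d1 := Submodule.finrank_mono (inf_le_left : LinearMap.range N ⊓ LinearMap.ker N ≤ _)
  have d2 := Submodule.finrank_mono (inf_le_right : LinearMap.range N ⊓ LinearMap.ker N ≤ _)
  rcases h' _ (inv_ker c) with hK | hK <;> rcases h' _ (inv_range c) with hI | hI
  · have := Submodule.finrank_mono hK
    have := Submodule.finrank_mono hI
    omega
  · have := Submodule.finrank_mono (inf_le_inf_left (LinearMap.range N) hK)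
    omega
  · have := Submodule.finrank_mono (inf_le_inf_left (LinearMap.ker N) hI)
    rw [inf_comm] at this
    omega
  · omega

theorem core2 [FiniteDimensional F V] (hn : finrank F V ≤ 3) {N B : End F V} (hN : IsNilpotent N) (N0 : N ≠ 0)
    (c : Commute N B) {r : ℕ} (hr : (r : F) ≠ 0) {l : F} (l0 : l ≠ 0) (hB : B ^ r = l • 1) :
    ∃ μ : F, μ ^ r = l ∧ finrank F (LinearMap.range (μ⁻¹ • B - 1)) + 2 ≤ finrank F V := by
  have s := N.finrank_range_add_finrank_ker
  have D := pos_D hN N0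
  have d1 := Submodule.finrank_mono (inf_le_left : LinearMap.range N ⊓ LinearMap.ker N ≤ _)
  have d2 := Submodule.finrank_mono (inf_le_right : LinearMap.range N ⊓ LinearMap.ker N ≤ _)
  obtain ⟨d, d0, hd⟩ := finrank_eq_one_iff'.1 (show finrank F ↥(LinearMap.range N ⊓ LinearMap.ker N) = 1 by omega)
  obtain ⟨μ, hμ⟩ := hd ⟨B d, inv_range c _ d.2.1, inv_ker c _ d.2.2⟩
  replace hμ : μ • d.1 = B d := congrArg Subtype.val hμ
  replace d0 : d.1 ≠ 0 := fun h => d0 (Subtype.ext h)
  have m : μ ^ r = l := by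
    have : ∀ k, (B ^ k) d = μ ^ k • d.1 := fun k => by
      induction k with
      | zero => simp
      | succ k ih => rw [pow_succ', End.mul_apply, ih, map_smul, ← hμ, smul_smul, pow_succ]
    have := this r
    rw [hB] at this
    exact smul_left_injective F d0 this.symm
  have r0 : r ≠ 0 := by rintro rfl; simp at hr
  have μ0 : μ ≠ 0 := by rintro rfl; rw [zero_pow r0] at m; exact l0 m.symm
  refine ⟨μ, m, ?_⟩
  have b1 : (μ⁻¹ • B) ^ r = 1 := by rw [smul_pow, hB, smul_smul, inv_pow, m, inv_mul_cancel₀ l0, one_smul]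
  have c' : Commute (μ⁻¹ • B - 1) N := (c.symm.smul_left _).sub_left (Commute.one_left _)
  have fd : d.1 ∈ LinearMap.ker (μ⁻¹ • B - 1) := by simp [← hμ, smul_smul, μ0]
  have s2 := (μ⁻¹ • B - 1).finrank_range_add_finrank_ker
  have cc : LinearMap.range (μ⁻¹ • B - 1) ⊔ LinearMap.ker (μ⁻¹ • B - 1) = ⊤ :=
    Submodule.eq_top_of_disjoint _ _ s2.ge (Submodule.disjoint_def.2 fun x => semis b1 hr)
  obtain ⟨v, hv⟩ := d.2.1
  obtain ⟨x, hx, y, hy, rfl⟩ := Submodule.mem_sup.1 (show v ∈ _ from cc ▸ Submodule.mem_top)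
  have z : N x = 0 := semis b1 hr (inv_range c' x hx) (by
    rw [map_add, ← eq_sub_iff_add_eq] at hv
    rw [hv]; exact sub_mem fd (inv_ker c' y hy))
  rw [map_add, z, zero_add] at hv
  have : 1 < finrank F (LinearMap.ker (μ⁻¹ • B - 1)) := by
    by_contra h
    obtain ⟨w, hw⟩ := finrank_le_one_iff.1 (not_lt.1 h)
    obtain ⟨a, ha⟩ := hw ⟨_, fd⟩
    obtain ⟨b, hb⟩ := hw ⟨_, hy⟩
    replace ha : a • w.1 = d := congrArg Subtype.val ha
    replace hb : b • w.1 = y := congrArg Subtype.val hb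
    have e : N (a • w.1) = 0 := ha ▸ d.2.2
    rw [map_smul, smul_eq_zero] at e
    rcases e with e | e
    · exact d0 (by rw [← ha, e, zero_smul])
    · exact d0 (by rw [← hv, ← hb, map_smul, e, smul_zero])
  omega

end

end Cfsg.Agent.Perm.PGr
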