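import Mathlib
import Cfsg.Prelude.Def_HallClasses
import Cfsg.Agent.Lib.Fusion.SimpleA
import Cfsg.Agent.S3820

/-! Overgroups of Sylow subgroups and pronormality; Sylow `2`-subgroups of symmetric groups. -/

set_option autoImplicit false

namespace Cfsg.Agent.Perm.Pron1
open Subgroup Cfsg.Agent.Fusion
open scoped Pointwise

section Gen
variable {G : Type*} [Group G] [Finite G] {p : ℕ} [hp : Fact p.Prime]

theorem syl_pron (S : Sylow p G) : IsPronormal (S : Subgroup G) := fun g => by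
  set K := (S : Subgroup G) ⊔ (S : Subgroup G).map (MulAut.conj g).toMonoidHom
  obtain ⟨c, hc, h⟩ := ((sylowIn_top (g • S)).of_le (D := K) le_sup_right le_top).conj
    (le_sup_left : (S : Subgroup G) ≤ K) S.2
  refine ⟨c, hc, (eq_of_le_of_card_ge ?_ ?_).symm⟩
  · rintro _ ⟨d, hd, rfl⟩
    exact h d hd
  · rw [card_map_of_injective (MulAut.conj g).injective, card_map_of_injective (MulAut.conj c).injective]

theorem exists_le {H : Subgroup G} (h : ¬ p ∣ H.index) : ∃ S : Sylow p G, (S : Subgroup G) ≤ H := by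
  obtain ⟨R⟩ : Nonempty (Sylow p H) := inferInstance
  have a := R.not_dvd_index
  obtain ⟨S, hS⟩ := (sylowIn_of_not_dvd_relIndex (B := R.1.map H.subtype) (C := ⊤) le_top
    (R.2.map _) (by
      rw [relIndex_top_right, index_map_subtype]
      exact fun h' => (hp.out.dvd_mul.1 h').elim a h)).exists_sylow_top
  exact ⟨S, hS ▸ map_subtype_le _⟩

theorem pron_of {H : Subgroup G} {S : Sylow p G} (hS : (S : Subgroup G) ≤ H)
    (h : normalizer ((S : Subgroup G) : Set G) ≤ normalizer (H : Set G)) : IsPronormal H :=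
  (S3820.result _ H hS (syl_pron S)).2 fun g hg => ⟨1, one_mem _, by
    rw [map_one]
    exact (mem_normalizer_iff_map_conj_eq.1 (h hg)).trans (Subgroup.map_id H).symm⟩

end Gen

open Fusion.Sym Equiv Sum

variable {I J : Type} [Fintype I] [Fintype J] [DecidableEq I] [DecidableEq J]

theorem mem_W_of_form {Q : Subgroup (Perm I)} (hQ : normalizer (Q : Set (Perm I)) ≤ Q)
    {b : I → ZMod 2} {τ : Perm I}
    (h : ∀ σ ∈ Q, (bs b * bl τ) * bl σ * (bs b * bl τ)⁻¹ ∈ W J 2 Q) : bs b * bl τ ∈ W J 2 Q := by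
  refine mul_mem (bs_mem b) (bl_mem (hQ (mem_normalizer_of_finite fun σ hσ => ?_)))
  have h1 := mul_mem (mul_mem (inv_mem (bs_mem (J := J) (H := Q) b)) (h σ hσ)) (bs_mem b)
  rw [show (bs b)⁻¹ * ((bs b * bl τ) * bl σ * (bs b * bl τ)⁻¹) * bs b =
    (bl (τ * σ * τ⁻¹) : Perm (Om 2 I J)) by rw [map_mul, map_mul, map_inv]; group] at h1
  obtain ⟨a, σ', h2, e⟩ := h1
  rwa [show τ * σ * τ⁻¹ = σ' from Equiv.ext fun i => by
    have := DFunLike.congr_fun e (inl (i, 0))
    simp only [bl_inl, Perm.mul_apply, bs_inl, inl.injEq, Prod.mk.injEq] at this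
    exact this.1]

theorem form [Subsingleton J] {g : Perm (Om 2 I J)}
    (h : ∀ i, ∃ l b, ∀ x, g (inl (i, x)) = inl (l, x + b)) : ∃ b τ, g = bs b * bl τ := by
  choose τ b h using h
  have hτ : Function.Injective τ := fun i l e => by
    have := (h l 0).trans ((h i (b l - b i)).trans (by rw [e, sub_add_cancel, zero_add])).symm
    exact (Prod.mk.inj (inl.inj (g.injective this))).1.symm
  let σ := Equiv.ofBijective τ (Finite.injective_iff_bijective.1 hτ)
  refine ⟨b ∘ σ.symm, σ, Equiv.ext ?_⟩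
  rintro (⟨i, x⟩ | j)
  · simpa [σ] using h i x
  · obtain ⟨⟨l, y⟩, e1⟩ | ⟨j', e1⟩ : (∃ w, g (inr j) = inl w) ∨ ∃ j', g (inr j) = inr j' := by
      cases g (inr j) <;> simp
    · obtain ⟨i, rfl⟩ := σ.surjective l
      have := g.injective (e1.trans ((h i (y - b i)).trans (by rw [sub_add_cancel]; rfl)).symm)
      simp at this
    · simp [e1, Subsingleton.elim j' j]

theorem swap_mem {Q : Subgroup (Perm I)} {u v : Om 2 I J} (huv : u ≠ v) (h : swap u v ∈ W J 2 Q) :
    ∃ l x, u = inl (l, x) ∧ v = inl (l, x + 1) := by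
  obtain ⟨a, σ, -, e⟩ := h
  have h1 := DFunLike.congr_fun e u
  rw [swap_apply_left] at h1
  obtain ⟨l, x⟩ | j := u
  · refine ⟨l, x, rfl, ?_⟩
    simp only [Perm.mul_apply, bl_inl, bs_inl] at h1
    by_cases h2 : σ l = l
    · rw [h2] at h1
      have h3 : a l ≠ 0 := fun h => huv (by rw [h1, h, add_zero])
      rw [h1, show a l = 1 by revert h3; generalize a l = c; revert c; decide]
    · have h3 := DFunLike.congr_fun e (inl (l, x + 1))
      rw [swap_apply_of_ne_of_ne (by simp) (by rw [h1]; simp [Ne.symm h2])] at h3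
      simp [Ne.symm h2] at h3
  · exact (huv h1.symm).elim

theorem norm_W [Subsingleton J] {Q : Subgroup (Perm I)} (hQ : normalizer (Q : Set (Perm I)) ≤ Q) :
    normalizer (W J 2 Q : Set (Perm (Om 2 I J))) ≤ W J 2 Q := fun g hg => by
  obtain ⟨b, τ, rfl⟩ := form (g := g) fun i => by
    have h1 := Transfer.conj_mem_of_mem_normalizer hg (bs_mem (H := Q) (J := J) (ind 2 {i}))
    rw [show (bs (ind 2 {i}) : Perm (Om 2 I J)) = swap (inl (i, 0)) (inl (i, 1)) by
      ext (⟨k, x⟩ | j)
      · by_cases hk : k = i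
        · subst hk
          rcases (by decide : ∀ x : ZMod 2, x = 0 ∨ x = 1) x with rfl | rfl
          · simp [ind]
          · simp only [bs_inl, ind, Finset.mem_singleton, if_true, swap_apply_right]; rfl
        · rw [swap_apply_of_ne_of_ne (by simp [hk]) (by simp [hk])]; simp [ind, hk]
      · rw [swap_apply_of_ne_of_ne (by simp) (by simp)]; rfl, ← swap_apply_apply] at h1
    obtain ⟨l, x, h2, h3⟩ := swap_mem (g.injective.ne (by simp)) h1
    refine ⟨l, x, fun y => ?_⟩
    rcases (by decide : ∀ x : ZMod 2, x = 0 ∨ x = 1) y with rfl | rfl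
    · rw [h2, zero_add]
    · rw [h3, add_comm]
  exact mem_W_of_form hQ fun σ hσ => Transfer.conj_mem_of_mem_normalizer hg (bl_mem hσ)

theorem norm_sym (n : ℕ) : ∀ (Ω : Type) [Fintype Ω] [DecidableEq Ω], Fintype.card Ω = n →
    ∀ (P : Sylow 2 (Perm Ω)), normalizer (P.1 : Set (Perm Ω)) ≤ P.1 := by
  induction n using Nat.strong_induction_on with
  | _ n ih =>
  intro Ω _ _ hn P x hx
  rcases n.eq_zero_or_pos with rfl | h0
  · have := Fintype.card_eq_zero_iff.1 hn
    rw [Subsingleton.elim x 1]; exact one_mem _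
  obtain ⟨Q⟩ : Nonempty (Sylow 2 (Perm (Fin (n / 2)))) := inferInstance
  obtain ⟨e, he⟩ := exists_model (J := Fin (n % 2)) P (by simp [hn, Nat.div_add_mod])
    (by simpa using Nat.mod_lt _ two_pos) Q
  haveI : Subsingleton (Fin (n % 2)) := Fin.subsingleton_iff_le_one.2 (by omega)
  refine (he x).2 (norm_W (ih _ (Nat.div_lt_self h0 one_lt_two) _ (by simp) Q)
    (mem_normalizer_of_finite fun y hy => ?_))
  obtain ⟨y, rfl⟩ := e.permCongr.surjective y
  have := (he _).1 (Transfer.conj_mem_of_mem_normalizer hx ((he y).2 hy))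
  rwa [show e.permCongr (x * y * x⁻¹) = e.permCongr x * e.permCongr y * (e.permCongr x)⁻¹ from
    by simp only [← permCongrHom_coe, map_mul, map_inv]] at this

theorem norm_alt {n : ℕ} (hn : 6 ≤ n) (R : Sylow 2 (alternatingGroup (Fin n))) :
    normalizer (R.1 : Set (alternatingGroup (Fin n))) ≤ R.1 := fun x hx => by
  obtain ⟨P, hP⟩ := (R.2.map (alternatingGroup (Fin n)).subtype).exists_le_sylow
  have h1 : P.1.comap (alternatingGroup (Fin n)).subtype = R.1 :=
    R.3 (P.2.comap_subtype) (map_le_iff_le_comap.1 hP)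
  obtain ⟨Q⟩ : Nonempty (Sylow 2 (Perm (Fin (n / 2)))) := inferInstance
  obtain ⟨e, he⟩ := exists_model (J := Fin (n % 2)) P (by simp [Nat.div_add_mod])
    (by simpa using Nat.mod_lt _ two_pos) Q
  haveI : Subsingleton (Fin (n % 2)) := Fin.subsingleton_iff_le_one.2 (by omega)
  have h2 : e.permCongr x.1 ∈ normalizer ((W (Fin (n % 2)) 2 Q.1 ⊓ alternatingGroup _ : Subgroup _) : Set _) := by
      refine mem_normalizer_of_finite (P := W (Fin (n % 2)) 2 Q.1 ⊓ alternatingGroup _) fun y hy => ?_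
      obtain ⟨y, rfl⟩ := e.permCongr.surjective y
      have a : y ∈ alternatingGroup (Fin n) := by simpa using hy.2
      have b : x * ⟨y, a⟩ * x⁻¹ ∈ P.1.comap (alternatingGroup (Fin n)).subtype :=
        h1.ge (Transfer.conj_mem_of_mem_normalizer hx (h1.le ((he y).2 hy.1)))
      refine ⟨?_, Normal.conj_mem inferInstance _ hy.2 _⟩
      have := (he _).1 b
      change e.permCongr (x.1 * y * x.1⁻¹) ∈ _ at this
      rwa [show e.permCongr (x.1 * y * x.1⁻¹) = e.permCongr x.1 * e.permCongr y * (e.permCongr x.1)⁻¹ from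
        by simp only [← permCongrHom_coe, map_mul, map_inv]] at this
  have h3 : 3 ≤ Fintype.card (Fin (n / 2)) := by simp; omega
  obtain ⟨b, l, τ, e1⟩ := norm_form h3 (norm_le h3 _ h2)
  rw [Subsingleton.elim l 1, map_one, mul_one] at e1
  rw [e1] at h2
  refine h1.le ((he _).2 ?_)
  change e.permCongr x.1 ∈ _
  rw [e1]
  exact mem_W_of_form (norm_sym _ _ rfl Q) fun σ hσ => (Transfer.conj_mem_of_mem_normalizer h2
    ⟨bl_mem hσ, bl_mem_alt ((Q.2 ⟨σ, hσ⟩).imp fun _ => congrArg Subtype.val)⟩).1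

end Cfsg.Agent.Perm.Pron1
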