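import Mathlib

namespace Cfsg.Agent.Perm.Sh

variable {X : Type*} [Group X]

theorem mem_fix (σ : MulAut X) (x : X) :
    x ∈ (MulEquiv.toMonoidHom σ).eqLocus (MonoidHom.id X) ↔ σ x = x := Iff.rfl

theorem tele (σ : MulAut X) (a : X) (d : ℕ) :
    ((List.range d).map (fun i => (σ ^ i) (a * (σ a)⁻¹))).prod = a * ((σ ^ d) a)⁻¹ := by
  induction d with
  | zero => simp
  | succ d ih =>
    rw [List.range_succ, List.map_append, List.prod_append, ih]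
    simp [pow_succ, mul_assoc]

theorem comm_pow (σ : MulAut X) (e : ℕ) (x : X) : σ ((σ ^ e) x) = (σ ^ e) (σ x) := by
  rw [← MulAut.mul_apply, ← MulAut.mul_apply, ← pow_succ', pow_succ]

theorem pow_fix (σ : MulAut X) (e : ℕ) {x : X} (h : σ x = x) : (σ ^ e) x = x := by
  induction e with
  | zero => simp
  | succ e ih => rw [pow_succ, MulAut.mul_apply, h, ih]

theorem fix_x (σ τ : MulAut X) (hc : ∀ x, σ (τ x) = τ (σ x)) (a : X)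
    (h : τ (a * (σ a)⁻¹) = a * (σ a)⁻¹) : σ ((τ a)⁻¹ * a) = (τ a)⁻¹ * a := by
  rw [map_mul, map_inv] at h
  rw [map_mul, map_inv, hc]
  have : (τ (σ a))⁻¹ = (τ a)⁻¹ * (a * (σ a)⁻¹) := by rw [← h]; group
  rw [this]; group

theorem pow_mem (σ : MulAut X) (Y : Subgroup X) (hY : ∀ y : X, y ∈ Y ↔ σ y ∈ Y) (e : ℕ) (w : X)
    (h : w⁻¹ * σ w ∈ Y) : w⁻¹ * (σ ^ e) w ∈ Y := by
  induction e with
  | zero => simp
  | succ e ih =>
    have h2 := (hY _).1 ih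
    rw [map_mul, map_inv] at h2
    have : w⁻¹ * (σ ^ (e + 1)) w = (w⁻¹ * σ w) * ((σ w)⁻¹ * σ ((σ ^ e) w)) := by
      rw [pow_succ', MulAut.mul_apply]; group
    rw [this]; exact Y.mul_mem h h2

theorem card_cosets (ρ : MulAut X) (Y : Subgroup X)
    (hL : ∀ y ∈ Y, ∃ a ∈ Y, y = a * (ρ a)⁻¹) (P : X → Prop)
    (hP : ∀ z y, y ∈ Y → P z → P (z * y)) :
    Nat.card {k : ↥((MulEquiv.toMonoidHom ρ).eqLocus (MonoidHom.id X)) // P k} =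
      Nat.card {c : X ⧸ Y // ∃ z : X, (z : X ⧸ Y) = c ∧ z⁻¹ * ρ z ∈ Y ∧ P z} *
        Nat.card ↥(Y ⊓ (MulEquiv.toMonoidHom ρ).eqLocus (MonoidHom.id X)) := by
  have key : ∀ c : {c : X ⧸ Y // ∃ z : X, (z : X ⧸ Y) = c ∧ z⁻¹ * ρ z ∈ Y ∧ P z},
      ∃ z : X, (z : X ⧸ Y) = c.1 ∧ ρ z = z ∧ P z := by
    rintro ⟨c, z, rfl, h1, h2⟩
    obtain ⟨b, hb, hb2⟩ := hL _ h1
    refine ⟨z * b, QuotientGroup.mk_mul_of_mem z hb, ?_, hP _ _ hb h2⟩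
    rw [map_mul]
    have : ρ z = z * (b * (ρ b)⁻¹) := by rw [← hb2]; group
    rw [this]; group
  choose r hr1 hr2 hr3 using key
  rw [← Nat.card_prod]
  symm
  refine Nat.card_congr (Equiv.ofBijective (fun s => ⟨⟨r s.1 * s.2.1, ?_⟩, hP _ _ s.2.2.1 (hr3 _)⟩) ⟨?_, ?_⟩)
  · rw [mem_fix, map_mul, hr2, (mem_fix _ _).1 s.2.2.2]
  · rintro ⟨c, y⟩ ⟨c', y'⟩ h
    have h' : r c * y.1 = r c' * y'.1 := congrArg (fun t => t.1.1) h
    have hc : c = c' := by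
      apply Subtype.ext
      rw [← hr1 c, ← hr1 c', ← QuotientGroup.mk_mul_of_mem (r c) y.2.1, h',
        QuotientGroup.mk_mul_of_mem _ y'.2.1]
    subst hc
    rw [Subtype.ext (mul_left_cancel h')]
  · rintro ⟨⟨k, hk⟩, hk2⟩
    have hk' : ρ k = k := hk
    let c : {c : X ⧸ Y // ∃ z : X, (z : X ⧸ Y) = c ∧ z⁻¹ * ρ z ∈ Y ∧ P z} :=
      ⟨(k : X ⧸ Y), k, rfl, by rw [hk']; simp, hk2⟩
    refine ⟨⟨c, ⟨(r c)⁻¹ * k, QuotientGroup.eq.1 (hr1 c), ?_⟩⟩, ?_⟩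
    · show ρ _ = _
      rw [map_mul, map_inv, hr2, hk']; rfl
    · apply Subtype.ext; apply Subtype.ext; simp

end Cfsg.Agent.Perm.Sh
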