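import Cfsg.Agent.Lib.Fusion.Qd2
import Cfsg.Agent.Lib.Perm.Spec
import Cfsg.Agent.Lib.Perm.GL2h

/-! Element orders in the affine special linear group of the plane in characteristic two. -/

set_option autoImplicit false
set_option linter.unusedSectionVars false
set_option linter.style.haveILetI false

namespace Cfsg.Agent.Perm.Sp

open Matrix Subgroup Cfsg.Agent.Qd Cfsg.Agent.Perm.GL2

variable {F : Type*} [Field F] [Fintype F]

theorem finite_qd : Finite (qdOver F) := inferInstance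

theorem ker_sq (h2 : (2 : F) = 0) {x : qdOver F} (hx : x ∈ (lin (F := F)).ker) : x ^ 2 = 1 := by
  obtain ⟨A, v, rfl⟩ := mkQ_surj x
  rw [MonoidHom.mem_ker, lin_mkQ] at hx
  rw [hx, Qd.tr_pow, ← mkQ_one]
  congr 1
  ext i
  simp [h2]

theorem qd_order (h2 : (2 : F) = 0) (x : qdOver F) : orderOf x ∣ 4 ∨ orderOf x = orderOf (lin x) := by
  have h1 : x ^ orderOf (lin x) ∈ (lin (F := F)).ker := by
    rw [MonoidHom.mem_ker, map_pow, pow_orderOf_eq_one]
  obtain ⟨B, w, hw⟩ := mkQ_surj (x ^ orderOf (lin x))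
  rw [hw, MonoidHom.mem_ker, lin_mkQ] at h1
  subst h1
  by_cases h3 : w = 0
  · rw [h3, mkQ_one] at hw
    exact Or.inr (Nat.dvd_antisymm (orderOf_dvd_of_pow_eq_one hw) (orderOf_map_dvd _ _))
  left
  have h4 : x * mkQ 1 w * x⁻¹ = mkQ 1 w := by rw [← hw]; group
  obtain ⟨A, v, rfl⟩ := mkQ_surj x
  rw [mkQ_conj, mkQ_inj] at h4
  have h5 : (A.1 - 1).det = 0 := by
    classical
    exact exists_mulVec_eq_zero_iff.1 ⟨w, h3, by rw [sub_mulVec, h4.2, one_mulVec, sub_self]⟩
  have h6 : (A : M2 F).trace = 0 := by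
    have := det_SL A
    rw [det_fin_two] at h5
    rw [trace_fin_two]
    simp at h5
    linear_combination this - h5 + h2
  rw [orderOf_dvd_iff_pow_eq_one, show 4 = 2 * 2 by rfl, pow_mul]
  refine ker_sq h2 ?_
  rw [MonoidHom.mem_ker, map_pow, lin_mkQ, sq, mul_self_of_trace h6, neg_one_eq_one_SL h2]

theorem ker_ne_bot : (lin (F := F)).ker ≠ ⊥ := fun h => by
  have : mkQ 1 ![1, 0] ∈ (lin (F := F)).ker := by rw [MonoidHom.mem_ker, lin_mkQ]
  rw [h, mem_bot, ← mkQ_one, mkQ_inj] at this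
  simpa using congrFun this.2 0

theorem four_mem (h2 : (2 : F) = 0) : 4 ∈ Set.range (orderOf : qdOver F → ℕ) := by
  refine ⟨ut 1 0 1, orderOf_eq_prime_pow (p := 2) (n := 1) ?_ ?_⟩
  · rw [ut_pow, ← ut_zero, ut_inj]; simp
  · have h4 : (4 : F) = 0 := by linear_combination 2 * h2
    have h6 : (6 : F) = 0 := by linear_combination 3 * h2
    rw [ut_pow, ← ut_zero, ut_inj]; simp [h4, show Nat.choose 4 2 = 6 by rfl, h6]

theorem spec_qd (h2 : (2 : F) = 0) : Set.range (orderOf : qdOver F → ℕ) =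
    {n | n ∣ 4} ∪ Set.range (orderOf : PSL2 F → ℕ) := by
  rw [← spec_equiv (toPEquiv h2)]
  refine subset_antisymm ?_ (Set.union_subset (fun n hn => spec_dvd (four_mem h2) hn)
    (spec_subset_of_surjective lin lin_surj))
  rintro _ ⟨x, rfl⟩
  exact (qd_order h2 x).imp id fun h => ⟨_, h.symm⟩

theorem exists_large (h2 : (2 : F) = 0) (N : ℕ) : ∃ (K : Type) (_ : Group K) (_ : Fintype K),
    N < Fintype.card K ∧
      Set.range (orderOf : K → ℕ) = {n | n ∣ 4} ∪ Set.range (orderOf : PSL2 F → ℕ) := by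
  rw [← spec_qd h2]
  exact exists_large_isospectral _ ker_ne_bot Nat.prime_two (fun _ => ker_sq h2) N

theorem spec_four (hF : Fintype.card F = 4) : (2 : F) = 0 ∧ {n | n ∣ 4} ∪ Set.range (orderOf : PSL2 F → ℕ) =
    Set.range (orderOf : alternatingGroup (Fin 6) → ℕ) := by
  have h2 : (2 : F) = 0 := two_eq_zero_of_even (by omega)
  haveI : CharP F 2 := ringChar_eq_two h2 ▸ ringChar.charP F
  refine ⟨h2, ?_⟩
  rw [spec_alt6, spec_PSL2 2, hF]
  ext n
  simp only [Set.mem_union, Set.mem_setOf_eq]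
  constructor
  · rintro (h | h | h | h) <;> have := Nat.le_of_dvd (by norm_num) h <;> norm_num at this <;>
      interval_cases n <;> simp_all
  · intro h
    simp only [List.mem_cons, List.not_mem_nil, or_false] at h
    rcases h with rfl | rfl | rfl | rfl | rfl <;> norm_num

end Cfsg.Agent.Perm.Sp
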