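import Mathlib

/-! The double cover of the symmetric group, built from a Clifford algebra on unordered pairs. -/

set_option autoImplicit false

namespace Cfsg.Agent.Perm.Spin
open Equiv commutatorElement

variable (P : Type) [Fintype P] [DecidableEq P]

/-- sum of squares -/
noncomputable abbrev QQ : QuadraticForm ℚ (P → ℚ) := QuadraticMap.weightedSumSquares ℚ (fun _ : P => (1 : ℚ))
/-- its Clifford algebra -/
abbrev Cl := CliffordAlgebra (QQ P)

variable {P}

/-- basis vector -/
noncomputable def γ (p : P) : Cl P := CliffordAlgebra.ι (QQ P) (Pi.single p 1)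

theorem γ_sq (p : P) : γ p * γ p = 1 := by
  rw [γ, CliffordAlgebra.ι_sq_scalar]
  simp [QuadraticMap.weightedSumSquares_apply, Pi.single_apply]

theorem γ_anti {p q : P} (h : p ≠ q) : γ p * γ q = -(γ q * γ p) := by
  apply CliffordAlgebra.ι_mul_ι_comm_of_isOrtho
  rw [QuadraticMap.isOrtho_def]
  simp only [QuadraticMap.weightedSumSquares_apply, ← Finset.sum_add_distrib]
  refine Finset.sum_congr rfl fun i _ => ?_
  by_cases h1 : i = p
  · subst h1; simp [h]
  · simp [h1]

/-- basis vector as a unit -/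
noncomputable def gu (p : P) : (Cl P)ˣ := ⟨γ p, γ p, γ_sq p, γ_sq p⟩

theorem gu_sq (p : P) : gu p * gu p = 1 := Units.ext (γ_sq p)
theorem gu_anti {p q : P} (h : p ≠ q) : gu p * gu q = -(gu q * gu p) := Units.ext (γ_anti h)

/-- permuting the basis -/
noncomputable def φa (σ : Perm P) : Cl P →ₐ[ℚ] Cl P :=
  CliffordAlgebra.lift (QQ P) ⟨CliffordAlgebra.ι (QQ P) ∘ₗ LinearMap.funLeft ℚ ℚ σ.symm, fun m => by
    rw [LinearMap.comp_apply, CliffordAlgebra.ι_sq_scalar]
    congr 1
    simp only [QuadraticMap.weightedSumSquares_apply, LinearMap.funLeft_apply]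
    exact Equiv.sum_comp σ.symm (fun i => (1 : ℚ) • (m i * m i))⟩

theorem φa_ι (σ : Perm P) (m : P → ℚ) :
    φa σ (CliffordAlgebra.ι _ m) = CliffordAlgebra.ι _ (m ∘ σ.symm) := CliffordAlgebra.lift_ι_apply _ _ m

theorem φa_γ (σ : Perm P) (p : P) : φa σ (γ p) = γ (σ p) := by
  rw [γ, φa_ι, γ]
  congr 1
  funext q
  simp [Pi.single_apply, Equiv.symm_apply_eq]

theorem φa_one (x : Cl P) : φa 1 x = x := by
  have : φa (1 : Perm P) = AlgHom.id ℚ _ := by ext1; refine LinearMap.ext fun m => φa_ι 1 m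
  rw [this]; rfl

theorem φa_mul (σ τ : Perm P) (x : Cl P) : φa (σ * τ) x = φa σ (φa τ x) := by
  have : φa (σ * τ) = (φa σ).comp (φa τ) := by
    ext1; refine LinearMap.ext fun m => ?_
    change φa _ (CliffordAlgebra.ι _ m) = φa σ (φa τ (CliffordAlgebra.ι _ m))
    rw [φa_ι, φa_ι, φa_ι]; rfl
  rw [this]; rfl

/-- action on units -/
noncomputable def φu : Perm P →* MulAut (Cl P)ˣ :=
  MonoidHom.mk' (fun σ =>
    { toFun := Units.map (φa σ : Cl P →* Cl P)
      invFun := Units.map (φa σ⁻¹ : Cl P →* Cl P)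
      left_inv := fun u => Units.ext (by simp [← φa_mul, φa_one])
      right_inv := fun u => Units.ext (by simp [← φa_mul, φa_one])
      map_mul' := map_mul _ }) fun σ τ => MulEquiv.ext fun u => Units.ext (φa_mul σ τ u)

theorem φu_gu (σ : Perm P) (p : P) : φu σ (gu p) = gu (σ p) := Units.ext (φa_γ σ p)
theorem φu_neg (σ : Perm P) (u : (Cl P)ˣ) : φu σ (-u) = -φu σ u := Units.ext (map_neg (φa σ) u.1)

/-- product over a list -/
noncomputable def pr (l : List P) : (Cl P)ˣ := (l.map gu).prod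

theorem pr_nil : pr ([] : List P) = 1 := rfl
theorem pr_cons (p : P) (l : List P) : pr (p :: l) = gu p * pr l := rfl
theorem pr_append (l l' : List P) : pr (l ++ l') = pr l * pr l' := by simp [pr]

theorem φu_pr (σ : Perm P) (l : List P) : φu σ (pr l) = pr (l.map σ) := by
  induction l with
  | nil => exact map_one _
  | cons p l ih => rw [pr_cons, map_mul, ih, φu_gu]; rfl

theorem pr_rev (l : List P) : pr l.reverse = (pr l)⁻¹ := by
  induction l with
  | nil => simp [pr_nil]
  | cons p l ih =>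
    rw [List.reverse_cons, pr_append, ih, pr_cons, pr_cons, pr_nil, mul_one, mul_inv_rev,
      inv_eq_of_mul_eq_one_right (gu_sq p)]

/-- equality up to sign -/
def PM (u v : (Cl P)ˣ) : Prop := u = v ∨ u = -v

theorem PM.mul {u v u' v' : (Cl P)ˣ} (h : PM u v) (h' : PM u' v') : PM (u * u') (v * v') := by
  rcases h with rfl | rfl <;> rcases h' with rfl | rfl <;> simp [PM]

theorem PM.trans {u v w : (Cl P)ˣ} (h : PM u v) (h' : PM v w) : PM u w := by
  rcases h with rfl | rfl <;> rcases h' with rfl | rfl <;> simp [PM]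

theorem PM.inv {u v : (Cl P)ˣ} (h : PM u v) : PM u⁻¹ v⁻¹ := by
  rcases h with rfl | rfl <;> simp [PM, inv_neg]

theorem PM.map {u v : (Cl P)ˣ} (h : PM u v) (σ : Perm P) : PM (φu σ u) (φu σ v) := by
  rcases h with rfl | rfl <;> simp [PM, φu_neg]

theorem pm_move (p : P) (s : List P) : PM (gu p * pr s) (pr s * gu p) := by
  induction s with
  | nil => simp [PM, pr_nil]
  | cons q s ih =>
    have h1 : PM (gu p * gu q) (gu q * gu p) := by
      by_cases h : p = q
      · subst h; exact Or.inl rfl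
      · exact Or.inr (gu_anti h)
    rw [pr_cons, ← mul_assoc, mul_assoc (gu q)]
    refine (h1.mul (Or.inl rfl)).trans ?_
    rw [mul_assoc]
    exact PM.mul (Or.inl rfl) ih

theorem pm_even (n : ℕ) : ∀ l : List P, l.length ≤ n → (∀ p, (l.count p : ZMod 2) = 0) → PM (pr l) 1 := by
  induction n with
  | zero => intro l h _; rw [List.length_eq_zero_iff.1 (Nat.le_zero.1 h)]; exact Or.inl rfl
  | succ n ih =>
    intro l h h2
    cases l with
    | nil => exact Or.inl rfl
    | cons p l =>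
      have : p ∈ l := by
        by_contra hp
        have := h2 p
        rw [List.count_cons_self, List.count_eq_zero.2 hp] at this
        exact absurd this (by decide)
      obtain ⟨s, t, rfl⟩ := List.append_of_mem this
      have e := ih (s ++ t) (by simp at h ⊢; omega) (fun q => by
        have := h2 q
        simp only [List.count_cons, List.count_append] at this ⊢
        rw [← this]
        push_cast
        have : ∀ a b c : ZMod 2, a + b = a + (b + c) + c := by decide
        exact this _ _ _)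
      refine PM.trans ?_ e
      rw [pr_cons, pr_append, pr_append, pr_cons, ← mul_assoc]
      refine ((pm_move p s).mul (Or.inl rfl)).trans (Or.inl ?_)
      rw [mul_assoc, ← mul_assoc (gu p), gu_sq, one_mul]

theorem neg_one_ne : (-1 : (Cl P)ˣ) ≠ 1 := fun h => by
  have h1 : (-1 : Cl P) = 1 := congrArg Units.val h
  have : (algebraMap ℚ (Cl P)) 2 = 0 := by
    rw [map_ofNat, ← one_add_one_eq_two]; nth_rw 1 [← h1]; simp
  exact two_ne_zero ((map_eq_zero _).1 this)

section
variable {n : ℕ}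

/-- action on unordered pairs -/
def act : Perm (Fin n) →* Perm (Sym2 (Fin n)) :=
  MonoidHom.mk' (fun σ => ⟨Sym2.map σ, Sym2.map σ.symm, fun p => by simp [Sym2.map_map],
    fun p => by simp [Sym2.map_map]⟩) fun σ τ => Equiv.ext fun p => by simp [Sym2.map_map]

theorem act_mk (σ : Perm (Fin n)) (a b : Fin n) : act σ s(a, b) = s(σ a, σ b) := rfl

/-- order indicator -/
def od (a b : Fin n) : ZMod 2 := if a < b then 1 else 0

/-- inversion indicator -/
def inv (σ : Perm (Fin n)) : Sym2 (Fin n) → ZMod 2 :=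
  Sym2.lift ⟨fun a b => od a b + od (σ⁻¹ a) (σ⁻¹ b), fun a b => by
    by_cases h : a = b
    · subst h; rfl
    · have k : ∀ x y : Fin n, x ≠ y → od x y = od y x + 1 := fun x y h => by
        unfold od
        rcases lt_or_gt_of_ne h with h | h <;> simp [h, h.not_gt] <;> decide
      have : ∀ x y : ZMod 2, x + 1 + (y + 1) = x + y := by decide
      simp only
      rw [k a b h, k _ _ (fun e => h (σ⁻¹.injective e)), this]⟩

theorem inv_mk (σ : Perm (Fin n)) (a b : Fin n) : inv σ s(a, b) = od a b + od (σ⁻¹ a) (σ⁻¹ b) := rfl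

theorem inv_one' (p : Sym2 (Fin n)) : inv 1 p = 0 := by
  induction p with
  | _ a b => rw [inv_mk]; exact CharTwo.add_self_eq_zero _

theorem inv_mul' (σ τ : Perm (Fin n)) (p : Sym2 (Fin n)) :
    inv (σ * τ) p = inv σ p + inv τ ((act σ)⁻¹ p) := by
  induction p with
  | _ a b =>
    rw [← map_inv, act_mk, inv_mk, inv_mk, inv_mk]
    have : ∀ x y z : ZMod 2, x + z = x + y + (y + z) := by decide
    exact this _ _ _

theorem count_map (σ : Perm (Sym2 (Fin n))) (l : List (Sym2 (Fin n))) (p : Sym2 (Fin n)) :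
    (l.map σ).count p = l.count (σ⁻¹ p) := by
  rw [← List.count_map_of_injective l σ σ.injective]; simp

/-- the ambient semidirect product -/
abbrev SD (n : ℕ) := (Cl (Sym2 (Fin n)))ˣ ⋊[φu.comp act] Perm (Fin n)

/-- the double cover -/
def Cov (n : ℕ) : Subgroup (SD n) where
  carrier := {x | ∃ l, (∀ p, (List.count p l : ZMod 2) = inv x.right p) ∧ PM x.left (pr l)}
  one_mem' := ⟨[], fun p => (inv_one' p).symm, Or.inl rfl⟩
  mul_mem' := by
    rintro x y ⟨l, h1, h2⟩ ⟨l', h3, h4⟩
    refine ⟨l ++ l'.map (act x.right), fun p => ?_, ?_⟩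
    · rw [List.count_append, count_map, Nat.cast_add, h1, h3, SemidirectProduct.mul_right, inv_mul']
    · rw [pr_append, ← φu_pr]; exact h2.mul (h4.map _)
  inv_mem' := by
    rintro x ⟨l, h1, h2⟩
    refine ⟨l.reverse.map (act x.right⁻¹), fun p => ?_, ?_⟩
    · rw [count_map, List.count_reverse, h1, SemidirectProduct.inv_right]
      have := inv_mul' x.right⁻¹ x.right p
      rw [inv_mul_cancel, inv_one'] at this
      have k : ∀ a b : ZMod 2, 0 = a + b → b = a := by decide
      exact k _ _ this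
    · rw [← φu_pr, pr_rev]; exact h2.inv.map _

/-- projection -/
noncomputable def prj (n : ℕ) : Cov n →* Perm (Fin n) := SemidirectProduct.rightHom.comp (Cov n).subtype

/-- the central involution -/
noncomputable def zz (n : ℕ) : Cov n := ⟨⟨-1, 1⟩, [], fun p => (inv_one' p).symm, Or.inr rfl⟩

theorem prj_surj : Function.Surjective (prj n) := fun σ => by
  let l := (Finset.univ.filter fun p => inv σ p = 1).toList
  refine ⟨⟨⟨pr l, σ⟩, l, fun p => ?_, Or.inl rfl⟩, rfl⟩
  rw [(Finset.nodup_toList _).count]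
  have : ∀ a : ZMod 2, a ≠ 1 → 0 = a := by decide
  by_cases h : inv σ p = 1
  · simp [h]
  · simpa [h] using this _ h

theorem prj_eq_one {x : Cov n} : prj n x = 1 ↔ x = 1 ∨ x = zz n := by
  constructor
  · intro h
    obtain ⟨⟨u, σ⟩, l, h1, h2⟩ := x
    obtain rfl : σ = 1 := h
    rcases h2.trans (pm_even _ l le_rfl fun p => (h1 p).trans (inv_one' p)) with e | e
    · exact Or.inl (Subtype.ext (SemidirectProduct.ext e rfl))
    · exact Or.inr (Subtype.ext (SemidirectProduct.ext e rfl))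
  · rintro (rfl | rfl)
    · exact map_one _
    · rfl

theorem zz_ne : zz n ≠ 1 := fun h => neg_one_ne (congrArg (fun x : Cov n => x.1.left) h)

theorem zz_comm (x : Cov n) : x * zz n = zz n * x :=
  Subtype.ext (SemidirectProduct.ext (by
    change x.1.left * φu _ (-1) = -1 * φu (act 1) _
    rw [φu_neg]; simp) (by change x.1.right * 1 = 1 * x.1.right; simp))

theorem zz_sq : zz n * zz n = 1 :=
  Subtype.ext (SemidirectProduct.ext (by
    change -1 * φu (act 1) (-1) = 1
    simp) (by change (1 : Perm (Fin n)) * 1 = 1; simp))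

theorem inv_swap {a b : Fin n} (h : b.val = a.val + 1) (p : Sym2 (Fin n)) :
    ((List.count p [s(a, b)] : ℕ) : ZMod 2) = inv (swap a b) p := by
  induction p with
  | _ x y =>
    rw [inv_mk, swap_inv, List.count_singleton]
    simp only [beq_iff_eq, Sym2.eq_iff, od, swap_apply_def, Fin.ext_iff, Fin.lt_def]
    split_ifs <;> first | rfl | omega | decide

/-- lift of an adjacent transposition -/
noncomputable def TT {a b : Fin n} (h : b.val = a.val + 1) : Cov n :=
  ⟨⟨gu s(a, b), swap a b⟩, [s(a, b)], inv_swap h, Or.inl (mul_one _).symm⟩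

theorem TT_sq {a b : Fin n} (h : b.val = a.val + 1) : TT h * TT h = 1 :=
  Subtype.ext (SemidirectProduct.ext (by
    change gu _ * φu (act (swap a b)) (gu _) = 1
    rw [φu_gu, act_mk, swap_apply_left, swap_apply_right, Sym2.eq_swap (a := b), gu_sq])
    (swap_mul_self a b))

theorem TT_anti {a b c d : Fin n} (h : b.val = a.val + 1) (h' : d.val = c.val + 1) (hb : b < c) :
    TT h * TT h' = zz n * (TT h' * TT h) := by
  have h1 : c ≠ a := by rw [Ne, Fin.ext_iff]; omega
  have h2 : c ≠ b := by rw [Ne, Fin.ext_iff]; omega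
  have h3 : d ≠ a := by rw [Ne, Fin.ext_iff]; omega
  have h4 : d ≠ b := by rw [Ne, Fin.ext_iff]; omega
  refine Subtype.ext (SemidirectProduct.ext ?_ ?_)
  · change gu _ * φu (act (swap a b)) (gu _) = -1 * φu (act 1) (gu _ * φu (act (swap c d)) (gu _))
    rw [φu_gu, φu_gu, act_mk, act_mk, swap_apply_of_ne_of_ne h1 h2, swap_apply_of_ne_of_ne h3 h4,
      swap_apply_of_ne_of_ne h1.symm h3.symm, swap_apply_of_ne_of_ne h2.symm h4.symm, gu_anti]
    · simp
    · simp [h1.symm, h3.symm]
  · change swap a b * swap c d = 1 * (swap c d * swap a b)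
    rw [one_mul, swap_mul_eq_mul_swap, swap_inv, swap_apply_of_ne_of_ne h1.symm h3.symm,
      swap_apply_of_ne_of_ne h2.symm h4.symm]

instance instFiniteCov : Finite (Cov n) := by
  have : Finite (prj n).ker := by
    refine Set.Finite.to_subtype ((Set.toFinite {1, zz n}).subset fun x hx => ?_)
    exact prj_eq_one.1 hx
  have : Finite (Cov n ⧸ (prj n).ker) :=
    Finite.of_equiv _ (QuotientGroup.quotientKerEquivOfSurjective _ prj_surj).symm.toEquiv
  exact Finite.of_subgroup_quotient (prj n).ker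

theorem prj_eq {x y : Cov n} (h : prj n x = prj n y) : x = y ∨ x = zz n * y := by
  have : prj n (x * y⁻¹) = 1 := by rw [map_mul, map_inv, h, mul_inv_cancel]
  rcases prj_eq_one.1 this with e | e
  · exact Or.inl (mul_inv_eq_one.1 e)
  · exact Or.inr (mul_inv_eq_iff_eq_mul.1 e)

theorem sq_congr {x y : Cov n} (h : prj n x = prj n y) : x * x = y * y := by
  rcases prj_eq h with rfl | rfl
  · rfl
  · rw [mul_assoc, ← mul_assoc y, zz_comm, ← mul_assoc, ← mul_assoc, zz_sq, one_mul]

theorem exists_four {a b c d : Fin (n + 4)} (h1 : a ≠ b) (h2 : a ≠ c) (h3 : a ≠ d) (h4 : b ≠ c)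
    (h5 : b ≠ d) (h6 : c ≠ d) : ∃ σ : Perm (Fin (n + 4)), σ 0 = a ∧ σ 1 = b ∧ σ 2 = c ∧ σ 3 = d := by
  have hi : Function.Injective ![a, b, c, d] := by
    intro i j h
    fin_cases i <;> fin_cases j <;> simp_all [eq_comm]
  have := Equiv.Perm.isMultiplyPretransitive (Fin (n + 4)) 4
  obtain ⟨σ, hσ⟩ := MulAction.exists_smul_eq (Perm (Fin (n + 4)))
    (⟨Fin.castLE (by omega), Fin.castLE_injective _⟩ : Fin 4 ↪ Fin (n + 4)) ⟨_, hi⟩
  exact ⟨σ, DFunLike.congr_fun hσ 0, DFunLike.congr_fun hσ 1, DFunLike.congr_fun hσ 2,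
    DFunLike.congr_fun hσ 3⟩

theorem lifts {a b c d : Fin (n + 4)} (h1 : a ≠ b) (h2 : a ≠ c) (h3 : a ≠ d) (h4 : b ≠ c)
    (h5 : b ≠ d) (h6 : c ≠ d) : ∃ x y : Cov (n + 4), prj _ x = swap a b ∧ prj _ y = swap c d ∧
      x * x = 1 ∧ y * y = 1 ∧ x * y = zz _ * (y * x) := by
  obtain ⟨σ, rfl, rfl, rfl, rfl⟩ := exists_four h1 h2 h3 h4 h5 h6
  obtain ⟨g, rfl⟩ := prj_surj σ
  have e1 : ((1 : Fin (n + 4)) : ℕ) = (0 : Fin (n + 4)).val + 1 := rfl
  have e2 : ((3 : Fin (n + 4)) : ℕ) = (2 : Fin (n + 4)).val + 1 := rfl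
  refine ⟨g * TT e1 * g⁻¹, g * TT e2 * g⁻¹, ?_, ?_, ?_, ?_, ?_⟩
  · rw [map_mul, map_mul, map_inv, swap_apply_apply]; rfl
  · rw [map_mul, map_mul, map_inv, swap_apply_apply]; rfl
  · rw [conj_mul, TT_sq]; simp
  · rw [conj_mul, TT_sq]; simp
  · rw [conj_mul, conj_mul, TT_anti e1 e2 (by rw [Fin.lt_def]; exact Nat.lt_succ_self 1),
      ← mul_assoc g, zz_comm]
    simp only [mul_assoc]

theorem dbl_sq {a b c d : Fin (n + 4)} (h1 : a ≠ b) (h2 : a ≠ c) (h3 : a ≠ d) (h4 : b ≠ c)
    (h5 : b ≠ d) (h6 : c ≠ d) {w : Cov (n + 4)} (h : prj _ w = swap a b * swap c d) :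
    w * w = zz _ := by
  obtain ⟨x, y, e1, e2, e3, e4, e5⟩ := lifts h1 h2 h3 h4 h5 h6
  rw [sq_congr (y := x * y) (by rw [h, map_mul, e1, e2])]
  nth_rw 1 [e5]
  rw [mul_assoc, mul_assoc, ← mul_assoc x, e3, one_mul, e4, mul_one]

/-- the double cover of the alternating group -/
noncomputable abbrev ACov (n : ℕ) : Subgroup (Cov n) := (alternatingGroup (Fin n)).comap (prj n)

/-- its projection -/
noncomputable def prA (n : ℕ) : ACov n →* alternatingGroup (Fin n) := (prj n).subgroupComap _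

/-- its central involution -/
noncomputable def zA (n : ℕ) : ACov n := ⟨zz n, one_mem (alternatingGroup (Fin n))⟩

theorem prA_surj : Function.Surjective (prA n) :=
  (prj n).subgroupComap_surjective_of_surjective _ prj_surj

theorem prA_eq_one {x : ACov n} : prA n x = 1 ↔ x = 1 ∨ x = zA n := by
  rw [Subtype.ext_iff, Subtype.ext_iff (a1 := x), Subtype.ext_iff (a1 := x)]
  exact prj_eq_one

theorem zA_center : zA n ∈ Subgroup.center (ACov n) :=
  Subgroup.mem_center_iff.2 fun g => Subtype.ext (zz_comm g.1)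

theorem orderOf_zA : orderOf (zA n) = 2 :=
  orderOf_eq_prime (by rw [pow_two]; exact Subtype.ext zz_sq) fun h => zz_ne (congrArg Subtype.val h)

theorem ker_prA : (prA n).ker = Subgroup.zpowers (zA n) := by
  refine le_antisymm (fun x hx => ?_) (Subgroup.zpowers_le_of_mem (prA_eq_one.2 (Or.inr rfl)))
  rcases prA_eq_one.1 hx with rfl | rfl
  · exact one_mem _
  · exact Subgroup.mem_zpowers _

theorem zA_comm : zA (n + 4) ∈ commutator (ACov (n + 4)) := by
  have k : ∀ i j : Fin 4, i ≠ j → (Fin.castLE (by omega) i : Fin (n + 4)) ≠ Fin.castLE (by omega) j :=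
    fun i j h e => h (Fin.castLE_injective _ e)
  set a : Fin (n + 4) := Fin.castLE (by omega) (0 : Fin 4)
  set b : Fin (n + 4) := Fin.castLE (by omega) (1 : Fin 4)
  set c : Fin (n + 4) := Fin.castLE (by omega) (2 : Fin 4)
  set d : Fin (n + 4) := Fin.castLE (by omega) (3 : Fin 4)
  have h1 : a ≠ b := k 0 1 (by decide)
  have h2 : a ≠ c := k 0 2 (by decide)
  have h3 : a ≠ d := k 0 3 (by decide)
  have h4 : b ≠ c := k 1 2 (by decide)
  have h5 : b ≠ d := k 1 3 (by decide)
  have h6 : c ≠ d := k 2 3 (by decide)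
  clear_value a b c d
  obtain ⟨x, hx⟩ := prj_surj (swap a b * swap c d)
  obtain ⟨y, hy⟩ := prj_surj (swap a c * swap b d)
  have e1 := dbl_sq h1 h2 h3 h4 h5 h6 hx
  have e2 := dbl_sq h2 h1 h3 h4.symm h6 h5 hy
  have e3 : x * y * (x * y) = zz _ := dbl_sq h3 h1 h2 h5.symm h6.symm h4 (by
    rw [map_mul, hx, hy]
    ext i
    simp only [Perm.mul_apply, swap_apply_def]
    split_ifs <;> simp_all)
  let X : ACov (n + 4) := ⟨x, by simp [hx, h1, h6]⟩
  let Y : ACov (n + 4) := ⟨y, by simp [hy, h2, h5]⟩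
  have : zA (n + 4) = ⁅X, Y⁆ := by
    refine Subtype.ext ?_
    change zz _ = x * y * x⁻¹ * y⁻¹
    have i1 : x⁻¹ = zz _ * x := by
      rw [inv_eq_iff_mul_eq_one, ← mul_assoc, zz_comm, mul_assoc, e1, zz_sq]
    have i2 : y⁻¹ = zz _ * y := by
      rw [inv_eq_iff_mul_eq_one, ← mul_assoc, zz_comm, mul_assoc, e2, zz_sq]
    rw [i1, i2, ← zz_comm x, mul_assoc (x * y), mul_assoc x (zz _), ← mul_assoc (zz _), zz_sq,
      one_mul, e3]
  rw [this]
  exact Subgroup.commutator_mem_commutator (Subgroup.mem_top _) (Subgroup.mem_top _)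

end

end Cfsg.Agent.Perm.Spin
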