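import Mathlib
import Cfsg.Agent.Lib.Comp.Comp
import Cfsg.Agent.Lib.Classical.Lin1

/-! The centralizer of a reflection-like involution in `SL_n`, `GL_n`. -/

set_option autoImplicit false

namespace Cfsg.Agent.Perm.Std
open Matrix Subgroup Cfsg.Agent.Comp
open scoped commutatorElement

section
variable {G : Type*} [Group G]

theorem nrm {L C : Subgroup G} (h1 : L ≤ C) (h2 : ⁅C, C⁆ ≤ L) : C ≤ normalizer (L : Set G) := by
  have key : ∀ g ∈ C, ∀ x ∈ L, g * x * g⁻¹ ∈ L := fun g hg x hx => by
    have := L.mul_mem (h2 (commutator_mem_commutator hg (h1 hx))) hx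
    simpa [commutatorElement_def] using this
  intro g hg
  refine mem_normalizer_iff.2 fun x => ⟨key g hg x, fun h => ?_⟩
  simpa [mul_assoc] using key g⁻¹ (C.inv_mem hg) _ h

theorem std [Finite G] {t : G} {L : Subgroup G} (hq : QS L) (h1 : L ≤ centralizer {t})
    (h2 : ⁅centralizer ({t} : Set G), centralizer ({t} : Set G)⁆ ≤ L) (tL : t ∈ L) (t1 : t ≠ 1) (t2 : t * t = 1)
    (hu : ∀ x ∈ centralizer (L : Set G), x * x = 1 → x = 1 ∨ x = t) :
    IsStandardSubgroup ((layer ↥(centralizer ({t} : Set G))).map (centralizer ({t} : Set G)).subtype) := by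
  have hN := nrm h1 h2
  have e : Lay (centralizer ({t} : Set G)) = L := by
    refine le_antisymm ?_ (CompIn.le_Lay ⟨SubnIn.of_normalizer h1 hN, hq⟩)
    rw [← Lay_perfect]
    exact (commutator_mono (Lay_le _) (Lay_le _)).trans h2
  rw [map_layer, e]
  have tC : t ∈ centralizer (L : Set G) := fun x hx => (mem_centralizer_singleton_iff.1 (h1 hx))
  have key : ∀ g : G, g * t * g⁻¹ ∈ centralizer (L : Set G) → g ∈ normalizer (L : Set G) := fun g hg => by
    rcases hu _ hg (by calc _ = g * (t * t) * g⁻¹ := by group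
      _ = 1 := by rw [t2]; group) with h | h
    · exact absurd (by simpa using h) t1
    · exact hN (mem_centralizer_singleton_iff.2 (mul_inv_eq_iff_eq_mul.1 h))
  have o2 : orderOf t = 2 := orderOf_eq_prime (by rw [pow_two, t2]) t1
  refine ⟨hq.isQuasisimple, ⟨?_, fun g hg => ?_⟩, fun g hg hb => hg ?_, ?_⟩
  · exact even_iff_two_dvd.2 (o2 ▸ Subgroup.orderOf_dvd_natCard _ tC)
  · rw [← Nat.not_even_iff_odd, even_iff_two_dvd]
    intro h
    obtain ⟨x, hx⟩ := exists_prime_orderOf_dvd_card' 2 h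
    have x2 : x.1 * x.1 = 1 := by
      have := pow_orderOf_eq_one x
      rw [hx, pow_two] at this
      exact congrArg Subtype.val this
    have xt : x.1 = t := (hu _ x.2.1 x2).resolve_left fun h => by
      rw [show x = 1 from Subtype.ext h, orderOf_one] at hx
      exact absurd hx (by decide)
    have := mem_cj.1 x.2.2
    rw [xt] at this
    have h3 := key g⁻¹ (by simpa using this)
    exact hg (normalizer_le_normalizer_centralizer L (by simpa using (normalizer (L : Set G)).inv_mem h3))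
  · rw [commutator_comm, commutator_eq_bot_iff_le_centralizer] at hb
    exact cj_eq_self_iff.2 (key g (hb (conj_mem_cj.2 tL)))
  · exact le_antisymm (normalizer_le_normalizer_centralizer L) fun g hg => key g ((mem_normalizer_iff.1 hg t).1 tC)

theorem hasC [Finite G] {C L : Subgroup G} (hq : QS L) (h1 : L ≤ C) (h2 : ⁅C, C⁆ ≤ L) {x : G} (hx : x ∈ L)
    (x2 : orderOf x = 2) : HasComponent (↥C ⧸ oddCore C) := by
  have h3 : IsComponent (L.subgroupOf C) := (compIn_iff.1 ⟨SubnIn.of_normalizer h1 (nrm h1 h2), hq⟩).2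
  have h4 := (compIn_top_iff.2 h3).map_of_not_le (f := QuotientGroup.mk' (oddCore C)) (fun h => by
    have h5 : (⟨x, h1 hx⟩ : C) ∈ pPrimeCore 2 C := by
      simpa using h (show (⟨x, h1 hx⟩ : C) ∈ L.subgroupOf C from hx)
    have h6 := Subgroup.orderOf_dvd_natCard _ h5
    rw [Subgroup.orderOf_mk, x2] at h6
    exact absurd (Nat.Coprime.eq_one_of_dvd (coprime_pPrimeCore (G := C) 2).symm h6) (by decide))
  rw [← MonoidHom.range_eq_map, QuotientGroup.range_mk'] at h4
  exact ⟨_, compIn_top_iff.1 h4⟩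

end

variable {F : Type*} [Field F] {n m : ℕ}

/-- block matrix -/
def bk (h : m + 1 = n) (A : Matrix (Fin m) (Fin m) F) (d : F) : Matrix (Fin n) (Fin n) F :=
  reindex (finSumFinEquiv.trans (finCongr h)) (finSumFinEquiv.trans (finCongr h))
    (fromBlocks A 0 0 (diagonal fun _ : Fin 1 => d))

theorem bk_mul (h : m + 1 = n) (A B : Matrix (Fin m) (Fin m) F) (d e : F) :
    bk h A d * bk h B e = bk h (A * B) (d * e) := by
  simp only [bk, reindex_apply, submatrix_mul_equiv, fromBlocks_multiply]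
  simp

theorem bk_one (h : m + 1 = n) : bk h (1 : Matrix (Fin m) (Fin m) F) 1 = 1 := by
  rw [bk, diagonal_one, fromBlocks_one, reindex_apply, submatrix_one_equiv]

theorem bk_det (h : m + 1 = n) (A : Matrix (Fin m) (Fin m) F) (d : F) : (bk h A d).det = A.det * d := by
  rw [bk, det_reindex_self, det_fromBlocks_zero₂₁]; simp

theorem bk_inj (h : m + 1 = n) {A B : Matrix (Fin m) (Fin m) F} {d e : F} (he : bk h A d = bk h B e) :
    A = B ∧ d = e := by
  have := fromBlocks_inj.1 ((reindex _ _).injective he)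
  exact ⟨this.1, by simpa using congrFun (congrFun this.2.2.2 0) 0⟩

theorem bk_cen (h : m + 1 = n) (h2 : (2 : F) ≠ 0) {X : Matrix (Fin n) (Fin n) F}
    (c : X * bk h (-1) 1 = bk h (-1) 1 * X) : ∃ A d, X = bk h A d := by
  obtain ⟨Y, rfl⟩ := (reindex (finSumFinEquiv.trans (finCongr h)) (finSumFinEquiv.trans (finCongr h))).surjective X
  rw [← fromBlocks_toBlocks Y] at c ⊢
  simp only [bk, reindex_apply, submatrix_mul_equiv, fromBlocks_multiply] at c
  have := fromBlocks_inj.1 ((reindex (finSumFinEquiv.trans (finCongr h)) (finSumFinEquiv.trans (finCongr h))).injective c)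
  obtain ⟨-, h3, h4, -⟩ := this
  simp only [diagonal_one, Matrix.mul_zero, Matrix.mul_one, zero_add, Matrix.neg_mul, Matrix.one_mul, Matrix.zero_mul,
    add_zero, Matrix.mul_neg] at h3 h4
  have z : ∀ {a b : ℕ} {Z : Matrix (Fin a) (Fin b) F}, Z = -Z → Z = 0 := fun {a b Z} hZ => by
    ext i j
    have := congrFun (congrFun hZ i) j
    rw [Matrix.neg_apply, eq_neg_iff_add_eq_zero, ← two_mul] at this
    exact (mul_eq_zero.1 this).resolve_left h2
  refine ⟨Y.toBlocks₁₁, Y.toBlocks₂₂ 0 0, ?_⟩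
  rw [z h3, z h4.symm, bk]
  congr 2
  ext i j
  fin_cases i; fin_cases j; simp

theorem bk_diag (h : m + 1 = n) : (bk h (-1) 1 : Matrix (Fin n) (Fin n) F) =
    diagonal (fun i : Fin n => if (i : ℕ) + 1 = n then (1 : F) else -1) := by
  subst h
  ext i j
  refine Fin.addCases (fun i => ?_) (fun i => ?_) i <;> refine Fin.addCases (fun j => ?_) (fun j => ?_) j
  · have := i.2
    by_cases hij : i = j <;> simp [bk, diagonal_apply, hij, one_apply, this.ne]
    exact fun h => absurd h j.2.ne
  · have := i.2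
    simp [bk, diagonal_apply, Fin.ext_iff, this.ne]
  · have := j.2
    simp [bk, diagonal_apply, Fin.ext_iff, this.ne']
  · fin_cases i; fin_cases j; simp [bk, diagonal_apply, Fin.ext_iff]

/-- the embedding of `SL_m` -/
def ps (h : m + 1 = n) : SpecialLinearGroup (Fin m) F →* SpecialLinearGroup (Fin n) F where
  toFun g := ⟨bk h g.1 1, by rw [bk_det, g.2, one_mul]⟩
  map_one' := Subtype.ext (bk_one h)
  map_mul' x y := Subtype.ext (by
    change bk _ (x.1 * y.1) _ = bk _ _ _ * bk _ _ _
    rw [bk_mul, one_mul])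

theorem ps_inj (h : m + 1 = n) : Function.Injective (ps (F := F) h) := fun _ _ e =>
  Subtype.ext (bk_inj h (congrArg Subtype.val e)).1

theorem comm4 (h : m + 1 = n) {A B A' B' : Matrix (Fin m) (Fin m) F} {a b a' b' : F}
    (h1 : bk h A a * bk h A' a' = 1) (h2 : bk h B b * bk h B' b' = 1) :
    ∃ s : SpecialLinearGroup (Fin m) F, bk h A a * bk h B b * bk h A' a' * bk h B' b' = (ps h s).1 := by
  rw [bk_mul, ← bk_one h] at h1 h2
  obtain ⟨e1, e2⟩ := bk_inj h h1
  obtain ⟨e3, e4⟩ := bk_inj h h2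
  refine ⟨⟨A * B * A' * B', ?_⟩, ?_⟩
  · have e5 := congrArg det e1
    have e6 := congrArg det e3
    simp only [det_mul, det_one] at e5 e6 ⊢
    linear_combination B.det * B'.det * e5 + e6
  · change _ = bk _ _ _
    rw [bk_mul, bk_mul, bk_mul, show a * b * a' * b' = 1 by linear_combination b * b' * e2 + e4]

theorem qsSL [Finite F] (hm : 2 ≤ m) (h : 3 ≤ m ∨ 4 ≤ Nat.card F) : QS (⊤ : Subgroup (SpecialLinearGroup (Fin m) F)) := by
  rw [qs_top_iff]
  rcases hm.eq_or_lt with rfl | h3
  · have h4 : 4 ≤ Nat.card F := h.resolve_left (by decide)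
    refine ⟨⟨?_⟩, Matrix.ProjectiveSpecialLinearGroup.rank_two_simple h4⟩
    obtain ⟨x, hx⟩ : IsCyclic Fˣ := by infer_instance
    refine Matrix.SL2.commutator_eq_top (Units.ne_zero x) fun h => ?_
    have := orderOf_le_of_pow_eq_one zero_lt_two (Units.ext (by simpa using h) : x ^ 2 = 1)
    rw [Nat.card_eq_card_units_add_one F, ← orderOf_eq_card_of_forall_mem_zpowers hx] at h4
    omega
  · exact ⟨⟨Classical.Lin.commutator_SL (by simp; omega)⟩, Classical.Lin.simple_PSL (by simp; omega)⟩

theorem two_ne [Fintype F] (hF : Odd (Fintype.card F)) : (2 : F) ≠ 0 := by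
  intro h
  have := FiniteField.even_card_iff_char_two (F := F)
  have h2 : ringChar F = 2 := CharP.ringChar_of_prime_eq_zero Nat.prime_two (by exact_mod_cast h)
  rw [Nat.odd_iff] at hF
  omega

end Cfsg.Agent.Perm.Std
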