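import Mathlib
import Cfsg.Prelude.Def_GeometricClasses

/-! Transvections moving a subspace. -/

set_option autoImplicit false

namespace Cfsg.Agent.Perm.Trv
open Matrix Cfsg.Geo

variable {ι : Type} [Fintype ι] [DecidableEq ι] {F : Type*} [Field F]

theorem exists_trv {A : Submodule F (ι → F)} {u v : ι → F} (hu : u ∉ A) (hv : v ∈ A) :
    ∃ g ∈ specialLinear ι F, (∀ a ∈ A, g.1 *ᵥ a = a) ∧ ∃ c : F, c ≠ 0 ∧ g.1 *ᵥ u = u + c • v := by
  obtain ⟨f, f1, f2⟩ := Submodule.exists_le_ker_of_notMem hu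
  have e : ∀ x, (fun i => f (Pi.single i 1)) ⬝ᵥ x = f x := fun x => by
    conv_rhs => rw [pi_eq_sum_univ' x]
    simp [dotProduct, map_sum, mul_comm]
  have d : (1 + vecMulVec v fun i => f (Pi.single i 1)).det = 1 := by
    rw [vecMulVec_eq Unit, det_one_add_replicateCol_mul_replicateRow, e, f2 hv, add_zero]
  have m : ∀ x, (1 + vecMulVec v fun i => f (Pi.single i 1)) *ᵥ x = x + f x • v := fun x => by
    rw [add_mulVec, one_mulVec, vecMulVec_mulVec, e, op_smul_eq_smul]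
  refine ⟨GeneralLinearGroup.mkOfDetNeZero _ (d.trans_ne one_ne_zero), Units.ext d, fun a ha => ?_, _, f1, m u⟩
  exact (m a).trans (by rw [f2 ha, zero_smul, add_zero])

theorem between {W U A : Submodule F (ι → F)} (h0 : W ≠ ⊥) (h1 : W ≠ ⊤) {u v : ι → F} (l : W ≤ A)
    (uU : u ∈ U) (uA : u ∉ A) (vA : v ∈ A) (vU : v ∉ U) :
    ∃ K : Subgroup (GeneralLinearGroup ι F), subspaceStabilizer W ⊓ subspaceStabilizer U ⊓ specialLinear ι F < K ∧
      K < specialLinear ι F := by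
  have mv : ∀ {U : Submodule F (ι → F)} {u v : ι → F} {c : F}, u ∈ U → v ∉ U → c ≠ 0 → u + c • v ∉ U :=
    fun h1 h2 h3 h => h2 ((Submodule.smul_mem_iff _ h3).1 ((Submodule.add_mem_iff_right _ h1).1 h))
  refine ⟨subspaceStabilizer W ⊓ specialLinear ι F,
    lt_of_le_not_ge (inf_le_inf_right _ inf_le_left) fun h => ?_, lt_of_le_not_ge inf_le_right fun h => ?_⟩
  · obtain ⟨g, g1, g2, c, c0, g4⟩ := exists_trv uA vA
    refine mv uU vU c0 (g4 ▸ ((h ⟨fun x => ⟨fun hx => ?_, fun hx => ?_⟩, g1⟩).1.2 u).1 uU)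
    · exact (g2 x (l hx)).symm ▸ hx
    · exact mulVec_injective_iff_isUnit.2 g.isUnit (g2 _ (l hx)) ▸ hx
  · obtain ⟨w, w1, w2⟩ := Submodule.exists_mem_ne_zero_of_ne_bot h0
    obtain ⟨x, hx⟩ : ∃ x, x ∉ W := by_contra fun h => h1 (eq_top_iff.2 fun x _ => by_contra fun k => h ⟨x, k⟩)
    obtain ⟨g, g1, -, c, c0, g4⟩ := exists_trv (A := Submodule.span F {x}) (u := w) (fun h => by
      obtain ⟨c, rfl⟩ := Submodule.mem_span_singleton.1 h
      exact hx ((Submodule.smul_mem_iff _ (left_ne_zero_of_smul w2)).1 w1)) (Submodule.mem_span_singleton_self x)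
    exact mv w1 hx c0 (g4 ▸ ((h g1).1 w).1 w1)

end Cfsg.Agent.Perm.Trv
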