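import Mathlib
import Cfsg.Agent.Lib.Perm.Un1

set_option autoImplicit false

namespace Cfsg.Agent.Perm.Cj
open Module Polynomial Cfsg.Agent.Classical Cfsg.Agent.Classical.Form Cfsg.Agent.Perm.Inv

theorem card_split_cl {G L A : Type*} [Group G] [Group L] [CommGroup A] {S T : Subgroup L} (e : G ≃* S) (d : L →* A)
    (hS : ∀ g, g ∈ S ↔ g ∈ T ∧ d g = 1) {u : L} (hu : u ∈ S) (P : G → Prop)
    (hP : ∀ a, P a ↔ ∃ g ∈ T, g * u * g⁻¹ = e a) : Nat.card {C : ConjClasses G // ∃ g, ConjClasses.mk g = C ∧ P g} =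
      ((T ⊓ Subgroup.centralizer {u}).map d).relIndex (T.map d) := by
  classical
  set D := (T ⊓ Subgroup.centralizer {u}).map d
  choose! γ h1 h2 using fun a => (hP a).1
  have key : ∀ g ∈ T, ∀ h ∈ T, (∃ k ∈ S, k * (g * u * g⁻¹) * k⁻¹ = h * u * h⁻¹) ↔ (d g : A ⧸ D) = d h := fun g hg h hh => by
    rw [QuotientGroup.eq]
    refine ⟨fun ⟨k, hk, e⟩ => ⟨g⁻¹ * k⁻¹ * h, ⟨T.mul_mem (T.mul_mem (T.inv_mem hg) (T.inv_mem ((hS k).1 hk).1)) hh,
      Subgroup.mem_centralizer_singleton_iff.2 ?_⟩, by simp [((hS k).1 hk).2]⟩, fun ⟨c, hc, e⟩ => ⟨h * c⁻¹ * g⁻¹,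
      (hS _).2 ⟨mul_mem (mul_mem hh (inv_mem hc.1)) (inv_mem hg), by simp [e]⟩, ?_⟩⟩
    · rw [mul_assoc, ← inv_mul_cancel_right (h * u) h, ← e]; group
    · rw [show h * c⁻¹ * g⁻¹ * (g * u * g⁻¹) * (h * c⁻¹ * g⁻¹)⁻¹ = h * c⁻¹ * (u * c) * h⁻¹ by group,
        ← Subgroup.mem_centralizer_singleton_iff.1 hc.2]; group
  rw [card_cl P (fun a => (d (γ a) : A ⧸ D)) (· ∈ (T.map d).map (QuotientGroup.mk' D)) (fun a b ha hb => by
    rw [isConj_equiv e, ← h2 a ha, ← h2 b hb, key _ (h1 a ha) _ (h1 b hb)]) fun i => ⟨?_, ?_⟩,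
    ← Subgroup.relIndex_ker, QuotientGroup.ker_mk']
  · rintro ⟨_, ⟨g, hg, rfl⟩, rfl⟩
    have h3 : g * u * g⁻¹ ∈ S := (hS _).2 ⟨mul_mem (mul_mem hg ((hS u).1 hu).1) (inv_mem hg), by simp [((hS u).1 hu).2]⟩
    have h4 := (hP (e.symm ⟨_, h3⟩)).2 ⟨g, hg, by simp⟩
    exact ⟨_, h4, (key _ (h1 _ h4) _ hg).1 ⟨1, one_mem _, by simp [h2 _ h4]⟩⟩
  · rintro ⟨a, ha, rfl⟩
    exact ⟨_, ⟨_, h1 a ha, rfl⟩, rfl⟩

theorem relIndex_pow {A : Type*} [CommGroup A] [IsCyclic A] [Finite A] (U : Subgroup A) (n : ℕ) :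
    (U.map (powMonoidHom n)).relIndex U = n.gcd (Nat.card U) := by
  rw [Nat.gcd_comm, ← IsCyclic.index_powMonoidHom_range, Subgroup.relIndex]
  congr 1; ext a
  simp [Subgroup.mem_subgroupOf, Subtype.ext_iff]

universe u
variable {F : Type u} {V W : Type*} [Field F] [AddCommGroup V] [Module F V] [AddCommGroup W] [Module F W]

/-- regular nilpotent -/
def Reg (N : End F V) : Prop := IsNilpotent N ∧ finrank F (LinearMap.ker N) ≤ 1

theorem det_add_nil [FiniteDimensional F V] {c : End F V} {a : F} (h : IsNilpotent (c - algebraMap F _ a)) :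
    LinearMap.det c = a ^ finrank F V := by
  have := LinearMap.eval_charpoly (-(c - algebraMap F _ a)) a
  rw [h.neg.charpoly_eq_X_pow_finrank, sub_neg_eq_add, add_sub_cancel] at this
  simpa using this.symm

theorem det_unip [FiniteDimensional F V] {t : V ≃ₗ[F] V} (h : IsNilpotent (dl t : End F V)) : LinearEquiv.det t = 1 :=
  Units.ext (by simpa using det_add_nil (c := (t : End F V)) (a := (1 : F)) (by rwa [map_one]))

variable [FiniteDimensional F V] [FiniteDimensional F W] {N : End F V}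

theorem reg_iff : Reg N ↔ jt N = (min · (finrank F V)) := by
  refine ⟨fun h => funext fun k => ?_, fun h => ⟨nil_iff_jt.2 ⟨_, by rw [h]; exact min_self _⟩, by
    have := (congrFun h 1).trans_le (min_le_left _ _); rwa [jt, pow_one] at this⟩⟩
  obtain ⟨ι, _, e, H⟩ := exists_nil_mdl h.1
  have := Fintype.card_le_one_iff_subsingleton.1 (show Fintype.card ι ≤ 1 by
    simpa [jt_mdl, H.jt, ← show jt N 1 = _ by rw [jt, pow_one]] using h.2)
  rw [H.jt, jt_mdl, H.finrank_eq, finrank_mdl fun _ => monic_X_pow _]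
  rcases isEmpty_or_nonempty ι with _ | ⟨⟨i⟩⟩
  · simp
  · simp [Fintype.sum_subsingleton _ i]

theorem Sim.reg {M : End F W} (H : Sim N M) (h : Reg N) : Reg M := by
  rw [reg_iff, ← H.jt, ← H.finrank_eq, ← reg_iff]; exact h

theorem Reg.sim {M : End F W} (h : Reg N) (h' : Reg M) (e : finrank F V = finrank F W) : Sim N M :=
  sim_nil h.1 h'.1 (by rw [reg_iff.1 h, reg_iff.1 h', e])

theorem exists_reg : ∃ t : V ≃ₗ[F] V, Reg (dl t) := by
  obtain ⟨N, H⟩ := exists_nil (F := F) (V := V) (fun _ : Unit => finrank F V) (by simp)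
  obtain ⟨t, rfl⟩ := exists_dl ⟨_, (mdl_pow H _).2 fun _ => le_rfl⟩
  exact ⟨t, reg_iff.2 (funext fun k => by simp [← H.jt, jt_mdl])⟩

theorem mat_reg {ι : Type*} [Fintype ι] [DecidableEq ι] {M : Matrix ι ι F} {t : (ι → F) ≃ₗ[F] (ι → F)}
    (h : ∀ v, t v = M.mulVec v) {n : ℕ} (hn : Fintype.card ι = n) :
    ((M - 1) ^ n = 0 ∧ (M - 1).rank = n - 1) ↔ Reg (dl t) := by
  have h1 := (dl t).finrank_range_add_finrank_ker
  rw [← (Matrix.toLin' (R := F)).map_eq_zero_iff, Matrix.toLin'_pow, Matrix.toLin'_apply', mulVecLin_sub h, rank_eq h, Inv.rk]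
  simp only [finrank_fintype_fun_eq_card, hn] at h1
  change finrank F (im t) + _ = _ at h1
  refine ⟨fun H => ⟨⟨_, H.1⟩, by omega⟩, fun H => ⟨by simpa [hn] using nil_pow H.1, ?_⟩⟩
  have := congrFun (reg_iff.1 H) 1
  rw [jt, pow_one, finrank_fintype_fun_eq_card, hn] at this
  omega

theorem Reg.exists_gen [Nontrivial V] (h : Reg N) : ∃ v, (N ^ (finrank F V - 1)) v ≠ 0 := by
  by_contra! H
  have := congrFun (reg_iff.1 h) (finrank F V - 1)
  rw [jt, LinearMap.ker_eq_top.2 (LinearMap.ext H), finrank_top] at this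
  have := finrank_pos (R := F) (M := V)
  omega

theorem Reg.surj (h : Reg N) {v : V} (hv : (N ^ (finrank F V - 1)) v ≠ 0) {U : Submodule F V} (hU : ∀ v ∈ U, N v ∈ U)
    (h1 : v ∈ U) : U = ⊤ := Submodule.eq_top_of_finrank_eq (le_antisymm U.finrank_le (by_contra fun h2 =>
  hv (LinearMap.mem_ker.1 (N.iterateKer.monotone (show finrank F U ≤ _ by omega) (nil_le_ker h.1 hU h1)))))

theorem Reg.cyc (h : Reg N) {v : V} (hv : (N ^ (finrank F V - 1)) v ≠ 0) (w : V) : ∃ P : F[X], aeval N P v = w :=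
  (h.surj hv (U := LinearMap.range (LinearMap.applyₗ v ∘ₗ (aeval N).toLinearMap))
    (by rintro _ ⟨P, rfl⟩; exact ⟨X * P, by simp⟩) ⟨1, by simp⟩).ge Submodule.mem_top

theorem Reg.ext (h : Reg N) {v : V} (hv : (N ^ (finrank F V - 1)) v ≠ 0) {a b : End F V} (ha : ∀ v, a (N v) = N (a v))
    (hb : ∀ v, b (N v) = N (b v)) (e : a v = b v) : a = b := LinearMap.ext fun w => by
  obtain ⟨P, rfl⟩ := h.cyc hv w
  rw [map_aeval a ha, map_aeval b hb, e]

omit [FiniteDimensional F V] in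
theorem aeval_comm (N : End F V) (P : F[X]) (v : V) : aeval N P (N v) = N (aeval N P v) :=
  (map_aeval N (fun _ => rfl) P v).symm

theorem Reg.comm (h : Reg N) {c : End F V} (hc : ∀ v, c (N v) = N (c v)) : ∃ P : F[X], c = aeval N P := by
  rcases subsingleton_or_nontrivial V with _ | _
  · exact ⟨0, Subsingleton.elim _ _⟩
  obtain ⟨v, hv⟩ := h.exists_gen
  obtain ⟨P, hP⟩ := h.cyc hv (c v)
  exact ⟨P, h.ext hv hc (aeval_comm N P) hP.symm⟩

theorem Reg.scal (h : Reg N) {c : End F V} (hc : ∀ v, c (N v) = N (c v)) :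
    ∃ (a : F) (M : End F V), (∀ v, M (N v) = N (M v)) ∧ c = algebraMap F _ a + N * M := by
  obtain ⟨P, rfl⟩ := h.comm hc
  exact ⟨P.coeff 0, aeval N P.divX, aeval_comm N _, (congrArg (aeval N) (X_mul_divX_add P).symm).trans (by
    rw [map_add, map_mul, aeval_X, aeval_C, add_comm])⟩

omit [FiniteDimensional F V] in
theorem mem_cent {t g : V ≃ₗ[F] V} : g ∈ Subgroup.centralizer {t} ↔ ∀ v, g (dl t v) = dl t (g v) := by
  simp [Subgroup.mem_centralizer_singleton_iff, LinearEquiv.ext_iff, dl_apply]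

theorem Reg.card_cent [Finite F] [Nontrivial V] {t : V ≃ₗ[F] V} (h : Reg (dl t)) :
    Nat.card (Subgroup.centralizer {t}) = (Nat.card F - 1) * Nat.card F ^ (finrank F V - 1) := by
  obtain ⟨v, hv⟩ := h.exists_gen
  have := Module.finite_of_finite F (M := V)
  rw [card_orb _ v (fun w => w ∉ LinearMap.ker (dl t ^ (finrank F V - 1) : End F V)) fun w => ⟨fun hw => ?_, ?_⟩,
    Nat.card_eq_one_iff_exists (α := {g : Subgroup.centralizer {t} // g.1 v = v}).2 ⟨⟨1, rfl⟩, fun g => Subtype.ext (Subtype.ext (LinearEquiv.toLinearMap_injective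
      (h.ext hv (mem_cent.1 g.1.2) (fun _ => rfl) g.2)))⟩, mul_one]
  · have h1 := card_split (fun _ : V => True) (· ∈ LinearMap.ker (dl t ^ (finrank F V - 1) : End F V))
    have h2 := congrFun (reg_iff.1 h) (finrank F V - 1)
    simp only [true_and, Nat.card_congr (Equiv.Set.univ V), natCard_eq_pow_finrank (K := F) (V := LinearMap.ker _),
      show ∀ k, finrank F (LinearMap.ker (dl t ^ k : End F V)) = jt (dl t) k from fun _ => rfl, h2] at h1
    obtain ⟨k, hk⟩ := Nat.exists_eq_add_one_of_ne_zero (finrank_pos (R := F) (M := V)).ne'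
    rw [Nat.card_congr (Equiv.subtypeUnivEquiv fun _ => trivial), natCard_eq_pow_finrank (K := F), hk,
      Nat.add_sub_cancel, min_eq_left k.le_succ, pow_succ'] at h1
    rw [hk, Nat.sub_mul, Nat.add_sub_cancel, h1, one_mul, Nat.add_sub_cancel_left]
  · obtain ⟨P, rfl⟩ := h.cyc hv w
    exact ⟨.ofBijective (aeval (dl t : End F V) P) (LinearMap.injective_iff_surjective.2 (LinearMap.range_eq_top.1
      (h.surj hw (by rintro _ ⟨v, rfl⟩; exact ⟨_, aeval_comm _ _ v⟩) ⟨v, rfl⟩))).bijective_of_finite,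
      mem_cent.2 (aeval_comm _ _), rfl⟩
  · rintro ⟨g, hg, rfl⟩ h'
    have := map_aeval (g : V →ₗ[F] V) (mem_cent.1 hg) (X ^ (finrank F V - 1)) v
    simp only [map_pow, aeval_X, LinearEquiv.coe_coe, LinearMap.mem_ker.1 h'] at this
    exact hv (g.map_eq_zero_iff.1 this)

theorem Reg.det {t c : V ≃ₗ[F] V} (h : Reg (dl t)) (hc : c ∈ Subgroup.centralizer {t}) :
    ∃ (a : F) (M : End F V), (∀ v, c v = a • v + dl t (M v)) ∧ (LinearEquiv.det c : F) = a ^ finrank F V := by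
  obtain ⟨a, M, h1, h2⟩ := h.scal (c := c) (mem_cent.1 hc)
  refine ⟨a, M, fun v => LinearMap.congr_fun h2 v, (LinearEquiv.coe_det c).trans (det_add_nil ?_)⟩
  rw [h2, add_sub_cancel_left]
  exact (show Commute (dl t : End F V) M from (LinearMap.ext h1).symm).isNilpotent_mul_right h.1

theorem Reg.map_det [Nontrivial V] {t : V ≃ₗ[F] V} (h : Reg (dl t)) :
    (⊤ ⊓ Subgroup.centralizer {t}).map LinearEquiv.det = (⊤ : Subgroup Fˣ).map (powMonoidHom (finrank F V)) := by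
  refine le_antisymm ?_ ?_
  · rintro _ ⟨c, hc, rfl⟩
    obtain ⟨a, -, -, h2⟩ := h.det hc.2
    exact ⟨.mk0 a (by rintro rfl; exact Units.ne_zero _ (h2.trans (zero_pow finrank_pos.ne'))), trivial, Units.ext h2.symm⟩
  · rintro _ ⟨c, -, rfl⟩
    exact ⟨Form.scal V c, ⟨trivial, mem_cent.2 fun v => by simp⟩, det_scal c⟩

theorem Reg.norm [Nontrivial V] {K : Kind F} {Φ : Form K V} (hΦ : Φ.Nondeg) {t c : V ≃ₗ[F] V} (h : Reg (dl t))
    (ht : t ∈ Φ.Isom) (hc : c ∈ Φ.Isom) (hc' : c ∈ Subgroup.centralizer {t}) {a : F} {M : End F V}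
    (h1 : ∀ v, c v = a • v + dl t (M v)) : a * K.σ a = 1 := by
  obtain ⟨b, M', h2, h3⟩ := h.scal (c := c) (mem_cent.1 hc')
  obtain ⟨z, hz, h0⟩ : ∃ z ∈ LinearMap.ker (dl t), z ≠ 0 := Submodule.exists_mem_ne_zero_of_ne_bot fun e =>
    h.1.not_isUnit ((LinearMap.isUnit_iff_ker_eq_bot _).2 e)
  have h4 : c z = b • z := by
    have := LinearMap.congr_fun h3 z
    simpa [← h2, LinearMap.mem_ker.1 hz] using this
  obtain ⟨x, hx⟩ := hΦ.exists_ne h0
  have h5 : ∀ y, Φ.B (dl t y) z = 0 := fun y => Φ.B_symm_zero (B_of_fix ht hz ⟨y, rfl⟩)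
  have h6 := hc.1 x z
  have h7 := congrArg (Φ.B · z) ((h1 x).symm.trans (LinearMap.congr_fun h3 x))
  rw [h1 x, h4] at h6
  simp [h5, hx] at h6 h7
  subst h7
  exact mul_right_cancel₀ hx (by linear_combination h6)

theorem Reg.map_det_unit [Nontrivial V] {K : Kind F} {Φ : Form K V} (hΦ : Φ.Nondeg) {t : V ≃ₗ[F] V} (h : Reg (dl t))
    (ht : t ∈ Φ.Isom) {U : Subgroup Fˣ} (hU : ∀ c, c ∈ U ↔ (c : F) * K.σ c = 1) :
    (Φ.Isom ⊓ Subgroup.centralizer {t}).map LinearEquiv.det = U.map (powMonoidHom (finrank F V)) := by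
  refine le_antisymm ?_ ?_
  · rintro _ ⟨c, hc, rfl⟩
    obtain ⟨a, M, h1, h2⟩ := h.det hc.2
    have := h.norm hΦ ht hc.1 hc.2 h1
    exact ⟨.mk0 a (left_ne_zero_of_mul_eq_one this), (hU _).2 this, Units.ext h2.symm⟩
  · rintro _ ⟨c, hc, rfl⟩
    exact ⟨Form.scal V c, ⟨scal_mem ((hU c).1 hc), mem_cent.2 fun v => by simp⟩, det_scal c⟩

theorem Reg.perp {K : Kind F} {Φ : Form K V} (hΦ : Φ.Nondeg) {t : V ≃ₗ[F] V} (h : Reg (dl t)) (ht : t ∈ Φ.Isom)
    {U : Submodule F V} (hU : ∀ v ∈ U, t v ∈ U) (h1 : 2 * finrank F U ≤ finrank F V) : U ≤ Φ.perp U := by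
  have := hΦ.finrank_perp U
  have h2 := stab_perp Φ ht (stab_of_le hU)
  rw [reg_inv h.1 h.2 (U := Φ.perp U) fun v hv => sub_mem ((h2 v).1 hv) hv]
  exact (nil_le_ker h.1 fun v hv => sub_mem (hU v hv) hv).trans ((dl t : End F V).iterateKer.monotone (by omega))

end Cfsg.Agent.Perm.Cj
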