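import Mathlib
import Cfsg.Agent.Lib.Perm.Un2

set_option autoImplicit false

namespace Cfsg.Agent.Perm.Cj
open Module Polynomial Cfsg.Agent.Classical Cfsg.Agent.Classical.Form Cfsg.Agent.Perm.Inv

theorem card_rel {α β : Type*} (R : α → β → Prop) (h1 : ∀ a, ∃! b, R a b) (h2 : ∀ b, ∃! a, R a b) :
    Nat.card α = Nat.card β := by
  choose f hf hf' using h1
  exact Nat.card_congr (Equiv.ofBijective f ⟨fun a b h => (h2 (f a)).unique (hf a) (h ▸ hf b), fun b =>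
    let ⟨a, h, _⟩ := h2 b; ⟨a, (hf' a b h).symm⟩⟩)

universe u
variable {F : Type u} {V W : Type*} [Field F] [AddCommGroup V] [Module F V] [AddCommGroup W] [Module F W]
  [FiniteDimensional F V] [FiniteDimensional F W] {N : End F V} {K : Kind F}

theorem Reg.decomp (h : Reg N) {v : V} (hv : (N ^ (finrank F V - 1)) v ≠ 0) (w : V) : ∃ (a : F) (y : V), w = a • v + N y := by
  obtain ⟨P, rfl⟩ := h.cyc hv w
  obtain ⟨a, M, -, e⟩ := h.scal (aeval_comm N P)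
  exact ⟨a, M v, LinearMap.congr_fun e v⟩

theorem nil_pred [Nontrivial V] (h : IsNilpotent N) (v : V) :
    (N ^ (finrank F V - 1)) (N v) = 0 ∧ N ((N ^ (finrank F V - 1)) v) = 0 := by
  rw [← End.mul_apply, ← End.mul_apply, ← pow_succ, ← pow_succ', Nat.sub_add_cancel finrank_pos, nil_pow h]; simp

theorem reg_step {Φ : Form K V} (hΦ : Φ.Nondeg) {e f : V} (h : Φ.IsHyp e f) {s} (hs : s ∈ (Φ.restrict (Φ.hperp e f)).Isom)
    (hr : Reg (dl s)) (h0 : Nontrivial (Φ.hperp e f) ∨ ∃ a ≠ 0, K.T a = 0) : ∃ t ∈ Φ.Isom, Reg (dl t) := by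
  obtain ⟨y, a, h1, h2⟩ : ∃ (y : Φ.hperp e f) (a : F), K.T a = Φ.N y ∧ ∀ (b : F) (w : Φ.hperp e f), dl s w = b • y →
      Φ.B (s w) y = a * b → b = 0 ∧ w = 0 := by
    rcases subsingleton_or_nontrivial (Φ.hperp e f) with h' | _
    · obtain ⟨a, h1, h2⟩ := h0.resolve_left (not_nontrivial_iff_subsingleton.2 h')
      exact ⟨0, a, by simpa, fun b w _ h => ⟨by simpa [h1] using h, Subsingleton.elim _ _⟩⟩
    obtain ⟨y, hy⟩ := hr.exists_gen
    obtain ⟨a, ha⟩ := Φ.N_range y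
    refine ⟨y, a, ha, fun b w h1 h2 => ?_⟩
    obtain rfl : b = 0 := by simpa [h1, hy] using (nil_pred hr.1 w).1
    rw [zero_smul] at h1
    refine ⟨rfl, (h.nondeg_hperp hΦ).left fun u => ?_⟩
    obtain ⟨c, x, rfl⟩ := hr.decomp hy u
    rw [show s w = w from sub_eq_zero.1 h1] at h2
    simpa [h2] using B_of_fix hs h1 ⟨x, rfl⟩
  have hE : Φ.IsEich e y a := ⟨h.he, (Φ.mem_hperp.1 y.2).1, h1⟩
  have key : ∀ (c b : F) (w : Φ.hperp e f), dl (Φ.eich e y a hE * h.ext s) (c • e + b • f + w) =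
      (Φ.B (s w) y - a * b) • e + (0 : F) • f + (dl s w - b • y : Φ.hperp e f) := fun c b w => by
    have h1 := Φ.mem_hperp.1 (s w).2
    have h2 := Φ.mem_hperp.1 y.2
    simp only [dl_apply, LinearEquiv.mul_apply, map_add, map_smul, h.ext_e, h.ext_f, h.ext_perp, eich_apply, h.Bee, h.Bfe,
      h1.1, Φ.B_symm_zero h2.1, Φ.B_symm_zero h2.2, K.εε, Submodule.coe_sub, Submodule.coe_smul, mul_right_comm K.ε a]
    module
  refine ⟨_, mul_mem (Φ.eich_mem e y a hE) (h.ext_mem hs), ?_, ?_⟩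
  · obtain ⟨k, hk⟩ := hr.1
    have h3 : ∀ k (c : F) (w : Φ.hperp e f), ∃ d : F, (dl (Φ.eich e y a hE * h.ext s) ^ k : End F V)
        (c • e + (0 : F) • f + w) = d • e + (0 : F) • f + (dl s ^ k : End F (Φ.hperp e f)) w := fun k c w => by
      induction k with
      | zero => exact ⟨c, rfl⟩
      | succ k ih => obtain ⟨d, hd⟩ := ih; exact ⟨_, by rw [pow_succ', End.mul_apply, hd, key]; simp [pow_succ']; rfl⟩
    refine ⟨k + 1 + 1, LinearMap.ext fun x => ?_⟩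
    obtain ⟨c, b, w, hw, rfl⟩ := h.decomp x
    obtain ⟨d, hd⟩ := h3 k (Φ.B (s ⟨w, hw⟩) y - a * b) (dl s ⟨w, hw⟩ - b • y)
    rw [pow_succ, pow_succ', End.mul_apply, End.mul_apply, key c b ⟨w, hw⟩, hd, key, hk]; simp
  · refine finrank_le_one ⟨e, by simpa using key 1 0 0⟩ fun ⟨x, hx⟩ => ?_
    obtain ⟨c, b, w, hw, rfl⟩ := h.decomp x
    have := h.coord.injective (a₁ := (_, 0, _)) (a₂ := 0) ((key c b ⟨w, hw⟩).symm.trans (hx.trans (map_zero _).symm))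
    simp only [Prod.mk_eq_zero, sub_eq_zero] at this
    obtain ⟨rfl, h3⟩ := h2 _ _ this.2.2 this.1
    exact ⟨c, Subtype.ext (by simp [show w = 0 from congrArg Subtype.val h3])⟩

omit [FiniteDimensional F V] in
theorem reg_one (h : finrank F V ≤ 1) [FiniteDimensional F V] : Reg (dl (1 : V ≃ₗ[F] V)) :=
  ⟨⟨1, by ext; simp [dl_apply]⟩, (Submodule.finrank_le _).trans h⟩

theorem exists_reg_ind (k : ℕ) (H : ∀ {V : Type u} [AddCommGroup V] [Module F V] [FiniteDimensional F V] (Φ : Form K V),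
    Φ.Nondeg → (finrank F V = k → ∃ t ∈ Φ.Isom, Reg (dl t)) ∧ (k + 2 ≤ finrank F V → ∃ e f, Φ.IsHyp e f))
    (h0 : k ≠ 0 ∨ ∃ a ≠ 0, K.T a = 0) (m : ℕ) : ∀ {V : Type u} [AddCommGroup V] [Module F V] [FiniteDimensional F V]
    (Φ : Form K V), Φ.Nondeg → finrank F V = k + 2 * m → ∃ t ∈ Φ.Isom, Reg (dl t) := by
  induction m with
  | zero => exact fun Φ hΦ h => (H Φ hΦ).1 h
  | succ m ih =>
    intro V _ _ _ Φ hΦ h
    obtain ⟨e, f, h1⟩ := (H Φ hΦ).2 (by omega)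
    have := h1.finrank_hperp
    obtain ⟨s, hs, hr⟩ := ih _ (h1.nondeg_hperp hΦ) (by omega)
    exact reg_step hΦ h1 hs hr (h0.imp_left fun _ => finrank_pos_iff.1 (show 0 < finrank F _ by omega))

theorem exists_reg_symp {V : Type u} [AddCommGroup V] [Module F V] [FiniteDimensional F V] {Φ : Form (Kind.symp F) V}
    (hΦ : Φ.Nondeg) : ∃ t ∈ Φ.Isom, Reg (dl t) :=
  let ⟨m, hm⟩ := symp_even _ Φ hΦ rfl
  exists_reg_ind 0 (fun _ hΦ => ⟨fun h => ⟨1, one_mem _, reg_one (by omega)⟩, fun h => symp_exists_hyp hΦ (by omega)⟩)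
    (.inr ⟨1, one_ne_zero, rfl⟩) m Φ hΦ (by omega)

end Cfsg.Agent.Perm.Cj
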