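import Mathlib
import Cfsg.Agent.Lib.Perm.Un3

set_option autoImplicit false

namespace Cfsg.Agent.Perm.Cj
open Module Polynomial Cfsg.Agent.Classical Cfsg.Agent.Classical.Form Cfsg.Agent.Perm.Inv

universe u
variable {F : Type u} {V W : Type*} [Field F] [AddCommGroup V] [Module F V] [AddCommGroup W] [Module F W]
  {N : End F V} {Φ : Form (Kind.symp F) V} {t : V ≃ₗ[F] V}

theorem sp_symm (Φ : Form (Kind.symp F) V) (u v : V) : Φ.B u v = -Φ.B v u := by simp [Φ.symm u v]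

/-- commuting maps which are symmetric (`c = 1`) or skew (`c = -1`) -/
def adjS (Φ : Form (Kind.symp F) V) (N : End F V) (c : F) : Submodule F (End F V) where
  carrier := {x | (∀ v, x (N v) = N (x v)) ∧ ∀ u v, Φ.B (x u) v = c * Φ.B u (x v)}
  add_mem' := fun {a b} ha hb => ⟨by simp [ha.1, hb.1], by simp [ha.2, hb.2, mul_add]⟩
  zero_mem' := by simp
  smul_mem' := fun r a ha => ⟨by simp [ha.1], by simp [ha.2, mul_left_comm]⟩

variable [FiniteDimensional F V] [FiniteDimensional F W]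

theorem Reg.commute (h : Reg N) {a b : End F V} (ha : ∀ v, a (N v) = N (a v)) (hb : ∀ v, b (N v) = N (b v)) (v : V) :
    a (b v) = b (a v) := by
  obtain ⟨P, rfl⟩ := h.comm hb
  exact map_aeval a ha P v

theorem nil_mul (h : IsNilpotent N) {M : End F V} (h1 : ∀ v, M (N v) = N (M v)) : IsNilpotent (N * M) :=
  (show Commute N M from (LinearMap.ext h1).symm).isNilpotent_mul_right h

theorem isUnit_iff_scal [Nontrivial V] (h : IsNilpotent N) {M : End F V} (h1 : ∀ v, M (N v) = N (M v)) {a : F} :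
    IsUnit (algebraMap F _ a + N * M) ↔ a ≠ 0 :=
  ⟨by rintro h2 rfl; exact (nil_mul h h1).not_isUnit (by simpa using h2), fun h2 =>
    (nil_mul h h1).isUnit_add_left_of_commute ((Ne.isUnit h2).map _) (Algebra.commutes _ _).symm⟩

theorem adj_dim (hΦ : Φ.Nondeg) (h : Reg N) (h2 : (2 : F) ≠ 0) {c : F} (hc : c * c = 1) :
    2 * finrank F (adjS Φ N c) ≤ finrank F V := by
  rcases subsingleton_or_nontrivial V with _ | _
  · simp [finrank_zero_of_subsingleton]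
  obtain ⟨v, hv⟩ := h.exists_gen
  let φ : adjS Φ N c →ₗ[F] V := LinearMap.applyₗ v ∘ₗ (adjS Φ N c).subtype
  have := hΦ.finrank_perp (LinearMap.range φ)
  have h1 : LinearMap.range φ ≤ Φ.perp (LinearMap.range φ) := by
    rintro _ ⟨x, rfl⟩ _ ⟨y, rfl⟩
    have h3 := sp_symm Φ (x.1 v) (y.1 v)
    rw [y.2.2, ← h.commute x.2.1 y.2.1, ← x.2.2] at h3
    exact mul_left_cancel₀ h2 (show 2 * Φ.B (x.1 v) (y.1 v) = 2 * 0 by linear_combination h3)
  have := Submodule.finrank_mono h1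
  rw [← LinearMap.finrank_range_of_inj (f := φ) fun x y e => Subtype.ext (h.ext hv x.2.1 y.2.1 e)]
  omega

theorem skew_dim [Finite F] (hΦ : Φ.Nondeg) (ht : t ∈ Φ.Isom) (h : Reg (dl t)) (h2 : (2 : F) ≠ 0) :
    2 * finrank F (adjS Φ (dl t) (-1)) = finrank F V := by
  rcases subsingleton_or_nontrivial V with _ | _
  · simp [finrank_zero_of_subsingleton]
  obtain ⟨v, hv⟩ := h.exists_gen
  obtain ⟨τ, -, -, t3, -⟩ := exists_adj (Kind.symp F).σσ hΦ
  have h1 : (adjS Φ (dl t) 1 ⊔ adjS Φ (dl t) (-1)).map (LinearMap.applyₗ v) = ⊤ := eq_top_iff.2 fun w _ => by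
    obtain ⟨P, rfl⟩ := h.cyc hv w
    have h3 := aeval_comm (dl t) P
    generalize aeval (dl t : End F V) P = x at h3
    have h4 : ∀ u, τ x (dl t u) = dl t (τ x u) := fun u => hΦ.ext fun w => by
      have := congrArg (Φ.B · u) (h3 (t.symm w))
      obtain ⟨w, rfl⟩ := t.surjective w
      have h5 : x (t w) = t (x w) := by simpa [dl_apply] using h3 w
      simp [dl_apply, t3, ht.1 _, h5]
    have h5 : ∀ u v, Φ.B (τ x u) v = Φ.B u (x v) := fun u v => by rw [sp_symm, t3, ← sp_symm]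
    refine ⟨_, Submodule.mem_sup.2 ⟨(2 : F)⁻¹ • (x + τ x), Submodule.smul_mem _ _ ⟨by simp [h3, h4], by
      simp [t3, h5, add_comm]⟩, (2 : F)⁻¹ • (x - τ x), Submodule.smul_mem _ _ ⟨by simp [h3, h4], by simp [t3, h5]⟩, rfl⟩, ?_⟩
    simp only [LinearMap.applyₗ_apply_apply, LinearMap.add_apply, LinearMap.smul_apply, LinearMap.sub_apply]
    match_scalars <;> field_simp <;> ring
  have := (Submodule.finrank_map_le (LinearMap.applyₗ v) _).trans
    (Submodule.finrank_add_le_finrank_add_finrank (adjS Φ (dl t) 1) (adjS Φ (dl t) (-1)))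
  have := adj_dim hΦ h h2 (c := 1) (by simp)
  have := adj_dim hΦ h h2 (c := -1) (by simp)
  rw [h1, finrank_top] at *
  omega

theorem card_cay [Nontrivial V] (hΦ : Φ.Nondeg) (ht : t ∈ Φ.Isom) (h : Reg (dl t)) (h2 : (2 : F) ≠ 0) :
    Nat.card {c : ↥(Φ.Isom ⊓ Subgroup.centralizer {t}) // IsUnit (1 + (c.1 : End F V))} = Nat.card (adjS Φ (dl t) (-1)) := by
  have h0 : ∀ {d : End F V}, IsUnit d → (∀ v, d (dl t v) = dl t (d v)) → ∃ x : End F V, d * (1 + x) = 2 ∧ (1 + x) * d = 2 ∧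
      (∀ v, x (dl t v) = dl t (x v)) ∧ ∀ v, x (d v) = (2 : F) • v - d v := by
    rintro _ ⟨d, rfl⟩ hd
    refine ⟨2 * d⁻¹ - 1, by simp [two_mul, mul_add, one_add_one_eq_two], by simp [mul_assoc], fun v => ?_, fun v => by
      simp [← End.mul_apply, two_smul, two_mul]⟩
    obtain ⟨v, rfl⟩ := ((End.isUnit_iff _).1 d.isUnit).2 v
    have : ∀ v, (↑d⁻¹ : End F V) (d.1 v) = v := fun v => by rw [← End.mul_apply, d.inv_mul]; rfl
    simp only [LinearMap.sub_apply, End.mul_apply, this, End.one_apply, map_sub, End.ofNat_apply, map_nsmul, ← hd]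
  have h3 : IsUnit (2 : End F V) := map_ofNat (algebraMap F (End F V)) 2 ▸ (Ne.isUnit h2).map _
  refine card_rel (fun c x => (1 + (c.1.1 : End F V)) * (1 + x.1) = 2) (fun c => ?_) fun x => ?_
  · obtain ⟨x, a1, -, a3, a4⟩ := h0 c.2 (by simp [mem_cent.1 c.1.2.2])
    refine ⟨⟨x, a3, fun u v => ?_⟩, a1, fun y hy => Subtype.ext (add_left_cancel (c.2.mul_left_cancel (hy.trans a1.symm)))⟩
    obtain ⟨u, rfl⟩ := ((End.isUnit_iff _).1 c.2).2 u
    obtain ⟨v, rfl⟩ := ((End.isUnit_iff _).1 c.2).2 v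
    rw [a4, a4]; simp [c.1.2.1.1 _]; ring
  · obtain ⟨a, M, h4, h5⟩ := h.scal x.2.1
    obtain ⟨v, hv⟩ := h.exists_gen
    obtain ⟨w, hw⟩ := hΦ.exists_ne hv
    have h6 := x.2.2 w ((dl t ^ (finrank F V - 1) : End F V) v)
    have h7 := (nil_pred h.1 v).2
    rw [h5] at h6
    rw [LinearMap.add_apply, LinearMap.add_apply, End.mul_apply, End.mul_apply, ← h4 ((dl t ^ _ : End F V) v), h7] at h6
    simp [Φ.B_symm_zero (B_of_fix ht h7 ⟨_, rfl⟩)] at h6
    have h8 : IsUnit (1 + x.1) := by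
      rw [h5, ← add_assoc, ← map_one (algebraMap F _), ← map_add, isUnit_iff_scal h.1 h4,
        show a = 0 from mul_left_cancel₀ (mul_ne_zero h2 hw) (by linear_combination h6)]; simp
    obtain ⟨c, -, a2, a3, a4⟩ := h0 h8 (by simp [x.2.1])
    obtain ⟨g, hg, e⟩ := hΦ.exists_isom_of_linear c (fun u v => by
      obtain ⟨u, rfl⟩ := ((End.isUnit_iff _).1 h8).2 u
      obtain ⟨v, rfl⟩ := ((End.isUnit_iff _).1 h8).2 v
      rw [a4, a4]; simp [x.2.2 u v]; ring) (by simp [symp_N])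
    obtain rfl : (g : End F V) = c := LinearMap.ext e
    exact ⟨⟨⟨g, hg, mem_cent.2 a3⟩, isUnit_of_mul_isUnit_left (a2 ▸ h3)⟩, a2, fun y hy => Subtype.ext (Subtype.ext
      (LinearEquiv.toLinearMap_injective (add_left_cancel (h8.mul_right_cancel (hy.trans a2.symm)))))⟩

theorem card_cent_sp [Finite F] [Nontrivial V] (hΦ : Φ.Nondeg) (ht : t ∈ Φ.Isom) (h : Reg (dl t)) (h2 : (2 : F) ≠ 0)
    {m : ℕ} (hm : finrank F V = 2 * m) : Nat.card ↥(Φ.Isom ⊓ Subgroup.centralizer {t}) = 2 * Nat.card F ^ m := by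
  have := Module.finite_of_finite F (M := V)
  have : Finite (V ≃ₗ[F] V) := DFunLike.finite _
  have h1 := card_split (fun _ : ↥(Φ.Isom ⊓ Subgroup.centralizer {t}) => True) fun c => IsUnit (1 + (c.1 : End F V))
  let n : ↥(Φ.Isom ⊓ Subgroup.centralizer {t}) := ⟨.neg F, neg_mem_Isom Φ, mem_cent.2 (by simp)⟩
  simp only [true_and] at h1
  rw [Nat.card_congr (Equiv.subtypeUnivEquiv fun _ => trivial), Nat.card_congr ((Equiv.mulLeft n).subtypeEquiv
    (p := fun c => ¬ IsUnit (1 + (c.1 : End F V))) (q := fun c => IsUnit (1 + (c.1 : End F V))) fun c => ?_),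
    card_cay hΦ ht h h2, natCard_eq_pow_finrank (K := F) (V := adjS _ _ _),
    show finrank F (adjS Φ (dl t) (-1)) = m by have := skew_dim hΦ ht h h2; omega] at h1
  · rw [h1, two_mul]
  obtain ⟨a, M, h4, h5⟩ := h.scal (c := c.1) (mem_cent.1 c.2.2)
  have h6 := h.norm hΦ ht c.2.1 c.2.2 (LinearMap.congr_fun h5)
  rw [show 1 + ((Equiv.mulLeft n c).1 : End F V) = -(algebraMap F _ (a - 1) + dl t * M) by
    rw [map_sub, sub_add_eq_add_sub, ← h5]; ext; simp [n, sub_eq_add_neg], IsUnit.neg_iff, h5, ← add_assoc,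
    ← map_one (algebraMap F _), ← map_add, isUnit_iff_scal h.1 h4, isUnit_iff_scal h.1 h4, not_not]
  exact ⟨fun e e' => h2 (by linear_combination e - e'), fun e => mul_left_cancel₀ e (by simp at h6; linear_combination h6)⟩

/-- the square class invariant -/
def sqI (Φ : Form (Kind.symp F) V) (t : V ≃ₗ[F] V) : Prop := ∃ v, Φ.B ((dl t ^ (finrank F V - 1) : End F V) v) v = 1

theorem sq_val [Nontrivial V] (ht : t ∈ Φ.Isom) (h : Reg (dl t)) (v y w : V) (a b : F) :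
    Φ.B ((dl t ^ (finrank F V - 1) : End F V) (a • v + dl t y)) (b • v + dl t w) =
      a * b * Φ.B ((dl t ^ (finrank F V - 1) : End F V) v) v := by
  simp [(nil_pred h.1 y).1, B_of_fix ht (nil_pred h.1 v).2 ⟨_, rfl⟩]; ring

theorem sq_spec [Nontrivial V] (hΦ : Φ.Nondeg) (ht : t ∈ Φ.Isom) (h : Reg (dl t)) {v : V}
    (hv : (dl t ^ (finrank F V - 1) : End F V) v ≠ 0) : Φ.B ((dl t ^ (finrank F V - 1) : End F V) v) v ≠ 0 ∧
      (sqI Φ t ↔ IsSquare (Φ.B ((dl t ^ (finrank F V - 1) : End F V) v) v)) := by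
  have h0 : Φ.B ((dl t ^ (finrank F V - 1) : End F V) v) v ≠ 0 := fun e => hv (hΦ.left fun w => by
    obtain ⟨a, y, rfl⟩ := h.decomp hv w
    simpa [e] using sq_val ht h v 0 y 1 a)
  refine ⟨h0, fun ⟨w, e⟩ => ?_, fun ⟨r, e⟩ => ⟨r⁻¹ • v + dl t 0, ?_⟩⟩
  · obtain ⟨a, y, rfl⟩ := h.decomp hv w
    rw [sq_val ht h] at e
    exact ⟨a * _, by linear_combination -Φ.B ((dl t ^ (finrank F V - 1) : End F V) v) v * e⟩
  · have : r ≠ 0 := by rintro rfl; simp [e] at h0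
    rw [sq_val ht h, e]; field_simp

omit [FiniteDimensional F V] [FiniteDimensional F W] in
theorem map_pow_dl {s : W ≃ₗ[F] W} (e : V →ₗ[F] W) (he : ∀ v, e (dl t v) = dl s (e v)) (k : ℕ) (v : V) :
    e ((dl t ^ k : End F V) v) = (dl s ^ k : End F W) (e v) := by
  simpa only [map_pow, aeval_X] using map_aeval e he (X ^ k) v

theorem exists_sqrt [Finite F] (h : IsNilpotent N) (h2 : (2 : F) ≠ 0) {M : End F V} (h1 : ∀ v, M (N v) = N (M v)) :
    ∃ k, (1 + N * M) ^ k * (1 + N * M) ^ k = 1 + N * M := by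
  have := Fact.mk (CharP.char_is_prime F (ringChar F))
  obtain ⟨u, hu⟩ := exists_dl (nil_mul h h1)
  obtain ⟨j, hj⟩ := (unip_iff (ringChar F) u).2 (hu ▸ nil_mul h h1)
  obtain ⟨k, hk⟩ := (this.out.odd_of_ne_two fun e => h2 (by simpa [e] using ringChar.Nat.cast_ringChar (R := F))).pow (n := j)
  refine ⟨k + 1, ?_⟩
  rw [← hu, dl_eq, add_sub_cancel, ← pow_add, show k + 1 + (k + 1) = 2 * k + 1 + 1 by ring, ← hk, ← hj, pow_succ,
    lin_pow_eq_one.2 (pow_orderOf_eq_one u), one_mul]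

theorem sp_reg_conj [Finite F] [Nontrivial V] (hΦ : Φ.Nondeg) (h2 : (2 : F) ≠ 0) (ht : t ∈ Φ.Isom) (h : Reg (dl t)) {s}
    (hs : s ∈ Φ.Isom) (h' : Reg (dl s)) : (∃ g ∈ Φ.Isom, g * t * g⁻¹ = s) ↔ (sqI Φ t ↔ sqI Φ s) := by
  classical
  obtain ⟨v, hv⟩ := h.exists_gen
  have key : ∀ e : V ≃ₗ[F] V, (∀ v, e (dl t v) = dl s (e v)) → (dl s ^ (finrank F V - 1) : End F V) (e v) ≠ 0 :=
    fun e he => by rwa [← LinearEquiv.coe_coe, ← map_pow_dl _ he, LinearEquiv.coe_coe, e.map_ne_zero_iff]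
  obtain ⟨a1, a2⟩ := sq_spec hΦ ht h hv
  refine ⟨?_, fun H => ?_⟩
  · rintro ⟨g, hg, rfl⟩
    have h3 : ∀ v, g (dl t v) = _ := fun v => (dl_conj g t v).symm
    rw [a2, (sq_spec hΦ hs h' (key g h3)).2, ← LinearEquiv.coe_coe, ← map_pow_dl _ h3]
    exact congrArg IsSquare (hg.1 _ _).symm ▸ .rfl
  obtain ⟨e, he⟩ := h.sim h' rfl
  obtain ⟨b1, b2⟩ := sq_spec hΦ hs h' (key e he)
  obtain ⟨c, hc⟩ := exists_rep (Kind.symp F).σσ hΦ (Φ.comap (e : V →ₗ[F] V)).B
  replace hc : ∀ u v, Φ.B u (c v) = Φ.B (e u) (e v) := hc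
  have h3 : ∀ v, e (t v) = s (e v) := fun v => by simpa [dl_apply] using he v
  have h4 : ∀ u, c (dl t u) = dl t (c u) := fun u => hΦ.ext fun w => by
    obtain ⟨w, rfl⟩ := t.surjective w
    simp [dl_apply, hc, ht.1 _, h3, hs.1 _]
  obtain ⟨a, M, h5, h6⟩ := h.scal h4
  have h7 : Φ.B ((dl s ^ (finrank F V - 1) : End F V) (e v)) (e v) =
      a * Φ.B ((dl t ^ (finrank F V - 1) : End F V) v) v := by
    rw [← LinearEquiv.coe_coe, ← map_pow_dl _ he, LinearEquiv.coe_coe, ← hc, h6]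
    simpa using sq_val ht h v 0 (M v) 1 a
  rw [a2, b2, h7] at H
  rw [h7] at b1
  obtain ⟨r, rfl⟩ : IsSquare a := by
    have := Fintype.ofFinite F
    rw [← quadraticChar_one_iff_isSquare a1, ← quadraticChar_one_iff_isSquare b1, map_mul] at H
    have h := left_ne_zero_of_mul b1
    rw [← quadraticChar_one_iff_isSquare h]
    rcases quadraticChar_dichotomy a1 with e | e <;> rcases quadraticChar_dichotomy h with e' | e' <;> simp_all
  have hr : r ≠ 0 := by rintro rfl; simp at b1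
  obtain ⟨k, hk⟩ := exists_sqrt h.1 h2 (M := (r * r)⁻¹ • M) (by simp [h5])
  have h8 : c = (r * r) • (1 + dl t * (r * r)⁻¹ • M) := by
    rw [h6, mul_smul_comm, smul_add, smul_inv_smul₀ (mul_ne_zero hr hr), Algebra.algebraMap_eq_smul_one]
  generalize 1 + dl t * (r * r)⁻¹ • M = d at hk h8
  subst h8
  have h9 : ∀ k u v, Φ.B ((d ^ k) u) v = Φ.B u ((d ^ k) v) := fun k => by
    induction k with
    | zero => simp
    | succ k ih =>
      intro u v
      have := (hc ((d ^ k) u) v).trans ((sp_symm _ _ _).trans (congrArg _ (hc v _).symm))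
      rw [pow_succ', End.mul_apply, sp_symm, ← pow_succ', pow_succ, End.mul_apply, ← ih]
      exact mul_left_cancel₀ (mul_ne_zero hr hr) (by simpa using this.symm)
  have h10 : ∀ u v, Φ.B ((r • d ^ k) u) ((r • d ^ k) v) = Φ.B (e u) (e v) := fun u v => by
    simp [← hc, h9, ← End.mul_apply, hk, mul_assoc]
  let g : V ≃ₗ[F] V := .ofInjectiveEndo (r • d ^ k) ((injective_iff_map_eq_zero _).2 fun v hv => e.map_eq_zero_iff.1
    (hΦ _ fun u => by simpa [hv] using (h10 (e.symm u) v).symm))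
  have h11 : ∀ v, g (dl t v) = dl t (g v) := fun v => by
    have := map_aeval (dl t) (f := d) (g := d) (fun v => smul_right_injective V (mul_ne_zero hr hr) (by
      simpa using (h4 v).symm)) (X ^ k) v
    simp only [map_pow, aeval_X] at this
    simp [g, this]
  refine ⟨e * g⁻¹, mem_Isom_symp.2 fun u v => ?_, ?_⟩
  · obtain ⟨u, rfl⟩ := g.surjective u
    obtain ⟨v, rfl⟩ := g.surjective v
    exact Eq.trans (by simp) (h10 u v).symm
  · rw [show e * g⁻¹ * t * (e * g⁻¹)⁻¹ = e * g⁻¹ * (t * g) * e⁻¹ by group,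
      ← Subgroup.mem_centralizer_singleton_iff.1 (mem_cent.2 h11)]
    ext v; simp [h3]

theorem exists_sqI [Finite F] {V : Type u} [AddCommGroup V] [Module F V] [FiniteDimensional F V] [Nontrivial V]
    {Φ : Form (Kind.symp F) V} (hΦ : Φ.Nondeg) (h2 : (2 : F) ≠ 0) (P : Prop) :
    ∃ t ∈ Φ.Isom, Reg (dl t) ∧ sqI Φ t = P := by
  obtain ⟨t, ht, h⟩ := exists_reg_symp hΦ
  obtain ⟨v, hv⟩ := h.exists_gen
  have a1 := (sq_spec hΦ ht h hv).1
  obtain ⟨c, hc, h3⟩ : ∃ c : F, c ≠ 0 ∧ IsSquare c = P := by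
    by_cases h : P
    · exact ⟨1, one_ne_zero, by simp [h]⟩
    · obtain ⟨c, hc⟩ := FiniteField.exists_nonsquare (F := F) fun e => h2 (by simpa [e] using ringChar.Nat.cast_ringChar (R := F))
      exact ⟨c, by rintro rfl; simp at hc, by simp [h, hc]⟩
  obtain ⟨δ, hδ, h9⟩ : ∃ δ ≠ 0, δ * Φ.B ((dl t ^ (finrank F V - 1) : End F V) v) v = c :=
    ⟨_, div_ne_zero hc a1, div_mul_cancel₀ c a1⟩
  let B : LinearMap.BilinForm F V := Φ.B
  obtain ⟨e, h4, -⟩ := symp_iso _ (ofAlt (δ • B) fun v => show δ * Φ.B v v = 0 by simp [Φ.B_self]) Φ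
    (fun w hw => hΦ w fun u => (mul_eq_zero.1 (hw u)).resolve_left hδ) hΦ rfl rfl
  replace h4 : ∀ u v, Φ.B (e u) (e v) = δ * Φ.B u v := h4
  have h6 : e * t * e⁻¹ ∈ Φ.Isom := mem_Isom_symp.2 fun u v => by
    obtain ⟨u, rfl⟩ := e.surjective u
    obtain ⟨v, rfl⟩ := e.surjective v
    simp [h4, ht.1 _]
  have h7 : ∀ v, e (dl t v) = _ := fun v => (dl_conj e t v).symm
  have h8 := Sim.reg ⟨e, h7⟩ h
  have h10 := map_pow_dl (e : V →ₗ[F] V) h7 (finrank F V - 1) v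
  rw [LinearEquiv.coe_coe] at h10
  refine ⟨_, h6, h8, ?_⟩
  rw [propext (sq_spec hΦ h6 h8 (v := e v) (by rwa [← h10, e.map_ne_zero_iff])).2, ← h10, h4, h9, h3]

end Cfsg.Agent.Perm.Cj
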