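import Mathlib
import Cfsg.Prelude.Def_JordanBlocks
import Cfsg.Agent.Lib.Perm.Un4

set_option autoImplicit false

namespace Cfsg.Agent.Perm.Cj
open Module Polynomial Cfsg.Agent.Classical Cfsg.Agent.Classical.Form Cfsg.Agent.Perm.Inv

universe u
variable {F : Type u} {V W : Type*} [Field F] [AddCommGroup V] [Module F V] [AddCommGroup W] [Module F W]

theorem mdl_single {ι : Type*} [DecidableEq ι] (m : ι → F[X]) (k : ι) (a : AdjoinRoot (m k)) :
    mdl m (Pi.single k a) = Pi.single k (AdjoinRoot.root _ * a) := (Pi.single_mul_right (f := rt m) a).symm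

theorem jordan_sim {n : ℕ} (d : Fin n → ℕ) : Sim (Cfsg.jordanTypeMatrix d F - 1).toLin' (mdl fun k => (X : F[X]) ^ d k) := by
  let b := Pi.basis fun k => (AdjoinRoot.powerBasis' (monic_X_pow (R := F) (d k))).basis.reindex (finCongr (natDegree_X_pow _))
  have hb : ∀ k j, b.equivFun.symm (Pi.single ⟨k, j⟩ 1) = Pi.single k (AdjoinRoot.root _ ^ j.1) := fun k j => by
    simp [Pi.single_apply, b]; rfl
  suffices b.equivFun.symm.toLinearMap ∘ₗ (Cfsg.jordanTypeMatrix d F - 1).toLin' =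
      (mdl fun k => (X : F[X]) ^ d k) ∘ₗ b.equivFun.symm.toLinearMap from ⟨b.equivFun.symm, LinearMap.congr_fun this⟩
  refine (Pi.basisFun F _).ext fun ⟨k, j⟩ => ?_
  have h1 : (Cfsg.jordanTypeMatrix d F - 1).toLin' (Pi.single ⟨k, j⟩ 1) =
      if h : j + 1 < d k then Pi.single ⟨k, ⟨j + 1, h⟩⟩ 1 else 0 := by
    ext ⟨l, i⟩
    by_cases h : l = k
    · subst h
      have := i.2
      simp [jordanTypeMatrix, jordanBlock, Matrix.one_apply, dite_apply, Pi.single_apply, Fin.ext_iff]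
      split_ifs <;> simp <;> omega
    · simp [jordanTypeMatrix, Matrix.one_apply, dite_apply, Pi.single_apply, h, Matrix.blockDiagonal'_apply_ne _ _ _ h]
  simp only [LinearMap.comp_apply, Pi.basisFun_apply, LinearEquiv.coe_coe, h1, hb]
  rw [mdl_single, ← pow_succ']
  split_ifs with h
  · exact hb _ _
  · rw [show j.1 + 1 = d k by omega, ← AdjoinRoot.mk_X, ← map_pow, AdjoinRoot.mk_self]; simp

theorem conj_jordan {n : ℕ} (d : Fin n → ℕ) {ι : Type*} [Fintype ι] [DecidableEq ι] (e : ((k : Fin n) × Fin (d k)) ≃ ι)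
    {A : Matrix ι ι F} {t : (ι → F) ≃ₗ[F] (ι → F)} (h : ∀ v, t v = A.mulVec v) :
    IsConj (Matrix.reindex e e (Cfsg.jordanTypeMatrix d F)) A ↔ Sim (mdl fun k => (X : F[X]) ^ d k) (dl t) := by
  have h1 : Sim (Matrix.reindex e e (Cfsg.jordanTypeMatrix d F) - 1).toLin' (mdl fun k => (X : F[X]) ^ d k) :=
    .trans ⟨LinearEquiv.funCongrLeft F F e, fun v => by
      ext; simp [Matrix.sub_mulVec, Matrix.submatrix_mulVec_equiv]⟩ (jordan_sim d)
  have : IsConj (Matrix.reindex e e (Cfsg.jordanTypeMatrix d F)) A ↔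
      Sim (Matrix.reindex e e (Cfsg.jordanTypeMatrix d F) - 1).toLin' (dl t) :=
    isConj_iff_sim.trans (exists_congr fun e => forall_congr' fun v => by simp [dl_apply, h, Matrix.sub_mulVec])
  exact this.trans ⟨h1.symm.trans, h1.trans⟩

theorem B_dl_pow {K : Kind F} {Φ : Form K V} {t : V ≃ₗ[F] V} (ht : t ∈ Φ.Isom) (k : ℕ) (u v : V) :
    Φ.B ((dl t ^ k : End F V) u) ((t ^ k) v) = (-1) ^ k * Φ.B u ((dl t ^ k : End F V) v) := by
  induction k generalizing v with
  | zero => simp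
  | succ k ih =>
    have : ∀ u v, Φ.B (dl t u) (t v) = -Φ.B u (dl t v) := fun u v => by simp [dl_apply, ht.1 _]
    rw [pow_succ', pow_succ', End.mul_apply, LinearEquiv.mul_apply, this, show dl t ((t ^ k) v) = (t ^ k) (dl t v) by
      rw [dl_apply, dl_apply, map_sub, ← LinearEquiv.mul_apply, ← LinearEquiv.mul_apply, pow_mul_comm'], ih, ← pow_succ', pow_succ]
    simp [pow_succ]

theorem B_fix_pow {K : Kind F} {Φ : Form K V} {t : V ≃ₗ[F] V} (ht : t ∈ Φ.Isom) {u : V} (h : dl t u = 0) (k : ℕ) (v : V) :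
    Φ.B u ((t ^ k) v) = Φ.B u v := by
  rw [← (pow_mem ht k).1 u v, LinearEquiv.pow_apply t k u, Function.iterate_fixed (f := t) (sub_eq_zero.1 h)]

variable [FiniteDimensional F V] [FiniteDimensional F W] {N : End F V}

theorem even_of_alt' (β : LinearMap.BilinForm F V) (ha : ∀ v, β v v = 0) {R : Submodule F V}
    (h : ∀ x, x ∈ R ↔ ∀ y, β y x = 0) : ∃ k, finrank F V = finrank F R + 2 * k := by
  obtain ⟨U, hU⟩ := R.exists_isCompl
  obtain ⟨k, hk⟩ := even_of_alt (B := β.restrict U) (fun v hv => Subtype.ext (hU.disjoint.le_bot ⟨(h _).2 fun y => by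
    obtain ⟨r, u, rfl⟩ := exists_add_of_isCompl hU y
    simpa [← LinearMap.IsAlt.neg ha v.1, (h _).1 r.2] using hv u, v.2⟩)) fun v => ha v
  exact ⟨k, by rw [← Submodule.finrank_add_eq_of_isCompl hU, hk, two_mul]⟩

theorem finrank_map_ker (N : End F V) (i : ℕ) : finrank F ((LinearMap.ker (N ^ (i + 1))).map N) + jt N 1 = jt N (i + 1) := by
  have := (N.domRestrict (LinearMap.ker (N ^ (i + 1)))).finrank_range_add_finrank_ker
  rw [LinearMap.range_domRestrict, LinearMap.ker_domRestrict,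
    (Submodule.comapSubtypeEquivOfLe fun x (h : N x = 0) => by simp [pow_succ, h]).finrank_eq] at this
  rwa [jt, pow_one]

theorem perp_ker {K : Kind F} {Φ : Form K V} (hΦ : Φ.Nondeg) {t : V ≃ₗ[F] V} (ht : t ∈ Φ.Isom) (k : ℕ) :
    Φ.perp (LinearMap.ker (dl t ^ k : End F V)) = LinearMap.range (dl t ^ k : End F V) := by
  have := hΦ.finrank_perp (LinearMap.ker (dl t ^ k : End F V))
  have := (dl t ^ k : End F V).finrank_range_add_finrank_ker
  refine (Submodule.eq_of_le_of_finrank_le ?_ (by omega)).symm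
  rintro _ ⟨u, rfl⟩ v hv
  exact Φ.B_symm_zero (by simpa [LinearMap.mem_ker.1 hv] using B_dl_pow ht k v u)

theorem even_blocks {K : Kind F} {Φ : Form K V} (hσ : K.σ = RingHom.id F) (hΦ : Φ.Nondeg) {t : V ≃ₗ[F] V} (ht : t ∈ Φ.Isom)
    {ι : Type*} [Fintype ι] {d : ι → ℕ} (H : Sim (mdl fun k => (X : F[X]) ^ d k) (dl t)) (j : ℕ)
    (h : ∀ x, (dl t ^ (j + 1) : End F V) x = 0 → Φ.B ((dl t ^ j : End F V) x) x = 0) :
    Even (Finset.univ.filter fun k => d k = j + 1).card := by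
  have hp := perp_ker hΦ ht (j + 1)
  generalize (dl t : End F V) = N at H h hp
  let A := LinearMap.ker (N ^ j) ⊔ (LinearMap.ker (N ^ (j + 1 + 1))).map N
  have h1 : A ≤ LinearMap.ker (N ^ (j + 1)) := sup_le (N.iterateKer.monotone j.le_succ) (by rintro _ ⟨x, hx, rfl⟩; exact hx)
  obtain ⟨k, hk⟩ := even_of_alt' (V := LinearMap.ker (N ^ (j + 1))) (LinearMap.mk₂ F (fun y x => Φ.B ((N ^ j) x) y)
    (by simp) (by simp [hσ]) (by simp) (by simp)) (fun v => h _ v.2) (R := A.comap (Submodule.subtype _)) fun x => by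
      refine Iff.trans ?_ (show (N ^ j) x ∈ Φ.perp (LinearMap.ker (N ^ (j + 1))) ↔ _ from
        ⟨fun h y => h y y.2, fun h y hy => h ⟨y, hy⟩⟩)
      rw [hp, Submodule.mem_comap, Submodule.mem_sup]
      refine ⟨?_, fun ⟨w, hw⟩ => ⟨x - N w, by simp [← hw, pow_succ], _, ⟨w, ?_, rfl⟩, by simp⟩⟩
      · rintro ⟨y, hy, _, ⟨w, -, rfl⟩, e⟩
        exact ⟨w, by simp [← show _ = x.1 from e, LinearMap.mem_ker.1 hy, pow_succ]⟩
      · rw [SetLike.mem_coe, LinearMap.mem_ker, pow_succ', End.mul_apply, hw, ← End.mul_apply, ← pow_succ']; exact x.2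
  have h2 := Submodule.finrank_sup_add_finrank_inf_eq (LinearMap.ker (N ^ j)) ((LinearMap.ker (N ^ (j + 1 + 1))).map N)
  rw [show LinearMap.ker (N ^ j) ⊓ (LinearMap.ker (N ^ (j + 1 + 1))).map N = (LinearMap.ker (N ^ (j + 1))).map N from le_antisymm
    (by rintro _ ⟨h, x, -, rfl⟩; exact ⟨x, h, rfl⟩) (le_inf (by rintro _ ⟨x, h, rfl⟩; exact h)
    (Submodule.map_mono (N.iterateKer.monotone (Nat.le_succ _))))] at h2
  rw [(Submodule.comapSubtypeEquivOfLe h1).finrank_eq] at hk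
  have h3 := finrank_map_ker N j
  have h4 := finrank_map_ker N (j + 1)
  have h5 : (Finset.univ.filter fun k => d k = j + 1).card + jt N j + jt N (j + 1 + 1) = 2 * jt N (j + 1) := by
    simp only [← H.jt, jt_mdl, Finset.card_filter, ← Finset.sum_add_distrib, Finset.mul_sum]
    exact Finset.sum_congr rfl fun i _ => by split_ifs <;> omega
  unfold jt at h3 h4 h5
  exact ⟨k, by unfold A at hk; omega⟩

theorem alt_blocks {K : Kind F} {Φ : Form K V} {t : V ≃ₗ[F] V} (ht : t ∈ Φ.Isom) (ha : ∀ v, Φ.B v v = 0) (k : ℕ) (x : V)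
    (h : (dl t ^ (2 * k + 1) : End F V) x = 0) : Φ.B ((dl t ^ (2 * k) : End F V) x) x = 0 := by
  rw [← B_fix_pow ht (by rwa [pow_succ'] at h) k, two_mul, pow_add, End.mul_apply, B_dl_pow ht, ha, mul_zero]

theorem sym_blocks {Φ : Form (Kind.orth F) V} {t : V ≃ₗ[F] V} (ht : t ∈ Φ.Isom) (h2 : (2 : F) ≠ 0) {j : ℕ} (hj : Odd j) (x : V)
    (h : (dl t ^ (j + 1) : End F V) x = 0) : Φ.B ((dl t ^ j : End F V) x) x = 0 := by
  have := B_dl_pow ht j x x
  rw [B_fix_pow ht (by rwa [pow_succ'] at h), hj.neg_one_pow, Φ.orth_symm x] at this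
  exact mul_left_cancel₀ h2 (by linear_combination this)

theorem jt_prod (N : End F V) (M : End F W) (k : ℕ) : jt (N.prodMap M) k = jt N k + jt M k := by
  have : (N.prodMap M : End F (V × W)) ^ k = (N ^ k).prodMap (M ^ k) := by
    induction k with
    | zero => rfl
    | succ k ih => rw [pow_succ, ih, pow_succ, pow_succ]; rfl
  rw [jt, this, LinearMap.ker_prodMap, ← Submodule.range_subtype (LinearMap.ker (N ^ k)),
    ← Submodule.range_subtype (LinearMap.ker (M ^ k)), ← LinearMap.range_prodMap, LinearMap.finrank_range_of_inj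
    (Subtype.val_injective.prodMap Subtype.val_injective), finrank_prod]; rfl

theorem nil_prod {M : End F W} (h : IsNilpotent N) (h' : IsNilpotent M) : IsNilpotent (N.prodMap M : End F (V × W)) := by
  obtain ⟨a, ha⟩ := h
  obtain ⟨b, hb⟩ := h'
  refine nil_iff_jt.2 ⟨a + b, ?_⟩
  rw [jt_prod, jt, jt, pow_add, ha, zero_mul, add_comm a, pow_add, hb, zero_mul, LinearMap.ker_zero, LinearMap.ker_zero]; simp

/-- Jordan types realised by isometries -/
def Real (K : Kind F) : AddSubmonoid (Multiset ℕ) where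
  carrier := {s | ∃ (V : Type u) (_ : AddCommGroup V) (_ : Module F V) (_ : FiniteDimensional F V) (Ψ : Form K V),
    Ψ.Nondeg ∧ ∃ t ∈ Ψ.Isom, IsNilpotent (dl t : End F V) ∧ ∀ k, jt (dl t) k = (s.map (min k)).sum}
  add_mem' := by
    rintro a b ⟨V, _, _, _, Φ, h1, t, h2, h3, h4⟩ ⟨W, _, _, _, Ψ, h5, s, h6, h7, h8⟩
    have : dl (t.prodCongr s) = (dl t).prodMap (dl s) := rfl
    exact ⟨V × W, _, _, inferInstance, _, prodForm_nondeg h1 h5, _, prod_mem h2 h6, this ▸ nil_prod h3 h7, fun k => by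
      simp [this, jt_prod, h4, h8]⟩
  zero_mem' := ⟨PUnit, _, _, inferInstance, ⟨0, 0, by simp, by simp, by simp, fun _ => ⟨0, by simp⟩, by simp⟩,
    fun _ _ => rfl, 1, one_mem _, ⟨0, Subsingleton.elim _ _⟩, fun _ => by simp [jt, finrank_zero_of_subsingleton]⟩

theorem real_of_reg {K : Kind F} {V : Type u} [AddCommGroup V] [Module F V] [FiniteDimensional F V] {Φ : Form K V}
    (hΦ : Φ.Nondeg) (h : ∃ t ∈ Φ.Isom, Reg (dl t)) {j : ℕ} (hj : finrank F V = j) : {j} ∈ Real K :=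
  let ⟨t, h1, h2⟩ := h
  ⟨V, _, _, inferInstance, Φ, hΦ, t, h1, h2.1, by simp [reg_iff.1 h2, hj]⟩

theorem Reg.dual {t : V ≃ₗ[F] V} (h : Reg (dl t)) : Reg (dl t.symm.dualMap) := by
  have h1 : (dl t.symm : End F V) = -(t.symm * dl t) := by ext; simp [dl_apply]
  have h2 : IsNilpotent (dl t.symm : End F V) := h1 ▸ ((show Commute (t.symm : End F V) (dl t) from LinearMap.ext fun v => by
    simp [dl_apply]).isNilpotent_mul_left h.1).neg
  have h3 : ∀ k, (dl t.symm.dualMap : End F (Dual F V)) ^ k = (dl t.symm ^ k : End F V).dualMap := fun k => by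
    induction k with
    | zero => rfl
    | succ k ih => rw [pow_succ', ih, pow_succ]; ext; simp [dl_apply]
  refine ⟨h2.imp fun k hk => by rw [h3, hk]; ext; simp, ?_⟩
  have h4 := (dl t.symm).finrank_range_dualMap_eq_finrank_range
  have h5 := (dl t.symm).finrank_range_add_finrank_ker
  have h6 := (dl t.symm).dualMap.finrank_range_add_finrank_ker
  rw [show LinearMap.ker (dl t.symm) = LinearMap.ker (dl t) by ext; simp [h1]] at h5
  rw [Subspace.dual_finrank_eq] at h6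
  rw [show dl t.symm.dualMap = (dl t.symm).dualMap by simpa using h3 1]
  have := h.2
  omega

theorem real_double {K : Kind F} (j : ℕ) (Φ : Form K ((Fin j → F) × Dual F (Fin j → F)))
    (h1 : ∀ u v, Φ.B u v = v.2 u.1 + K.ε * u.2 v.1) (h2 : ∀ v, Φ.N v = K.T (v.2 v.1)) : 2 • {j} ∈ Real K := by
  obtain ⟨t, ht⟩ := exists_reg (F := F) (V := Fin j → F)
  have : dl (t.prodCongr t.symm.dualMap) = (dl t).prodMap (dl t.symm.dualMap) := rfl
  refine ⟨_, _, _, inferInstance, Φ, fun v h => Prod.ext ((forall_dual_apply_eq_zero_iff F _).1 fun φ => by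
    simpa [h1, K.ε_ne] using h (0, φ)) (LinearMap.ext fun u => by simpa [h1] using h (u, 0)), t.prodCongr t.symm.dualMap,
    ⟨by simp [h1], by simp [h2]⟩, this ▸ nil_prod ht.1 ht.dual.1, fun k => ?_⟩
  simp [this, jt_prod, reg_iff.1 ht, reg_iff.1 ht.dual, two_nsmul]

theorem real_symp2 (j : ℕ) : 2 • {j} ∈ Real (Kind.symp F) :=
  real_double j (ofAlt (LinearMap.mk₂ F (fun u v => v.2 u.1 - u.2 v.1) (by simp; intros; ring) (by simp [mul_sub])
    (by simp; intros; ring) (by simp [mul_sub])) fun _ => sub_self _) (by simp [sub_eq_add_neg]) fun _ => rfl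

theorem real_orth2 (j : ℕ) : 2 • {j} ∈ Real (Kind.orth F) :=
  real_double j (ofQuadFun (fun v => v.2 v.1) (LinearMap.mk₂ F (fun u v => v.2 u.1 + u.2 v.1) (by simp; intros; ring)
    (by simp [mul_add]) (by simp; intros; ring) (by simp [mul_add])) (by simp; intros; ring) (by simp [mul_assoc]))
    (fun _ _ => by simp; rfl) fun _ => rfl

theorem real_of {K : Kind F} (h2 : ∀ j, 2 • {j} ∈ Real K) {n : ℕ} (d : Fin n → ℕ)
    (h : ∀ k, {d k} ∈ Real K ∨ Even (Finset.univ.filter fun i => d i = d k).card) :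
    ∃ (V : Type u) (_ : AddCommGroup V) (_ : Module F V) (_ : FiniteDimensional F V) (Ψ : Form K V),
      Ψ.Nondeg ∧ finrank F V = ∑ k, d k ∧ ∃ t ∈ Ψ.Isom, Sim (mdl fun k => (X : F[X]) ^ d k) (dl t) := by
  obtain ⟨V, _, _, _, Ψ, h1, t, h3, h4, h5⟩ : Finset.univ.val.map d ∈ Real K := by
    rw [← Multiset.toFinset_sum_count_nsmul_eq (Finset.univ.val.map d)]
    refine sum_mem fun j hj => ?_
    obtain ⟨k, -, rfl⟩ := Multiset.mem_map.1 (Multiset.mem_toFinset.1 hj)
    refine (h k).elim (nsmul_mem · _) fun ⟨c, hc⟩ => ?_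
    rw [show Multiset.count _ _ = 2 * c by
      rw [Multiset.count_map, two_mul, ← hc]; simp only [eq_comm]; rfl, mul_nsmul]
    exact nsmul_mem (h2 _) _
  have := fin_mdl (m := fun i => (X : F[X]) ^ d i) fun _ => monic_X_pow _
  have H : Sim (mdl fun k => (X : F[X]) ^ d k) (dl t) := sim_nil ⟨_, (mdl_pow (.refl _) (∑ k, d k)).2 fun i =>
    Finset.single_le_sum (fun _ _ => Nat.zero_le _) (Finset.mem_univ i)⟩ h4 (funext fun k => by rw [jt_mdl, h5, Multiset.map_map]; rfl)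
  exact ⟨V, _, _, inferInstance, Ψ, h1, by simp [← H.finrank_eq, finrank_mdl fun _ => monic_X_pow _], t, h3, H⟩

theorem real_odd [Finite F] (h2 : (2 : F) ≠ 0) (m : ℕ) : {2 * m + 1} ∈ Real (Kind.orth F) :=
  real_of_reg (oddForm_nondeg m h2) (exists_reg_ind 1 (fun _ hΦ => ⟨fun h => ⟨1, one_mem _, reg_one h.le⟩,
    orth_exists_hyp hΦ⟩) (.inl one_ne_zero) m _ (oddForm_nondeg m h2) (by simp; ring)) (by simp; ring)

theorem real_even [Finite F] (h2 : (2 : F) = 0) (m : ℕ) : {2 * (m + 1)} ∈ Real (Kind.orth F) := by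
  refine real_of_reg (plusForm_nondeg (m + 1)) (exists_reg_ind 2 (fun Φ hΦ => ⟨fun h => ?_, fun h =>
    orth_exists_hyp hΦ (by omega)⟩) (.inl two_ne_zero) m _ (plusForm_nondeg _) (by simp; ring)) (by simp; ring)
  obtain ⟨d, hd⟩ := orth_represents hΦ h.ge 1
  obtain ⟨u, hu⟩ := hΦ.exists_ne (v := d) (by rintro rfl; simp at hd)
  refine ⟨_, Φ.qrefl_mem d (-1) (by simp [hd]), ⟨2, by ext; simp [sq, dl_apply, qrefl_apply, Φ.B_self, h2]⟩, ?_⟩
  have := Submodule.finrank_lt (s := LinearMap.ker (dl (Φ.qrefl d (-1) (by simp [hd])))) fun e => by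
    have := e.ge (Submodule.mem_top (x := u))
    simp [dl_apply, qrefl_apply, hu] at this
    simp [this] at hd
  omega

theorem real_mat {n m : ℕ} (d : Fin n → ℕ) (h : ∑ k, d k = m) (H : ∃ (V : Type u) (_ : AddCommGroup V) (_ : Module F V)
    (_ : FiniteDimensional F V) (Ψ : Form (Kind.orth F) V), Ψ.Nondeg ∧ finrank F V = ∑ k, d k ∧
      ∃ t ∈ Ψ.Isom, Sim (mdl fun k => (X : F[X]) ^ d k) (dl t)) :
    ∃ Q : QuadraticForm F (Fin m → F), (QuadraticMap.polarBilin Q).Nondegenerate ∧ ∃ e : ((k : Fin n) × Fin (d k)) ≃ Fin m,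
      ∃ A : Cfsg.isometryGroup F Q, IsConj (Matrix.reindex e e (Cfsg.jordanTypeMatrix d F)) A.1.1 := by
  obtain ⟨V, _, _, _, Ψ, h1, h2, t, h3, h4⟩ := H
  let e : (Fin m → F) ≃ₗ[F] V := LinearEquiv.ofFinrankEq _ _ (by simp [h2, h])
  have h5 : (Ψ.comap (e : _ →ₗ[F] V)).Iso Ψ := ⟨e, fun _ _ => rfl, fun _ => rfl⟩
  obtain ⟨s, hs, h6⟩ := exists_of_iso h5.symm h3
  have h7 := h5.symm.nondeg h1
  refine ⟨(Ψ.comap (e : (Fin m → F) →ₗ[F] V)).toQuad, ⟨fun v h => h7.left fun u => (toQuad_polar _ _ _).symm.trans (h u :), fun v h =>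
    h7 _ fun u => (toQuad_polar _ _ _).symm.trans (h u :)⟩, Fintype.equivOfCardEq (by simp [h]),
    (orthEquiv _).symm ⟨s, hs⟩, (conj_jordan d _ (t := s) fun v => ?_).2 (h4.trans (sim_dl.2 h6))⟩
  exact (glEquiv_symm_mulVec s v).symm

end Cfsg.Agent.Perm.Cj
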