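import Cfsg.Agent.Lib.Chev.PoincAll
import Cfsg.Agent.Lib.Chev.Order

/-! Centres and small generating sets of Weyl groups. -/

set_option autoImplicit false

namespace Cfsg.Agent.Perm.Wey
open Cfsg.Agent.Chev Cfsg.Lie Subgroup

section RS
variable {I R : Type} [Fintype I] [DecidableEq I] {Φ : RS I R}

theorem s_inj : Function.Injective Φ.s := fun i j h => by
  by_contra hne
  have h1 : Φ.s i • Φ.sim i = Φ.s j • Φ.sim i := by rw [h]
  rw [RS.s_smul, RS.s_smul, Φ.rf_sim] at h1
  exact Φ.not_pos_neg_sim i (h1 ▸ (Φ.pos_sim i).rf fun e => hne (Φ.sim_inj e))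

theorem central_sim {z : Φ.W} (hz : z ∈ center Φ.W) (i : I) :
    z • Φ.sim i = Φ.sim i ∨ z • Φ.sim i = Φ.neg (Φ.sim i) := by
  have h1 := RS.rv_conj z i (Φ.sim i)
  rw [← mem_center_iff.1 hz, mul_inv_cancel_right, RS.s_smul, Φ.rv_rf, Φ.A_self, sub_right_inj] at h1
  have h2 : ∀ j, j ≠ i → Φ.rv (z • Φ.sim i) j = 0 := fun j hj => by
    have a := congrFun h1 j
    have b := congrFun h1 i
    simp only [Pi.single_apply, hj, if_false, Pi.smul_apply, smul_eq_mul, if_true] at a b
    rcases mul_eq_zero.1 a.symm with e | e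
    · rw [e] at b; omega
    · exact e
  by_cases hp : Φ.Pos (z • Φ.sim i)
  · exact Or.inl (RS.eq_sim_of_support hp h2)
  · exact Or.inr (Φ.neg_eq_iff.1 (RS.eq_sim_of_support (RS.pos_neg_iff.2 hp) fun j hj => by
      rw [Φ.rv_neg, Pi.neg_apply, h2 j hj, neg_zero]))

theorem central_cases [Fintype R] [DecidableEq R] (hc : Φ.Conn) {z : Φ.W} (hz : z ∈ center Φ.W) :
    z = 1 ∨ ∀ i, z • Φ.sim i = Φ.neg (Φ.sim i) := by
  by_contra h
  push Not at h
  obtain ⟨h1, a, ha⟩ := h
  obtain ⟨i, hi, j, hj, e⟩ := hc {i | z • Φ.sim i = Φ.sim i} ⟨a, (central_sim hz a).resolve_right ha⟩ (by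
    by_contra h
    rw [Set.not_nonempty_iff_eq_empty, Set.compl_empty_iff] at h
    exact h1 (RS.eq_one_of_pos fun i => by
      rw [show z • Φ.sim i = Φ.sim i from (h.ge (Set.mem_univ i))]; exact Φ.pos_sim i))
  have := RS.pair_smul z (Φ.sim i) (Φ.sim j)
  rw [show z • Φ.sim i = Φ.sim i from hi, (central_sim hz j).resolve_left hj, Φ.pair_neg_right,
    Φ.pair_sim] at this
  omega

theorem smul_eq_neg {z : Φ.W} (h : ∀ i, z • Φ.sim i = Φ.neg (Φ.sim i)) (r : R) : z • r = Φ.neg r := by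
  apply Φ.rv_inj
  rw [RS.rv_smul, Φ.rv_neg]
  ext k
  simp [h, Φ.rv_neg, Φ.rv_sim, Pi.single_apply]

theorem center_two [Fintype R] [DecidableEq R] [Nonempty I] (hc : Φ.Conn) {z : Φ.W}
    (h : ∀ i, z • Φ.sim i = Φ.neg (Φ.sim i)) :
    Nat.card (center Φ.W) = 2 ∧ center Φ.W ≤ zpowers z := by
  have h1 : (center Φ.W : Set Φ.W) = {1, z} := by
    ext x
    refine ⟨fun hx => (central_cases hc hx).imp id fun e => RS.W_ext fun r => ?_, ?_⟩
    · rw [smul_eq_neg e, smul_eq_neg h]
    · rintro (rfl | rfl)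
      · exact one_mem _
      · exact mem_center_iff.2 fun g => RS.W_ext fun r => by
          rw [mul_smul, mul_smul, smul_eq_neg h, smul_eq_neg h, RS.smul_neg']
  refine ⟨?_, fun x hx => ?_⟩
  · rw [← SetLike.coe_sort_coe, h1, Nat.card_coe_set_eq, Set.ncard_pair]
    rintro rfl
    exact Φ.neg_ne _ (h (Classical.arbitrary I)).symm
  · rcases h1.le hx with rfl | rfl
    exacts [one_mem _, mem_zpowers _]

theorem center_one [Fintype R] [DecidableEq R] (hc : Φ.Conn) {z : Φ.W}
    (h : ∀ i, ¬ Φ.Pos (z • Φ.sim i)) {i : I} (hi : z • Φ.sim i ≠ Φ.neg (Φ.sim i)) : center Φ.W = ⊥ := by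
  refine eq_bot_iff.2 fun x hx => (central_cases hc hx).resolve_right fun e => hi ?_
  rw [RS.eq_w0 (J := Set.univ) (RS.WJ_univ.ge (mem_top z)) fun j _ => h j,
    ← RS.eq_w0 (J := Set.univ) (RS.WJ_univ.ge (mem_top x)) fun j _ => e j ▸ Φ.not_pos_neg_sim j, e]

theorem wp_flat {H : Subgroup Φ.W} (g : ℕ → List I) (hg : ∀ k, wp Φ.s (g k) ∈ H) (L : List ℕ) :
    wp Φ.s (L.flatMap g) ∈ H := by
  induction L with
  | nil => exact one_mem _
  | cons k L ih => rw [List.flatMap_cons, wp_append]; exact mul_mem (hg k) ih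

theorem eq_top_of {H : Subgroup Φ.W} (h : ∀ j, ∃ i, Φ.s i ∈ H ∧ ∃ w ∈ H, w • Φ.sim i = Φ.sim j) :
    H = ⊤ := eq_top_iff.2 fun w _ => RS.W_induction (p := fun w => w ∈ H) (one_mem _) (fun j w hw => by
  obtain ⟨i, hi, v, hv, e⟩ := h j
  rw [eq_mul_inv_of_mul_eq (RS.conj_of_smul_sim e)]
  exact mul_mem (mul_mem (mul_mem hv hi) (inv_mem hv)) hw) w

end RS

section Tr
variable {l : ℕ} {W : Type*} [Group W] {M : CoxeterMatrix (Fin l)} {s : Fin l → W}

theorem equiv_wp (cs : CoxeterSystem M W) (h : ∀ i, cs.simple i = s i) (L : List (Fin l)) :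
    cs.mulEquiv (wp s L) = (L.map M.simple).prod := by
  induction L with
  | nil => simp
  | cons i L ih =>
    rw [wp_cons, map_mul, ih, ← h, List.map_cons, List.prod_cons]
    exact congrArg (· * _) (cs.mulEquiv.apply_symm_apply _)

theorem center_tr (h : ∃ cs : CoxeterSystem M W, ∀ i, cs.simple i = s i) {n : ℕ}
    (h1 : Nat.card (center W) = n ∧ center W ≤ zpowers (wp s (List.finRange l))) :
    Nat.card (center M.Group) = n ∧ center M.Group ≤ zpowers ((List.finRange l).map M.simple).prod := by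
  obtain ⟨cs, h⟩ := h
  refine ⟨(Nat.card_congr (centerCongr cs.mulEquiv).toEquiv).symm.trans h1.1, fun x hx => ?_⟩
  obtain ⟨k, hk⟩ := h1.2 (centerCongr cs.mulEquiv.symm ⟨x, hx⟩).2
  refine ⟨k, ?_⟩
  rw [← equiv_wp cs h]
  change _ ^ k = _
  rw [← map_zpow]
  exact (congrArg cs.mulEquiv hk).trans (cs.mulEquiv.apply_symm_apply x)

theorem gen_tr (h : ∃ cs : CoxeterSystem M W, ∀ i, cs.simple i = s i) (hs : Function.Injective s)
    (S : Finset (Fin l))
    (h1 : ∀ H : Subgroup W, wp s (List.finRange l) ∈ H → (∀ i ∈ S, s i ∈ H) → H = ⊤) :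
    ∃ T : Finset M.Group, T.card = S.card ∧ (∀ t ∈ T, ∃ (g : M.Group) (i : Fin l), t = g * M.simple i * g⁻¹) ∧
      closure (({((List.finRange l).map M.simple).prod} : Set M.Group) ∪ ↑T) = ⊤ := by
  classical
  obtain ⟨cs, h⟩ := h
  have h2 : ∀ i, cs.mulEquiv (s i) = M.simple i := fun i => by
    rw [← h]; exact cs.mulEquiv.apply_symm_apply _
  refine ⟨S.image M.simple, Finset.card_image_of_injective _ fun i j e =>
    hs (cs.mulEquiv.injective (by rw [h2, h2, e])), fun t ht => ?_, ?_⟩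
  · obtain ⟨i, -, rfl⟩ := Finset.mem_image.1 ht
    exact ⟨1, i, by simp⟩
  · have := h1 ((closure (({((List.finRange l).map M.simple).prod} : Set M.Group) ∪ ↑(S.image M.simple))).comap
      cs.mulEquiv.toMonoidHom) (subset_closure (Or.inl (equiv_wp cs h _)))
      fun i hi => subset_closure (Or.inr (by
        change cs.mulEquiv (s i) ∈ _
        rw [h2]; exact Finset.mem_image_of_mem _ hi))
    refine eq_top_iff.2 fun x _ => ?_
    obtain ⟨y, rfl⟩ := cs.mulEquiv.surjective x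
    exact this.ge (mem_top y)

end Tr

variable {D : ChevalleyDatum} {c : Cert} (h : Checked D c)

theorem center_chk (hc : h.toRS.Conn) (h0 : 0 < D.rank) (k : ℕ)
    (hk : ∀ i : Fin D.rank, wact c (((List.replicate k (List.finRange D.rank)).flatten).map Fin.val)
      (D.simple i) = D.neg (D.simple i)) :
    Nat.card (center h.toRS.W) = 2 ∧ center h.toRS.W ≤ zpowers (wp h.toRS.s (List.finRange D.rank)) := by
  haveI : Nonempty (Fin D.rank) := ⟨⟨0, h0⟩⟩
  obtain ⟨h1, h2⟩ := center_two hc (z := wp h.toRS.s (List.replicate k (List.finRange D.rank)).flatten)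
    fun i => Fin.ext (by rw [h.wp_smul]; exact hk i)
  refine ⟨h1, h2.trans (zpowers_le.2 ?_)⟩
  clear hk h1 h2
  induction k with
  | zero => exact one_mem _
  | succ k ih => rw [List.replicate_succ, List.flatten_cons, wp_append]; exact mul_mem (mem_zpowers _) ih

theorem gen_chk (a b : Fin D.rank) (d : Fin D.rank → Bool × List ℕ)
    (hd : ∀ j, wact c (((d j).2.flatMap fun k => if k = 0 then List.finRange D.rank else
      if k = 1 then [a] else [b]).map Fin.val) (D.simple (cond (d j).1 a b).val) = D.simple j)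
    (H : Subgroup h.toRS.W) (h1 : wp h.toRS.s (List.finRange D.rank) ∈ H)
    (h2 : ∀ i ∈ ({a, b} : Finset (Fin D.rank)), h.toRS.s i ∈ H) : H = ⊤ :=
  eq_top_of fun j => ⟨cond (d j).1 a b, h2 _ (by cases (d j).1 <;> simp), _,
    wp_flat (fun k => if k = 0 then List.finRange D.rank else if k = 1 then [a] else [b]) (fun k => by
      split_ifs
      · exact h1
      · simpa using h2 a (by simp)
      · simpa using h2 b (by simp)) (d j).2, Fin.ext (by rw [h.wp_smul]; exact hd j)⟩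

theorem gen_two {W : Type*} [Group W] {s : Fin 2 → W} (hs : InvGen s) (H : Subgroup W)
    (h1 : wp s (List.finRange 2) ∈ H) (h2 : ∀ i ∈ ({0} : Finset (Fin 2)), s i ∈ H) : H = ⊤ := by
  have h3 := h2 0 (by simp)
  have h4 : s 1 ∈ H := by
    have : wp s (List.finRange 2) = s 0 * s 1 := by simp [List.finRange_succ]
    rw [this] at h1
    exact (mul_mem_cancel_left h3).1 h1
  exact eq_top_iff.2 fun w _ => hs.induction_left (p := fun w => w ∈ H) (one_mem _)
    (fun i w _ hw => mul_mem (by fin_cases i; exacts [h3, h4]) hw) w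

end Cfsg.Agent.Perm.Wey
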